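import Groth.Agent.L16.ProjSpace.Twist
import Groth.Prelude.Def_FlatMod2
import Mathlib.AlgebraicGeometry.Modules.Sheaf
import Mathlib.Algebra.Category.ModuleCat.Stalk

/-!
# Frames of modules: nowhere vanishing sections of invertible modules, and their pullback
-/

set_option autoImplicit false
universe u

open CategoryTheory AlgebraicGeometry TopologicalSpace Opposite

noncomputable section

namespace Groth.L18.Frame

variable {X Y : Scheme.{u}}

/-- Restriction of sections. -/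
abbrev rs (M : X.Modules) {U V : X.Opens} (h : V ≤ U) (s : Γ(M, U)) : Γ(M, V) :=
  M.presheaf.map (homOfLE h).op s

/-- Restriction of functions. -/
abbrev ro {U V : X.Opens} (h : V ≤ U) (a : Γ(X, U)) : Γ(X, V) :=
  X.presheaf.map (homOfLE h).op a

lemma rs_rs (M : X.Modules) {U V W : X.Opens} (h : V ≤ U) (h' : W ≤ V) (s : Γ(M, U)) :
    rs M h' (rs M h s) = rs M (h'.trans h) s := by
  show (M.presheaf.map (homOfLE h).op ≫ M.presheaf.map (homOfLE h').op) s = _
  rw [← Functor.map_comp]; rfl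

lemma rs_self (M : X.Modules) {U : X.Opens} (h : U ≤ U) (s : Γ(M, U)) : rs M h s = s := by
  show M.presheaf.map _ s = _
  rw [show (homOfLE h).op = 𝟙 (op U) from rfl, CategoryTheory.Functor.map_id]; rfl

lemma rs_smul (M : X.Modules) {U V : X.Opens} (h : V ≤ U) (a : Γ(X, U)) (s : Γ(M, U)) :
    rs M h (a • s) = ro h a • rs M h s := M.map_smul _ _ _

lemma ro_ro {U V W : X.Opens} (h : V ≤ U) (h' : W ≤ V) (a : Γ(X, U)) :
    ro h' (ro h a) = ro (h'.trans h) a := by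
  show (X.presheaf.map (homOfLE h).op ≫ X.presheaf.map (homOfLE h').op) a = _
  rw [← Functor.map_comp]; rfl

lemma ro_self {U : X.Opens} (h : U ≤ U) (a : Γ(X, U)) : ro h a = a := by
  show X.presheaf.map _ a = _
  rw [show (homOfLE h).op = 𝟙 (op U) from rfl, CategoryTheory.Functor.map_id]; rfl

lemma ro_mul {U V : X.Opens} (h : V ≤ U) (a b : Γ(X, U)) : ro h (a * b) = ro h a * ro h b := map_mul _ _ _

/-- `e` is a frame (a basis) of `M` over `W`. -/
def IsFrame (M : X.Modules) (W : X.Opens) (e : Γ(M, W)) : Prop :=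
  ∀ (V : X.Opens) (h : V ≤ W), Function.Bijective fun a : Γ(X, V) => a • rs M h e

variable {M N : X.Modules} {W : X.Opens} {e : Γ(M, W)}

theorem IsFrame.mono (he : IsFrame M W e) {V : X.Opens} (h : V ≤ W) : IsFrame M V (rs M h e) := fun V' h' => by
  rw [show (fun a : Γ(X, V') => a • rs M h' (rs M h e)) = fun a => a • rs M (h'.trans h) e by simp only [rs_rs]]
  exact he V' _

theorem IsFrame.exists_coeff (he : IsFrame M W e) {V : X.Opens} (h : V ≤ W) (t : Γ(M, V)) :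
    ∃ a : Γ(X, V), a • rs M h e = t := (he V h).2 t

theorem IsFrame.inj (he : IsFrame M W e) {V : X.Opens} (h : V ≤ W) {a b : Γ(X, V)}
    (hab : a • rs M h e = b • rs M h e) : a = b := (he V h).1 hab

theorem IsFrame.smul_unit (he : IsFrame M W e) {a : Γ(X, W)} (ha : IsUnit a) : IsFrame M W (a • e) := by
  intro V h
  have hu : IsUnit (ro h a) := ha.map (X.presheaf.map (homOfLE h).op).hom
  have : (fun b : Γ(X, V) => b • rs M h (a • e)) = (fun b => b • rs M h e) ∘ (fun b => b * ro h a) := by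
    funext b; simp only [Function.comp_apply, rs_smul, mul_smul]
  rw [this]
  exact (he V h).comp ⟨hu.mul_left_injective, fun c => ⟨c * ↑hu.unit⁻¹, by
    simp only [mul_assoc, IsUnit.val_inv_mul, mul_one]⟩⟩

theorem isUnit_of_isFrame (he : IsFrame M W e) {a : Γ(X, W)} (ha : IsFrame M W (a • e)) : IsUnit a := by
  obtain ⟨b, hb⟩ := ha.exists_coeff le_rfl e
  rw [rs_self, ← mul_smul] at hb
  refine IsUnit.of_mul_eq_one b (he.inj le_rfl (b := 1) ?_)
  rw [rs_self, one_smul, mul_comm]; exact hb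

/-- Scalars of a restricted module. -/
lemma restrict_smul' (M : X.Modules) (U : X.Opens) (V : U.toScheme.Opens) (a : Γ(U.toScheme, V))
    (t : Γ((Scheme.Modules.restrictFunctor U.ι).obj M, V)) :
    (show Γ(M, U.ι ''ᵁ V) from a • t) =
      (show Γ(X, U.ι ''ᵁ V) from a) • (show Γ(M, U.ι ''ᵁ V) from t) := by
  have key : ∀ a' : Γ(X, U.ι ''ᵁ V), (U.ι.appIso V).inv a = a' →
      (show Γ(M, U.ι ''ᵁ V) from a • t) = a' • (show Γ(M, U.ι ''ᵁ V) from t) := by
    rintro _ rfl; rfl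
  exact key _ (by rw [Scheme.Opens.ι_appIso]; rfl)

/-- A frame of an invertible module near a given point. -/
theorem exists_frame {L : X.Modules} (hL : PicF.IsInvertible L) (x : X) :
    ∃ (W : X.Opens) (e : Γ(L, W)), x ∈ W ∧ IsFrame L W e := by
  obtain ⟨U, hxU, ⟨φ⟩⟩ := hL x
  refine ⟨U.ι ''ᵁ ⊤, φ.inv.app ⊤ (1 : Γ(U.toScheme, ⊤)), by rw [U.ι_image_top]; exact hxU, fun V h => ?_⟩
  obtain ⟨V, rfl⟩ : ∃ V' : U.toScheme.Opens, U.ι ''ᵁ V' = V := ⟨U.ι ⁻¹ᵁ V, by
    rw [Scheme.Hom.image_preimage_eq_opensRange_inf, Scheme.Opens.opensRange_ι, inf_eq_right]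
    exact h.trans_eq U.ι_image_top⟩
  have key : (fun a : Γ(X, U.ι ''ᵁ V) => a • rs L h (φ.inv.app ⊤ (1 : Γ(U.toScheme, ⊤)))) =
      fun a : Γ(U.toScheme, V) => φ.inv.app V a := by
    funext a
    have h1 : rs L h (φ.inv.app ⊤ (1 : Γ(U.toScheme, ⊤))) = φ.inv.app V (1 : Γ(U.toScheme, V)) := by
      have := congr($(φ.inv.mapPresheaf.naturality (homOfLE (le_top : V ≤ ⊤)).op) (1 : Γ(U.toScheme, ⊤)))
      refine Eq.trans ?_ (this.symm.trans (congrArg (φ.inv.app V) (map_one (U.toScheme.presheaf.map (homOfLE (le_top : V ≤ ⊤)).op).hom)))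
      rfl
    rw [h1]
    have h2 := φ.inv.app_smul (U := V) (show Γ(U.toScheme, V) from a) (1 : Γ(U.toScheme, V))
    refine Eq.trans ?_ ((congrArg (φ.inv.app V) (show ((show Γ(U.toScheme, V) from a) • (1 : Γ(U.toScheme, V))) = a
      from mul_one _)).symm.trans h2).symm
    exact (restrict_smul' L U V a _).symm
  show Function.Bijective fun a : Γ(X, U.ι ''ᵁ V) => _
  rw [key]
  exact ConcreteCategory.bijective_of_isIso (φ.inv.app V)

/-- Frames are local. -/
theorem IsFrame.of_cover {ι : Type*} (W' : ι → X.Opens) (hW' : ∀ k, W' k ≤ W) (hcov : W ≤ iSup W')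
    (h : ∀ k, IsFrame M (W' k) (rs M (hW' k) e)) : IsFrame M W e := by
  intro V hV
  have hc : V ≤ ⨆ k, V ⊓ W' k := fun x hx => by
    obtain ⟨k, hk⟩ := Opens.mem_iSup.mp (hcov (hV hx))
    exact Opens.mem_iSup.mpr ⟨k, hx, hk⟩
  let OX : TopCat.Sheaf CommRingCat.{u} X.toTopCat := X.sheaf
  refine ⟨fun a b hab => ?_, fun t => ?_⟩
  · refine OX.eq_of_locally_eq' (fun k => V ⊓ W' k) V (fun k => homOfLE inf_le_left) hc a b fun k => ?_
    show ro inf_le_left a = ro inf_le_left b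
    refine (h k).inj inf_le_right ?_
    have := congrArg (rs M (inf_le_left : V ⊓ W' k ≤ V)) hab
    simp only [rs_smul, rs_rs] at this ⊢
    exact this
  · choose a ha using fun k => (h k).exists_coeff (inf_le_right : V ⊓ W' k ≤ W' k) (rs M inf_le_left t)
    obtain ⟨s, hs, -⟩ := OX.existsUnique_gluing' (fun k => V ⊓ W' k) V (fun k => homOfLE inf_le_left) hc a fun k l => by
      show ro inf_le_left (a k) = ro inf_le_right (a l)
      refine (h k).inj ((inf_le_left : (V ⊓ W' k) ⊓ (V ⊓ W' l) ≤ _).trans inf_le_right) ?_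
      have hk := congrArg (rs M (inf_le_left : (V ⊓ W' k) ⊓ (V ⊓ W' l) ≤ _)) (ha k)
      have hl := congrArg (rs M (inf_le_right : (V ⊓ W' k) ⊓ (V ⊓ W' l) ≤ _)) (ha l)
      simp only [rs_smul, rs_rs] at hk hl ⊢
      exact hk.trans hl.symm
    refine ⟨s, ?_⟩
    let OM : TopCat.Sheaf Ab.{u} X.toTopCat := ⟨M.presheaf, M.isSheaf⟩
    refine OM.eq_of_locally_eq' (fun k => V ⊓ W' k) V (fun k => homOfLE inf_le_left) hc _ t fun k => ?_
    show rs M inf_le_left ((show Γ(X, V) from s) • rs M hV e) = rs M inf_le_left t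
    rw [rs_smul, rs_rs, show ro (inf_le_left : V ⊓ W' k ≤ V) s = a k from hs k, ← ha k, rs_rs]

/-- Given generators, near every point one of them is a frame. -/
theorem exists_frame_of_generated {L : X.Modules} (hL : PicF.IsInvertible L) {ι : Type*} (s : ι → Γ(L, ⊤))
    (hs : ∀ x : X, Submodule.span (X.presheaf.stalk x)
      (Set.range fun i => (L.presheaf.germ ⊤ x trivial).hom (s i)) = ⊤) (x : X) :
    ∃ (W : X.Opens) (i : ι), IsAffineOpen W ∧ x ∈ W ∧ IsFrame L W (rs L le_top (s i)) := by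
  obtain ⟨W, e, hxW, he⟩ := exists_frame hL x
  choose a ha using fun i => he.exists_coeff le_rfl (rs L (le_top : W ≤ ⊤) (s i))
  simp only [rs_self] at ha
  have hg : ∀ i, (L.presheaf.germ ⊤ x trivial).hom (s i) =
      X.presheaf.germ W x hxW (a i) • L.presheaf.germ W x hxW e := fun i => by
    have h1 : L.presheaf.germ W x hxW (rs L le_top (s i)) = L.presheaf.germ ⊤ x trivial (s i) :=
      TopCat.Presheaf.germ_res_apply _ _ _ _ _
    rw [← ha i] at h1
    exact h1.symm.trans (PresheafOfModules.germ_smul (R := X.presheaf)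
      (show PresheafOfModules (X.presheaf ⋙ forget₂ CommRingCat RingCat) from L.val) x W hxW (a i) e)
  have hu : ∃ i, IsUnit (X.presheaf.germ W x hxW (a i)) := by
    by_contra hne
    have hsub : ∀ t ∈ (⊤ : Submodule (X.presheaf.stalk x) (L.presheaf.stalk x)),
        ∃ c ∈ IsLocalRing.maximalIdeal (X.presheaf.stalk x), t = c • L.presheaf.germ W x hxW e := by
      rw [← hs x]
      intro t ht
      induction ht using Submodule.span_induction with
      | mem t ht =>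
        obtain ⟨i, rfl⟩ := ht
        exact ⟨_, fun hu => hne ⟨i, hu⟩, hg i⟩
      | zero => exact ⟨0, Ideal.zero_mem _, (zero_smul _ _).symm⟩
      | add p q _ _ hp hq =>
        obtain ⟨c, hc, rfl⟩ := hp
        obtain ⟨d, hd, rfl⟩ := hq
        exact ⟨c + d, Ideal.add_mem _ hc hd, (add_smul _ _ _).symm⟩
      | smul r p _ hp =>
        obtain ⟨c, hc, rfl⟩ := hp
        exact ⟨r * c, Ideal.mul_mem_left _ r hc, (mul_smul _ _ _).symm⟩
    obtain ⟨c, hc, hce⟩ := hsub (L.presheaf.germ W x hxW e) trivial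
    obtain ⟨V, hxV, b, hb⟩ := X.presheaf.exists_germ_eq c
    obtain ⟨V', hxV', iV, iW, hV'⟩ : ∃ (V' : X.Opens) (_ : x ∈ V') (iV : V' ≤ V) (iW : V' ≤ W),
        rs L iW e = ro iV b • rs L iW e := by
      have hxVW : x ∈ V ⊓ W := ⟨hxV, hxW⟩
      have e1 : L.presheaf.germ (V ⊓ W) x hxVW
            (ro (inf_le_left : V ⊓ W ≤ V) b • rs L (inf_le_right : V ⊓ W ≤ W) e) =
          L.presheaf.germ (V ⊓ W) x hxVW (rs L inf_le_right e) := by
        refine (PresheafOfModules.germ_smul (R := X.presheaf)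
          (show PresheafOfModules (X.presheaf ⋙ forget₂ CommRingCat RingCat) from L.val) x (V ⊓ W) hxVW _ _).trans ?_
        rw [show X.presheaf.germ (V ⊓ W) x hxVW (ro inf_le_left b) = c from
          (TopCat.Presheaf.germ_res_apply _ _ _ _ _).trans hb]
        show c • L.presheaf.germ (V ⊓ W) x hxVW (rs L inf_le_right e) = L.presheaf.germ (V ⊓ W) x hxVW (rs L inf_le_right e)
        rw [show L.presheaf.germ (V ⊓ W) x hxVW (rs L inf_le_right e) = L.presheaf.germ W x hxW e from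
          TopCat.Presheaf.germ_res_apply _ _ _ _ _]
        exact hce.symm
      obtain ⟨V', hxV', i1, i2, h12⟩ := L.presheaf.germ_eq x hxVW hxVW _ _ e1
      refine ⟨V', hxV', i1.le.trans inf_le_left, i1.le.trans inf_le_right, ?_⟩
      have h12' : rs L i1.le (ro inf_le_left b • rs L inf_le_right e) = rs L i1.le (rs L inf_le_right e) := h12
      rw [rs_smul, rs_rs, ro_ro] at h12'
      exact h12'.symm
    have h1 : ro iV b = 1 := he.inj iW (by rw [one_smul]; exact hV'.symm)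
    have hc1 : c = 1 := by
      rw [← hb, ← map_one (X.presheaf.germ V' x hxV').hom, ← h1]
      exact (TopCat.Presheaf.germ_res_apply _ _ _ _ _).symm
    exact hc (hc1 ▸ isUnit_one)
  obtain ⟨i, hi⟩ := hu
  obtain ⟨_, ⟨U, hU, rfl⟩, hxU, hUsub⟩ := X.isBasis_affineOpens.exists_subset_of_mem_open
    (show x ∈ X.basicOpen (a i) from (X.mem_basicOpen (a i) x hxW).mpr hi) (X.basicOpen (a i)).2
  have hUW : U ≤ W := fun y hy => X.basicOpen_le (a i) (hUsub hy)
  refine ⟨U, i, hU, hxU, ?_⟩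
  have hau : IsUnit (ro hUW (a i)) := by
    have := (RingedSpace.isUnit_res_basicOpen X.toRingedSpace (a i)).map (X.presheaf.map (homOfLE hUsub).op).hom
    rw [show ro hUW (a i) = ro hUsub (ro (X.basicOpen_le (a i)) (a i)) from (ro_ro _ _ _).symm]
    exact this
  have := (he.mono hUW).smul_unit hau
  rwa [← rs_smul, ha i, rs_rs] at this

section Pullback

variable (f : X ⟶ Y) (M : Y.Modules)

/-- Pullback of sections. -/
def pull (V : Y.Opens) (m : Γ(M, V)) : Γ((Scheme.Modules.pullback f).obj M, f ⁻¹ᵁ V) :=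
  ((Scheme.Modules.pullbackPushforwardAdjunction f).unit.app M).app V m

lemma pull_rs {U V : Y.Opens} (h : V ≤ U) (m : Γ(M, U)) :
    rs ((Scheme.Modules.pullback f).obj M) (f.preimage_mono h) (pull f M U m) = pull f M V (rs M h m) :=
  congr($(((Scheme.Modules.pullbackPushforwardAdjunction f).unit.app M).mapPresheaf.naturality (homOfLE h).op) m).symm

lemma pull_smul {V : Y.Opens} (a : Γ(Y, V)) (m : Γ(M, V)) :
    pull f M V (a • m) = (f.app V a) • pull f M V m :=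
  ((Scheme.Modules.pullbackPushforwardAdjunction f).unit.app M).app_smul a m

variable {V : Y.Opens} {e : Γ(M, V)}

lemma image_le (V' : Y.Opens) :
    (f ⁻¹ᵁ V).ι ''ᵁ ((f ⁻¹ᵁ V).ι ⁻¹ᵁ (f ⁻¹ᵁ V')) ≤ f ⁻¹ᵁ (V' ⊓ V) := by
  rw [Scheme.Hom.image_preimage_eq_opensRange_inf, Scheme.Opens.opensRange_ι, Scheme.Hom.preimage_inf]
  exact le_inf inf_le_right inf_le_left

/-- The coefficient morphism. -/
theorem exists_coeffHom (he : IsFrame M V e) :
    ∃ θ : (Scheme.Modules.pullback f).obj M ⟶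
        (Scheme.Modules.pushforward (f ⁻¹ᵁ V).ι).obj (Coh.structureModule (f ⁻¹ᵁ V).toScheme),
      ∀ (V' : Y.Opens) (m : Γ(M, V')) (b : Γ(Y, V' ⊓ V)), b • rs M inf_le_right e = rs M inf_le_left m →
        (show Γ(X, (f ⁻¹ᵁ V).ι ''ᵁ ((f ⁻¹ᵁ V).ι ⁻¹ᵁ (f ⁻¹ᵁ V'))) from θ.app (f ⁻¹ᵁ V') (pull f M V' m)) =
          ro (image_le f V') (f.app (V' ⊓ V) b) := by
  choose c hc using fun (V' : Y.Opens) (m : Γ(M, V')) =>
    he.exists_coeff (inf_le_right : V' ⊓ V ≤ V) (rs M inf_le_left m)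
  let ψ0 : ∀ V' : Y.Opens, Γ(M, V') → Γ(X, (f ⁻¹ᵁ V).ι ''ᵁ ((f ⁻¹ᵁ V).ι ⁻¹ᵁ (f ⁻¹ᵁ V'))) := fun V' m =>
    ro (image_le f V') (f.app (V' ⊓ V) (c V' m))
  have hcu : ∀ (V' : Y.Opens) (m : Γ(M, V')) (b : Γ(Y, V' ⊓ V)),
      b • rs M inf_le_right e = rs M inf_le_left m → b = c V' m := fun V' m b hb =>
    he.inj inf_le_right (hb.trans (hc V' m).symm)
  have hzero : ∀ V', ψ0 V' 0 = 0 := fun V' => by
    simp only [ψ0, ← hcu V' 0 0 (by rw [zero_smul]; exact (map_zero _).symm), map_zero]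
  have hadd : ∀ V' (x y : Γ(M, V')), ψ0 V' (x + y) = ψ0 V' x + ψ0 V' y := fun V' x y => by
    simp only [ψ0, ← hcu V' (x + y) (c _ x + c _ y) (by rw [add_smul, hc, hc]; exact (map_add _ _ _).symm),
      map_add]
  have hnat : ∀ (V₁ V₂ : Y.Opens) (h : V₂ ≤ V₁) (m : Γ(M, V₁)),
      ψ0 V₂ (rs M h m) = ro ((f ⁻¹ᵁ V).ι.image_mono ((f ⁻¹ᵁ V).ι.preimage_mono (f.preimage_mono h))) (ψ0 V₁ m) := by
    intro V₁ V₂ h m
    simp only [ψ0]
    rw [← hcu V₂ (rs M h m) (ro (inf_le_inf_right V h) (c V₁ m)) (by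
      have := congrArg (rs M (inf_le_inf_right V h)) (hc V₁ m)
      simp only [rs_smul, rs_rs] at this ⊢
      exact this), ro_ro]
    show (Y.presheaf.map _ ≫ f.app (V₂ ⊓ V) ≫ X.presheaf.map _) (c V₁ m) = _
    rw [Scheme.Hom.naturality_assoc]
    simp only [← Functor.map_comp]
    rfl
  have hsmul : ∀ (V' : Y.Opens) (r : Γ(Y, V')) (m : Γ(M, V')), ψ0 V' (r • m) =
      ro ((f ⁻¹ᵁ V).ι.image_preimage_le _) (f.app V' r) * ψ0 V' m := by
    intro V' r m
    simp only [ψ0]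
    rw [← hcu V' (r • m) (ro inf_le_left r * c V' m) (by rw [mul_smul, hc, rs_smul]), map_mul, ro_mul]
    congr 1
    show (Y.presheaf.map _ ≫ f.app (V' ⊓ V) ≫ X.presheaf.map _) r = _
    rw [Scheme.Hom.naturality_assoc, ← Functor.map_comp]
    rfl
  let ψ : M ⟶ (Scheme.Modules.pushforward f).obj
      ((Scheme.Modules.pushforward (f ⁻¹ᵁ V).ι).obj (Coh.structureModule (f ⁻¹ᵁ V).toScheme)) := ⟨PresheafOfModules.homMk
    { app := fun V' => AddCommGrpCat.ofHom
        { toFun := fun (m : Γ(M, V'.unop)) => (ψ0 V'.unop m : Γ((f ⁻¹ᵁ V).toScheme, (f ⁻¹ᵁ V).ι ⁻¹ᵁ (f ⁻¹ᵁ V'.unop)))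
          map_zero' := hzero _
          map_add' := hadd _ }
      naturality := fun {V₁ V₂} i => by
        ext m
        exact hnat V₁.unop V₂.unop i.unop.le m }
    (fun V' r m => by
      refine (hsmul V'.unop r m).trans ?_
      show _ = ((f ⁻¹ᵁ V).ι.app (f ⁻¹ᵁ V'.unop) (f.app V'.unop r)) * _
      rw [(f ⁻¹ᵁ V).ι_app]
      rfl)⟩
  let adj := Scheme.Modules.pullbackPushforwardAdjunction f
  refine ⟨(adj.homEquiv M _).symm ψ, fun V' m b hb => ?_⟩
  have h1 : adj.unit.app M ≫ (Scheme.Modules.pushforward f).map ((adj.homEquiv M _).symm ψ) = ψ :=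
    (adj.homEquiv_unit _ _ _).symm.trans ((adj.homEquiv M _).apply_symm_apply ψ)
  refine (congr(($h1).app V' m)).trans ?_
  show ψ0 V' m = _
  simp only [ψ0, ← hcu V' m b hb]

/-- Composite of a coefficient morphism with multiplication by a section. -/
theorem comp_homOfSection_app (W : X.Opens) {N : X.Modules} (t : Γ(N, W))
    (θ : N ⟶ (Scheme.Modules.pushforward W.ι).obj (Coh.structureModule W.toScheme))
    (W' : X.Opens) (u : Γ(N, W')) (hO : W.ι ''ᵁ (W.ι ⁻¹ᵁ W') ≤ W) :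
    (show Γ(N, W.ι ''ᵁ (W.ι ⁻¹ᵁ W')) from
      (θ ≫ (Scheme.Modules.pushforward W.ι).map
        (Groth.L16.homOfSection ((Scheme.Modules.restrictFunctor W.ι).obj N) (rs N (W.ι_image_top).le t))).app W' u) =
      (show Γ(X, W.ι ''ᵁ (W.ι ⁻¹ᵁ W')) from θ.app W' u) • rs N hO t := by
  refine (restrict_smul' N W _ _ (rs N (W.ι.image_mono le_top) (rs N (W.ι_image_top).le t))).trans ?_
  exact congrArg (_ • ·) (rs_rs N _ _ t)

theorem IsFrame.pullback (he : IsFrame M V e) :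
    IsFrame ((Scheme.Modules.pullback f).obj M) (f ⁻¹ᵁ V) (pull f M V e) := by
  obtain ⟨θ, hθ⟩ := exists_coeffHom f M he
  have hθe : ∀ (W' : X.Opens) (h : W' ≤ f ⁻¹ᵁ V),
      (show Γ(X, (f ⁻¹ᵁ V).ι ''ᵁ ((f ⁻¹ᵁ V).ι ⁻¹ᵁ W')) from θ.app W' (rs _ h (pull f M V e))) = 1 := by
    intro W' h
    refine (congr($(θ.mapPresheaf.naturality (homOfLE h).op) (pull f M V e))).trans ?_
    show ro ((f ⁻¹ᵁ V).ι.image_mono ((f ⁻¹ᵁ V).ι.preimage_mono h)) (θ.app (f ⁻¹ᵁ V) (pull f M V e)) = _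
    rw [show (θ.app (f ⁻¹ᵁ V) (pull f M V e)) = _ from hθ V e 1 (by rw [one_smul]), map_one, ro, ro, map_one, map_one]
  let adj := Scheme.Modules.pullbackPushforwardAdjunction f
  have hg : (Scheme.Modules.restrictAdjunction (f ⁻¹ᵁ V).ι).unit.app ((Scheme.Modules.pullback f).obj M) =
      θ ≫ (Scheme.Modules.pushforward (f ⁻¹ᵁ V).ι).map
        (Groth.L16.homOfSection ((Scheme.Modules.restrictFunctor (f ⁻¹ᵁ V).ι).obj ((Scheme.Modules.pullback f).obj M))
          (rs ((Scheme.Modules.pullback f).obj M) ((f ⁻¹ᵁ V).ι_image_top).le (pull f M V e))) := by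
    apply (adj.homEquiv M _).injective
    refine Scheme.Modules.hom_ext _ _ fun V' => ?_
    ext m
    rw [adj.homEquiv_unit, adj.homEquiv_unit]
    refine Eq.trans ?_ (comp_homOfSection_app (f ⁻¹ᵁ V) (pull f M V e) θ (f ⁻¹ᵁ V') (pull f M V' m)
      ((image_le f V').trans (f.preimage_mono inf_le_right))).symm
    obtain ⟨b, hb⟩ := he.exists_coeff (inf_le_right : V' ⊓ V ≤ V) (rs M inf_le_left m)
    rw [hθ V' m b hb]
    show rs ((Scheme.Modules.pullback f).obj M) _ (pull f M V' m) = _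
    rw [show rs ((Scheme.Modules.pullback f).obj M) _ (pull f M V' m) =
        rs _ (image_le f V') (rs _ (f.preimage_mono (inf_le_left : V' ⊓ V ≤ V')) (pull f M V' m)) from (rs_rs _ _ _ _).symm,
      pull_rs, ← hb, pull_smul, rs_smul, ← pull_rs, rs_rs]
    all_goals exact inf_le_left
  intro W' h
  have hW' : (f ⁻¹ᵁ V).ι ''ᵁ ((f ⁻¹ᵁ V).ι ⁻¹ᵁ W') = W' := by
    rw [Scheme.Hom.image_preimage_eq_opensRange_inf, Scheme.Opens.opensRange_ι, inf_eq_right]; exact h
  refine ⟨fun a b hab => ?_, fun u => ?_⟩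
  · have h1 := congrArg (θ.app W') hab
    simp only [Scheme.Modules.Hom.app_smul] at h1
    have h2 : ro hW'.le a * (show Γ(X, (f ⁻¹ᵁ V).ι ''ᵁ ((f ⁻¹ᵁ V).ι ⁻¹ᵁ W')) from θ.app W' (rs _ h (pull f M V e))) =
        ro hW'.le b * (show Γ(X, (f ⁻¹ᵁ V).ι ''ᵁ ((f ⁻¹ᵁ V).ι ⁻¹ᵁ W')) from θ.app W' (rs _ h (pull f M V e))) := by
      have e0 : ∀ c : Γ(X, W'), ((f ⁻¹ᵁ V).ι.app W' c) = ro hW'.le c := fun c => by rw [(f ⁻¹ᵁ V).ι_app]; rfl
      rw [← e0, ← e0]
      exact h1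
    rw [hθe W' h, mul_one, mul_one] at h2
    have h3 := congrArg (ro hW'.ge) h2
    rwa [ro_ro, ro_ro, ro_self, ro_self] at h3
  · refine ⟨ro hW'.ge (show Γ(X, (f ⁻¹ᵁ V).ι ''ᵁ ((f ⁻¹ᵁ V).ι ⁻¹ᵁ W')) from θ.app W' u), ?_⟩
    have h1 := (congr(($hg).app W' u)).trans
      (comp_homOfSection_app (f ⁻¹ᵁ V) (pull f M V e) θ W' u (hW'.le.trans h))
    have h2 := congrArg (rs ((Scheme.Modules.pullback f).obj M) hW'.ge) h1
    rw [rs_smul, rs_rs] at h2
    refine h2.symm.trans ?_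
    show rs _ hW'.ge (rs _ hW'.le u) = u
    rw [rs_rs, rs_self]

end Pullback

end Groth.L18.Frame
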