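import Groth.Agent.L17.SpecVanishing
import Groth.Agent.L21.Mod.Stalks
import Mathlib.CategoryTheory.Adjunction.Unique
import Mathlib.Algebra.Homology.ShortComplex.ExactFunctor
import Mathlib.Algebra.Category.ModuleCat.ChangeOfRings

/-!
# Exactness of `tilde`, kernels, cokernels, colimits, pullback
-/

set_option autoImplicit false
universe u

open CategoryTheory CategoryTheory.Limits AlgebraicGeometry Opposite

noncomputable section

namespace Groth.L18.TildeF

variable {R : CommRingCat.{u}}

instance tildeAbF_preservesFiniteLimits : PreservesFiniteLimits (Groth.L17.tildeAbF R) :=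
  have h : (∀ S : ShortComplex (ModuleCat.{u} R), S.ShortExact → (S.map (Groth.L17.tildeAbF R)).ShortExact) ↔
      (PreservesFiniteLimits (Groth.L17.tildeAbF R) ∧ PreservesFiniteColimits (Groth.L17.tildeAbF R)) :=
    (Functor.exact_tfae (Groth.L17.tildeAbF R)).out 0 3
  (h.1 fun S hS => Groth.L17.shortExact_tilde S hS).1

instance tilde_preservesFiniteLimits : PreservesFiniteLimits (tilde.functor R) := by
  refine ⟨fun J _ _ => ?_⟩
  haveI : ReflectsLimitsOfShape J (Groth.L21.Mod.toAbSh (Spec R)) := reflectsLimitsOfShape_of_reflectsIsomorphisms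
  haveI : PreservesLimitsOfShape J (tilde.functor R ⋙ Groth.L21.Mod.toAbSh (Spec R)) :=
    (tildeAbF_preservesFiniteLimits (R := R)).preservesFiniteLimits J
  exact preservesLimitsOfShape_of_reflects_of_preserves (tilde.functor R) (Groth.L21.Mod.toAbSh (Spec R))

/-- The counit at a quasi-coherent module. -/
def counitIso (M : (Spec R).Modules) [M.IsQuasicoherent] :
    (tilde.functor R).obj (moduleSpecΓFunctor.obj M) ≅ M :=
  haveI : IsIso (tilde.adjunction.counit.app M) := Scheme.Modules.isIso_fromTildeΓ_of_isQuasicoherent M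
  asIso (tilde.adjunction.counit.app M)

theorem isQCoh_of_iso {M N : (Spec R).Modules} (e : M ≅ N) (h : M.IsQuasicoherent) : N.IsQuasicoherent :=
  (SheafOfModules.isQuasicoherent (Spec R).ringCatSheaf).prop_of_iso e h

theorem isQCoh_tilde (M : ModuleCat.{u} R) : ((tilde.functor R).obj M).IsQuasicoherent := by
  show SheafOfModules.IsQuasicoherent (tilde M)
  infer_instance

theorem isQCoh_kernel {M N : (Spec R).Modules} [M.IsQuasicoherent] [N.IsQuasicoherent] (φ : M ⟶ N) :
    (kernel φ).IsQuasicoherent := by
  refine isQCoh_of_iso ((PreservesKernel.iso (tilde.functor R) (moduleSpecΓFunctor.map φ)) ≪≫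
    kernel.mapIso _ φ (counitIso M) (counitIso N) (by exact tilde.adjunction.counit.naturality φ)) ?_
  exact isQCoh_tilde _

theorem isQCoh_cokernel {M N : (Spec R).Modules} [M.IsQuasicoherent] [N.IsQuasicoherent] (φ : M ⟶ N) :
    (cokernel φ).IsQuasicoherent := by
  refine isQCoh_of_iso ((PreservesCokernel.iso (tilde.functor R) (moduleSpecΓFunctor.map φ)) ≪≫
    cokernel.mapIso _ φ (counitIso M) (counitIso N) (by exact tilde.adjunction.counit.naturality φ)) ?_
  exact isQCoh_tilde _

theorem isQCoh_colimit {J : Type u} [SmallCategory J] (F : J ⥤ (Spec R).Modules)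
    (hF : ∀ j, (F.obj j).IsQuasicoherent) : (colimit F).IsQuasicoherent := by
  let e : (F ⋙ moduleSpecΓFunctor) ⋙ tilde.functor R ≅ F :=
    NatIso.ofComponents (fun j => haveI := hF j; counitIso (F.obj j))
      (fun g => by exact tilde.adjunction.counit.naturality (F.map g))
  refine isQCoh_of_iso (preservesColimitIso (tilde.functor R) (F ⋙ moduleSpecΓFunctor) ≪≫
    HasColimit.isoOfNatIso e) ?_
  exact isQCoh_tilde _

variable {S : CommRingCat.{u}} (φ : R ⟶ S)

/-- Global sections commute with pushforward. -/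
def pushforwardΓIso :
    Scheme.Modules.pushforward (Spec.map φ) ⋙ moduleSpecΓFunctor ≅
      moduleSpecΓFunctor ⋙ ModuleCat.restrictScalars φ.hom :=
  Functor.isoWhiskerRight (pushforwardCompModulesSpecToSheafIso φ)
      (TopCat.Sheaf.forget _ _ ⋙ (evaluation _ _).obj (op ⊤)) ≪≫
    NatIso.ofComponents (fun M => Iso.refl _) (fun f => by simp; rfl)

/-- `φ^* tilde N = tilde (S ⊗ N)`. -/
def pullbackTildeIso :
    tilde.functor R ⋙ Scheme.Modules.pullback (Spec.map φ) ≅
      ModuleCat.extendScalars φ.hom ⋙ tilde.functor S :=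
  ((tilde.adjunction.comp (Scheme.Modules.pullbackPushforwardAdjunction (Spec.map φ))).ofNatIsoRight
      (pushforwardΓIso φ)).leftAdjointUniq
    ((ModuleCat.extendRestrictScalarsAdj φ.hom).comp tilde.adjunction)

end Groth.L18.TildeF

namespace Groth.L18.TildeF

open TensorProduct in
theorem extendScalars_equiv {R S : Type u} [CommRing R] [CommRing S] [inst : Algebra R S] (M : ModuleCat.{u} R) :
    Nonempty ((ModuleCat.extendScalars.{u, u, u} (algebraMap R S)).obj M ≃ₗ[S] (S ⊗[R] M)) := by
  have h : inst = (algebraMap R S).toAlgebra := Algebra.algebra_ext _ _ fun _ => rfl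
  generalize algebraMap R S = φ at h
  subst h
  exact ⟨LinearEquiv.refl S _⟩

end Groth.L18.TildeF
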