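import Groth.Agent.L01.Regular
import Mathlib.AlgebraicGeometry.SpreadingOut
import Mathlib.AlgebraicGeometry.Noetherian
import Mathlib.AlgebraicGeometry.Morphisms.Separated
import Mathlib.AlgebraicGeometry.Morphisms.UniversallyClosed
import Mathlib.RingTheory.DiscreteValuationRing.TFAE
import Mathlib.RingTheory.RegularLocalRing.Defs
import Mathlib.AlgebraicGeometry.Morphisms.Proper
import Mathlib.RingTheory.Ideal.KrullsHeightTheorem

/-!
Extending rational sections of closed separated morphisms over points with valuation local rings.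
-/

set_option autoImplicit false
set_option linter.unusedSectionVars false
set_option linter.style.haveILetI false
universe u

open CategoryTheory CategoryTheory.Limits AlgebraicGeometry TopologicalSpace

namespace Groth.L18.Codim1

theorem isDomain_valuationRing_of_regular (R : Type u) [CommRing R] [IsRegularLocalRing R]
    (h : ringKrullDim R ≤ 1) : ∃ (_ : IsDomain R), ValuationRing R := by
  haveI : IsDomain R := Groth.L01.isDomain_of_regular R
  refine ⟨inferInstance, ?_⟩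
  by_cases hF : IsField R
  · letI := hF.toField
    infer_instance
  have hspan : (IsLocalRing.maximalIdeal R).spanFinrank ≤ 1 := by
    have h1 := (isRegularLocalRing_iff R).mp ‹_›
    rw [← h1] at h
    exact_mod_cast h
  have hpr : (IsLocalRing.maximalIdeal R).IsPrincipal := by
    obtain ⟨s, hs, hspan'⟩ := Submodule.FG.exists_span_finset_card_eq_spanFinrank
      (IsNoetherian.noetherian (IsLocalRing.maximalIdeal R))
    rcases Finset.card_le_one_iff_subset_singleton.mp (hs.trans_le hspan) with ⟨a, ha⟩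
    rcases Finset.subset_singleton_iff.mp ha with rfl | rfl
    · exact ⟨⟨0, by rw [← hspan']; simp⟩⟩
    · exact ⟨⟨a, by rw [← hspan']; simp⟩⟩
  haveI : IsDiscreteValuationRing R := ((IsDiscreteValuationRing.TFAE R hF).out 4 0).mp hpr
  infer_instance

/-- The unique most generic point over a point with integral local ring. -/
noncomputable def eta (Y : Scheme.{u}) (y : Y) [IsDomain (Y.presheaf.stalk y)] : Y :=
  Y.fromSpecStalk y (⊥ : PrimeSpectrum (Y.presheaf.stalk y))

variable {Y : Scheme.{u}}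

theorem eta_specializes_of_specializes {y w : Y} [IsDomain (Y.presheaf.stalk y)] (h : w ⤳ y) :
    eta Y y ⤳ w := by
  obtain ⟨P, rfl⟩ : w ∈ Set.range (Y.fromSpecStalk y) := by rw [Scheme.range_fromSpecStalk]; exact h
  refine Specializes.map ?_ (Y.fromSpecStalk y).continuous
  exact (PrimeSpectrum.le_iff_specializes (⊥ : PrimeSpectrum (Y.presheaf.stalk y)) P).mp bot_le

theorem exists_nhds_subset_closure [IsLocallyNoetherian Y] (y : Y) [IsDomain (Y.presheaf.stalk y)] :
    ∃ N : Y.Opens, y ∈ N ∧ ∀ z ∈ N, eta Y y ⤳ z := by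
  obtain ⟨_, ⟨U, hU, rfl⟩, hyU, -⟩ :=
    Y.isBasis_affineOpens.exists_subset_of_mem_open (Set.mem_univ y) isOpen_univ
  haveI : IsNoetherianRing Γ(Y, U) := IsLocallyNoetherian.component_noetherian ⟨U, hU⟩
  haveI := noetherianSpace_of_isAffineOpen U hU
  let y' : U := ⟨y, hyU⟩
  let B : Set (Set U) := {Z ∈ irreducibleComponents U | y' ∉ Z}
  have hB : IsClosed (⋃₀ B) := Set.Finite.isClosed_biUnion
    (s := B) (f := id) ((NoetherianSpace.finite_irreducibleComponents).subset fun Z hZ => hZ.1)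
    (fun Z hZ => isClosed_of_mem_irreducibleComponents Z hZ.1) |> fun h => by
      rwa [Set.sUnion_eq_biUnion]
  refine ⟨⟨Subtype.val '' (⋃₀ B)ᶜ, U.2.isOpenEmbedding_subtypeVal.isOpenMap _ hB.isOpen_compl⟩,
    ⟨y', fun ⟨Z, hZ, hyZ⟩ => hZ.2 hyZ, rfl⟩, ?_⟩
  rintro _ ⟨z, hz, rfl⟩
  have hyZ : y' ∈ irreducibleComponent z := by
    by_contra hn
    exact hz ⟨_, ⟨irreducibleComponent_mem_irreducibleComponents z, hn⟩, mem_irreducibleComponent⟩
  haveI := U.isOpenEmbedding'.quasiSober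
  obtain ⟨w, hw⟩ := QuasiSober.sober (isIrreducible_irreducibleComponent (x := z))
    (isClosed_irreducibleComponent (x := z))
  exact (eta_specializes_of_specializes ((hw.specializes hyZ).map continuous_subtype_val)).trans
    ((hw.specializes mem_irreducibleComponent).map continuous_subtype_val)

theorem eta_mem_of_dense [IsLocallyNoetherian Y] (y : Y) [IsDomain (Y.presheaf.stalk y)] {V : Y.Opens}
    (hV : Dense (V : Set Y)) : eta Y y ∈ V := by
  obtain ⟨N, hyN, hN⟩ := exists_nhds_subset_closure y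
  obtain ⟨z, hzN, hzV⟩ := hV.inter_open_nonempty N N.2 ⟨y, hyN⟩
  exact (hN z hzN).mem_open V.2 hzV

variable [IsLocallyNoetherian Y] [IsReduced Y] {X : Scheme.{u}} (f : X ⟶ Y)

theorem exists_extension_at [LocallyOfFiniteType f] [IsSeparated f] (hcl : IsClosedMap f.base)
    (V : Y.Opens) (hV : Dense (V : Set Y)) (s : (V : Scheme.{u}) ⟶ X) (hs : s ≫ f = V.ι) (y : Y)
    [IsDomain (Y.presheaf.stalk y)] [ValuationRing (Y.presheaf.stalk y)] :
    ∃ (W : Y.Opens) (h : (W : Scheme.{u}) ⟶ X), y ∈ W ∧ h ≫ f = W.ι ∧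
      Y.homOfLE (inf_le_left : W ⊓ V ≤ W) ≫ h = Y.homOfLE (inf_le_right : W ⊓ V ≤ V) ≫ s := by
  let K := FractionRing (Y.presheaf.stalk y)
  let ι : Spec (CommRingCat.of K) ⟶ Spec (Y.presheaf.stalk y) :=
    Spec.map (CommRingCat.ofHom (algebraMap (Y.presheaf.stalk y) K))
  have hι : ∀ t, (ι ≫ Y.fromSpecStalk y) t = eta Y y := fun t => by
    rw [Scheme.Hom.comp_apply]
    congr 1
    apply PrimeSpectrum.ext
    change Ideal.comap (algebraMap (Y.presheaf.stalk y) K) t.asIdeal = ⊥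
    rw [(Ideal.eq_bot_or_top t.asIdeal).resolve_right t.isPrime.ne_top]
    exact (RingHom.injective_iff_ker_eq_bot _).mp (IsFractionRing.injective _ K)
  have hηV := eta_mem_of_dense y hV
  let eV : Spec (CommRingCat.of K) ⟶ V := IsOpenImmersion.lift V.ι (ι ≫ Y.fromSpecStalk y) (by
    rw [Scheme.Opens.range_ι]
    rintro _ ⟨t, rfl⟩
    rw [hι]
    exact hηV)
  have heV : eV ≫ V.ι = ι ≫ Y.fromSpecStalk y := IsOpenImmersion.lift_fac _ _ _
  let m : Spec (CommRingCat.of K) ⟶ X := eV ≫ s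
  have hm : m ≫ f = ι ≫ Y.fromSpecStalk y := by rw [Category.assoc, hs, heV]
  let pt : ↥(Spec (CommRingCat.of K)) := IsLocalRing.closedPoint K
  have hfz : f (m pt) = eta Y y := by rw [← Scheme.Hom.comp_apply, hm, hι]
  obtain ⟨x, hxz, hxy⟩ : y ∈ f.base '' closure {m pt} :=
    ((eta_specializes_of_specializes (specializes_refl y)).mem_closed (hcl _ isClosed_closure)
      ⟨m pt, subset_closure rfl, hfz⟩)
  have hxy : f x = y := hxy
  subst hxy
  have hzx : m pt ⤳ x := specializes_iff_mem_closure.mpr hxz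
  let β : X.presheaf.stalk x ⟶ CommRingCat.of K :=
    X.presheaf.stalkSpecializes hzx ≫ Scheme.stalkClosedPointTo m
  have hβm : Spec.map β ≫ X.fromSpecStalk x = m := by
    rw [Spec.map_comp, Category.assoc, Scheme.SpecMap_stalkSpecializes_fromSpecStalk]
    exact Scheme.Spec_stalkClosedPointTo_fromSpecStalk m
  have hβ : f.stalkMap x ≫ β = CommRingCat.ofHom (algebraMap (Y.presheaf.stalk (f x)) K) := by
    apply Spec.map_injective
    rw [← cancel_mono (Y.fromSpecStalk (f x)), Spec.map_comp, Category.assoc,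
      Scheme.SpecMap_stalkMap_fromSpecStalk, ← Category.assoc, hβm, hm]
    rfl
  have hmem : ∀ a, β.hom a ∈ (algebraMap (Y.presheaf.stalk (f x)) K).range := by
    intro a
    rcases ValuationRing.isInteger_or_isInteger (Y.presheaf.stalk (f x)) (β.hom a) with h | ⟨v, hv⟩
    · exact h
    by_cases h0 : β.hom a = 0
    · exact ⟨0, by rw [h0, map_zero]⟩
    by_cases hvu : IsUnit v
    · exact ⟨(hvu.unit⁻¹ : (Y.presheaf.stalk (f x))ˣ), by rw [map_units_inv, IsUnit.unit_spec, hv, inv_inv]⟩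
    exfalso
    have h1 : β.hom ((f.stalkMap x).hom v * a) = 1 := by
      rw [map_mul, show β.hom ((f.stalkMap x).hom v) = algebraMap _ K v from ConcreteCategory.congr_hom hβ v,
        hv, inv_mul_cancel₀ h0]
    have hnu : ¬ IsUnit ((f.stalkMap x).hom v * a) := fun h =>
      hvu (isUnit_of_map_unit (f.stalkMap x).hom v (isUnit_of_mul_isUnit_left h))
    have h2 := ((IsLocalRing.isUnit_or_isUnit_one_sub_self _).resolve_left hnu).map β.hom
    rw [map_sub, map_one, h1, sub_self] at h2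
    exact not_isUnit_zero h2
  choose γ hγ using hmem
  have hinj := IsFractionRing.injective (Y.presheaf.stalk (f x)) K
  let γh : X.presheaf.stalk x ⟶ Y.presheaf.stalk (f x) := CommRingCat.ofHom
    { toFun := γ
      map_one' := hinj ((hγ _).trans ((map_one β.hom).trans (map_one _).symm))
      map_mul' := fun a b => hinj ((hγ _).trans ((map_mul β.hom a b).trans
        ((congrArg₂ (· * ·) (hγ a).symm (hγ b).symm).trans (map_mul _ _ _).symm)))
      map_zero' := hinj ((hγ _).trans ((map_zero β.hom).trans (map_zero _).symm))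
      map_add' := fun a b => hinj ((hγ _).trans ((map_add β.hom a b).trans
        ((congrArg₂ (· + ·) (hγ a).symm (hγ b).symm).trans (map_add _ _ _).symm))) }
  have hsec : f.stalkMap x ≫ γh = 𝟙 _ := by
    ext v
    exact hinj ((hγ _).trans (ConcreteCategory.congr_hom hβ v))
  let φ : Spec (Y.presheaf.stalk (f x)) ⟶ X := Spec.map γh ≫ X.fromSpecStalk x
  have hφ : φ ≫ f = Y.fromSpecStalk (f x) ≫ 𝟙 Y := by
    rw [Category.assoc, ← Scheme.SpecMap_stalkMap_fromSpecStalk, ← Spec.map_comp_assoc, hsec,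
      Spec.map_id, Category.id_comp, Category.comp_id]
  have hφm : ι ≫ φ = m := by
    rw [← hβm]
    refine (Category.assoc _ _ _).symm.trans ?_
    refine congrArg (· ≫ X.fromSpecStalk x) ((Spec.map_comp _ _).symm.trans (congrArg Spec.map ?_))
    ext a
    exact hγ a
  obtain ⟨W₀, hxW₀, h₀, hh₀, hh₀f⟩ := spread_out_of_isGermInjective' (𝟙 Y) f φ hφ
  rw [Category.comp_id] at hh₀f
  obtain ⟨N, hyN, hN⟩ := exists_nhds_subset_closure (f x)
  let W : Y.Opens := W₀ ⊓ N
  refine ⟨W, Y.homOfLE inf_le_left ≫ h₀, ⟨hxW₀, hyN⟩, by rw [Category.assoc, hh₀f, Scheme.homOfLE_ι], ?_⟩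
  have hηW : eta Y (f x) ∈ W := (eta_specializes_of_specializes (specializes_refl (f x))).mem_open W.2 ⟨hxW₀, hyN⟩
  let e : Spec (CommRingCat.of K) ⟶ (W ⊓ V : Y.Opens) :=
    IsOpenImmersion.lift (W ⊓ V).ι (ι ≫ Y.fromSpecStalk (f x)) (by
      rw [Scheme.Opens.range_ι]
      rintro _ ⟨t, rfl⟩
      rw [hι]
      exact ⟨hηW, hηV⟩)
  have he : e ≫ (W ⊓ V).ι = ι ≫ Y.fromSpecStalk (f x) := IsOpenImmersion.lift_fac _ _ _
  haveI : IsDominant e := by
    refine ⟨fun z => ?_⟩
    refine closure_mono (Set.singleton_subset_iff.mpr (Set.mem_range_self pt)) (specializes_iff_mem_closure.mp ?_)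
    rw [← (W ⊓ V).ι.isOpenEmbedding.isInducing.specializes_iff, ← Scheme.Hom.comp_apply, he, hι]
    exact hN _ z.2.1.2
  refine ext_of_isDominant_of_isSeparated f ?_ e ?_
  · simp only [Category.assoc, hh₀f, hs, Scheme.homOfLE_ι]
  · have hA : e ≫ Y.homOfLE (inf_le_right : W ⊓ V ≤ V) = eV := by
      rw [← cancel_mono V.ι, Category.assoc, Scheme.homOfLE_ι, he, heV]
    have hB : e ≫ Y.homOfLE (inf_le_left : W ⊓ V ≤ W) ≫ Y.homOfLE (inf_le_left : W ≤ W₀) =
        ι ≫ W₀.fromSpecStalkOfMem (f x) hxW₀ := by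
      rw [← cancel_mono W₀.ι]
      simp only [Category.assoc, Scheme.homOfLE_ι, he, Scheme.Opens.fromSpecStalkOfMem_ι]
    simp only [← Category.assoc] at hB ⊢
    rw [hB, hA, Category.assoc, ← hh₀, hφm]

theorem exists_extension [LocallyOfFiniteType f] [IsSeparated f] (hcl : IsClosedMap f.base)
    (V : Y.Opens) (hV : Dense (V : Set Y)) (s : (V : Scheme.{u}) ⟶ X) (hs : s ≫ f = V.ι) (T : Set Y)
    (hT : ∀ y ∈ T, ∃ (_ : IsDomain (Y.presheaf.stalk y)), ValuationRing (Y.presheaf.stalk y)) :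
    ∃ (U : Y.Opens) (hVU : V ≤ U) (s' : (U : Scheme.{u}) ⟶ X), s' ≫ f = U.ι ∧
      Y.homOfLE hVU ≫ s' = s ∧ ∀ y ∈ T, y ∈ U := by
  let I := {p : Σ W : Y.Opens, ((W : Scheme.{u}) ⟶ X) // p.2 ≫ f = p.1.ι ∧
    Y.homOfLE (inf_le_left : p.1 ⊓ V ≤ p.1) ≫ p.2 = Y.homOfLE (inf_le_right : p.1 ⊓ V ≤ V) ≫ s}
  let U : I → Y.Opens := fun i => i.1.1
  let v : I := ⟨⟨V, s⟩, hs, rfl⟩
  have compat : ∀ (a b : I) (W : Y.Opens) (ha : W ≤ U a) (hb : W ≤ U b),
      Y.homOfLE ha ≫ a.1.2 = Y.homOfLE hb ≫ b.1.2 := by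
    intro a b W ha hb
    haveI : IsDominant (Y.homOfLE (inf_le_left : W ⊓ V ≤ W)) := by
      refine ⟨fun z => ?_⟩
      rw [mem_closure_iff]
      intro O hO hzO
      obtain ⟨O', hO', rfl⟩ := isOpen_induced_iff.mp hO
      obtain ⟨w, ⟨hwW, hwO⟩, hwV⟩ := hV.inter_open_nonempty ((W : Set Y) ∩ O') (W.2.inter hO') ⟨z.1, z.2, hzO⟩
      exact ⟨⟨w, hwW⟩, hwO, ⟨w, hwW, hwV⟩, Subtype.ext (by simp)⟩
    refine ext_of_isDominant_of_isSeparated f ?_ (Y.homOfLE (inf_le_left : W ⊓ V ≤ W)) ?_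
    · rw [Category.assoc, a.2.1, Category.assoc, b.2.1]
      exact (Scheme.homOfLE_ι _ _).trans (Scheme.homOfLE_ι _ _).symm
    · have key : ∀ (c : I) (hc : W ≤ U c), Y.homOfLE (inf_le_left : W ⊓ V ≤ W) ≫ Y.homOfLE hc ≫ c.1.2 =
          Y.homOfLE (inf_le_right : W ⊓ V ≤ V) ≫ s := fun c hc => by
        have h1 := congrArg (Y.homOfLE (inf_le_inf_right V hc) ≫ ·) c.2.2
        simpa only [Scheme.homOfLE_homOfLE_assoc] using h1
      rw [key a ha, key b hb]
  let 𝒰 := Scheme.Opens.iSupOpenCover U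
  have hglue : ∀ a b : I, pullback.fst (𝒰.f a) (𝒰.f b) ≫ a.1.2 = pullback.snd (𝒰.f a) (𝒰.f b) ≫ b.1.2 := by
    intro a b
    have hp : IsPullback (Y.homOfLE (inf_le_left : U a ⊓ U b ≤ U a)) (Y.homOfLE (inf_le_right : U a ⊓ U b ≤ U b))
        (Y.homOfLE (le_iSup U a)) (Y.homOfLE (le_iSup U b)) :=
      isPullback_opens_inf_le (le_iSup U a) (le_iSup U b)
    refine (cancel_epi hp.isoPullback.hom).mp ?_
    simp only [𝒰, Scheme.Opens.iSupOpenCover, IsPullback.isoPullback_hom_fst_assoc, IsPullback.isoPullback_hom_snd_assoc]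
    exact compat a b _ _ _
  refine ⟨⨆ i, U i, le_iSup U v, 𝒰.glueMorphisms (fun a => a.1.2) hglue, ?_, ?_, fun y hy => ?_⟩
  · refine 𝒰.hom_ext _ _ fun a => ?_
    rw [← Category.assoc]
    exact (congrArg (· ≫ f) (Scheme.Cover.ι_glueMorphisms 𝒰 _ hglue a)).trans
      (a.2.1.trans (Scheme.homOfLE_ι Y (le_iSup U a)).symm)
  · exact 𝒰.ι_glueMorphisms (fun a => a.1.2) hglue v
  · obtain ⟨hd, hv⟩ := hT y hy
    obtain ⟨W, h, hyW, hh, hh'⟩ := exists_extension_at f hcl V hV s hs y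
    exact TopologicalSpace.Opens.mem_iSup.mpr ⟨⟨⟨W, h⟩, hh, hh'⟩, hyW⟩

theorem exists_extension_proper {S : Scheme.{u}} (p : X ⟶ S) [IsProper p] (q : Y ⟶ S) (V : Y.Opens)
    (hV : Dense (V : Set Y)) (g : (V : Scheme.{u}) ⟶ X) (hg : g ≫ p = V.ι ≫ q) (T : Set Y)
    (hT : ∀ y ∈ T, ∃ (_ : IsDomain (Y.presheaf.stalk y)), ValuationRing (Y.presheaf.stalk y)) :
    ∃ (U : Y.Opens) (hVU : V ≤ U) (g' : (U : Scheme.{u}) ⟶ X), g' ≫ p = U.ι ≫ q ∧
      Y.homOfLE hVU ≫ g' = g ∧ ∀ y ∈ T, y ∈ U := by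
  haveI : IsProper (pullback.snd p q) := MorphismProperty.pullback_snd (P := @IsProper) _ _ inferInstance
  obtain ⟨U, hVU, s', hs', hs, hTU⟩ := exists_extension (pullback.snd p q) (pullback.snd p q).isClosedMap V hV
    (pullback.lift g V.ι hg) (pullback.lift_snd _ _ _) T hT
  refine ⟨U, hVU, s' ≫ pullback.fst p q, ?_, ?_, hTU⟩
  · rw [Category.assoc, pullback.condition, ← Category.assoc, hs']
  · rw [← Category.assoc, hs, pullback.lift_fst]

theorem ringKrullDim_stalk_le_of_specializes {x y : Y} (h : x ⤳ y) :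
    ringKrullDim (Y.presheaf.stalk x) ≤ ringKrullDim (Y.presheaf.stalk y) := by
  refine Order.krullDim_le_of_strictMono (PrimeSpectrum.comap (Y.presheaf.stalkSpecializes h).hom)
    (Monotone.strictMono_of_injective (fun P Q hPQ => Ideal.comap_mono hPQ) fun P Q hPQ => ?_)
  refine (Y.fromSpecStalk x).isEmbedding.injective ?_
  rw [← Scheme.SpecMap_stalkSpecializes_fromSpecStalk h, Scheme.Hom.comp_apply, Scheme.Hom.comp_apply]
  exact congrArg _ hPQ

theorem valuationRing_of_normal (R : Type u) [CommRing R] [IsDomain R] [IsLocalRing R] [IsNoetherianRing R]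
    [IsIntegrallyClosed R] (h : ringKrullDim R ≤ 1) : ValuationRing R := by
  by_cases hF : IsField R
  · letI := hF.toField
    infer_instance
  have ht : IsDiscreteValuationRing R ↔ IsIntegrallyClosed R ∧ ∃! P : Ideal R, P ≠ ⊥ ∧ P.IsPrime :=
    (IsDiscreteValuationRing.TFAE R hF).out 0 3
  haveI : IsDiscreteValuationRing R := by
    refine ht.mpr ⟨inferInstance, IsLocalRing.maximalIdeal R,
      ⟨fun h => hF (IsLocalRing.isField_iff_maximalIdeal_eq.mpr h), inferInstance⟩, fun Q hQ => ?_⟩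
    by_contra hne
    haveI := hQ.2
    have hlt : Q < IsLocalRing.maximalIdeal R :=
      lt_of_le_of_ne (IsLocalRing.le_maximalIdeal hQ.2.ne_top) hne
    have hm : (IsLocalRing.maximalIdeal R).height ≤ (1 : ℕ) := by
      rw [← IsLocalRing.maximalIdeal_height_eq_ringKrullDim] at h
      exact_mod_cast h
    have hQ0 := (Ideal.height_le_iff.mp hm) Q hQ.2 hlt
    rw [Nat.cast_one, Order.lt_one_iff, Ideal.height_eq_zero_iff_eq_bot] at hQ0
    exact hQ.1 hQ0
  infer_instance

end Groth.L18.Codim1
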