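import Groth.Agent.L18.Segre
import Mathlib.AlgebraicGeometry.Morphisms.Finite
import Mathlib.AlgebraicGeometry.Morphisms.Proper
import Mathlib.FieldTheory.IsAlgClosed.AlgebraicClosure

/-!
# Multiplication of binary forms: a finite surjective map `P^n × P^1 ⟶ P^(n+1)`
-/

set_option autoImplicit false
universe u

open CategoryTheory CategoryTheory.Limits AlgebraicGeometry
open scoped TensorProduct

namespace Groth.L18.PS

open CohB1 HomogeneousLocalization MvPolynomial

/-- The coefficients of the product of the polynomials with coefficient vectors `u` and `v`. -/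
def mulC {n : ℕ} {A : Type u} [CommRing A] (u : Fin (n + 1) → A) (v : Fin 2 → A) (k : Fin (n + 2)) : A :=
  ∑ p : Fin (n + 1) × Fin 2, if p.1.val + p.2.val = k.val then u p.1 * v p.2 else 0

section poly
open Polynomial

/-- The polynomial with given coefficient vector. -/
noncomputable def polyOf {n : ℕ} {A : Type u} [CommRing A] (u : Fin n → A) : Polynomial A :=
  ∑ a : Fin n, Polynomial.C (u a) * Polynomial.X ^ (a : ℕ)

lemma coeff_polyOf {n : ℕ} {A : Type u} [CommRing A] (u : Fin n → A) (a : Fin n) :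
    (polyOf u).coeff a = u a := by
  classical
  simp only [polyOf, finsetSum_coeff, coeff_C_mul_X_pow]
  rw [Finset.sum_eq_single a]
  · simp
  · intro b _ hb
    rw [if_neg]
    exact fun h => hb (Fin.ext h.symm)
  · simp

lemma polyOf_coeff {n : ℕ} {A : Type u} [CommRing A] (P : Polynomial A) (hP : P.degree < n) :
    polyOf (fun a : Fin n => P.coeff a) = P := by
  rcases eq_or_ne P 0 with rfl | h0
  · simp [polyOf]
  · have h := (natDegree_lt_iff_degree_lt h0).mpr hP
    conv_rhs => rw [P.as_sum_range_C_mul_X_pow' h, ← Fin.sum_univ_eq_sum_range]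
    rfl

lemma polyOf_mulC {n : ℕ} {A : Type u} [CommRing A] (u : Fin (n + 1) → A) (v : Fin 2 → A) :
    polyOf (mulC u v) = polyOf u * polyOf v := by
  rw [polyOf, polyOf, polyOf, Finset.sum_mul_sum, ← Fintype.sum_prod_type'
    (f := fun (a : Fin (n + 1)) (b : Fin 2) =>
      Polynomial.C (u a) * Polynomial.X ^ (a : ℕ) * (Polynomial.C (v b) * Polynomial.X ^ (b : ℕ)))]
  simp only [mulC, map_sum, Finset.sum_mul]
  rw [Finset.sum_comm]
  refine Finset.sum_congr rfl fun p _ => ?_
  rw [Finset.sum_eq_single ⟨p.1.val + p.2.val, by have := p.1.isLt; have := p.2.isLt; omega⟩]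
  · simp only [if_true, map_mul, pow_add]
    ring
  · intro k _ hk
    rw [if_neg (fun h => hk (Fin.ext h.symm)), map_zero, zero_mul]
  · simp

lemma mulC_ne_zero {n : ℕ} {A : Type u} [CommRing A] [IsDomain A] (u : Fin (n + 1) → A) (v : Fin 2 → A)
    (hu : ∃ a, u a ≠ 0) (hv : ∃ b, v b ≠ 0) : ∃ k, mulC u v k ≠ 0 := by
  by_contra hc
  push Not at hc
  have h0 : polyOf (mulC u v) = 0 := by simp [polyOf, hc]
  rw [polyOf_mulC, mul_eq_zero] at h0
  obtain ⟨a, ha⟩ := hu
  obtain ⟨b, hb⟩ := hv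
  rcases h0 with h0 | h0
  · exact ha (by rw [← coeff_polyOf u a, h0, Polynomial.coeff_zero])
  · exact hb (by rw [← coeff_polyOf v b, h0, Polynomial.coeff_zero])

lemma exists_mulC_eq {n : ℕ} {K : Type u} [Field K] [IsAlgClosed K] (w : Fin (n + 2) → K)
    (hw : ∃ k, w k ≠ 0) :
    ∃ (u : Fin (n + 1) → K) (v : Fin 2 → K), (∃ a, u a ≠ 0) ∧ (∃ b, v b ≠ 0) ∧
      ∀ k, mulC u v k = w k := by
  have hdeg : (polyOf w).degree < (n + 2 : ℕ) := by
    refine lt_of_le_of_lt (degree_sum_le _ _) ((Finset.sup_lt_iff (WithBot.bot_lt_coe _)).mpr fun a _ => ?_)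
    exact lt_of_le_of_lt (degree_C_mul_X_pow_le _ _) (by exact_mod_cast a.isLt)
  have hP : polyOf w ≠ 0 := by
    obtain ⟨k, hk⟩ := hw
    intro h
    exact hk (by rw [← coeff_polyOf w k, h, Polynomial.coeff_zero])
  have fin : ∀ (U : Polynomial K) (v : Fin 2 → K), U.degree < (n + 1 : ℕ) → (∃ b, v b ≠ 0) →
      U * polyOf v = polyOf w → ∃ (u : Fin (n + 1) → K) (v : Fin 2 → K),
        (∃ a, u a ≠ 0) ∧ (∃ b, v b ≠ 0) ∧ ∀ k, mulC u v k = w k := by
    intro U v hU hv e
    refine ⟨fun a => U.coeff a, v, ?_, hv, fun k => ?_⟩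
    · by_contra hc
      push Not at hc
      apply hP
      rw [← e, ← polyOf_coeff U hU]
      simp [polyOf, hc]
    · rw [← coeff_polyOf (mulC (fun a : Fin (n + 1) => U.coeff a) v) k, polyOf_mulC, polyOf_coeff U hU, e,
        coeff_polyOf]
  by_cases hlt : (polyOf w).degree < (n + 1 : ℕ)
  · exact fin (polyOf w) ![1, 0] hlt ⟨0, by simp⟩ (by simp [polyOf, Fin.sum_univ_two])
  · have hd : (polyOf w).degree ≠ 0 := by
      intro h
      exact hlt (by rw [h]; exact_mod_cast Nat.succ_pos n)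
    obtain ⟨r, hr⟩ := IsAlgClosed.exists_root _ hd
    obtain ⟨U, hU⟩ := dvd_iff_isRoot.mpr hr
    refine fin U ![-r, 1] ?_ ⟨1, by simp⟩ ?_
    · have hU0 : U ≠ 0 := by rintro rfl; exact hP (by rw [hU, mul_zero])
      have h2 := hdeg
      rw [hU, degree_mul, degree_X_sub_C, degree_eq_natDegree hU0] at h2
      rw [degree_eq_natDegree hU0]
      have : ((1 + U.natDegree : ℕ) : WithBot ℕ) < ((n + 2 : ℕ) : WithBot ℕ) := by exact_mod_cast h2
      have h3 : 1 + U.natDegree < n + 2 := by exact_mod_cast this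
      exact_mod_cast (by omega : U.natDegree < n + 1)
    · rw [hU]
      simp [polyOf, Fin.sum_univ_two]
      ring

end poly

lemma map_mulC {n : ℕ} {A B : Type u} [CommRing A] [CommRing B] (g : A →+* B) (u : Fin (n + 1) → A)
    (v : Fin 2 → A) (k : Fin (n + 2)) :
    g (mulC u v k) = mulC (fun a => g (u a)) (fun b => g (v b)) k := by
  simp only [mulC, map_sum]
  refine Finset.sum_congr rfl fun p _ => ?_
  split_ifs <;> simp

lemma mulC_smul {n : ℕ} {A : Type u} [CommRing A] (c d : A) (u : Fin (n + 1) → A) (v : Fin 2 → A)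
    (k : Fin (n + 2)) :
    mulC (fun a => c * u a) (fun b => d * v b) k = c * d * mulC u v k := by
  simp only [mulC, Finset.mul_sum]
  refine Finset.sum_congr rfl fun p _ => ?_
  split_ifs <;> ring

variable (n : ℕ) (R : Type u) [CommRing R]

lemma isProper_toSpec : IsProper (ProjSpace.toSpec n R) := by
  let 𝒜 := polyGrading n R
  have hsurj : Function.Surjective (algebraMap R (𝒜 0)) := by
    rintro ⟨p, hp⟩
    refine ⟨coeff 0 p, Subtype.ext ?_⟩
    show C (coeff 0 p) = p
    have hd : p.totalDegree = 0 :=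
      Nat.le_zero.mp (IsHomogeneous.totalDegree_le ((mem_homogeneousSubmodule 0 p).mp hp))
    exact (totalDegree_eq_zero_iff_eq_C.mp hd).symm
  haveI : IsScalarTower R (𝒜 0) (MvPolynomial (Fin (n + 1)) R) :=
    IsScalarTower.of_algebraMap_eq' (R := R) (S := ↥(𝒜 0)) (A := MvPolynomial (Fin (n + 1)) R) rfl
  haveI : Algebra.FiniteType (𝒜 0) (MvPolynomial (Fin (n + 1)) R) :=
    Algebra.FiniteType.of_restrictScalars_finiteType R (𝒜 0) (MvPolynomial (Fin (n + 1)) R)
  haveI : IsClosedImmersion (Spec.map (CommRingCat.ofHom (algebraMap R (𝒜 0)))) :=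
    IsClosedImmersion.spec_of_surjective _ hsurj
  unfold ProjSpace.toSpec
  exact MorphismProperty.IsStableUnderComposition.comp_mem _ _
    (inferInstanceAs (IsProper (Proj.toSpecZero 𝒜))) inferInstance

/-- The index bijection for the Segre map used here. -/
def segreIdx : Fin (n + 1) × Fin 2 ≃ Fin (n * 1 + n + 1 + 1) :=
  finProdFinEquiv.trans (finCongr (by ring))

/-- The linear form cutting out the complement of the `k`-th chart. -/
noncomputable def mulForm (k : Fin (n + 2)) : MvPolynomial (Fin (n * 1 + n + 1 + 1)) R :=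
  ∑ p : Fin (n + 1) × Fin 2, if p.1.val + p.2.val = k.val then X (segreIdx n p) else 0

lemma isHomogeneous_mulForm (k : Fin (n + 2)) : (mulForm n R k).IsHomogeneous 1 := by
  refine IsHomogeneous.sum _ _ _ fun p _ => ?_
  split_ifs
  · exact isHomogeneous_X _ _
  · exact isHomogeneous_zero _ _ _

/-- The product coordinates on a product chart. -/
noncomputable def mulW (p : Fin (n + 1) × Fin 2) (k : Fin (n + 2)) : PairRing n 1 R p :=
  mulC (uC n 1 R p) (vC n 1 R p) k

lemma pairChart_preimage_mulForm (p : Fin (n + 1) × Fin 2) (k : Fin (n + 2)) :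
    pairChart n 1 R p ⁻¹ᵁ (segre R (segreIdx n) ⁻¹ᵁ
      Proj.basicOpen (polyGrading (n * 1 + n + 1) R) (mulForm n R k)) =
      PrimeSpectrum.basicOpen (mulW n R p k) := by
  rw [← Scheme.Hom.comp_preimage, pairChart_segre,
    tuplePt_preimage_basicOpen _ _ _ _ _ (isHomogeneous_mulForm n R k) one_pos]
  congr 1
  simp only [mulForm, mulW, mulC, map_sum]
  refine Finset.sum_congr rfl fun q _ => ?_
  split_ifs
  · rw [eval₂Hom_X', segreC, Equiv.symm_apply_apply]
  · exact map_zero _

lemma exists_notMem_mulW (p : Fin (n + 1) × Fin 2) (q : PrimeSpectrum (PairRing n 1 R p)) :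
    ∃ k, mulW n R p k ∉ q.asIdeal := by
  haveI := q.isPrime
  obtain ⟨k, hk⟩ := mulC_ne_zero (fun a => Ideal.Quotient.mk q.asIdeal (uC n 1 R p a))
    (fun b => Ideal.Quotient.mk q.asIdeal (vC n 1 R p b))
    ⟨p.1, by rw [uC_self, map_one]; exact one_ne_zero⟩ ⟨p.2, by rw [vC_self, map_one]; exact one_ne_zero⟩
  refine ⟨k, fun h => hk ?_⟩
  rw [← map_mulC]
  exact Ideal.Quotient.eq_zero_iff_mem.mpr h

/-- The rings of the refined cover. -/
abbrev MulRing (q : (Fin (n + 1) × Fin 2) × Fin (n + 2)) : Type u :=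
  Localization.Away (mulW n R q.1 q.2)

/-- The pieces of the refined cover. -/
noncomputable def mulChart (q : (Fin (n + 1) × Fin 2) × Fin (n + 2)) :
    Spec (.of (MulRing n R q)) ⟶ pullback (ProjSpace.toSpec n R) (ProjSpace.toSpec 1 R) :=
  Spec.map (CommRingCat.ofHom (algebraMap (PairRing n 1 R q.1) (MulRing n R q))) ≫ pairChart n 1 R q.1

instance (q : (Fin (n + 1) × Fin 2) × Fin (n + 2)) : IsOpenImmersion (mulChart n R q) := by
  unfold mulChart
  haveI : IsOpenImmersion (Spec.map (CommRingCat.ofHom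
      (algebraMap (PairRing n 1 R q.1) (MulRing n R q)))) :=
    IsOpenImmersion.of_isLocalization (mulW n R q.1 q.2)
  exact IsOpenImmersion.comp _ _

lemma exists_mem_range_mulChart (z : ↥(pullback (ProjSpace.toSpec n R) (ProjSpace.toSpec 1 R))) :
    ∃ q, z ∈ Set.range (mulChart n R q) := by
  have aux : ∀ (p : Fin (n + 1) × Fin 2) (w : PrimeSpectrum (PairRing n 1 R p)),
      ∃ q, pairChart n 1 R p w ∈ Set.range (mulChart n R q) := by
    intro p w
    obtain ⟨k, hk⟩ := exists_notMem_mulW n R p w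
    have hw : w ∈ Set.range (PrimeSpectrum.comap (algebraMap (PairRing n 1 R p) (MulRing n R (p, k)))) := by
      rw [PrimeSpectrum.localization_away_comap_range (MulRing n R (p, k)) (mulW n R p k)]
      exact hk
    obtain ⟨t, ht⟩ := hw
    refine ⟨(p, k), t, ?_⟩
    rw [mulChart, Scheme.Hom.comp_apply]
    exact congrArg (pairChart n 1 R p) ht
  obtain ⟨w, hw⟩ := (pairCover n 1 R).covers z
  rw [← hw]
  exact aux _ w

/-- The refined cover. -/
noncomputable def mulCover :
    (pullback (ProjSpace.toSpec n R) (ProjSpace.toSpec 1 R)).AffineOpenCover where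
  I₀ := (Fin (n + 1) × Fin 2) × Fin (n + 2)
  X q := .of (MulRing n R q)
  f := mulChart n R
  idx z := (exists_mem_range_mulChart n R z).choose
  covers z := (exists_mem_range_mulChart n R z).choose_spec

/-- The coordinates of the multiplication map. -/
noncomputable def mulT (q : (Fin (n + 1) × Fin 2) × Fin (n + 2)) (k : Fin (n + 2)) : MulRing n R q :=
  algebraMap (PairRing n 1 R q.1) (MulRing n R q) (mulW n R q.1 k)

lemma isUnit_mulT (q : (Fin (n + 1) × Fin 2) × Fin (n + 2)) : IsUnit (mulT n R q q.2) :=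
  IsLocalization.Away.algebraMap_isUnit _

lemma exists_mulMap :
    ∃ μ : pullback (ProjSpace.toSpec n R) (ProjSpace.toSpec 1 R) ⟶ ProjSpace (n + 1) R,
      ∀ q, (mulCover n R).f q ≫ μ = tuplePt (B := .of (MulRing n R q))
        ((algebraMap (PairRing n 1 R q.1) (MulRing n R q)).comp (algebraMap R (PairRing n 1 R q.1)))
        (mulT n R q) q.2 (isUnit_mulT n R q) :=
  exists_hom_of_tuples (mulCover n R)
    (fun q => (algebraMap (PairRing n 1 R q.1) (MulRing n R q)).comp (algebraMap R (PairRing n 1 R q.1)))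
    (fun q => mulT n R q) Prod.snd (fun q => isUnit_mulT n R q) (fun p q C f g h => by
      have h' : Spec.map (CommRingCat.ofHom (algebraMap (PairRing n 1 R p.1) (MulRing n R p)) ≫ f) ≫
          pairChart n 1 R p.1 = Spec.map (CommRingCat.ofHom (algebraMap (PairRing n 1 R q.1) (MulRing n R q)) ≫ g) ≫
          pairChart n 1 R q.1 := by
        rw [Spec.map_comp, Spec.map_comp, Category.assoc, Category.assoc]
        exact h
      obtain ⟨hs, c, d, hc, hd⟩ := proportional n 1 R p.1 q.1 C _ _ h'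
      refine ⟨hs, c * d, fun k => ?_⟩
      change g.hom (algebraMap (PairRing n 1 R q.1) (MulRing n R q) (mulC (uC n 1 R q.1) (vC n 1 R q.1) k)) =
        c * d * f.hom (algebraMap (PairRing n 1 R p.1) (MulRing n R p) (mulC (uC n 1 R p.1) (vC n 1 R p.1) k))
      erw [map_mulC (g.hom.comp (algebraMap (PairRing n 1 R q.1) (MulRing n R q))),
        map_mulC (f.hom.comp (algebraMap (PairRing n 1 R p.1) (MulRing n R p)))]
      exact (congrArg₂ (fun a b => mulC a b k) (funext hc) (funext hd)).trans (mulC_smul _ _ _ _ _))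

/-- Multiplication of binary forms. -/
noncomputable def mulMap : pullback (ProjSpace.toSpec n R) (ProjSpace.toSpec 1 R) ⟶ ProjSpace (n + 1) R :=
  (exists_mulMap n R).choose

lemma mulCover_mulMap (q : (Fin (n + 1) × Fin 2) × Fin (n + 2)) :
    (mulCover n R).f q ≫ mulMap n R = tuplePt (B := .of (MulRing n R q))
      ((algebraMap (PairRing n 1 R q.1) (MulRing n R q)).comp (algebraMap R (PairRing n 1 R q.1)))
      (mulT n R q) q.2 (isUnit_mulT n R q) :=
  (exists_mulMap n R).choose_spec q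

lemma mulMap_toSpec :
    mulMap n R ≫ ProjSpace.toSpec (n + 1) R = pullback.fst _ _ ≫ ProjSpace.toSpec n R := by
  have aux : ∀ q : (Fin (n + 1) × Fin 2) × Fin (n + 2),
      mulChart n R q ≫ mulMap n R ≫ ProjSpace.toSpec (n + 1) R =
      mulChart n R q ≫ pullback.fst _ _ ≫ ProjSpace.toSpec n R := fun q => by
    rw [← Category.assoc]
    erw [mulCover_mulMap]
    rw [tuplePt_toSpec, mulChart, Category.assoc, ← Category.assoc (pairChart n 1 R q.1),
      pairChart_fst_eq, tuplePt_toSpec, ← Spec.map_comp]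
    rfl
  exact (mulCover n R).openCover.hom_ext _ _ fun q => aux q

lemma mulMap_preimage (k : Fin (n + 2)) :
    mulMap n R ⁻¹ᵁ Proj.basicOpen (polyGrading (n + 1) R) (X k) =
      segre R (segreIdx n) ⁻¹ᵁ Proj.basicOpen (polyGrading (n * 1 + n + 1) R) (mulForm n R k) := by
  have aux : ∀ (q : (Fin (n + 1) × Fin 2) × Fin (n + 2)),
      mulChart n R q ⁻¹ᵁ (mulMap n R ⁻¹ᵁ Proj.basicOpen (polyGrading (n + 1) R) (X k)) =
      mulChart n R q ⁻¹ᵁ (segre R (segreIdx n) ⁻¹ᵁ
        Proj.basicOpen (polyGrading (n * 1 + n + 1) R) (mulForm n R k)) := fun q => by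
    rw [← Scheme.Hom.comp_preimage]
    erw [mulCover_mulMap]
    rw [tuplePt_preimage_X, mulChart, Scheme.Hom.comp_preimage, pairChart_preimage_mulForm]
    rfl
  apply TopologicalSpace.Opens.ext
  ext z
  obtain ⟨q, w, rfl⟩ := (mulCover n R).openCover.exists_eq z
  exact SetLike.ext_iff.mp (aux q) w

lemma isProper_mulMap : IsProper (mulMap n R) := by
  haveI := isProper_toSpec n R
  haveI := isProper_toSpec 1 R
  haveI := isProper_toSpec (n + 1) R
  haveI : IsProper (mulMap n R ≫ ProjSpace.toSpec (n + 1) R) := by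
    rw [mulMap_toSpec]
    exact MorphismProperty.comp_mem _ _ _ (MorphismProperty.pullback_fst _ _ inferInstance) inferInstance
  exact IsProper.of_comp (mulMap n R) (ProjSpace.toSpec (n + 1) R)

lemma isFinite_mulMap : IsFinite (mulMap n R) := by
  refine IsFinite.iff_isProper_and_isAffineHom.mpr ⟨isProper_mulMap n R, ?_⟩
  refine isAffineHom_of_forall_exists_isAffineOpen _ fun x => ?_
  obtain ⟨k, hk⟩ := TopologicalSpace.Opens.mem_iSup.mp ((iSup_chart (n := n + 1) (R := R)).ge (x := x) trivial)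
  refine ⟨_, hk, Proj.isAffineOpen_basicOpen _ _ (X_mem (n + 1) k) one_pos, ?_⟩
  rw [mulMap_preimage]
  have h0 := isClosedImmersion_segre R (segreIdx n)
  have h1 : IsAffineHom (segre R (segreIdx n)) :=
    isAffineHom_of_isInducing _ h0.isClosedEmbedding.isInducing h0.isClosedEmbedding.isClosed_range
  exact h1.isAffine_preimage _
    (Proj.isAffineOpen_basicOpen _ _ ((mem_homogeneousSubmodule 1 _).mpr (isHomogeneous_mulForm n R k)) one_pos)

lemma surjective_mulMap : Surjective (mulMap n R) := by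
  refine ⟨fun z => ?_⟩
  let K : CommRingCat.{u} := .of (AlgebraicClosure ((ProjSpace (n + 1) R).residueField z))
  let y : Spec K ⟶ ProjSpace (n + 1) R :=
    Spec.map (CommRingCat.ofHom (algebraMap ((ProjSpace (n + 1) R).residueField z)
      (AlgebraicClosure ((ProjSpace (n + 1) R).residueField z)))) ≫ (ProjSpace (n + 1) R).fromSpecResidueField z
  have hy : ∀ t, y t = z := fun t => by
    rw [Scheme.Hom.comp_apply, Scheme.fromSpecResidueField_apply]
  obtain ⟨k, hk⟩ := TopologicalSpace.Opens.mem_iSup.mp ((iSup_chart (n := n + 1) (R := R)).ge (x := z) trivial)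
  obtain ⟨τ, b, hb, hyb, hb1⟩ := exists_tuplePt y k (fun t => by rw [hy]; exact hk)
  obtain ⟨u, v, ⟨a, ha⟩, ⟨c, hc⟩, huv⟩ :=
    exists_mulC_eq (K := AlgebraicClosure ((ProjSpace (n + 1) R).residueField z)) b ⟨k, hb.ne_zero⟩
  let l : Spec K ⟶ pullback (ProjSpace.toSpec n R) (ProjSpace.toSpec 1 R) :=
    pullback.lift (tuplePt (B := K) τ u a ha.isUnit) (tuplePt (B := K) τ v c hc.isUnit)
      (by rw [tuplePt_toSpec, tuplePt_toSpec])
  let t : Spec K := IsLocalRing.closedPoint (AlgebraicClosure ((ProjSpace (n + 1) R).residueField z))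
  obtain ⟨q, w, hw⟩ := (mulCover n R).openCover.exists_eq (l t)
  have hl : Set.range l ⊆ Set.range ((mulCover n R).f q) := by
    rintro _ ⟨s, rfl⟩
    haveI : Subsingleton ↥(Spec K) :=
      inferInstanceAs (Subsingleton (PrimeSpectrum (AlgebraicClosure ((ProjSpace (n + 1) R).residueField z))))
    exact ⟨w, by rw [Subsingleton.elim s t]; exact hw⟩
  obtain ⟨φ, hφ⟩ := Spec.map_surjective (IsOpenImmersion.lift ((mulCover n R).f q) l hl)
  have hlφ : l = Spec.map φ ≫ (mulCover n R).f q := by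
    rw [hφ, IsOpenImmersion.lift_fac]
  refine ⟨l t, ?_⟩
  rw [← Scheme.Hom.comp_apply]
  suffices h : l ≫ mulMap n R = y by rw [h, hy]
  let ψ : CommRingCat.of (PairRing n 1 R q.1) ⟶ K :=
    CommRingCat.ofHom (algebraMap (PairRing n 1 R q.1) (MulRing n R q)) ≫ φ
  have hl' : l = Spec.map ψ ≫ pairChart n 1 R q.1 := by
    rw [hlφ, Spec.map_comp, Category.assoc]; rfl
  have e1 := congrArg (fun s => s ≫ pullback.fst _ _) hl'
  have e2 := congrArg (fun s => s ≫ pullback.snd _ _) hl'
  simp only [l, pullback.lift_fst, pullback.lift_snd, Category.assoc, pairChart_fst_eq,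
    pairChart_snd_eq, SpecMap_tuplePt] at e1 e2
  obtain ⟨c₁, hc₁⟩ := exists_smul_of_tuplePt_eq _ _ a q.1.1 _ _ e1
  obtain ⟨c₂, hc₂⟩ := exists_smul_of_tuplePt_eq _ _ c q.1.2 _ _ e2
  have hτ : τ = ψ.hom.comp (algebraMap R (PairRing n 1 R q.1)) := by
    have h := congrArg (fun s => s ≫ ProjSpace.toSpec n R) e1
    simp only [tuplePt_toSpec] at h
    exact congrArg CommRingCat.Hom.hom (Spec.map_injective h)
  have hprop : ∀ j, φ.hom (mulT n R q j) = (c₁ : K) * (c₂ : K) * b j := fun j => by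
    show ψ.hom (mulC (uC n 1 R q.1) (vC n 1 R q.1) j) = _
    rw [map_mulC]
    refine ((congrArg₂ (fun a b => mulC a b j) (funext hc₁) (funext hc₂)).trans (mulC_smul _ _ _ _ _)).trans ?_
    rw [huv]
  have hq : IsUnit ((c₁ : K) * (c₂ : K) * b q.2) := by
    rw [← hprop]; exact (isUnit_mulT n R q).map φ.hom
  rw [hlφ, Category.assoc]
  erw [mulCover_mulMap, SpecMap_tuplePt]
  rw [hyb,
    ← tuplePt_smul τ b ((c₁ : K) * (c₂ : K)) q.2 k hq hb]
  have hs : φ.hom.comp ((algebraMap (PairRing n 1 R q.1) (MulRing n R q)).comp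
      (algebraMap R (PairRing n 1 R q.1))) = τ := by
    rw [hτ]; rfl
  simp only [hs]
  exact tuplePt_congr τ hprop q.2 q.2 _ _

end Groth.L18.PS
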