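import Groth.Agent.L00.TensorRestrict
import Groth.Agent.L18.Frame
import Groth.Agent.L16.ProjSpace.Ample
import Groth.Agent.L16.ProjSpace.AmpleIff
import Mathlib.AlgebraicGeometry.Morphisms.Affine

/-!
Non-vanishing loci of sections of invertible modules, in terms of frames; tensor products of sections.
-/

set_option autoImplicit false
set_option backward.isDefEq.respectTransparency false
universe u

open CategoryTheory MonoidalCategory AlgebraicGeometry TopologicalSpace Opposite TensorProduct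

noncomputable section

namespace Groth.L18.GenLoc

open Groth.L18.Frame (rs ro rs_rs rs_self rs_smul ro_ro ro_self ro_mul IsFrame)
open Groth.L00.Tensor (pre shf)

variable {X : Scheme.{u}}

/-- the global section attached to a map out of the structure sheaf -/
def secOf {L : X.Modules} (s : Coh.structureModule X ⟶ L) : Γ(L, ⊤) := s.app ⊤ (1 : Γ(X, ⊤))

theorem app_eq {L : X.Modules} (s : Coh.structureModule X ⟶ L) (V : X.Opens) (r : Γ(X, V)) :
    s.app V r = r • rs L le_top (secOf s) := Groth.L16.hom_app_eq_smul s V r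

theorem homOfSection_secOf {L : X.Modules} (s : Coh.structureModule X ⟶ L) :
    Groth.L16.homOfSection L (secOf s) = s :=
  Scheme.Modules.hom_ext _ _ fun V => ConcreteCategory.hom_ext _ _ fun r =>
    (Groth.L16.hom_app_eq_smul s V r).symm

theorem secOf_homOfSection {L : X.Modules} (σ : Γ(L, ⊤)) : secOf (Groth.L16.homOfSection L σ) = σ := by
  show (1 : Γ(X, ⊤)) • rs L le_rfl σ = σ
  rw [one_smul, rs_self]

theorem isIso_restrict_iff_isFrame {L : X.Modules} (s : Coh.structureModule X ⟶ L) (U : X.Opens) :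
    IsIso ((Scheme.Modules.restrictFunctor U.ι).map s) ↔ IsFrame L U (rs L le_top (secOf s)) := by
  have hkey : ∀ (V : X.Opens) (h : V ≤ U),
      (fun a : Γ(X, V) => a • rs L h (rs L (le_top : U ≤ ⊤) (secOf s))) = fun a : Γ(X, V) => s.app V a := by
    intro V h
    funext a
    rw [app_eq, rs_rs]
  refine Iff.trans Scheme.Modules.Hom.isIso_iff_isIso_app ⟨fun hf V h => ?_, fun hf V => ?_⟩
  · obtain ⟨V, rfl⟩ : ∃ V' : U.toScheme.Opens, U.ι ''ᵁ V' = V := ⟨U.ι ⁻¹ᵁ V, by
      rw [Scheme.Hom.image_preimage_eq_opensRange_inf, Scheme.Opens.opensRange_ι, inf_eq_right]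
      exact h⟩
    rw [hkey]
    exact (ConcreteCategory.isIso_iff_bijective _).1 (hf V)
  · have h : U.ι ''ᵁ V ≤ U := (Scheme.Hom.image_le_opensRange _ _).trans_eq U.opensRange_ι
    refine (ConcreteCategory.isIso_iff_bijective _).2 ?_
    have := hf _ h
    rw [hkey] at this
    exact this

theorem le_genLocus {L : X.Modules} (s : Coh.structureModule X ⟶ L) {U : X.Opens}
    (h : IsFrame L U (rs L le_top (secOf s))) : U ≤ CohB1.genLocus L s :=
  le_sSup ((isIso_restrict_iff_isFrame s U).2 h)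

theorem isFrame_genLocus {L : X.Modules} (s : Coh.structureModule X ⟶ L) :
    IsFrame L (CohB1.genLocus L s) (rs L le_top (secOf s)) := by
  refine IsFrame.of_cover
    (ι := {U : X.Opens // IsIso ((Scheme.Modules.restrictFunctor U.ι).map s)}) (fun k => k.1)
    (fun k => le_sSup k.2) (sSup_le fun U hU => le_iSup (fun k :
      {U : X.Opens // IsIso ((Scheme.Modules.restrictFunctor U.ι).map s)} => k.1) ⟨U, hU⟩) fun k => ?_
  rw [rs_rs]
  exact (isIso_restrict_iff_isFrame s k.1).1 k.2

/-- in a frame, the locus of a section is the basic open of its coefficient -/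
theorem genLocus_inf_eq {L : X.Modules} (s : Coh.structureModule X ⟶ L) {W : X.Opens} {e : Γ(L, W)}
    (he : IsFrame L W e) {a : Γ(X, W)} (ha : a • e = rs L le_top (secOf s)) :
    CohB1.genLocus L s ⊓ W = X.basicOpen a := by
  apply le_antisymm
  · intro x hx
    have h1 := (isFrame_genLocus s).mono (inf_le_left : CohB1.genLocus L s ⊓ W ≤ _)
    have h2 : rs L (inf_le_left : CohB1.genLocus L s ⊓ W ≤ _) (rs L le_top (secOf s)) =
        ro (inf_le_right : CohB1.genLocus L s ⊓ W ≤ W) a • rs L (inf_le_right : CohB1.genLocus L s ⊓ W ≤ W) e := by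
      rw [← rs_smul, ha, rs_rs, rs_rs]
    rw [h2] at h1
    have hu := Frame.isUnit_of_isFrame (he.mono inf_le_right) h1
    refine (X.mem_basicOpen a x hx.2).mpr ?_
    have := hu.map (X.presheaf.germ _ x hx).hom
    rwa [show (X.presheaf.germ _ x hx).hom (ro inf_le_right a) = X.presheaf.germ W x hx.2 a from
      TopCat.Presheaf.germ_res_apply _ _ _ _ _] at this
  · refine le_inf (le_genLocus s ?_) (X.basicOpen_le a)
    have hu : IsUnit (ro (X.basicOpen_le a) a) := RingedSpace.isUnit_res_basicOpen X.toRingedSpace a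
    have := (he.mono (X.basicOpen_le a)).smul_unit hu
    rwa [← rs_smul, ha, rs_rs] at this

/-- an affine neighbourhood with a frame -/
theorem exists_affine_frame {L : X.Modules} (hL : PicF.IsInvertible L) (x : X) :
    ∃ (W : X.Opens) (e : Γ(L, W)), IsAffineOpen W ∧ x ∈ W ∧ IsFrame L W e := by
  obtain ⟨W, e, hxW, he⟩ := Frame.exists_frame hL x
  obtain ⟨_, ⟨V, hV, rfl⟩, hxV, hVW⟩ := X.isBasis_affineOpens.exists_subset_of_mem_open hxW W.2
  exact ⟨V, rs L hVW e, hV, hxV, he.mono _⟩

theorem isAffineHom_genLocus_ι {L : X.Modules} (hL : PicF.IsInvertible L) (s : Coh.structureModule X ⟶ L) :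
    IsAffineHom (CohB1.genLocus L s).ι := by
  refine isAffineHom_of_forall_exists_isAffineOpen _ fun x => ?_
  obtain ⟨W, e, hW, hxW, he⟩ := exists_affine_frame hL x
  obtain ⟨a, ha⟩ := he.exists_coeff le_rfl (rs L le_top (secOf s))
  rw [rs_self] at ha
  refine ⟨W, hxW, hW, ?_⟩
  rw [← Scheme.Hom.isAffineOpen_iff_of_isOpenImmersion (CohB1.genLocus L s).ι,
    Scheme.Hom.image_preimage_eq_opensRange_inf, Scheme.Opens.opensRange_ι, genLocus_inf_eq s he ha]
  exact hW.basicOpen a

/-! ### Tensor products of sections -/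

variable (L M : X.Modules)

/-- the tensor product of two sections -/
def tens (U : X.Opens) (m : Γ(L, U)) (n : Γ(M, U)) : Γ(CohB1.tensorMod L M, U) :=
  Groth.L00.Tensor.ev (Groth.L00.Tensor.unit (pre L ⊗ pre M)) (op U) m n

variable {L M}

lemma tens_rs {U V : X.Opens} (h : V ≤ U) (m : Γ(L, U)) (n : Γ(M, U)) :
    rs (CohB1.tensorMod L M) h (tens L M U m n) = tens L M V (rs L h m) (rs M h n) :=
  (Groth.L00.Tensor.φ_rs (Groth.L00.Tensor.unit (pre L ⊗ pre M)) (homOfLE h).op m n).symm

lemma tens_smul_left {U : X.Opens} (r : Γ(X, U)) (m : Γ(L, U)) (n : Γ(M, U)) :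
    tens L M U (r • m) n = r • tens L M U m n :=
  Groth.L00.Tensor.ev_smul₁ (Groth.L00.Tensor.unit (pre L ⊗ pre M)) (op U) r m n

lemma tens_smul_right {U : X.Opens} (r : Γ(X, U)) (m : Γ(L, U)) (n : Γ(M, U)) :
    tens L M U m (r • n) = r • tens L M U m n :=
  Groth.L00.Tensor.ev_smul₂ (Groth.L00.Tensor.unit (pre L ⊗ pre M)) (op U) r m n

theorem isFrame_tens {W : X.Opens} {e : Γ(L, W)} {e' : Γ(M, W)} (he : IsFrame L W e) (he' : IsFrame M W e') :
    IsFrame (CohB1.tensorMod L M) W (tens L M W e e') := by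
  let P := pre L ⊗ pre M
  let η := Groth.L00.Tensor.unit P
  let g : ∀ (V : X.Opens), V ≤ W → P.obj (op V) := fun V h =>
    (show (pre L).obj (op V) from rs L h e) ⊗ₜ[X.sheaf.obj.obj (op V)] (show (pre M).obj (op V) from rs M h e')
  have hg : ∀ (V V' : X.Opens) (h : V ≤ W) (i : V' ⟶ V) (a : X.sheaf.obj.obj (op V)),
      Groth.L00.Tensor.rs P i.op (a • g V h) =
        (show X.sheaf.obj.obj (op V') from ro i.le a) • g V' (i.le.trans h) := by
    intro V V' h i a
    refine (Groth.L00.Tensor.rs_smul P i.op a (g V h)).trans ?_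
    refine congrArg (_ • ·) ?_
    show (show (pre L).obj (op V') from rs L i.le (rs L h e)) ⊗ₜ[X.sheaf.obj.obj (op V')]
      (show (pre M).obj (op V') from rs M i.le (rs M h e')) = _
    rw [rs_rs, rs_rs]
  have hsurjP : ∀ (V : X.Opens) (h : V ≤ W) (p : P.obj (op V)),
      ∃ a : X.sheaf.obj.obj (op V), a • g V h = p := by
    intro V h p
    induction p using TensorProduct.induction_on with
    | zero => exact ⟨0, zero_smul _ _⟩
    | tmul m n =>
      obtain ⟨a, ha⟩ := he.exists_coeff h m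
      obtain ⟨b, hb⟩ := he'.exists_coeff h n
      refine ⟨a * b, ?_⟩
      rw [← ha, ← hb]
      exact (TensorProduct.smul_tmul_smul (R := X.sheaf.obj.obj (op V)) a b
        (show (pre L).obj (op V) from rs L h e) (show (pre M).obj (op V) from rs M h e')).symm
    | add p q hp hq =>
      obtain ⟨a, ha⟩ := hp
      obtain ⟨b, hb⟩ := hq
      exact ⟨a + b, by rw [add_smul, ha, hb]⟩
  have hinjP : ∀ (V : X.Opens) (h : V ≤ W) (a b : X.sheaf.obj.obj (op V)),
      a • g V h = b • g V h → a = b := by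
    intro V h a b hab
    let eL : X.sheaf.obj.obj (op V) ≃ₗ[X.sheaf.obj.obj (op V)] (pre L).obj (op V) :=
      LinearEquiv.ofBijective (LinearMap.toSpanSingleton _ _ (show (pre L).obj (op V) from rs L h e)) (he V h)
    let eM : X.sheaf.obj.obj (op V) ≃ₗ[X.sheaf.obj.obj (op V)] (pre M).obj (op V) :=
      LinearEquiv.ofBijective (LinearMap.toSpanSingleton _ _ (show (pre M).obj (op V) from rs M h e')) (he' V h)
    let φ := (TensorProduct.congr eL eM).symm.trans (TensorProduct.lid _ _)
    have hφ : φ (g V h) = 1 := by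
      have : g V h = TensorProduct.congr eL eM ((1 : X.sheaf.obj.obj (op V)) ⊗ₜ (1 : X.sheaf.obj.obj (op V))) := by
        simp [g, eL, eM]
      rw [this]
      simp [φ]
    have := congrArg φ hab
    rwa [map_smul, map_smul, hφ, smul_eq_mul, smul_eq_mul, mul_one, mul_one] at this
  have hkey : ∀ (V : X.Opens) (h : V ≤ W) (a : Γ(X, V)),
      a • rs (CohB1.tensorMod L M) h (tens L M W e e') = η.app (op V) ((show X.sheaf.obj.obj (op V) from a) • g V h) := by
    intro V h a
    rw [tens_rs]
    exact ((η.app (op V)).hom.map_smul (show X.sheaf.obj.obj (op V) from a) (g V h)).symm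
  have hW := ((Opens.grothendieckTopology X).W_iff_isLocallyBijective _).1 (Groth.L00.Tensor.Wp_unit P)
  intro V h
  let OX : TopCat.Sheaf CommRingCat.{u} X.toTopCat := X.sheaf
  refine ⟨fun a b hab => ?_, fun y => ?_⟩
  · simp only [hkey] at hab
    haveI := hW.1
    obtain ⟨S, hS, hS'⟩ := Groth.L00.Tensor.local_eq (J := Opens.grothendieckTopology X) η _ _ hab
    choose V' i hi hxV' using fun x : V => hS x.1 x.2
    refine OX.eq_of_locally_eq' V' V (fun x => i x) (fun x hx => Opens.mem_iSup.mpr ⟨⟨x, hx⟩, hxV' ⟨x, hx⟩⟩)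
      a b fun x => ?_
    show ro (i x).le a = ro (i x).le b
    refine hinjP (V' x) ((i x).le.trans h) _ _ ?_
    rw [← hg V (V' x) h (i x), ← hg V (V' x) h (i x)]
    exact hS' (i x) (hi x)
  · haveI := hW.2
    obtain ⟨S, hS, hS'⟩ := Groth.L00.Tensor.exists_local (J := Opens.grothendieckTopology X) η (U := op V) y
    choose V' i hi hxV' using fun x : V => hS x.1 x.2
    choose p hp using fun x : V => hS' (i x) (hi x)
    choose a ha using fun x : V => hsurjP (V' x) ((i x).le.trans h) (p x)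
    have hc : V ≤ ⨆ x, V' x := fun x hx => Opens.mem_iSup.mpr ⟨⟨x, hx⟩, hxV' ⟨x, hx⟩⟩
    have hva : ∀ x, (show Γ(X, V' x) from a x) • rs (CohB1.tensorMod L M) ((i x).le.trans h) (tens L M W e e') =
        rs (CohB1.tensorMod L M) (i x).le y := fun x => by
      rw [hkey]
      exact (congrArg (η.app (op (V' x))) (ha x)).trans (hp x)
    obtain ⟨c, hcs, -⟩ := OX.existsUnique_gluing' V' V (fun x => i x) hc a fun x z => by
      show ro inf_le_left (show Γ(X, V' x) from a x) = ro inf_le_right (show Γ(X, V' z) from a z)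
      have hle : V' x ⊓ V' z ≤ W := inf_le_left.trans ((i x).le.trans h)
      have e1 := congrArg (rs (CohB1.tensorMod L M) (inf_le_left : V' x ⊓ V' z ≤ V' x)) (hva x)
      have e2 := congrArg (rs (CohB1.tensorMod L M) (inf_le_right : V' x ⊓ V' z ≤ V' z)) (hva z)
      simp only [rs_smul, rs_rs] at e1 e2
      have e3 := e1.trans e2.symm
      rw [hkey _ hle, hkey _ hle] at e3
      haveI := hW.1
      obtain ⟨T, hT, hT'⟩ := Groth.L00.Tensor.local_eq (J := Opens.grothendieckTopology X) η _ _ e3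
      choose V'' k hk hwk using fun w : (V' x ⊓ V' z : X.Opens) => hT w.1 w.2
      refine OX.eq_of_locally_eq' V'' (V' x ⊓ V' z) (fun w => k w)
        (fun w hw => Opens.mem_iSup.mpr ⟨⟨w, hw⟩, hwk ⟨w, hw⟩⟩) _ _ fun w => ?_
      refine hinjP (V'' w) ((k w).le.trans hle) _ _ ?_
      have h4 := hT' (k w) (hk w)
      rw [hg _ (V'' w) hle (k w), hg _ (V'' w) hle (k w)] at h4
      exact h4
    refine ⟨c, ?_⟩
    let OM : TopCat.Sheaf Ab.{u} X.toTopCat := ⟨(CohB1.tensorMod L M).presheaf, (CohB1.tensorMod L M).isSheaf⟩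
    refine OM.eq_of_locally_eq' V' V (fun x => i x) hc _ y fun x => ?_
    show rs (CohB1.tensorMod L M) (i x).le ((show Γ(X, V) from c) • rs (CohB1.tensorMod L M) h (tens L M W e e')) =
      rs (CohB1.tensorMod L M) (i x).le y
    rw [rs_smul, rs_rs, show ro (i x).le (show Γ(X, V) from c) = a x from hcs x]
    exact hva x

theorem isInvertible_of_frames {N : X.Modules}
    (h : ∀ x : X, ∃ (W : X.Opens) (e : Γ(N, W)), x ∈ W ∧ IsFrame N W e) : PicF.IsInvertible N := by
  intro x
  obtain ⟨W, e, hx, he⟩ := h x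
  let N' := (Scheme.Modules.restrictFunctor W.ι).obj N
  refine ⟨W, hx, ⟨(@asIso _ _ _ _ (Groth.L16.homOfSection N' (rs N W.ι_image_top.le e))
    (Groth.L16.isIso_homOfSection _ _ fun V => ?_)).symm⟩⟩
  have hV : W.ι ''ᵁ V ≤ W := (Scheme.Hom.image_le_opensRange _ _).trans_eq W.opensRange_ι
  have key : (fun r : Γ(W.toScheme, V) =>
      r • N'.presheaf.map (homOfLE (le_top : V ≤ ⊤)).op (rs N W.ι_image_top.le e)) =
      fun r : Γ(W.toScheme, V) => (show Γ(N', V) from (show Γ(X, W.ι ''ᵁ V) from r) • rs N hV e) := by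
    funext r
    refine (Frame.restrict_smul' N W V r _).trans ?_
    exact congrArg (_ • ·) (rs_rs N _ _ e)
  rw [key]
  exact he _ hV

theorem isInvertible_tensor (hL : PicF.IsInvertible L) (hM : PicF.IsInvertible M) :
    PicF.IsInvertible (CohB1.tensorMod L M) := by
  refine isInvertible_of_frames fun x => ?_
  obtain ⟨W, e, hxW, he⟩ := Frame.exists_frame hL x
  obtain ⟨W', e', hxW', he'⟩ := Frame.exists_frame hM x
  exact ⟨W ⊓ W', _, ⟨hxW, hxW'⟩, isFrame_tens (he.mono inf_le_left) (he'.mono inf_le_right)⟩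

/-- the tensor product of two maps out of the structure sheaf -/
def tensHom (s : Coh.structureModule X ⟶ L) (t : Coh.structureModule X ⟶ M) :
    Coh.structureModule X ⟶ CohB1.tensorMod L M :=
  Groth.L16.homOfSection _ (tens L M ⊤ (secOf s) (secOf t))

theorem genLocus_tensHom (hL : PicF.IsInvertible L) (hM : PicF.IsInvertible M)
    (s : Coh.structureModule X ⟶ L) (t : Coh.structureModule X ⟶ M) :
    CohB1.genLocus _ (tensHom s t) = CohB1.genLocus L s ⊓ CohB1.genLocus M t := by
  have key : ∀ (W : X.Opens) (e : Γ(L, W)) (e' : Γ(M, W)), IsFrame L W e → IsFrame M W e' →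
      CohB1.genLocus _ (tensHom s t) ⊓ W = (CohB1.genLocus L s ⊓ CohB1.genLocus M t) ⊓ W := by
    intro W e e' he he'
    obtain ⟨a, ha⟩ := he.exists_coeff le_rfl (rs L le_top (secOf s))
    obtain ⟨b, hb⟩ := he'.exists_coeff le_rfl (rs M le_top (secOf t))
    rw [rs_self] at ha hb
    have hab : (a * b) • tens L M W e e' = rs (CohB1.tensorMod L M) le_top (secOf (tensHom s t)) := by
      rw [tensHom, secOf_homOfSection, tens_rs, ← ha, ← hb, tens_smul_left, tens_smul_right, mul_smul]
    rw [genLocus_inf_eq _ (isFrame_tens he he') hab, X.basicOpen_mul, ← genLocus_inf_eq s he ha,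
      ← genLocus_inf_eq t he' hb]
    rw [← inf_inf_distrib_right]
  refine Opens.ext (Set.ext fun x => ?_)
  obtain ⟨W, e, hxW, he⟩ := Frame.exists_frame hL x
  obtain ⟨W', e', hxW', he'⟩ := Frame.exists_frame hM x
  have := SetLike.ext_iff.mp (key (W ⊓ W') _ _ (he.mono inf_le_left) (he'.mono inf_le_right)) x
  have hx : x ∈ W ⊓ W' := ⟨hxW, hxW'⟩
  constructor
  · intro h; exact (this.mp ⟨h, hx⟩).1
  · intro h; exact (this.mpr ⟨h, hx⟩).1

end Groth.L18.GenLoc
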