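import Mathlib.AlgebraicGeometry.IdealSheaf.Basic
import Mathlib.AlgebraicGeometry.IdealSheaf.Subscheme
import Mathlib.AlgebraicGeometry.Properties
import Mathlib.AlgebraicGeometry.Morphisms.ClosedImmersion

/-!
# Scheme-theoretic image of a morphism from a reduced scheme
-/

set_option autoImplicit false
universe u

open CategoryTheory AlgebraicGeometry TopologicalSpace

namespace Groth.L18

variable {X Y : Scheme.{u}}

/-- A section on the target pulls back to zero as soon as its non-vanishing locus misses the image. -/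
lemma app_eq_zero_of_disjoint [IsReduced X] (f : X ⟶ Y) (U : Y.Opens) (s : Γ(Y, U))
    (hs : Disjoint (Y.basicOpen s : Set Y) (Set.range f)) : (f.app U).hom s = 0 := by
  rw [← basicOpen_eq_bot_iff, ← Scheme.preimage_basicOpen]
  refine eq_bot_iff.mpr fun x hx => ?_
  exact (Set.disjoint_left.mp hs hx ⟨x, rfl⟩).elim

lemma disjoint_basicOpen_of_app_eq_zero (f : X ⟶ Y) (U : Y.Opens) (s : Γ(Y, U))
    (hs : (f.app U).hom s = 0) : Disjoint (Y.basicOpen s : Set Y) (Set.range f) := by
  rw [Set.disjoint_left]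
  rintro _ hy ⟨x, rfl⟩
  have : x ∈ f ⁻¹ᵁ Y.basicOpen s := hy
  rw [Scheme.preimage_basicOpen, hs, Scheme.basicOpen_zero] at this
  exact this.elim

lemma ker_ideal_eq_of_isReduced [IsReduced X] (f : X ⟶ Y) (U : Y.affineOpens) :
    f.ker.ideal U = RingHom.ker (f.app U).hom := by
  refine le_antisymm (f.ideal_ker_le U) ?_
  let I : Scheme.IdealSheafData Y := Scheme.IdealSheafData.mkOfMemSupportIff
    (fun U => RingHom.ker (f.app U).hom) ?_ (closure (Set.range f)) ?_
  · have hI : I ≤ f.ker := Scheme.IdealSheafData.le_ofIdeals_iff.mpr fun V => le_rfl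
    exact hI U
  · intro U s
    apply le_antisymm
    · refine Ideal.map_le_iff_le_comap.mpr fun x hx => ?_
      rw [Ideal.mem_comap]
      show (f.app (Y.basicOpen s)).hom _ = 0
      apply app_eq_zero_of_disjoint
      refine (disjoint_basicOpen_of_app_eq_zero f U.1 x hx).mono_left ?_
      intro z hz
      erw [Scheme.basicOpen_res] at hz
      exact hz.2
    · intro x hx
      change Γ(Y, Y.basicOpen s) at x
      have := U.2.isLocalization_basicOpen s
      obtain ⟨a, ⟨_, n, rfl⟩, rfl⟩ := IsLocalization.exists_mk'_eq (.powers s) x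
      refine (IsLocalization.mk'_mem_map_algebraMap_iff _ _ _ _ _).mpr ⟨s, ⟨1, pow_one s⟩, ?_⟩
      rw [RingHom.mem_ker]
      apply app_eq_zero_of_disjoint
      have hx' := disjoint_basicOpen_of_app_eq_zero f _ _ hx
      refine hx'.mono_left ?_
      intro z hz
      rw [Scheme.basicOpen_mul] at hz
      obtain ⟨hzs, hza⟩ := hz
      have hmem : z ∈ Y.basicOpen (algebraMap Γ(Y, U) Γ(Y, Y.basicOpen s) a) := by
        erw [Scheme.basicOpen_res]
        exact ⟨hzs, hza⟩
      rw [← IsLocalization.mk'_spec' (M := Submonoid.powers s) Γ(Y, Y.basicOpen s) a,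
        Scheme.basicOpen_mul] at hmem
      exact hmem.2
  · intro U y hy
    rw [Scheme.mem_zeroLocus_iff]
    constructor
    · intro h s hs hys
      have := (disjoint_basicOpen_of_app_eq_zero f U.1 s hs).closure_right (Y.basicOpen s).2
      exact Set.disjoint_left.mp this hys h
    · intro h
      by_contra hc
      obtain ⟨g, hg, hgy⟩ := U.2.exists_basicOpen_le (V := ⟨(closure (Set.range f))ᶜ,
        isClosed_closure.isOpen_compl⟩) ⟨y, hc⟩ hy
      refine h g ?_ hgy
      refine app_eq_zero_of_disjoint f U.1 g ?_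
      rw [Set.disjoint_left]
      intro z hz hzr
      exact hg hz (subset_closure hzr)

lemma support_ker_of_isReduced [IsReduced X] (f : X ⟶ Y) :
    (f.ker.support : Set Y) = closure (Set.range f) := by
  refine subset_antisymm (fun y hy => ?_)
    (closure_minimal f.range_subset_ker_support f.ker.support.isClosed)
  obtain ⟨U, hU, hyU, -⟩ := TopologicalSpace.Opens.isBasis_iff_nbhd.mp Y.isBasis_affineOpens
    (TopologicalSpace.Opens.mem_top y)
  by_contra hc
  obtain ⟨g, hg, hgy⟩ := hU.exists_basicOpen_le (V := ⟨(closure (Set.range f))ᶜ,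
    isClosed_closure.isOpen_compl⟩) ⟨y, hc⟩ hyU
  have hy' := ((Scheme.IdealSheafData.coe_support_inter f.ker ⟨U, hU⟩).le ⟨hy, hyU⟩).1
  rw [Scheme.mem_zeroLocus_iff] at hy'
  refine hy' g ?_ hgy
  rw [ker_ideal_eq_of_isReduced]
  refine app_eq_zero_of_disjoint f U g ?_
  rw [Set.disjoint_left]
  intro z hz hzr
  exact hg hz (subset_closure hzr)

/-- A morphism from a reduced scheme factors through any reduced closed subscheme containing its image. -/
lemma vanishingIdeal_le_ker [IsReduced X] (f : X ⟶ Y) (Z : Closeds Y)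
    (hZ : Set.range f ⊆ (Z : Set Y)) : Scheme.IdealSheafData.vanishingIdeal Z ≤ f.ker := by
  refine Scheme.IdealSheafData.le_ofIdeals_iff.mpr fun U s hs => ?_
  rw [RingHom.mem_ker]
  apply app_eq_zero_of_disjoint
  rw [Set.disjoint_left]
  intro y hy hyr
  have hsupp : y ∈ (Scheme.IdealSheafData.vanishingIdeal Z).support :=
    Scheme.IdealSheafData.le_support_iff_le_vanishingIdeal.mpr le_rfl (hZ hyr)
  have := ((Scheme.IdealSheafData.coe_support_inter _ U).le ⟨hsupp, Y.basicOpen_le s hy⟩).1
  exact (Scheme.mem_zeroLocus_iff _ _ _).mp this s hs hy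

lemma support_vanishingIdeal (Z : Closeds Y) :
    ((Scheme.IdealSheafData.vanishingIdeal Z).support : Set Y) = Z := by
  refine subset_antisymm (fun y hy => ?_)
    (Scheme.IdealSheafData.le_support_iff_le_vanishingIdeal.mpr le_rfl)
  obtain ⟨U, hU, hyU, -⟩ := TopologicalSpace.Opens.isBasis_iff_nbhd.mp Y.isBasis_affineOpens
    (TopologicalSpace.Opens.mem_top y)
  by_contra hc
  obtain ⟨g, hg, hgy⟩ := hU.exists_basicOpen_le (V := ⟨(Z : Set Y)ᶜ, Z.isClosed.isOpen_compl⟩)
    ⟨y, hc⟩ hyU
  have hy' := ((Scheme.IdealSheafData.coe_support_inter _ ⟨U, hU⟩).le ⟨hy, hyU⟩).1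
  rw [Scheme.mem_zeroLocus_iff] at hy'
  refine hy' g ?_ hgy
  refine (PrimeSpectrum.mem_vanishingIdeal _ _).mpr fun p hp => ?_
  by_contra hpg
  have : hU.fromSpec p ∈ Y.basicOpen g := by
    show p ∈ hU.fromSpec ⁻¹ᵁ Y.basicOpen g
    rw [hU.fromSpec_preimage_basicOpen]
    exact hpg
  exact hg this hp

lemma isReduced_vanishingIdeal_subscheme (Z : Closeds Y) :
    IsReduced (Scheme.IdealSheafData.vanishingIdeal Z).subscheme := by
  set I := Scheme.IdealSheafData.vanishingIdeal Z
  haveI : ∀ U, IsReduced (I.subschemeCover.openCover.X U) := fun U => by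
    haveI : _root_.IsReduced (Γ(Y, U.1) ⧸ I.ideal U) := by
      rw [← Ideal.isRadical_iff_quotient_reduced]
      show (PrimeSpectrum.vanishingIdeal _).IsRadical
      exact PrimeSpectrum.isRadical_vanishingIdeal _
    exact inferInstanceAs (IsReduced (Spec (CommRingCat.of (Γ(Y, U.1) ⧸ I.ideal U))))
  exact IsReduced.of_openCover _ I.subschemeCover.openCover

end Groth.L18
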