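import Groth.Agent.L18.AmplePull
import Groth.Prelude.Def_LCI2

/-!
Operations on ample modules; quasi-affine schemes; relative ampleness.
-/

set_option autoImplicit false
set_option backward.isDefEq.respectTransparency false
universe u

open CategoryTheory AlgebraicGeometry TopologicalSpace Opposite

noncomputable section

namespace Groth.L18.Ample

open Groth.L18.Frame (rs ro rs_rs rs_self rs_smul ro_ro ro_self ro_mul IsFrame)
open Groth.L18.GenLoc

variable {X Y : Scheme.{u}} {L L' : X.Modules}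

theorem isAffineOpen_genLocus_of_le (hL : PicF.IsInvertible L) (s : Coh.structureModule X ⟶ L) {W : X.Opens}
    (hW : IsAffineOpen W) (hle : CohB1.genLocus L s ≤ W) : IsAffineOpen (CohB1.genLocus L s) := by
  haveI := isAffineHom_genLocus_ι hL s
  have := hW.preimage (CohB1.genLocus L s).ι
  rwa [← Scheme.Hom.isAffineOpen_iff_of_isOpenImmersion (CohB1.genLocus L s).ι,
    Scheme.Hom.image_preimage_eq_opensRange_inf, Scheme.Opens.opensRange_ι, inf_eq_left.mpr hle] at this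

theorem isAffineOpen_genLocus_inf (hL : PicF.IsInvertible L) (s : Coh.structureModule X ⟶ L) {W : X.Opens}
    (hW : IsAffineOpen W) : IsAffineOpen (CohB1.genLocus L s ⊓ W) := by
  haveI := isAffineHom_genLocus_ι hL s
  have := hW.preimage (CohB1.genLocus L s).ι
  rwa [← Scheme.Hom.isAffineOpen_iff_of_isOpenImmersion (CohB1.genLocus L s).ι,
    Scheme.Hom.image_preimage_eq_opensRange_inf, Scheme.Opens.opensRange_ι] at this

theorem isAmple_pow_iff (hL : PicF.IsInvertible L) {n : ℕ} (hn : 0 < n) :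
    CohB1.IsAmple L ↔ CohB1.IsAmple (CohB1.tensorPow L n) := by
  obtain ⟨m, rfl⟩ := Nat.exists_eq_add_one.mpr hn
  constructor
  · rintro ⟨-, hc, h⟩
    refine ⟨isInvertible_tensorPow hL _, hc, fun x => ?_⟩
    obtain ⟨a, s, hx, hs⟩ := h x
    let e : CohB1.tensorPow (CohB1.tensorPow L (a + 1)) (m + 1) ≅ CohB1.tensorPow (CohB1.tensorPow L (m + 1)) (a + 1) :=
      Groth.L00.Tensor.tensorPowMul L (a + 1) (m + 1) ≪≫ eqToIso (congrArg (CohB1.tensorPow L) (mul_comm _ _)) ≪≫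
        (Groth.L00.Tensor.tensorPowMul L (m + 1) (a + 1)).symm
    refine ⟨a, pw s (m + 1) ≫ e.hom, ?_⟩
    rw [Groth.L16.genLocus_comp_iso, genLocus_pw_succ (isInvertible_tensorPow hL _)]
    exact ⟨hx, hs⟩
  · rintro ⟨-, hc, h⟩
    refine ⟨hL, hc, fun x => ?_⟩
    obtain ⟨a, s, hx, hs⟩ := h x
    obtain ⟨n', s', hs'⟩ := exists_of_iso (L := L) (j := (m + 1) * (a + 1)) (by positivity) s
      (Groth.L00.Tensor.tensorPowMul L (m + 1) (a + 1))
    exact ⟨n', s', by rw [hs']; exact ⟨hx, hs⟩⟩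

/-- an ample module tensored with one having enough sections of some powers is ample -/
theorem isAmple_tensor_of_gen (hL : CohB1.IsAmple L) (hL' : PicF.IsInvertible L')
    (h : ∀ x : X, ∃ (n : ℕ) (s' : Coh.structureModule X ⟶ CohB1.tensorPow L' (n + 1)), x ∈ CohB1.genLocus _ s') :
    CohB1.IsAmple (CohB1.tensorMod L L') := by
  refine ⟨isInvertible_tensor hL.1 hL', hL.2.1, fun x => ?_⟩
  obtain ⟨a, s, hx, hs⟩ := hL.2.2 x
  obtain ⟨b, t, hxt⟩ := h x
  have i1 := isInvertible_tensorPow hL.1 (a + 1)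
  have i2 := isInvertible_tensorPow hL' (b + 1)
  let j := (a + 1) * (b + 1)
  let e : CohB1.tensorMod (CohB1.tensorPow (CohB1.tensorPow L (a + 1)) (b + 1))
      (CohB1.tensorPow (CohB1.tensorPow L' (b + 1)) (a + 1)) ≅ CohB1.tensorPow (CohB1.tensorMod L L') j :=
    Groth.L00.Tensor.tensorIso (Groth.L00.Tensor.tensorPowMul L (a + 1) (b + 1))
      (Groth.L00.Tensor.tensorPowMul L' (b + 1) (a + 1) ≪≫
        eqToIso (congrArg (CohB1.tensorPow L') (mul_comm _ _))) ≪≫ (Groth.L00.Tensor.tensorPowTensor L L' j).symm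
  obtain ⟨n, u, hu⟩ := exists_of_iso (by positivity) (tensHom (pw s (b + 1)) (pw t (a + 1))) e
  refine ⟨n, u, ?_⟩
  rw [hu, genLocus_tensHom (isInvertible_tensorPow i1 _) (isInvertible_tensorPow i2 _), genLocus_pw_succ i1,
    genLocus_pw_succ i2]
  refine ⟨⟨hx, hxt⟩, ?_⟩
  rw [inf_comm]
  exact isAffineOpen_genLocus_inf i2 t hs

theorem isAmple_tensor (hL : CohB1.IsAmple L) (hL' : CohB1.IsAmple L') : CohB1.IsAmple (CohB1.tensorMod L L') :=
  isAmple_tensor_of_gen hL hL'.1 fun x => by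
    obtain ⟨n, s, hx, -⟩ := hL'.2.2 x
    exact ⟨n, s, hx⟩

theorem affine_basis_of_basis (hL : PicF.IsInvertible L)
    (hB : Opens.IsBasis {U : X.Opens | ∃ (n : ℕ) (s : Coh.structureModule X ⟶ CohB1.tensorPow L (n + 1)),
      U = CohB1.genLocus _ s}) :
    Opens.IsBasis {U : X.Opens | IsAffineOpen U ∧ ∃ (n : ℕ) (s : Coh.structureModule X ⟶ CohB1.tensorPow L (n + 1)),
      U = CohB1.genLocus _ s} := by
  rw [Opens.isBasis_iff_nbhd]
  intro U x hx
  obtain ⟨_, ⟨W, hW, rfl⟩, hxW, hWU⟩ := X.isBasis_affineOpens.exists_subset_of_mem_open hx U.2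
  obtain ⟨V, ⟨n, s, rfl⟩, hxV, hVW⟩ := Opens.isBasis_iff_nbhd.mp hB (show x ∈ W from hxW)
  exact ⟨_, ⟨isAffineOpen_genLocus_of_le (isInvertible_tensorPow hL _) s hW hVW, n, s, rfl⟩, hxV, hVW.trans hWU⟩

theorem isBasis_of_isAmple (hL : CohB1.IsAmple L) :
    Opens.IsBasis {U : X.Opens | ∃ (n : ℕ) (s : Coh.structureModule X ⟶ CohB1.tensorPow L (n + 1)),
      U = CohB1.genLocus _ s} := by
  rw [Opens.isBasis_iff_nbhd]
  intro U x hx
  obtain ⟨n, s, hxs, hle, -⟩ := exists_affine_genLocus_subset hL U hx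
  exact ⟨_, ⟨n, s, rfl⟩, hxs, hle⟩

theorem isAmple_of_isBasis [CompactSpace X] (hL : PicF.IsInvertible L)
    (hB : Opens.IsBasis {U : X.Opens | ∃ (n : ℕ) (s : Coh.structureModule X ⟶ CohB1.tensorPow L (n + 1)),
      U = CohB1.genLocus _ s}) : CohB1.IsAmple L := by
  refine ⟨hL, inferInstance, fun x => ?_⟩
  obtain ⟨_, ⟨ha, n, s, rfl⟩, hx, -⟩ := Opens.isBasis_iff_nbhd.mp (affine_basis_of_basis hL hB) (Opens.mem_top x)
  exact ⟨n, s, hx, ha⟩

/-! ### Quasi-affine schemes -/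

theorem genLocus_function (f : Γ(X, ⊤)) :
    CohB1.genLocus (Coh.structureModule X) (Groth.L16.homOfSection (Coh.structureModule X) (show Γ(Coh.structureModule X, ⊤) from f)) =
      X.basicOpen f := by
  rw [Groth.L16.genLocus_endo]
  exact congrArg X.basicOpen (secOf_homOfSection (show Γ(Coh.structureModule X, ⊤) from f))

theorem isAmple_structureModule [X.IsQuasiAffine] : CohB1.IsAmple (Coh.structureModule X) := by
  refine ⟨isInvertible_structureModule X, inferInstance, fun x => ?_⟩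
  obtain ⟨_, ⟨f, hf, rfl⟩, hx, -⟩ :=
    Opens.isBasis_iff_nbhd.mp (Scheme.IsQuasiAffine.isBasis_basicOpen X) (Opens.mem_top x)
  refine ⟨0, Groth.L16.homOfSection (Coh.structureModule X) (show Γ(Coh.structureModule X, ⊤) from f) ≫
    (Groth.L00.Tensor.tensorPowOne _).inv, ?_⟩
  rw [show (Groth.L00.Tensor.tensorPowOne (Coh.structureModule X)).inv =
    (Groth.L00.Tensor.tensorPowOne (Coh.structureModule X)).symm.hom from rfl, Groth.L16.genLocus_comp_iso,
    genLocus_function]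
  exact ⟨hx, hf⟩

theorem isQuasiAffine_of_isAmple_structureModule (h : CohB1.IsAmple (Coh.structureModule X)) :
    X.IsQuasiAffine := by
  haveI := h.2.1
  refine Scheme.IsQuasiAffine.of_forall_exists_mem_basicOpen X fun x => ?_
  obtain ⟨n, s, hx, hs⟩ := h.2.2 x
  have e := Groth.L16.genLocus_comp_iso s (Groth.L00.Tensor.tensorPowUnit X (n + 1))
  rw [Groth.L16.genLocus_endo] at e
  exact ⟨_, by rw [e]; exact hs, by rw [e]; exact hx⟩

theorem isQuasiAffine_of_isAmple_inverse (hL : CohB1.IsAmple L) (hL' : CohB1.IsAmple L')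
    (e : CohB1.tensorMod L L' ≅ Coh.structureModule X) : X.IsQuasiAffine :=
  isQuasiAffine_of_isAmple_structureModule (isAmple_of_iso e (isAmple_tensor hL hL'))

theorem it_eq_fr {N : X.Modules} (σ : Γ(L, ⊤)) (U : X.Opens) (m : Γ(N, U)) :
    ∀ k, it σ U m k = fr m (rs L le_top σ) k
  | 0 => rfl
  | k + 1 => by
    show tens _ L U (it σ U m k) _ = tens _ L U (fr m (rs L le_top σ) k) _
    rw [it_eq_fr σ U m k]

def twUnit (N : X.Modules) : ∀ k, tw N (Coh.structureModule X) k ≅ N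
  | 0 => Iso.refl _
  | k + 1 => Groth.L00.Tensor.tensorUnitRight _ ≪≫ twUnit N k

theorem isAmple_of_isQuasiAffine [X.IsQuasiAffine] (hL : PicF.IsInvertible L) : CohB1.IsAmple L := by
  refine ⟨hL, inferInstance, fun x => ?_⟩
  obtain ⟨W, e, hxW, he⟩ := Frame.exists_frame hL x
  obtain ⟨_, ⟨f, hf, rfl⟩, hx, hfW⟩ := Opens.isBasis_iff_nbhd.mp (Scheme.IsQuasiAffine.isBasis_basicOpen X) hxW
  let φ : Coh.structureModule X ⟶ Coh.structureModule X :=
    Groth.L16.homOfSection _ (show Γ(Coh.structureModule X, ⊤) from f)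
  have hφ : CohB1.genLocus _ φ = X.basicOpen f := genLocus_function f
  have hGW : CohB1.genLocus _ φ ≤ W := hφ.trans_le hfW
  obtain ⟨k, t, ht⟩ := exists_extend (isInvertible_structureModule X) hL φ (rs L hGW e)
  have hle : CohB1.genLocus _ φ ≤ CohB1.genLocus _ (Groth.L16.homOfSection _ t) := by
    refine le_genLocus _ ?_
    rw [secOf_homOfSection, ht, it_eq_fr]
    exact isFrame_fr (he.mono hGW) (isFrame_genLocus φ) k
  let t' := Groth.L16.homOfSection _ t ≫ (twUnit L k).hom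
  let i : CohB1.tensorMod L (Coh.structureModule X) ≅ CohB1.tensorPow L 1 :=
    Groth.L00.Tensor.tensorUnitRight L ≪≫ (Groth.L00.Tensor.tensorPowOne L).symm
  refine ⟨0, tensHom t' φ ≫ i.hom, ?_⟩
  rw [Groth.L16.genLocus_comp_iso, genLocus_tensHom hL (isInvertible_structureModule X),
    Groth.L16.genLocus_comp_iso, inf_eq_right.mpr hle, hφ]
  exact ⟨hx, hf⟩

/-! ### Relative ampleness -/

theorem isInvertible_restrict (hL : PicF.IsInvertible L) (U : X.Opens) : PicF.IsInvertible (L.restrict U.ι) :=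
  isInvertible_of_iso ((Scheme.Modules.restrictFunctorIsoPullback U.ι).app L).symm (isInvertible_pullback _ hL)

theorem isAmple_of_isRelAmple [IsAffine Y] {f : X ⟶ Y} (h : RelAmple.IsRelAmple f L) : CohB1.IsAmple L := by
  have h' := (isAmple_restrict_iff_pullback _).1 (h.2 ⟨⊤, isAffineOpen_top Y⟩)
  exact (isAmple_pullback_iso_iff (X.topIso)).1 h'

theorem isRelAmple_of_isAmple [IsAffine Y] {f : X ⟶ Y} [QuasiCompact f] (h : CohB1.IsAmple L) :
    RelAmple.IsRelAmple f L := by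
  refine ⟨inferInstance, fun V => ?_⟩
  haveI : IsAffineHom (f ⁻¹ᵁ V.1).ι := by
    haveI : IsAffine (V.1 : Scheme.{u}) := V.2
    exact MorphismProperty.of_isPullback (P := @IsAffineHom) (isPullback_morphismRestrict f V.1) inferInstance
  exact (isAmple_restrict_iff_pullback _).2 (isAmple_pullback_of_isAffineHom _ h)

theorem isRelAmple_id (hL : PicF.IsInvertible L) : RelAmple.IsRelAmple (𝟙 X) L := by
  refine ⟨inferInstance, fun V => ?_⟩
  haveI : IsAffine ((𝟙 X) ⁻¹ᵁ V.1 : X.Opens) := V.2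
  exact isAmple_of_isQuasiAffine (isInvertible_restrict hL _)

theorem isRelAmple_pow_iff (f : X ⟶ Y) (hL : PicF.IsInvertible L) {n : ℕ} (hn : 0 < n) :
    RelAmple.IsRelAmple f L ↔ RelAmple.IsRelAmple f (CohB1.tensorPow L n) := by
  have key : ∀ U : X.Opens, CohB1.IsAmple (L.restrict U.ι) ↔ CohB1.IsAmple ((CohB1.tensorPow L n).restrict U.ι) :=
    fun U => (isAmple_pow_iff (isInvertible_restrict hL U) hn).trans
      ⟨isAmple_of_iso (Groth.L00.Tensor.tensorPowRestrict U.ι L n),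
        isAmple_of_iso (Groth.L00.Tensor.tensorPowRestrict U.ι L n).symm⟩
  exact ⟨fun h => ⟨h.1, fun V => (key _).1 (h.2 V)⟩, fun h => ⟨h.1, fun V => (key _).2 (h.2 V)⟩⟩

theorem isRelAmple_tensor (f : X ⟶ Y) (h : RelAmple.IsRelAmple f L) (h' : RelAmple.IsRelAmple f L') :
    RelAmple.IsRelAmple f (CohB1.tensorMod L L') :=
  ⟨h.1, fun V => isAmple_of_iso (Groth.L00.Tensor.tensorRestrict _ L L') (isAmple_tensor (h.2 V) (h'.2 V))⟩

theorem isRelAmple_pullback_of_isInducing {Z : Scheme.{u}} (f : X ⟶ Y) [QuasiCompact f] (j : Z ⟶ X)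
    [QuasiCompact j] (hj : Topology.IsInducing j) (h : RelAmple.IsRelAmple f L) :
    RelAmple.IsRelAmple (j ≫ f) ((Scheme.Modules.pullback j).obj L) := by
  refine ⟨inferInstance, fun V => ?_⟩
  haveI : CompactSpace ((j ≫ f) ⁻¹ᵁ V.1 : Scheme.{u}) :=
    isCompact_iff_compactSpace.mp ((j ≫ f).isCompact_preimage V.2.isCompact)
  have hind : Topology.IsInducing (j ∣_ (f ⁻¹ᵁ V.1)) := by
    refine Topology.IsInducing.of_comp (by fun_prop) (g := (f ⁻¹ᵁ V.1).ι) (by fun_prop) ?_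
    rw [← TopCat.coe_comp, ← Scheme.Hom.comp_base, morphismRestrict_ι, Scheme.Hom.comp_base, TopCat.coe_comp]
    exact hj.comp ((j ⁻¹ᵁ (f ⁻¹ᵁ V.1)).ι.isOpenEmbedding.isInducing)
  haveI : CompactSpace (j ⁻¹ᵁ (f ⁻¹ᵁ V.1) : Scheme.{u}) :=
    isCompact_iff_compactSpace.mp ((j ≫ f).isCompact_preimage V.2.isCompact)
  have h1 := isAmple_pullback_of_isInducing (j ∣_ (f ⁻¹ᵁ V.1)) hind
    ((isAmple_restrict_iff_pullback _).1 (h.2 V))
  refine (isAmple_restrict_iff_pullback _).2 (isAmple_of_iso ?_ h1)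
  exact (Scheme.Modules.pullbackComp _ _).app L ≪≫
    (Scheme.Modules.pullbackCongr (morphismRestrict_ι j (f ⁻¹ᵁ V.1))).app L ≪≫
    ((Scheme.Modules.pullbackComp _ _).app L).symm

end Groth.L18.Ample
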