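import Groth.Agent.L18.Ample
import Groth.Agent.L29.DCoh.PullTensor
import Groth.Agent.L29.LocFree
import Mathlib.AlgebraicGeometry.QuasiAffine

/-!
Non-vanishing loci under pullback; ampleness of pullbacks.
-/

set_option autoImplicit false
set_option backward.isDefEq.respectTransparency false
universe u

open CategoryTheory AlgebraicGeometry TopologicalSpace Opposite

noncomputable section

namespace Groth.L18.Ample

open Groth.L18.Frame (rs ro rs_rs rs_self rs_smul ro_ro ro_self ro_mul IsFrame pull pull_rs pull_smul)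
open Groth.L18.GenLoc

variable {X Z : Scheme.{u}} (u : Z ⟶ X) {L : X.Modules}

/-- pullback of a section -/
def pullHom (s : Coh.structureModule X ⟶ L) :
    Coh.structureModule Z ⟶ (Scheme.Modules.pullback u).obj L :=
  Groth.L16.homOfSection _ (pull u L ⊤ (secOf s))

theorem isInvertible_pullback (hL : PicF.IsInvertible L) :
    PicF.IsInvertible ((Scheme.Modules.pullback u).obj L) :=
  isInvertible_of_frames fun z => by
    obtain ⟨W, e, hx, he⟩ := Frame.exists_frame hL (u z)
    exact ⟨u ⁻¹ᵁ W, _, hx, he.pullback u L⟩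

theorem map_pull {M N : X.Modules} (φ : M ⟶ N) (V : X.Opens) (m : Γ(M, V)) :
    ((Scheme.Modules.pullback u).map φ).app (u ⁻¹ᵁ V) (pull u M V m) = pull u N V (φ.app V m) := by
  exact (congr($((Scheme.Modules.pullbackPushforwardAdjunction u).unit.naturality φ).app V m)).symm

theorem coeff_pull (s : Coh.structureModule X ⟶ L) {W : X.Opens} {e : Γ(L, W)} {a : Γ(X, W)}
    (ha : a • e = rs L le_top (secOf s)) :
    (u.app W a) • pull u L W e = rs ((Scheme.Modules.pullback u).obj L) le_top (pull u L ⊤ (secOf s)) := by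
  rw [← pull_smul, ha, ← pull_rs]
  rfl

theorem genLocus_pullHom (hL : PicF.IsInvertible L) (s : Coh.structureModule X ⟶ L) :
    CohB1.genLocus _ (pullHom u s) = u ⁻¹ᵁ CohB1.genLocus L s := by
  have key : ∀ (W : X.Opens) (e : Γ(L, W)), IsFrame L W e →
      CohB1.genLocus _ (pullHom u s) ⊓ u ⁻¹ᵁ W = u ⁻¹ᵁ (CohB1.genLocus L s ⊓ W) := by
    intro W e he
    obtain ⟨a, ha⟩ := he.exists_coeff le_rfl (rs L le_top (secOf s))
    rw [rs_self] at ha
    rw [genLocus_inf_eq (pullHom u s) (he.pullback u L) (a := u.app W a)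
        (by rw [pullHom, secOf_homOfSection]; exact coeff_pull u s ha),
      genLocus_inf_eq s he ha, Scheme.preimage_basicOpen]
  refine Opens.ext (Set.ext fun z => ?_)
  obtain ⟨W, e, hxW, he⟩ := Frame.exists_frame hL (u z)
  have := SetLike.ext_iff.mp (key W e he) z
  exact ⟨fun h => (this.mp ⟨h, hxW⟩).1, fun h => (this.mpr ⟨h, hxW⟩).1⟩

theorem genLocus_smul_unit {M : Z.Modules} (hM : PicF.IsInvertible M) (c : Γ(Z, ⊤)) (hc : IsUnit c)
    (σ : Γ(M, ⊤)) :
    CohB1.genLocus M (Groth.L16.homOfSection M (c • σ)) = CohB1.genLocus M (Groth.L16.homOfSection M σ) := by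
  refine Opens.ext (Set.ext fun z => ?_)
  obtain ⟨W, e, hxW, he⟩ := Frame.exists_frame hM z
  obtain ⟨a, ha⟩ := he.exists_coeff le_rfl (rs M le_top σ)
  rw [rs_self] at ha
  have h1 := genLocus_inf_eq (Groth.L16.homOfSection M σ) he (a := a) (by rw [secOf_homOfSection, ha])
  have h2 := genLocus_inf_eq (Groth.L16.homOfSection M (c • σ)) he (a := ro le_top c * a)
    (by rw [secOf_homOfSection, rs_smul, mul_smul, ha])
  rw [Scheme.basicOpen_mul, Z.basicOpen_of_isUnit (hc.map (Z.presheaf.map (homOfLE le_top).op).hom)] at h2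
  rw [inf_eq_right.mpr (Z.basicOpen_le a)] at h2
  have := SetLike.ext_iff.mp (h2.trans h1.symm) z
  exact ⟨fun h => (this.mp ⟨h, hxW⟩).1, fun h => (this.mpr ⟨h, hxW⟩).1⟩

theorem genLocus_iso_pullback (hL : PicF.IsInvertible L) (s : Coh.structureModule X ⟶ L)
    (e : Coh.structureModule Z ≅ (Scheme.Modules.pullback u).obj (Coh.structureModule X)) :
    CohB1.genLocus _ (e.hom ≫ (Scheme.Modules.pullback u).map s) = u ⁻¹ᵁ CohB1.genLocus L s := by
  let P := (Scheme.Modules.pullback u).obj (Coh.structureModule X)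
  let p : Γ(P, ⊤) := pull u (Coh.structureModule X) ⊤ (secOf (𝟙 (Coh.structureModule X)))
  have hp : IsFrame P ⊤ p := by
    have := (isFrame_genLocus (𝟙 (Coh.structureModule X))).pullback u
    rw [← pull_rs] at this
    intro V h
    have h' : V ≤ u ⁻¹ᵁ CohB1.genLocus (Coh.structureModule X) (𝟙 _) := by rw [genLocus_id]; exact h
    have hb := this V h'
    simp only [rs_rs] at hb
    exact hb
  have he : IsFrame P ⊤ (secOf e.hom) := by
    have hi : IsIso ((Scheme.Modules.restrictFunctor (⊤ : Z.Opens).ι).map e.hom) := inferInstance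
    have := (isIso_restrict_iff_isFrame e.hom ⊤).1 hi
    rwa [rs_self] at this
  obtain ⟨c, hc⟩ := hp.exists_coeff le_rfl (secOf e.hom)
  rw [rs_self] at hc
  have hcu : IsUnit c := Frame.isUnit_of_isFrame hp (by rwa [hc])
  have hsec : secOf (e.hom ≫ (Scheme.Modules.pullback u).map s) = c • (show Γ((Scheme.Modules.pullback u).obj L, ⊤) from pull u L ⊤ (secOf s)) := by
    show ((Scheme.Modules.pullback u).map s).app ⊤ (secOf e.hom) = _
    rw [← hc, Scheme.Modules.Hom.app_smul]
    refine congrArg (c • ·) ?_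
    exact (map_pull u s ⊤ _).trans rfl
  rw [← homOfSection_secOf (e.hom ≫ (Scheme.Modules.pullback u).map s), hsec,
    genLocus_smul_unit (isInvertible_pullback u hL) c hcu]
  exact genLocus_pullHom u hL s

/-- powers commute with pullback -/
def pullPow (L : X.Modules) : ∀ n : ℕ,
    (Scheme.Modules.pullback u).obj (CohB1.tensorPow L n) ≅ CohB1.tensorPow ((Scheme.Modules.pullback u).obj L) n
  | 0 => Groth.L29.LocFree.pullbackUnitIso u
  | n + 1 => (Groth.L29.DC.PullTensor.pullTensor u _ L).symm ≪≫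
      Groth.L00.Tensor.tensorIso (pullPow L n) (Iso.refl _)

theorem exists_pull_pow (hL : PicF.IsInvertible L) {n : ℕ} (s : Coh.structureModule X ⟶ CohB1.tensorPow L n) :
    ∃ s' : Coh.structureModule Z ⟶ CohB1.tensorPow ((Scheme.Modules.pullback u).obj L) n,
      CohB1.genLocus _ s' = u ⁻¹ᵁ CohB1.genLocus _ s :=
  ⟨pullHom u s ≫ (pullPow u L n).hom,
    (Groth.L16.genLocus_comp_iso _ _).trans (genLocus_pullHom u (isInvertible_tensorPow hL n) s)⟩

theorem isAmple_of_iso {L M : X.Modules} (e : L ≅ M) (hL : CohB1.IsAmple L) : CohB1.IsAmple M := by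
  obtain ⟨h1, h2, h3⟩ := hL
  refine ⟨isInvertible_of_iso e h1, h2, fun x => ?_⟩
  obtain ⟨n, s, hx, hs⟩ := h3 x
  refine ⟨n, s ≫ (Groth.L00.Tensor.tensorPowIso e (n + 1)).hom, ?_⟩
  rw [Groth.L16.genLocus_comp_iso]
  exact ⟨hx, hs⟩

/-- pullback along an affine morphism -/
theorem isAmple_pullback_of_isAffineHom [IsAffineHom u] (hL : CohB1.IsAmple L) :
    CohB1.IsAmple ((Scheme.Modules.pullback u).obj L) := by
  obtain ⟨h1, h2, h3⟩ := hL
  haveI := h2
  refine ⟨isInvertible_pullback u h1, QuasiCompact.compactSpace_of_compactSpace u, fun z => ?_⟩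
  obtain ⟨n, s, hx, hs⟩ := h3 (u z)
  obtain ⟨s', hs'⟩ := exists_pull_pow u h1 s
  exact ⟨n, s', by rw [hs']; exact ⟨hx, hs.preimage u⟩⟩

/-- pullback along a morphism whose source topology is induced -/
theorem isAmple_pullback_of_isInducing [CompactSpace Z] (hu : Topology.IsInducing u)
    (hL : CohB1.IsAmple L) : CohB1.IsAmple ((Scheme.Modules.pullback u).obj L) := by
  refine ⟨isInvertible_pullback u hL.1, inferInstance, fun z => ?_⟩
  obtain ⟨_, ⟨W, hW, rfl⟩, hzW, -⟩ := Z.isBasis_affineOpens.exists_subset_of_mem_open (Set.mem_univ z) isOpen_univ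
  obtain ⟨U, hU, hUW⟩ := hu.isOpen_iff.mp W.2
  obtain ⟨n, s, hx, hle, hs⟩ := exists_affine_genLocus_subset hL ⟨U, hU⟩ (x := u z)
    (by show u z ∈ U; exact (Set.ext_iff.mp hUW z).mpr hzW)
  obtain ⟨s', hs'⟩ := exists_pull_pow u hL.1 s
  have hle' : CohB1.genLocus _ s' ≤ W := by
    rw [hs']
    intro y hy
    exact (Set.ext_iff.mp hUW y).mp (hle hy)
  refine ⟨n, s', by rw [hs']; exact hx, ?_⟩
  haveI := isAffineHom_genLocus_ι (isInvertible_tensorPow (isInvertible_pullback u hL.1) (n + 1)) s'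
  have := hW.preimage (CohB1.genLocus _ s').ι
  rwa [← Scheme.Hom.isAffineOpen_iff_of_isOpenImmersion (CohB1.genLocus _ s').ι,
    Scheme.Hom.image_preimage_eq_opensRange_inf, Scheme.Opens.opensRange_ι, inf_eq_left.mpr hle'] at this

/-- restriction as pullback -/
theorem isAmple_restrict_iff_pullback (j : Z ⟶ X) [IsOpenImmersion j] :
    CohB1.IsAmple (L.restrict j) ↔ CohB1.IsAmple ((Scheme.Modules.pullback j).obj L) :=
  ⟨isAmple_of_iso ((Scheme.Modules.restrictFunctorIsoPullback j).app L),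
    isAmple_of_iso ((Scheme.Modules.restrictFunctorIsoPullback j).app L).symm⟩

theorem pullbackId (L : X.Modules) (hL : CohB1.IsAmple ((Scheme.Modules.pullback (𝟙 X)).obj L)) :
    CohB1.IsAmple L := isAmple_of_iso ((Scheme.Modules.pullbackId X).app L) hL

theorem isAmple_pullback_iso_iff (e : Z ≅ X) :
    CohB1.IsAmple ((Scheme.Modules.pullback e.hom).obj L) ↔ CohB1.IsAmple L := by
  refine ⟨fun h => pullbackId L ?_, isAmple_pullback_of_isAffineHom e.hom⟩
  exact isAmple_of_iso ((Scheme.Modules.pullbackComp e.inv e.hom).app L ≪≫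
    (Scheme.Modules.pullbackCongr e.inv_hom_id).app L) (isAmple_pullback_of_isAffineHom e.inv h)

end Groth.L18.Ample
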