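import Groth.Prelude.Def_Mor2
import Mathlib.AlgebraicGeometry.QuasiAffine
import Mathlib.AlgebraicGeometry.Morphisms.QuasiSeparated

/-!
Quasi-affine morphisms: locality, composition, base change, cancellation.
-/

noncomputable section

namespace Groth.L18

open CategoryTheory AlgebraicGeometry Limits TopologicalSpace

universe u

variable {X Y Z : Scheme.{u}}

theorem isQuasiAffine_opens_iff (O : X.Opens) :
    Scheme.IsQuasiAffine (O : Scheme.{u}) ↔ IsCompact (O : Set X) ∧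
      ∀ x ∈ O, ∃ r : Γ(X, O), IsAffineOpen (X.basicOpen r) ∧ x ∈ X.basicOpen r := by
  constructor
  · intro h
    refine ⟨isCompact_iff_compactSpace.mpr (inferInstance : CompactSpace (O : Scheme.{u})), fun x hx => ?_⟩
    obtain ⟨_, ⟨_, ⟨r, hr, rfl⟩, rfl⟩, hxr, -⟩ :=
      (Scheme.IsQuasiAffine.isBasis_basicOpen (O : Scheme.{u})).exists_subset_of_mem_open
        (Set.mem_univ (⟨x, hx⟩ : (O : Scheme.{u}))) isOpen_univ
    refine ⟨O.topIso.hom.hom r, ?_, ?_⟩
    · rw [← Scheme.Opens.ι_image_basicOpen_topIso_inv O, Scheme.Hom.isAffineOpen_iff_of_isOpenImmersion]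
      erw [Iso.hom_inv_id_apply O.topIso r]
      exact hr
    · rw [← Scheme.Opens.ι_image_basicOpen_topIso_inv O]
      refine ⟨⟨x, hx⟩, ?_, rfl⟩
      erw [Iso.hom_inv_id_apply O.topIso r]
      exact hxr
  · rintro ⟨hc, H⟩
    have : CompactSpace (O : Scheme.{u}) := isCompact_iff_compactSpace.mp hc
    refine .of_forall_exists_mem_basicOpen _ fun z => ?_
    obtain ⟨r, hr, hz⟩ := H z.1 z.2
    refine ⟨O.topIso.inv.hom r, ?_, ?_⟩
    · rw [← O.ι.isAffineOpen_iff_of_isOpenImmersion]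
      erw [Scheme.Opens.ι_image_basicOpen_topIso_inv]
      exact hr
    · rw [← Scheme.Opens.ι_image_basicOpen_topIso_inv O r] at hz
      obtain ⟨w, hw, e⟩ := hz
      exact O.ι.isOpenEmbedding.injective e ▸ hw

theorem isQuasiAffine_of_opens_le {O O' : X.Opens} (hle : O' ≤ O) (hc : IsCompact (O' : Set X))
    (h : Scheme.IsQuasiAffine (O : Scheme.{u})) : Scheme.IsQuasiAffine (O' : Scheme.{u}) := by
  have : CompactSpace (O' : Scheme.{u}) := isCompact_iff_compactSpace.mp hc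
  exact .of_isImmersion (X.homOfLE hle)

theorem isQuasiAffine_of_basicOpen_cover (O : X.Opens) (hc : IsCompact (O : Set X))
    (H : ∀ x ∈ O, ∃ r : Γ(X, O), x ∈ X.basicOpen r ∧
      Scheme.IsQuasiAffine (X.basicOpen r : Scheme.{u})) :
    Scheme.IsQuasiAffine (O : Scheme.{u}) := by
  choose r hxr hr using H
  obtain ⟨t, ht⟩ := hc.elim_finite_subcover (fun i : O => (X.basicOpen (r i.1 i.2) : Set X))
    (fun i => (X.basicOpen _).2) fun x hx => Set.mem_iUnion.mpr ⟨⟨x, hx⟩, hxr x hx⟩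
  have hqs : IsQuasiSeparated (O : Set X) := by
    intro U V hU hUo hUc hV hVo hVc
    have : U ∩ V = ⋃ i ∈ t, (U ∩ (X.basicOpen (r i.1 i.2) : Set X)) ∩
        (V ∩ (X.basicOpen (r i.1 i.2) : Set X)) := by
      ext y
      simp only [Set.mem_inter_iff, Set.mem_iUnion]
      refine ⟨fun hy => ?_, fun ⟨i, hi, h1, h2⟩ => ⟨h1.1, h2.1⟩⟩
      obtain ⟨i, hi, hyi⟩ := Set.mem_iUnion₂.mp (ht (hU hy.1))
      exact ⟨i, hi, ⟨hy.1, hyi⟩, hy.2, hyi⟩
    rw [this]
    refine t.finite_toSet.isCompact_biUnion fun i _ => ?_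
    have hcomp : ∀ (W : Set X), W ⊆ O → IsOpen W → IsCompact W →
        IsCompact (W ∩ (X.basicOpen (r i.1 i.2) : Set X)) := by
      intro W hW hWo hWc
      have := isCompact_basicOpen X (U := (⟨W, hWo⟩ : X.Opens)) hWc
        (X.presheaf.map (homOfLE (show (⟨W, hWo⟩ : X.Opens) ≤ O from hW)).op (r i.1 i.2))
      rwa [Scheme.basicOpen_res] at this
    have := hr i.1 i.2
    exact (isQuasiSeparated_iff_quasiSeparatedSpace _ (X.basicOpen _).2).mpr
      (inferInstance : QuasiSeparatedSpace (X.basicOpen (r i.1 i.2) : Scheme.{u})) _ _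
      Set.inter_subset_right (hUo.inter (X.basicOpen _).2) (hcomp U hU hUo hUc)
      Set.inter_subset_right (hVo.inter (X.basicOpen _).2) (hcomp V hV hVo hVc)
  refine (isQuasiAffine_opens_iff O).mpr ⟨hc, fun x hx => ?_⟩
  obtain ⟨a, ha⟩ : ∃ a, a = r x hx := ⟨_, rfl⟩
  obtain ⟨s, hs, hxs⟩ : ∃ s : Γ(X, X.basicOpen a),
      IsAffineOpen (X.basicOpen s) ∧ x ∈ X.basicOpen s := by
    subst ha
    exact ((isQuasiAffine_opens_iff _).mp (hr x hx)).2 x (hxr x hx)
  let _ : Algebra Γ(X, O) Γ(X, X.basicOpen a) :=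
    (X.presheaf.map (homOfLE (X.basicOpen_le a)).op).hom.toAlgebra
  have := isLocalization_basicOpen_of_qcqs (X := X) hc hqs a
  obtain ⟨⟨b, ⟨_, n, rfl⟩⟩, hb⟩ := IsLocalization.surj (Submonoid.powers a) s
  refine ⟨a * b, ?_⟩
  have heq : X.basicOpen (a * b) = X.basicOpen s := by
    have hu : IsUnit (algebraMap Γ(X, O) Γ(X, X.basicOpen a) (a ^ n)) :=
      IsLocalization.map_units (R := Γ(X, O)) (Γ(X, X.basicOpen a))
        (⟨a ^ n, n, rfl⟩ : Submonoid.powers a)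
    have h2 : X.basicOpen (algebraMap Γ(X, O) Γ(X, X.basicOpen a) b) = X.basicOpen s := by
      rw [← hb, Scheme.basicOpen_mul, X.basicOpen_of_isUnit hu]
      exact inf_eq_left.mpr (X.basicOpen_le s)
    rw [← h2, Scheme.basicOpen_mul]
    exact (X.basicOpen_res b (homOfLE (X.basicOpen_le a)).op).symm
  rw [heq]
  exact ⟨hs, hxs⟩

/-- It suffices to test quasi-affineness on one affine neighbourhood of every point of the base. -/
theorem isQuasiAffine_of_nhds (f : X ⟶ Y) [QuasiCompact f]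
    (H : ∀ y : Y, ∃ W : Y.Opens, IsAffineOpen W ∧ y ∈ W ∧
      Scheme.IsQuasiAffine (f ⁻¹ᵁ W : Scheme.{u})) : Mor2.IsQuasiAffine f := by
  refine ⟨‹_›, fun V hV => isQuasiAffine_of_basicOpen_cover _ (f.isCompact_preimage hV.isCompact) fun x hx => ?_⟩
  obtain ⟨W, hW, hyW, hqa⟩ := H (f x)
  obtain ⟨a, hle, hya⟩ := hV.exists_basicOpen_le ⟨f x, hyW⟩ hx
  refine ⟨(f.app V).hom a, ?_, ?_⟩
  · rw [← Scheme.preimage_basicOpen]; exact hya
  · rw [← Scheme.preimage_basicOpen]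
    exact isQuasiAffine_of_opens_le (fun z hz => hle hz)
      (f.isCompact_preimage (hV.basicOpen a).isCompact) hqa

theorem isQuasiAffine_comp (f : X ⟶ Y) (g : Y ⟶ Z) (hf : Mor2.IsQuasiAffine f)
    (hg : Mor2.IsQuasiAffine g) : Mor2.IsQuasiAffine (f ≫ g) := by
  have := hf.1
  have := hg.1
  refine ⟨inferInstance, fun V hV => ?_⟩
  show Scheme.IsQuasiAffine (f ⁻¹ᵁ (g ⁻¹ᵁ V) : Scheme.{u})
  obtain ⟨hc, hr⟩ := (isQuasiAffine_opens_iff _).mp (hg.2 V hV)
  refine isQuasiAffine_of_basicOpen_cover _ (f.isCompact_preimage hc) fun x hx => ?_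
  obtain ⟨a, ha, hxa⟩ := hr (f x) hx
  refine ⟨(f.app (g ⁻¹ᵁ V)).hom a, ?_, ?_⟩
  · rw [← Scheme.preimage_basicOpen]; exact hxa
  · rw [← Scheme.preimage_basicOpen]; exact hf.2 _ ha

set_option backward.isDefEq.respectTransparency.types false in
theorem isQuasiAffine_baseChange (f : X ⟶ Y) (hf : Mor2.IsQuasiAffine f) (g : Z ⟶ Y) :
    Mor2.IsQuasiAffine (pullback.snd f g) := by
  have := hf.1
  refine isQuasiAffine_of_nhds _ fun z => ?_
  obtain ⟨_, ⟨W, hW, rfl⟩, hzW, -⟩ :=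
    Y.isBasis_affineOpens.exists_subset_of_mem_open (Set.mem_univ (g z)) isOpen_univ
  replace hW : IsAffineOpen W := hW
  obtain ⟨_, ⟨V, hV, rfl⟩, hzV, hVW⟩ :=
    Z.isBasis_affineOpens.exists_subset_of_mem_open (a := z) hzW (g ⁻¹ᵁ W).2
  replace hV : IsAffineOpen V := hV
  refine ⟨V, hV, hzV, ?_⟩
  have := hf.2 W hW
  let V' : Z.Opens := V
  have : IsAffine W := hW
  have : IsAffine (V' : Scheme.{u}) := hV
  let r : (V' : Scheme.{u}) ⟶ W := g.resLE W V' hVW
  have hr : IsAffineHom r := isAffineHom_of_isAffine r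
  have : IsAffineHom (pullback.fst (f ∣_ W) r) := MorphismProperty.pullback_fst _ _ hr
  have : (pullback (f ∣_ W) r).IsQuasiAffine := .of_isAffineHom (pullback.fst (f ∣_ W) r)
  have sq1 : IsPullback (pullback.fst (f ∣_ W) r ≫ (f ⁻¹ᵁ W).ι) (pullback.snd (f ∣_ W) r) f
      (V'.ι ≫ g) := by
    rw [← g.resLE_comp_ι hVW]
    exact (IsPullback.of_hasPullback (f ∣_ W) r).paste_horiz (isPullback_morphismRestrict f W).flip
  have sq2 : IsPullback (pullback.fst (pullback.snd f g) V'.ι ≫ pullback.fst f g)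
      (pullback.snd (pullback.snd f g) V'.ι) f (V'.ι ≫ g) :=
    (IsPullback.of_hasPullback (pullback.snd f g) V'.ι).paste_horiz (IsPullback.of_hasPullback f g)
  let e : (pullback (f ∣_ W) r) ≅ (pullback.snd f g ⁻¹ᵁ V' : Scheme.{u}) :=
    sq1.isoIsPullback _ _ sq2 ≪≫ pullbackRestrictIsoRestrict (pullback.snd f g) V'
  have : CompactSpace (pullback.snd f g ⁻¹ᵁ V' : Scheme.{u}) :=
    isCompact_iff_compactSpace.mp ((pullback.snd f g).isCompact_preimage hV.isCompact)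
  exact .of_isImmersion e.inv

theorem isQuasiAffine_of_comp (f : X ⟶ Y) (g : Y ⟶ Z) [QuasiSeparated g]
    (h : Mor2.IsQuasiAffine (f ≫ g)) : Mor2.IsQuasiAffine f := by
  have := h.1
  have : QuasiCompact f := QuasiCompact.of_comp f g
  refine isQuasiAffine_of_nhds _ fun y => ?_
  obtain ⟨_, ⟨W, hW, rfl⟩, hyW, -⟩ :=
    Z.isBasis_affineOpens.exists_subset_of_mem_open (Set.mem_univ (g y)) isOpen_univ
  obtain ⟨_, ⟨V, hV, rfl⟩, hyV, hVW⟩ :=
    Y.isBasis_affineOpens.exists_subset_of_mem_open (a := y) hyW (g ⁻¹ᵁ W).2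
  exact ⟨V, hV, hyV, isQuasiAffine_of_opens_le (fun z hz => hVW hz)
    (f.isCompact_preimage hV.isCompact) (h.2 W hW)⟩

theorem isQuasiAffine_of_isEmbedding (f : X ⟶ Y) [QuasiCompact f]
    (hf : Topology.IsEmbedding f.base) : Mor2.IsQuasiAffine f := by
  refine ⟨‹_›, fun V hV => (isQuasiAffine_opens_iff _).mpr ⟨f.isCompact_preimage hV.isCompact, fun x hx => ?_⟩⟩
  obtain ⟨_, ⟨U, hU, rfl⟩, hxU, hUV⟩ :=
    X.isBasis_affineOpens.exists_subset_of_mem_open (a := x) hx (f ⁻¹ᵁ V).2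
  replace hU : IsAffineOpen U := hU
  obtain ⟨G, hG, hGU⟩ := hf.isInducing.isOpen_iff.mp U.2
  obtain ⟨a, hle, hxa⟩ := hV.exists_basicOpen_le (V := ⟨G, hG⟩)
    ⟨f x, show x ∈ f.base ⁻¹' G from hGU ▸ hxU⟩ hx
  refine ⟨(f.app V).hom a, ?_, ?_⟩
  · have hsub : X.basicOpen ((f.app V).hom a) ≤ U := by
      rw [← Scheme.preimage_basicOpen]
      intro z hz
      exact hGU.le (hle hz)
    have h1 := hU.basicOpen (X.presheaf.map (homOfLE (show U ≤ f ⁻¹ᵁ V from hUV)).op ((f.app V).hom a))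
    rw [Scheme.basicOpen_res] at h1
    exact inf_eq_right.mpr hsub ▸ h1
  · rw [← Scheme.preimage_basicOpen]; exact hxa

end Groth.L18
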