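import Groth.Prelude.Def_CohB1
import Mathlib.AlgebraicGeometry.ProjectiveSpectrum.Proper
import Mathlib.RingTheory.MvPolynomial.Homogeneous

/-!
# Points of projective space given by homogeneous coordinates

`tuplePt n σ a i h : Spec B ⟶ P^n_R` is the point with homogeneous coordinates `a : Fin (n+1) → B`,
read on the chart `i` where `a i` is a unit.
-/

set_option autoImplicit false
universe u

open CategoryTheory CategoryTheory.Limits AlgebraicGeometry

namespace Groth.L18.PS

open CohB1 HomogeneousLocalization MvPolynomial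

variable (n : ℕ) {R : Type u} [CommRing R]

lemma X_mem (i : Fin (n + 1)) : (X i : MvPolynomial (Fin (n + 1)) R) ∈ polyGrading n R 1 :=
  (mem_homogeneousSubmodule 1 _).mpr (isHomogeneous_X R i)

/-- The chart `D₊(X i)`. -/
noncomputable abbrev chart (R : Type u) [CommRing R] (i : Fin (n + 1)) :
    Spec (.of (Away (polyGrading n R) (X i : MvPolynomial (Fin (n + 1)) R))) ⟶ ProjSpace n R :=
  Proj.awayι (polyGrading n R) (X i) (X_mem n i) one_pos

variable {n} {B : Type u} [CommRing B]

/-- Evaluation of a degree zero fraction at a tuple. -/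
noncomputable def awayEval (σ : R →+* B) (a : Fin (n + 1) → B) (p : MvPolynomial (Fin (n + 1)) R)
    (h : IsUnit (eval₂Hom σ a p)) : Away (polyGrading n R) p →+* B :=
  (IsLocalization.Away.lift (S := Localization.Away p) p h).comp
    (algebraMap (Away (polyGrading n R) p) (Localization.Away p))

lemma awayEval_mk (σ : R →+* B) (a : Fin (n + 1) → B) (p : MvPolynomial (Fin (n + 1)) R)
    (h : IsUnit (eval₂Hom σ a p)) {d : ℕ} (hp : p ∈ polyGrading n R d) (k : ℕ)
    (x : MvPolynomial (Fin (n + 1)) R) (hx : x ∈ polyGrading n R (k • d)) :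
    awayEval σ a p h (Away.mk (polyGrading n R) hp k x hx) * eval₂Hom σ a p ^ k =
      eval₂Hom σ a x := by
  rw [awayEval, RingHom.comp_apply, HomogeneousLocalization.algebraMap_apply, Away.val_mk,
    Localization.mk_eq_mk']
  conv_lhs => rw [← map_pow, ← IsLocalization.Away.lift_eq (S := Localization.Away p) p h]
  rw [← map_mul, IsLocalization.mk'_spec, IsLocalization.Away.lift_eq]

lemma awayEval_comp {C : Type u} [CommRing C] (g : B →+* C) (σ : R →+* B) (a : Fin (n + 1) → B)
    (p : MvPolynomial (Fin (n + 1)) R) (h : IsUnit (eval₂Hom σ a p))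
    (h' : IsUnit (eval₂Hom (g.comp σ) (g ∘ a) p)) :
    g.comp (awayEval σ a p h) = awayEval (g.comp σ) (g ∘ a) p h' := by
  rw [awayEval, awayEval, ← RingHom.comp_assoc]
  congr 1
  refine IsLocalization.ringHom_ext (Submonoid.powers p) ?_
  rw [IsLocalization.Away.lift_comp, RingHom.comp_assoc, IsLocalization.Away.lift_comp]
  exact MvPolynomial.ringHom_ext (by simp) (by simp)

lemma awayEval_awayMap (σ : R →+* B) (a : Fin (n + 1) → B) {p q x : MvPolynomial (Fin (n + 1)) R}
    {e : ℕ} (hq : q ∈ polyGrading n R e) (hx : x = p * q) (hp : IsUnit (eval₂Hom σ a p))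
    (hxu : IsUnit (eval₂Hom σ a x)) :
    (awayEval σ a x hxu).comp (awayMap (polyGrading n R) hq hx) = awayEval σ a p hp := by
  ext z
  simp only [awayEval, RingHom.comp_apply, HomogeneousLocalization.algebraMap_apply, val_awayMap]
  rw [← RingHom.comp_apply (IsLocalization.Away.lift (S := Localization.Away x) x hxu)]
  congr 1
  refine IsLocalization.ringHom_ext (Submonoid.powers p) ?_
  rw [IsLocalization.Away.lift_comp, RingHom.comp_assoc]
  unfold Localization.awayLift
  rw [IsLocalization.Away.lift_comp, IsLocalization.Away.lift_comp]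

/-- The coordinate `X j / X i` on the chart `i`. -/
noncomputable def coord (i j : Fin (n + 1)) :
    Away (polyGrading n R) (X i : MvPolynomial (Fin (n + 1)) R) :=
  Away.mk (polyGrading n R) (X_mem n i) 1 (X j) (by simpa using X_mem n j)

variable (σ : R →+* B) (a : Fin (n + 1) → B)

lemma isUnit_eval_X {i : Fin (n + 1)} (h : IsUnit (a i)) : IsUnit (eval₂Hom σ a (X i)) := by
  rwa [eval₂Hom_X']

/-- The ring map defining the point with coordinates `a` on the chart `i`. -/
noncomputable def chartHom (i : Fin (n + 1)) (h : IsUnit (a i)) :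
    Away (polyGrading n R) (X i : MvPolynomial (Fin (n + 1)) R) →+* B :=
  awayEval σ a (X i) (isUnit_eval_X σ a h)

lemma chartHom_coord (i : Fin (n + 1)) (h : IsUnit (a i)) (j : Fin (n + 1)) :
    chartHom σ a i h (coord i j) * a i = a j := by
  have := awayEval_mk σ a (X i) (isUnit_eval_X σ a h) (X_mem n i) 1 (X j) (by simpa using X_mem n j)
  rw [pow_one, eval₂Hom_X', eval₂Hom_X'] at this
  exact this

lemma chartHom_algebraMap (i : Fin (n + 1)) (h : IsUnit (a i)) (r : R) :
    chartHom σ a i h (fromZeroRingHom (polyGrading n R) _ (algebraMap R (polyGrading n R 0) r)) = σ r := by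
  rw [chartHom, awayEval, RingHom.comp_apply]
  have : algebraMap (Away (polyGrading n R) (X i : MvPolynomial (Fin (n + 1)) R)) (Localization.Away (X i : MvPolynomial (Fin (n + 1)) R))
      (fromZeroRingHom (polyGrading n R) _ (algebraMap R (polyGrading n R 0) r)) =
      algebraMap (MvPolynomial (Fin (n + 1)) R) _ (C r) := by
    rw [HomogeneousLocalization.algebraMap_apply]
    exact Localization.mk_one_eq_algebraMap _
  rw [this, IsLocalization.Away.lift_eq, eval₂Hom_C]

/-- Homogeneity: scaling of the arguments. -/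
lemma eval_smul {T : Type u} [CommRing T] (g : R →+* T) (b : Fin (n + 1) → T) (c : T) {k : ℕ}
    {x : MvPolynomial (Fin (n + 1)) R} (hx : x.IsHomogeneous k) :
    eval₂Hom g (fun j => c * b j) x = c ^ k * eval₂Hom g b x := by
  conv_lhs => rw [x.as_sum]
  conv_rhs => rw [x.as_sum]
  rw [map_sum, map_sum, Finset.mul_sum]
  refine Finset.sum_congr rfl fun m hm => ?_
  have hdeg : ∑ j ∈ m.support, m j = k := by
    have := hx (mem_support_iff.mp hm)
    rw [Finsupp.weight_apply, Finsupp.sum] at this
    simpa using this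
  simp only [eval₂Hom_monomial, Finsupp.prod, mul_pow, Finset.prod_mul_distrib]
  rw [Finset.prod_pow_eq_pow_sum, hdeg]
  ring

/-- Every element of the chart ring is a polynomial in the coordinates. -/
lemma exists_eq_eval_coord (i : Fin (n + 1))
    (z : Away (polyGrading n R) (X i : MvPolynomial (Fin (n + 1)) R)) :
    ∃ p : MvPolynomial (Fin (n + 1)) R,
      z = eval₂Hom ((fromZeroRingHom (polyGrading n R) _).comp (algebraMap R (polyGrading n R 0)))
        (coord i) p := by
  obtain ⟨k, x, hx, rfl⟩ := Away.mk_surjective (polyGrading n R) (X_mem n i) z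
  refine ⟨x, ?_⟩
  have hx' : x.IsHomogeneous k := by
    have := (mem_homogeneousSubmodule _ _).mp hx
    simpa using this
  apply HomogeneousLocalization.val_injective
  rw [Away.val_mk, ← HomogeneousLocalization.algebraMap_apply, map_eval₂Hom]
  set M := Submonoid.powers (X i : MvPolynomial (Fin (n + 1)) R) with hM
  have hmem : (X i : MvPolynomial (Fin (n + 1)) R) ∈ M := ⟨1, pow_one _⟩
  set g := (algebraMap (HomogeneousLocalization (polyGrading n R) M) (Localization M)).comp
    ((fromZeroRingHom (polyGrading n R) M).comp (algebraMap R (polyGrading n R 0)))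
  set c : Localization M := Localization.mk 1 ⟨X i, hmem⟩ with hc
  have hcoord : (fun j => algebraMap (HomogeneousLocalization (polyGrading n R) M) (Localization M)
      (coord i j)) = fun j => c * algebraMap (MvPolynomial (Fin (n + 1)) R) (Localization M) (X j) := by
    funext j
    rw [HomogeneousLocalization.algebraMap_apply, coord, Away.val_mk, hc,
      ← Localization.mk_one_eq_algebraMap, Localization.mk_mul]
    congr 1
    · rw [one_mul]
    · exact Subtype.ext (by simp)
  have hg : g = (algebraMap (MvPolynomial (Fin (n + 1)) R) (Localization M)).comp C := by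
    refine RingHom.ext fun r => ?_
    simp only [g, RingHom.comp_apply, HomogeneousLocalization.algebraMap_apply]
    exact Localization.mk_one_eq_algebraMap _
  have halg : eval₂Hom g (fun j => algebraMap (MvPolynomial (Fin (n + 1)) R) (Localization M) (X j)) x =
      algebraMap (MvPolynomial (Fin (n + 1)) R) (Localization M) x := by
    rw [hg]
    exact congrArg (fun φ : MvPolynomial (Fin (n + 1)) R →+* Localization M => φ x)
      (MvPolynomial.ringHom_ext (f := eval₂Hom _ _)
        (g := algebraMap (MvPolynomial (Fin (n + 1)) R) (Localization M)) (by simp) (by simp))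
  rw [hcoord, eval_smul g _ c hx', halg, hc, Localization.mk_pow, one_pow,
    ← Localization.mk_one_eq_algebraMap, Localization.mk_mul]
  congr 1
  · rw [one_mul]
  · exact Subtype.ext (by simp)

/-- The scalars of the chart ring. -/
noncomputable abbrev chartScalar (n : ℕ) (R : Type u) [CommRing R] (i : Fin (n + 1)) :
    R →+* Away (polyGrading n R) (X i : MvPolynomial (Fin (n + 1)) R) :=
  (fromZeroRingHom (polyGrading n R) _).comp (algebraMap R (polyGrading n R 0))

lemma chart_ringHom_ext {C : Type u} [CommRing C] (i : Fin (n + 1))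
    {f g : Away (polyGrading n R) (X i : MvPolynomial (Fin (n + 1)) R) →+* C}
    (hs : f.comp (chartScalar n R i) = g.comp (chartScalar n R i))
    (hc : ∀ j, f (coord i j) = g (coord i j)) : f = g := by
  ext z
  obtain ⟨p, rfl⟩ := exists_eq_eval_coord i z
  rw [map_eval₂Hom, map_eval₂Hom]
  simp only [hc]
  erw [hs]

lemma chartHom_comp_scalar (i : Fin (n + 1)) (h : IsUnit (a i)) :
    (chartHom σ a i h).comp (chartScalar n R i) = σ :=
  RingHom.ext fun r => chartHom_algebraMap σ a i h r

lemma chartHom_smul (c : B) (i : Fin (n + 1)) (h : IsUnit (a i)) (h' : IsUnit (c * a i)) :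
    chartHom σ (fun j => c * a j) i h' = chartHom σ a i h := by
  refine chart_ringHom_ext i ?_ fun j => ?_
  · rw [chartHom_comp_scalar, chartHom_comp_scalar]
  · apply h'.mul_left_injective
    simp only
    rw [chartHom_coord σ (fun j => c * a j) i h' j, mul_left_comm, chartHom_coord σ a i h j]

lemma coord_self (i : Fin (n + 1)) : coord (R := R) i i = 1 := by
  apply HomogeneousLocalization.val_injective
  rw [coord, Away.val_mk, HomogeneousLocalization.val_one, Localization.mk_eq_mk',
    IsLocalization.mk'_eq_iff_eq_mul]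
  simp

end Groth.L18.PS

namespace Groth.L18.PS

open CohB1 HomogeneousLocalization MvPolynomial

variable {n : ℕ} {R : Type u} [CommRing R] {B : CommRingCat.{u}} (σ : R →+* B) (a : Fin (n + 1) → B)

instance (i : Fin (n + 1)) : IsOpenImmersion (chart n R i) :=
  inferInstanceAs (IsOpenImmersion (Proj.awayι (polyGrading n R) (X i) (X_mem n i) one_pos))

lemma basicOpen_eq_top_of_isUnit {S : Type u} [CommRing S] {x : S} (hx : IsUnit x) :
    PrimeSpectrum.basicOpen x = ⊤ :=
  eq_top_iff.mpr fun q _ hq => q.isPrime.ne_top (Ideal.eq_top_of_isUnit_mem _ hq hx)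

lemma isUnit_of_basicOpen_eq_top {S : Type u} [CommRing S] {x : S}
    (hx : PrimeSpectrum.basicOpen x = ⊤) : IsUnit x := by
  by_contra h
  obtain ⟨m, hm, hxm⟩ := exists_max_ideal_of_mem_nonunits h
  exact (hx.ge (x := ⟨m, hm.isPrime⟩) trivial) hxm

/-- The point with homogeneous coordinates `a`, read on the chart `i`. -/
noncomputable def tuplePt (i : Fin (n + 1)) (h : IsUnit (a i)) : Spec B ⟶ ProjSpace n R :=
  Spec.map (CommRingCat.ofHom (chartHom σ a i h)) ≫ chart n R i

lemma tuplePt_chart_eq (i j : Fin (n + 1)) (hi : IsUnit (a i)) (hj : IsUnit (a j)) :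
    tuplePt σ a i hi = tuplePt σ a j hj := by
  have hij : IsUnit (eval₂Hom σ a (X i * X j)) := by
    rw [map_mul]; exact (isUnit_eval_X σ a hi).mul (isUnit_eval_X σ a hj)
  have key : ∀ (k l : Fin (n + 1)) (hk : IsUnit (a k)) (e : (X i * X j : MvPolynomial (Fin (n + 1)) R) = X k * X l),
      tuplePt σ a k hk = Spec.map (CommRingCat.ofHom (awayEval σ a (X i * X j) hij)) ≫
        Proj.awayι (polyGrading n R) (X i * X j) (SetLike.mul_mem_graded (X_mem n i) (X_mem n j))
          (Nat.add_pos_left one_pos 1) := by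
    intro k l hk e
    rw [← Proj.SpecMap_awayMap_awayι (polyGrading n R) (X_mem n k) one_pos (X_mem n l) e,
      ← Spec.map_comp_assoc, ← CommRingCat.ofHom_comp,
      awayEval_awayMap σ a (X_mem n l) e (isUnit_eval_X σ a hk) hij]
    rfl
  rw [key i j hi rfl, key j i hj (mul_comm _ _)]

lemma tuplePt_smul (c : B) (i j : Fin (n + 1)) (hi : IsUnit (c * a i)) (hj : IsUnit (a j)) :
    tuplePt σ (fun k => c * a k) i hi = tuplePt σ a j hj := by
  rw [tuplePt_chart_eq σ a j i hj (isUnit_of_mul_isUnit_right hi), tuplePt, tuplePt,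
    chartHom_smul σ a c i (isUnit_of_mul_isUnit_right hi) hi]

lemma tuplePt_congr {a b : Fin (n + 1) → B} (e : ∀ k, a k = b k) (i j : Fin (n + 1))
    (hi : IsUnit (a i)) (hj : IsUnit (b j)) : tuplePt σ a i hi = tuplePt σ b j hj := by
  obtain rfl := funext e
  exact tuplePt_chart_eq σ a i j hi hj

lemma SpecMap_tuplePt {C : CommRingCat.{u}} (g : B ⟶ C) (i : Fin (n + 1)) (hi : IsUnit (a i)) :
    Spec.map g ≫ tuplePt σ a i hi =
      tuplePt (g.hom.comp σ) (fun k => g.hom (a k)) i (hi.map g.hom) := by
  rw [tuplePt, tuplePt, ← Spec.map_comp_assoc]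
  congr 2
  ext : 1
  exact awayEval_comp g.hom σ a (X i) _ _

lemma tuplePt_toSpec (i : Fin (n + 1)) (hi : IsUnit (a i)) :
    tuplePt σ a i hi ≫ ProjSpace.toSpec n R = Spec.map (CommRingCat.ofHom σ) := by
  rw [tuplePt, ProjSpace.toSpec, Category.assoc]
  erw [Proj.awayι_toSpecZero_assoc]
  rw [← Spec.map_comp, ← Spec.map_comp, ← CommRingCat.ofHom_comp, ← CommRingCat.ofHom_comp]
  congr 2
  exact chartHom_comp_scalar σ a i hi

lemma tuplePt_preimage_basicOpen (i : Fin (n + 1)) (hi : IsUnit (a i))
    (p : MvPolynomial (Fin (n + 1)) R) {d : ℕ} (hp : p.IsHomogeneous d) (hd : 0 < d) :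
    tuplePt σ a i hi ⁻¹ᵁ Proj.basicOpen (polyGrading n R) p =
      PrimeSpectrum.basicOpen (eval₂Hom σ a p) := by
  have hp' : p ∈ polyGrading n R d := (mem_homogeneousSubmodule _ _).mpr hp
  rw [tuplePt, Scheme.Hom.comp_preimage]
  erw [Proj.awayι_preimage_basicOpen (polyGrading n R) (X_mem n i) one_pos hp' hd]
  refine (PrimeSpectrum.comap_basicOpen (chartHom σ a i hi) _).trans ?_
  have h := awayEval_mk σ a (X i) (isUnit_eval_X σ a hi) (X_mem n i) d (p ^ 1)
    (by simpa [pow_one] using hp')
  rw [eval₂Hom_X'] at h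
  have h' := h.trans (map_pow _ p 1 |>.trans (pow_one _))
  ext q
  show _ ∉ q.asIdeal ↔ _ ∉ q.asIdeal
  refine not_congr ?_
  rw [← h']
  constructor
  · exact fun hm => Ideal.mul_mem_right _ _ hm
  · intro hm
    refine (q.isPrime.mem_or_mem hm).resolve_right fun hq => ?_
    exact q.isPrime.ne_top (Ideal.eq_top_of_isUnit_mem _ hq (hi.pow d))

lemma tuplePt_preimage_X (i : Fin (n + 1)) (hi : IsUnit (a i)) (j : Fin (n + 1)) :
    tuplePt σ a i hi ⁻¹ᵁ Proj.basicOpen (polyGrading n R) (X j) = PrimeSpectrum.basicOpen (a j) := by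
  rw [tuplePt_preimage_basicOpen σ a i hi (X j) (isHomogeneous_X R j) one_pos, eval₂Hom_X']

lemma range_chart (i : Fin (n + 1)) :
    (chart n R i).opensRange = Proj.basicOpen (polyGrading n R) (X i) :=
  Proj.opensRange_awayι _ _ _ _

/-- Equal points have proportional coordinates. -/
lemma exists_smul_of_tuplePt_eq {τ : R →+* B} {b : Fin (n + 1) → B} (i j : Fin (n + 1))
    (hi : IsUnit (a i)) (hj : IsUnit (b j)) (e : tuplePt σ a i hi = tuplePt τ b j hj) :
    ∃ c : Bˣ, ∀ k, b k = (c : B) * a k := by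
  have haj : IsUnit (a j) := by
    have h1 := tuplePt_preimage_X σ a i hi j
    rw [e, tuplePt_preimage_X τ b j hj j, basicOpen_eq_top_of_isUnit hj] at h1
    exact isUnit_of_basicOpen_eq_top h1.symm
  rw [tuplePt_chart_eq σ a i j hi haj, tuplePt, tuplePt, cancel_mono] at e
  have e' : chartHom σ a j haj = chartHom τ b j hj := congrArg CommRingCat.Hom.hom (Spec.map_injective e)
  refine ⟨hj.unit * haj.unit⁻¹, fun k => ?_⟩
  rw [← chartHom_coord τ b j hj k, ← e']
  conv_rhs => rw [← chartHom_coord σ a j haj k]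
  rw [Units.val_mul, IsUnit.unit_spec]
  calc chartHom σ a j haj (coord j k) * b j
      = chartHom σ a j haj (coord j k) * (b j * (↑haj.unit⁻¹ * a j)) := by
        rw [IsUnit.val_inv_mul, mul_one]
    _ = _ := by ring

/-- A morphism with image in a chart is given by coordinates. -/
lemma exists_tuplePt (f : Spec B ⟶ ProjSpace n R) (i : Fin (n + 1))
    (hf : ∀ x, f x ∈ Proj.basicOpen (polyGrading n R) (X i)) :
    ∃ (τ : R →+* B) (b : Fin (n + 1) → B) (h : IsUnit (b i)), f = tuplePt τ b i h ∧ b i = 1 := by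
  have hr : Set.range f ⊆ Set.range (chart n R i) := by
    rintro _ ⟨y, rfl⟩
    have hx' := hf y
    rw [← range_chart] at hx'
    exact hx'
  let φ := Spec.preimage (IsOpenImmersion.lift (chart n R i) f hr)
  have hb : φ.hom (coord i i) = 1 := by rw [coord_self, map_one]
  refine ⟨φ.hom.comp (chartScalar n R i), fun j => φ.hom (coord i j), by simp only [hb, isUnit_one], ?_, hb⟩
  rw [tuplePt]
  conv_lhs => rw [← IsOpenImmersion.lift_fac (chart n R i) f hr]
  congr 1
  rw [← Spec.map_preimage (IsOpenImmersion.lift (chart n R i) f hr)]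
  congr 1
  ext : 1
  refine chart_ringHom_ext i ?_ fun j => ?_
  · rw [CommRingCat.hom_ofHom, chartHom_comp_scalar]
  · rw [CommRingCat.hom_ofHom]
    refine (Eq.trans ?_ (chartHom_coord (φ.hom.comp (chartScalar n R i)) (fun j => φ.hom (coord i j)) i
      (by simp only [hb, isUnit_one]) j)).symm
    simp only [hb, mul_one]

lemma iSup_chart : ⨆ i : Fin (n + 1), Proj.basicOpen (polyGrading n R) (X i) = ⊤ := by
  apply Proj.iSup_basicOpen_eq_top'
  · exact fun i => ⟨1, X_mem n i⟩
  · refine top_le_iff.mp fun p _ => ?_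
    induction p using MvPolynomial.induction_on with
    | C r =>
      exact Subalgebra.algebraMap_mem _ (⟨C r, (mem_homogeneousSubmodule _ _).mpr (isHomogeneous_C _ r)⟩ : polyGrading n R 0)
    | add p q hp hq => exact add_mem (hp trivial) (hq trivial)
    | mul_X p i hp => exact mul_mem (hp trivial) (Algebra.subset_adjoin ⟨i, rfl⟩)

/-- Gluing a morphism to projective space from coordinates on an affine open cover. -/
lemma exists_hom_of_tuples {T : Scheme.{u}} (𝒰 : T.AffineOpenCover)
    (σ : ∀ k, R →+* 𝒰.X k) (a : ∀ k, Fin (n + 1) → 𝒰.X k) (i : 𝒰.I₀ → Fin (n + 1))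
    (hu : ∀ k, IsUnit (a k (i k)))
    (hσ : ∀ (k l : 𝒰.I₀) (C : CommRingCat.{u}) (f : 𝒰.X k ⟶ C) (g : 𝒰.X l ⟶ C),
      Spec.map f ≫ 𝒰.f k = Spec.map g ≫ 𝒰.f l →
        f.hom.comp (σ k) = g.hom.comp (σ l) ∧ ∃ c : C, ∀ m, g.hom (a l m) = c * f.hom (a k m)) :
    ∃ φ : T ⟶ ProjSpace n R, ∀ k, 𝒰.f k ≫ φ = tuplePt (σ k) (a k) (i k) (hu k) := by
  refine ⟨𝒰.openCover.glueMorphisms (fun k => tuplePt (σ k) (a k) (i k) (hu k)) ?_,
    fun k => Scheme.Cover.ι_glueMorphisms 𝒰.openCover _ _ k⟩
  intro k l
  refine Scheme.Cover.hom_ext (pullback (𝒰.f k) (𝒰.f l)).affineOpenCover.openCover _ _ fun q => ?_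
  set C := (pullback (𝒰.f k) (𝒰.f l)).affineOpenCover.X q
  set w : Spec C ⟶ pullback (𝒰.f k) (𝒰.f l) := (pullback (𝒰.f k) (𝒰.f l)).affineOpenCover.f q
  show w ≫ pullback.fst (𝒰.f k) (𝒰.f l) ≫ _ = w ≫ pullback.snd (𝒰.f k) (𝒰.f l) ≫ _
  obtain ⟨f, hf⟩ := Spec.map_surjective (w ≫ pullback.fst (𝒰.f k) (𝒰.f l))
  obtain ⟨g, hg⟩ := Spec.map_surjective (w ≫ pullback.snd (𝒰.f k) (𝒰.f l))
  obtain ⟨hs, c, hc⟩ := hσ k l C f g (by rw [hf, hg, Category.assoc, Category.assoc, pullback.condition])
  rw [← Category.assoc, ← hf, ← Category.assoc, ← hg, SpecMap_tuplePt, SpecMap_tuplePt]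
  have h2 : IsUnit (c * f.hom (a k (i l))) := by rw [← hc]; exact (hu l).map g.hom
  rw [← tuplePt_smul (f.hom.comp (σ k)) (fun m => f.hom (a k m)) c (i l) (i k) h2 ((hu k).map f.hom)]
  simp only [hs]
  exact (tuplePt_congr _ hc (i l) (i l) _ _).symm

/-- The structure map on a chart. -/
lemma chart_toSpec (i : Fin (n + 1)) :
    chart n R i ≫ ProjSpace.toSpec n R = Spec.map (CommRingCat.ofHom (chartScalar n R i)) := by
  rw [ProjSpace.toSpec]
  erw [Proj.awayι_toSpecZero_assoc]
  rw [← Spec.map_comp, ← CommRingCat.ofHom_comp]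

/-- The coordinates of the chart itself. -/
lemma chartHom_universal {C : CommRingCat.{u}} (i : Fin (n + 1))
    (φ : Away (polyGrading n R) (X i : MvPolynomial (Fin (n + 1)) R) →+* C)
    (h : IsUnit (φ (coord i i))) :
    chartHom (φ.comp (chartScalar n R i)) (fun j => φ (coord i j)) i h = φ := by
  refine chart_ringHom_ext i (chartHom_comp_scalar _ _ i h) fun j => ?_
  refine Eq.trans ?_ (chartHom_coord (φ.comp (chartScalar n R i)) (fun j => φ (coord i j)) i h j)
  simp only [coord_self, map_one, mul_one]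

lemma toSpec_surjective (n : ℕ) (R : Type u) [CommRing R] :
    ∃ s : Spec (CommRingCat.of R) ⟶ ProjSpace n R, s ≫ ProjSpace.toSpec n R = 𝟙 _ :=
  ⟨tuplePt (B := CommRingCat.of R) (RingHom.id R) (fun _ => 1) 0 isUnit_one, by
    rw [tuplePt_toSpec]; exact Spec.map_id _⟩

lemma isIso_toSpec_zero (R : Type u) [CommRing R] : IsIso (ProjSpace.toSpec 0 R) := by
  have hs : Set.range (chart 0 R 0) = Set.univ := by
    refine Set.eq_univ_of_forall fun x => ?_
    have hx : x ∈ (⊤ : (ProjSpace 0 R).Opens) := trivial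
    obtain ⟨i, hi⟩ := TopologicalSpace.Opens.mem_iSup.mp (iSup_chart.ge hx)
    rw [(Fin.ext (by omega) : i = 0), ← range_chart] at hi
    exact hi
  haveI : IsIso (chart 0 R 0) := by
    haveI : Epi (chart 0 R 0).base := (TopCat.epi_iff_surjective _).mpr (Set.range_eq_univ.mp hs)
    exact IsOpenImmersion.isIso (chart 0 R 0)
  haveI : IsIso (chart 0 R 0 ≫ ProjSpace.toSpec 0 R) := by
    rw [chart_toSpec]
    have : IsIso (CommRingCat.ofHom (chartScalar 0 R 0)) := by
      rw [ConcreteCategory.isIso_iff_bijective]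
      refine ⟨fun r r' h => ?_, fun z => ?_⟩
      · have h1 := congrArg (chartHom (RingHom.id R) (fun _ => 1) (0 : Fin (0 + 1)) isUnit_one) h
        simp only [CommRingCat.hom_ofHom, chartScalar, RingHom.comp_apply, chartHom_algebraMap,
          RingHom.id_apply] at h1
        exact h1
      · obtain ⟨p, rfl⟩ := exists_eq_eval_coord 0 z
        refine ⟨eval₂Hom (RingHom.id R) (fun _ => 1) p, ?_⟩
        show chartScalar 0 R 0 _ = _
        rw [map_eval₂Hom]
        simp only [map_one]
        congr 1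
        congr 1
        funext j
        rw [(Fin.ext (by omega) : j = 0), coord_self]
    infer_instance
  exact IsIso.of_isIso_comp_left (chart 0 R 0) _

lemma chart_bijective (n : ℕ) (R : Type u) [CommRing R] (i : Fin (n + 1)) :
    Function.Bijective (eval₂Hom (chartScalar n R i) (fun j : {j : Fin (n + 1) // j ≠ i} =>
      coord (R := R) i j.1)) := by
  let b : Fin (n + 1) → MvPolynomial {j : Fin (n + 1) // j ≠ i} R :=
    fun j => if h : j = i then 1 else X ⟨j, h⟩
  have hb : IsUnit (b i) := by simp [b]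
  have hleft : (chartHom C b i hb).comp (eval₂Hom (chartScalar n R i)
      (fun j : {j : Fin (n + 1) // j ≠ i} => coord (R := R) i j.1)) = RingHom.id _ := by
    refine MvPolynomial.ringHom_ext (fun r => ?_) (fun j => ?_)
    · simp only [RingHom.comp_apply, eval₂Hom_C, RingHom.id_apply]
      exact chartHom_algebraMap C b i hb r
    · simp only [RingHom.comp_apply, eval₂Hom_X', RingHom.id_apply]
      have h := chartHom_coord C b i hb j.1
      simp only [b, dif_neg j.2, dite_true, mul_one] at h
      exact h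
  refine ⟨fun x y e => ?_, fun z => ?_⟩
  · have := congrArg (chartHom C b i hb) e
    rwa [← RingHom.comp_apply, ← RingHom.comp_apply, hleft] at this
  · obtain ⟨p, rfl⟩ := exists_eq_eval_coord i z
    refine ⟨eval₂Hom C b p, ?_⟩
    rw [map_eval₂Hom]
    congr 1
    · congr 1
      · exact RingHom.ext fun r => eval₂Hom_C _ _ r
      · funext j
        by_cases h : j = i
        · subst h; simp [b, coord_self]
        · simp [b, h]

end Groth.L18.PS
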