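import Groth.Agent.L18.ProjSpaceUP
import Groth.Agent.L21.Extend.Semilocal
import Mathlib.RingTheory.LocalProperties.Projective
import Mathlib.RingTheory.LocalRing.Module
import Mathlib.RingTheory.Localization.Finiteness

/-!
# Invertible modules on spectra and their generating sections
-/

set_option autoImplicit false
universe u

open CategoryTheory AlgebraicGeometry TopologicalSpace Opposite

noncomputable section

namespace Groth.L18.SpecLine

open Groth.L18.Frame

variable {R : CommRingCat.{u}}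

/-- A scalar as a global function. -/
abbrev gs (r : R) : Γ(Spec R, ⊤) := (Scheme.ΓSpecIso R).inv r

/-- Global sections as an `R`-module, as in `ProjUP.secKernel`. -/
@[reducible] def modΓ (M : (Spec R).Modules) : Module R (ProjUP.Γm M) :=
  Module.compHom _ (Scheme.ΓSpecIso R).inv.hom

attribute [local instance] modΓ

lemma smul_def (M : (Spec R).Modules) (r : R) (q : ProjUP.Γm M) :
    r • q = gs r • q := rfl

/-- Restriction to a basic open. -/
abbrev bo (h : R) : (Spec R).Opens := PrimeSpectrum.basicOpen h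

/-- `e` is a free generator of `Q` away from `h`. -/
def Gen {A : Type*} [CommRing A] {Q : Type*} [AddCommGroup Q] [Module A Q] (h : A) (e : Q) : Prop :=
  (∀ q : Q, ∃ (N : ℕ) (r : A), h ^ N • q = r • e) ∧ ∀ r : A, r • e = 0 → ∃ N : ℕ, h ^ N * r = 0

variable (M : (Spec R).Modules) [M.IsQuasicoherent]

lemma hloc : IsLocalizing (modulesSpecToSheaf.obj M) :=
  haveI : IsIso M.fromTildeΓ := Scheme.Modules.isIso_fromTildeΓ_of_isQuasicoherent M
  (isIso_fromTildeΓ_iff_isLocalizing M).mp inferInstance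

lemma surj (f : R) (t : Γ(M, bo f)) :
    ∃ (N : ℕ) (q : ProjUP.Γm M), rs M le_top q = ro (le_top : bo f ≤ ⊤) (gs (f ^ N)) • t := by
  obtain ⟨⟨q, ⟨_, N, rfl⟩⟩, hq⟩ := (hloc M f).surj
    (show (modulesSpecToSheaf.obj M).obj.obj (op (PrimeSpectrum.basicOpen f)) from t)
  exact ⟨N, q, hq.symm⟩

lemma eq_zero (f : R) (q : ProjUP.Γm M) (hq : rs M (le_top : bo f ≤ ⊤) q = 0) :
    ∃ N : ℕ, f ^ N • q = 0 := by
  obtain ⟨⟨_, N, rfl⟩, hN⟩ := (hloc M f).exists_of_eq
    (x₁ := (show (modulesSpecToSheaf.obj M).obj.obj (op ⊤) from q)) (x₂ := 0)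
    (hq.trans (map_zero _).symm)
  refine ⟨N, ?_⟩
  rw [smul_zero] at hN
  exact hN

omit [M.IsQuasicoherent] in
lemma rs_smul_r {f : R} (r : R) (q : ProjUP.Γm M) :
    rs M (le_top : bo f ≤ ⊤) (r • q) = ro (le_top : bo f ≤ ⊤) (gs r) • rs M le_top q :=
  rs_smul M _ _ _

lemma isUnit_ro {h g : R} (hgh : bo g ≤ bo h) : IsUnit (ro (le_top : bo g ≤ ⊤) (gs h)) := by
  have h1 : IsUnit (ro (le_top : bo h ≤ ⊤) (gs h)) := by
    have := IsLocalization.Away.algebraMap_isUnit (R := R)
      (S := Γ(Spec R, bo h)) h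
    exact this
  rw [show ro (le_top : bo g ≤ ⊤) (gs h) = ro hgh (ro le_top (gs h)) from (ro_ro _ _ _).symm]
  exact h1.map ((Spec R).presheaf.map (homOfLE hgh).op).hom

lemma scal_surj (g : R) (a : Γ(Spec R, bo g)) :
    ∃ (N : ℕ) (c : R), ro (le_top : bo g ≤ ⊤) (gs c) = ro le_top (gs g) ^ N * a := by
  obtain ⟨N, c, hc⟩ := IsLocalization.Away.surj (R := R)
    (S := Γ(Spec R, bo g)) g a
  exact ⟨N, c, hc.symm.trans (mul_comm _ _)⟩

lemma scal_zero (g : R) (c : R) (hc : ro (le_top : bo g ≤ ⊤) (gs c) = 0) : ∃ N : ℕ, g ^ N * c = 0 := by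
  obtain ⟨⟨_, N, rfl⟩, hN⟩ := (IsLocalization.eq_iff_exists (R := R) (Submonoid.powers g)
    Γ(Spec R, bo g)).mp
    ((show algebraMap R Γ(Spec R, bo g) c = _ from hc).trans
      (map_zero (algebraMap R Γ(Spec R, bo g))).symm)
  exact ⟨N, by simpa using hN⟩

/-- Frames over `D(h)` are free generators away from `h`. -/
theorem gen_of_frame {h : R} {e : ProjUP.Γm M} (he : IsFrame M (bo h) (rs M le_top e)) : Gen h e := by
  refine ⟨fun q => ?_, fun r hr => ?_⟩
  · obtain ⟨a, ha⟩ := he.exists_coeff le_rfl (rs M le_top q)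
    rw [rs_self] at ha
    obtain ⟨N, c, hc⟩ := scal_surj h a
    have h0 : rs M (le_top : bo h ≤ ⊤) (h ^ N • q - c • e) = 0 := by
      refine (map_sub _ _ _).trans (sub_eq_zero.mpr ?_)
      show rs M le_top (h ^ N • q) = rs M le_top (c • e)
      rw [rs_smul_r, rs_smul_r, hc, mul_smul, ha]
      simp only [gs, ro, map_pow]
    obtain ⟨K, hK⟩ := eq_zero M h _ h0
    refine ⟨K + N, h ^ K * c, ?_⟩
    rw [smul_sub, sub_eq_zero, smul_smul, smul_smul, ← pow_add] at hK
    exact hK
  · refine scal_zero h r (he.inj le_rfl ?_)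
    rw [rs_self, zero_smul, ← rs_smul_r, hr]
    exact map_zero _

/-- Frames can be checked on basic opens. -/
theorem isFrame_of_basic {X : Scheme.{u}} {N : X.Modules} {W : X.Opens} {e : Γ(N, W)}
    {ι : Type*} (B : ι → X.Opens) (hB : Opens.IsBasis (Set.range B))
    (h : ∀ (i : ι) (hi : B i ≤ W), Function.Bijective fun a : Γ(X, B i) => a • rs N hi e) :
    IsFrame N W e := by
  intro V hV
  let J := {i : ι // B i ≤ V}
  have hc : V ≤ ⨆ j : J, B j.1 := fun x hx => by
    obtain ⟨_, ⟨_, ⟨i, rfl⟩, rfl⟩, hxi, hiV⟩ := hB.exists_subset_of_mem_open hx V.isOpen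
    exact Opens.mem_iSup.mpr ⟨⟨i, hiV⟩, hxi⟩
  let OX : TopCat.Sheaf CommRingCat.{u} X.toTopCat := X.sheaf
  refine ⟨fun a b hab => ?_, fun t => ?_⟩
  · refine OX.eq_of_locally_eq' (fun j : J => B j.1) V (fun j => homOfLE j.2) hc a b fun j => ?_
    show ro j.2 a = ro j.2 b
    apply (h j.1 (j.2.trans hV)).1
    have := congrArg (rs N j.2) hab
    simp only [rs_smul, rs_rs] at this
    exact this
  · choose a ha using fun j : J => (h j.1 (j.2.trans hV)).2 (rs N j.2 t)
    obtain ⟨s, hs, -⟩ := OX.existsUnique_gluing' (fun j : J => B j.1) V (fun j => homOfLE j.2) hc a fun k l => by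
      show ro inf_le_left (a k) = ro inf_le_right (a l)
      refine OX.eq_of_locally_eq' (fun i : {i : ι // B i ≤ B k.1 ⊓ B l.1} => B i.1) (B k.1 ⊓ B l.1)
        (fun i => homOfLE i.2) (fun x hx => ?_) _ _ fun i => ?_
      · obtain ⟨_, ⟨_, ⟨i, rfl⟩, rfl⟩, hxi, hi⟩ := hB.exists_subset_of_mem_open hx (B k.1 ⊓ B l.1).isOpen
        exact Opens.mem_iSup.mpr ⟨⟨i, hi⟩, hxi⟩
      · show ro i.2 (ro inf_le_left (a k)) = ro i.2 (ro inf_le_right (a l))
        apply (h i.1 ((i.2.trans inf_le_left).trans (k.2.trans hV))).1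
        have hk := congrArg (rs N (i.2.trans inf_le_left)) (ha k)
        have hl := congrArg (rs N (i.2.trans inf_le_right)) (ha l)
        simp only [rs_smul, rs_rs, ro_ro] at hk hl ⊢
        exact hk.trans hl.symm
    refine ⟨s, ?_⟩
    let OM : TopCat.Sheaf Ab.{u} X.toTopCat := ⟨N.presheaf, N.isSheaf⟩
    refine OM.eq_of_locally_eq' (fun j : J => B j.1) V (fun j => homOfLE j.2) hc _ t fun j => ?_
    show rs N j.2 ((show Γ(X, V) from s) • rs N hV e) = rs N j.2 t
    rw [rs_smul, rs_rs, show ro j.2 s = a j from hs j]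
    exact ha j

/-- Free generators away from `h` are frames over `D(h)`. -/
theorem frame_of_gen {h : R} {e : ProjUP.Γm M} (he : Gen h e) : IsFrame M (bo h) (rs M le_top e) := by
  refine isFrame_of_basic (fun g : R => bo g) PrimeSpectrum.isBasis_basic_opens fun g hg => ?_
  have hu := isUnit_ro hg
  rw [show (fun a : Γ(Spec R, bo g) => a • rs M hg (rs M le_top e)) =
    fun a => a • rs M (le_top : bo g ≤ ⊤) e by simp only [rs_rs]]
  have hug := isUnit_ro (R := R) (le_refl (bo g))
  refine ⟨fun a b hab => ?_, fun t => ?_⟩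
  · obtain ⟨N, c, hc⟩ := scal_surj g (a - b)
    have h0 : rs M (le_top : bo g ≤ ⊤) (c • e) = 0 := by
      rw [rs_smul_r, hc, mul_smul, sub_smul, sub_eq_zero.mpr hab, smul_zero]
    obtain ⟨K, hK⟩ := eq_zero M g _ h0
    rw [smul_smul] at hK
    obtain ⟨L, hL⟩ := he.2 _ hK
    have h1 := congrArg (fun x => ro (le_top : bo g ≤ ⊤) (gs x)) hL
    simp only [gs, ro, map_mul, map_pow, map_zero] at h1
    rw [(hu.pow L).mul_right_eq_zero, (hug.pow K).mul_right_eq_zero] at h1
    have h2 := hc.symm.trans h1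
    rw [(hug.pow N).mul_right_eq_zero] at h2
    exact sub_eq_zero.mp h2
  · obtain ⟨N, q, hq⟩ := surj M g t
    obtain ⟨L, r, hr⟩ := he.1 q
    have h1 := congrArg (rs M (le_top : bo g ≤ ⊤)) hr
    rw [rs_smul_r, rs_smul_r, hq, smul_smul] at h1
    have hv : IsUnit (ro (le_top : bo g ≤ ⊤) (gs (h ^ L)) * ro (le_top : bo g ≤ ⊤) (gs (g ^ N))) := by
      simp only [gs, ro, map_pow]
      exact (hu.pow L).mul (hug.pow N)
    refine ⟨(↑hv.unit⁻¹ : Γ(Spec R, bo g)) * ro (le_top : bo g ≤ ⊤) (gs r), ?_⟩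
    show _ • rs M _ e = t
    rw [mul_smul, ← h1, ← mul_smul, IsUnit.val_inv_mul, one_smul]

section Algebra

variable (A : Type u) [CommRing A] {Q : Type u} [AddCommGroup Q] [Module A Q] {ι : Type} [Fintype ι]
  (s : ι → Q)

/-- The `s i` make `Q` locally free of rank one. -/
def Loc1 : Prop := ∀ p : PrimeSpectrum A, ∃ (i : ι) (h : A), h ∉ p.asIdeal ∧ Gen h (s i)

variable {A s}

lemma Loc1.exists_finset (hs : Loc1 A s) :
    ∃ t : Finset A, Ideal.span (t : Set A) = ⊤ ∧ ∀ h ∈ t, ∃ i, Gen h (s i) := by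
  have htop : Ideal.span {h : A | ∃ i, Gen h (s i)} = ⊤ := by
    by_contra hne
    obtain ⟨m, hm, hle⟩ := Ideal.exists_le_maximal _ hne
    obtain ⟨i, h, hh, hg⟩ := hs ⟨m, hm.isPrime⟩
    exact hh (hle (Ideal.subset_span ⟨i, hg⟩))
  obtain ⟨t, ht, h1⟩ := Submodule.mem_span_finite_of_mem_span ((Ideal.eq_top_iff_one _).mp htop)
  exact ⟨t, (Ideal.eq_top_iff_one _).mpr h1, fun h hh => ht hh⟩

lemma eq_top_of_pow_mem {I : Ideal A} {t : Set A} (ht : Ideal.span t = ⊤)
    (h : ∀ x ∈ t, ∃ N : ℕ, x ^ N ∈ I) : I = ⊤ :=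
  Ideal.radical_eq_top.mp (top_le_iff.mp (ht ▸ Ideal.span_le.mpr h))

lemma Loc1.surjective (hs : Loc1 A s) : Function.Surjective (Fintype.linearCombination A s) := by
  rw [← LinearMap.range_eq_top, eq_top_iff]
  intro q _
  let I : Ideal A := Submodule.comap (LinearMap.toSpanSingleton A Q q) (LinearMap.range (Fintype.linearCombination A s))
  obtain ⟨t, ht, hg⟩ := hs.exists_finset
  have : I = ⊤ := eq_top_of_pow_mem ht fun h hh => by
    classical
    obtain ⟨i, hi⟩ := hg h hh
    obtain ⟨N, r, hr⟩ := hi.1 q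
    exact ⟨N, Pi.single i r, by rw [Fintype.linearCombination_apply_single]; exact hr.symm⟩
  have h1 := (Ideal.eq_top_iff_one I).mp this
  simpa [I] using h1

lemma Loc1.fg_ker (hs : Loc1 A s) : (LinearMap.ker (Fintype.linearCombination A s)).FG := by
  classical
  obtain ⟨t, ht, hg⟩ := hs.exists_finset
  choose i hi using hg
  choose N c hc using fun (h : t) (j : ι) => (hi h.1 h.2).1 (s j)
  let κ : t × ι → (ι → A) := fun x => Pi.single x.2 (x.1.1 ^ N x.1 x.2) - Pi.single (i x.1.1 x.1.2) (c x.1 x.2)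
  have hκ : ∀ x, Fintype.linearCombination A s (κ x) = 0 := fun x => by
    simp only [κ, map_sub, Fintype.linearCombination_apply_single, hc, sub_self]
  refine ⟨(Finset.univ.image κ), le_antisymm (Submodule.span_le.mpr ?_) fun x hx => ?_⟩
  · simp only [Finset.coe_image, Finset.coe_univ, Set.image_univ]
    rintro _ ⟨x, rfl⟩; exact hκ x
  · let K : Submodule A (ι → A) := Submodule.span A ↑(Finset.univ.image κ)
    let I : Ideal A := Submodule.comap (LinearMap.toSpanSingleton A _ x) K
    have : I = ⊤ := eq_top_of_pow_mem ht fun h hh => by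
      let T := Finset.univ.sum (N ⟨h, hh⟩)
      let C : A := ∑ j, x j * h ^ (T - N ⟨h, hh⟩ j) * c ⟨h, hh⟩ j
      have hsum : h ^ T • x = (∑ j, (x j * h ^ (T - N ⟨h, hh⟩ j)) • κ (⟨h, hh⟩, j)) + Pi.single (i h hh) C := by
        funext k
        simp only [Pi.smul_apply, smul_eq_mul, Pi.add_apply, Finset.sum_apply, κ, Pi.sub_apply, mul_sub,
          Finset.sum_sub_distrib, Pi.single_apply, mul_ite, mul_zero, Finset.sum_ite_eq, Finset.mem_univ, if_true]
        rw [mul_assoc, pow_sub_mul_pow h (Finset.single_le_sum (fun _ _ => Nat.zero_le _) (Finset.mem_univ k))]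
        split_ifs with hk
        · simp only [C]; ring
        · simp [T, mul_comm]
      have hC : C • s (i h hh) = 0 := by
        have h1 := congrArg (Fintype.linearCombination A s) hsum
        rw [map_smul, show Fintype.linearCombination A s x = 0 from hx, smul_zero, map_add, map_sum,
          Finset.sum_eq_zero (fun j _ => by rw [map_smul, hκ, smul_zero]), zero_add,
          Fintype.linearCombination_apply_single] at h1
        exact h1.symm
      obtain ⟨M, hM⟩ := (hi h hh).2 C hC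
      refine ⟨M + T, ?_⟩
      show h ^ (M + T) • x ∈ K
      rw [pow_add, mul_smul, hsum, smul_add,
        show h ^ M • (Pi.single (i h hh) C : ι → A) = 0 by rw [← Pi.single_smul]; simp [hM], add_zero]
      exact Submodule.smul_mem _ _ (Submodule.sum_mem _ fun j _ => Submodule.smul_mem _ _
        (Submodule.subset_span (by simp)))
    have h1 : (1 : A) • x ∈ K := (Ideal.eq_top_iff_one I).mp this
    rwa [one_smul] at h1

lemma Loc1.localEquiv (hs : Loc1 A s) (P : PrimeSpectrum A) :
    Nonempty (Localization.AtPrime P.asIdeal ≃ₗ[Localization.AtPrime P.asIdeal]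
      LocalizedModule P.asIdeal.primeCompl Q) := by
  obtain ⟨i, h, hh, hg⟩ := hs P
  have hpow : ∀ N, h ^ N ∈ P.asIdeal.primeCompl := fun N hN => hh (P.isPrime.mem_of_pow_mem _ hN)
  refine ⟨LinearEquiv.ofBijective (LinearMap.toSpanSingleton _ _ (LocalizedModule.mk (s i) 1)) ⟨?_, ?_⟩⟩
  · rw [← LinearMap.ker_eq_bot, LinearMap.ker_eq_bot']
    intro a ha
    induction a using Localization.induction_on with | _ y => ?_
    obtain ⟨r, t⟩ := y
    rw [LinearMap.toSpanSingleton_apply, LocalizedModule.mk_smul_mk, mul_one, ← LocalizedModule.zero_mk (1 : P.asIdeal.primeCompl), LocalizedModule.mk_eq] at ha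
    obtain ⟨⟨v, hv⟩, hvr⟩ := ha
    simp only [one_smul, smul_zero, Submonoid.mk_smul, smul_smul] at hvr
    obtain ⟨N, hN⟩ := hg.2 _ hvr
    rw [Localization.mk_eq_mk', IsLocalization.mk'_eq_zero_iff]
    exact ⟨⟨_, mul_mem (hpow N) hv⟩, by simpa [mul_assoc] using hN⟩
  · intro y
    induction y using LocalizedModule.induction_on with | _ q t => ?_
    obtain ⟨N, r, hr⟩ := hg.1 q
    refine ⟨Localization.mk r (⟨_, hpow N⟩ * t), ?_⟩
    rw [LinearMap.toSpanSingleton_apply, LocalizedModule.mk_smul_mk, mul_one, LocalizedModule.mk_eq]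
    refine ⟨1, ?_⟩
    simp only [one_smul, ← hr, Submonoid.smul_def, Submonoid.coe_mul, smul_smul, mul_comm]

theorem Loc1.projective (hs : Loc1 A s) : Module.Projective A Q := by
  haveI : Module.FinitePresentation A Q :=
    Module.finitePresentation_of_surjective _ hs.surjective hs.fg_ker
  refine Module.projective_of_localization_maximal fun I hI => ?_
  obtain ⟨e⟩ := hs.localEquiv ⟨I, hI.isPrime⟩
  exact Module.Projective.of_equiv e

theorem Loc1.finrank_eq (hs : Loc1 A s) (P : PrimeSpectrum A) :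
    Module.finrank (Localization.AtPrime P.asIdeal) (LocalizedModule P.asIdeal.primeCompl Q) = 1 := by
  obtain ⟨e⟩ := hs.localEquiv P
  rw [← e.finrank_eq, Module.finrank_self]

theorem loc1_of_projective [Module.Projective A Q] (hsurj : Function.Surjective (Fintype.linearCombination A s))
    (hrank : ∀ P : PrimeSpectrum A, Module.finrank (Localization.AtPrime P.asIdeal)
      (LocalizedModule P.asIdeal.primeCompl Q) = 1) : Loc1 A s := by
  classical
  haveI : Module.Finite A Q := Module.Finite.of_surjective _ hsurj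
  intro P
  let B := Localization.AtPrime P.asIdeal
  let L := LocalizedModule P.asIdeal.primeCompl Q
  let l := LocalizedModule.mkLinearMap P.asIdeal.primeCompl Q
  haveI : Module.Finite B L := Module.Finite.of_isLocalizedModule P.asIdeal.primeCompl l
  haveI : Module.Projective B L := inferInstanceAs (Module.Projective (Localization _) (LocalizedModule _ Q))
  haveI : Module.Free B L := Module.free_of_flat_of_isLocalRing
  obtain ⟨φ⟩ := FiniteDimensional.nonempty_linearEquiv_of_finrank_eq (R := B) (M := L) (M' := B)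
    (by rw [hrank P, Module.finrank_self])
  let z : ι → B := fun k => φ (l (s k))
  obtain ⟨σ, hσ⟩ := Module.projective_lifting_property (Fintype.linearCombination A s) LinearMap.id hsurj
  have hexp : ∀ q, φ (l q) = ∑ k, algebraMap A B (σ q k) * z k := fun q => by
    conv_lhs => rw [show q = Fintype.linearCombination A s (σ q) from (congr($hσ q)).symm, Fintype.linearCombination_apply]
    simp only [map_sum, map_smul]
    exact Finset.sum_congr rfl fun k _ => (φ.toLinearMap.map_smul_of_tower _ _).trans (Algebra.smul_def _ _)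
  obtain ⟨j, hj⟩ : ∃ j, IsUnit (z j) := by
    by_contra hne
    push Not at hne
    obtain ⟨y, hy⟩ := φ.surjective 1
    induction y using LocalizedModule.induction_on with | _ q t => ?_
    have hmem : φ (l q) ∈ IsLocalRing.maximalIdeal B := by
      rw [hexp]; exact Ideal.sum_mem _ fun k _ => Ideal.mul_mem_left _ _ (hne k)
    have h1 : φ (l q) = algebraMap A B t * 1 := by
      rw [← hy, ← Algebra.smul_def]
      refine Eq.trans ?_ (φ.toLinearMap.map_smul_of_tower t.1 _)
      show φ _ = φ _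
      congr 1
      show LocalizedModule.mk q 1 = _
      rw [LocalizedModule.smul'_mk, LocalizedModule.mk_eq]
      exact ⟨1, by simp [Submonoid.smul_def]⟩
    rw [mul_one] at h1
    exact hmem (h1 ▸ IsLocalization.map_units B t)
  have hex : ∀ k, ∃ t : A, t ∉ P.asIdeal ∧ ∃ r, t • s k = r • s j := fun k => by
    obtain ⟨r, t, hrt⟩ := IsLocalization.exists_mk'_eq P.asIdeal.primeCompl (z k * ↑hj.unit⁻¹)
    have h1 : l (t.1 • s k) = l (r • s j) := by
      apply φ.injective
      rw [map_smul l, map_smul l]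
      refine (φ.toLinearMap.map_smul_of_tower t.1 _).trans (Eq.trans ?_ (φ.toLinearMap.map_smul_of_tower r _).symm)
      show t.1 • z k = r • z j
      have h2 := IsLocalization.mk'_spec B r t
      rw [hrt] at h2
      rw [Algebra.smul_def, Algebra.smul_def, ← h2]
      calc algebraMap A B t.1 * z k = algebraMap A B t.1 * z k * (↑hj.unit⁻¹ * z j) := by
            rw [IsUnit.val_inv_mul, mul_one]
        _ = _ := by ring
    obtain ⟨u, hu⟩ := (IsLocalizedModule.eq_iff_exists P.asIdeal.primeCompl l).mp h1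
    refine ⟨u.1 * t.1, mul_mem u.2 t.2, u.1 * r, ?_⟩
    rw [mul_smul, mul_smul]; exact hu
  choose t ht r hr using hex
  obtain ⟨k₀, hk₀⟩ : ∃ k, σ (s j) k ∉ P.asIdeal := by
    by_contra hne
    push Not at hne
    refine (IsLocalRing.mem_maximalIdeal _).mp ?_ hj
    show φ (l (s j)) ∈ IsLocalRing.maximalIdeal B
    rw [hexp]
    exact Ideal.sum_mem _ fun k _ => Ideal.mul_mem_right _ _
      ((IsLocalization.AtPrime.to_map_mem_maximal_iff B P.asIdeal _).mpr (hne k))
  refine ⟨j, (∏ k, t k) * σ (s j) k₀, fun hm => ?_, fun q => ?_, fun c hc => ?_⟩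
  · rcases P.isPrime.mem_or_mem hm with h | h
    · obtain ⟨k, -, hk⟩ := P.isPrime.prod_mem_iff.mp h
      exact ht k hk
    · exact hk₀ h
  · refine ⟨1, σ (s j) k₀ * ∑ k, σ q k * ((∏ i ∈ Finset.univ.erase k, t i) * r k), ?_⟩
    rw [pow_one, mul_comm, mul_smul, mul_smul]
    congr 1
    conv_lhs => rw [show q = Fintype.linearCombination A s (σ q) from (congr($hσ q)).symm, Fintype.linearCombination_apply]
    rw [Finset.smul_sum, Finset.sum_smul]
    refine Finset.sum_congr rfl fun k _ => ?_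
    rw [← Finset.prod_erase_mul _ _ (Finset.mem_univ k), smul_smul,
      show ((∏ x ∈ Finset.univ.erase k, t x) * t k) * σ q k = σ q k * (∏ x ∈ Finset.univ.erase k, t x) * t k by ring,
      mul_smul, hr k, smul_smul, mul_assoc]
  · refine ⟨1, ?_⟩
    have h0 : c * σ (s j) k₀ = 0 := by
      have h1 := congr(σ $hc k₀)
      rwa [map_smul, map_zero, Pi.smul_apply, smul_eq_mul] at h1
    rw [pow_one, mul_assoc, mul_comm _ c, h0, mul_zero]

end Algebra

section Line

variable {ι : Type} [Fintype ι]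

theorem isInvertible_of_frames {X : Scheme.{u}} {N : X.Modules}
    (h : ∀ x : X, ∃ (W : X.Opens) (e : Γ(N, W)), x ∈ W ∧ IsFrame N W e) : PicF.IsInvertible N := fun x => by
  obtain ⟨W, e, hx, he⟩ := h x
  exact ⟨W, hx, Groth.L21.Extend.exists_iso_of_isGen N (e := e) he⟩

omit [Fintype ι] in
theorem generatedBy_of_frames {X : Scheme.{u}} {N : X.Modules} (s : ι → ProjUP.Γm N)
    (h : ∀ x : X, ∃ (W : X.Opens) (i : ι), x ∈ W ∧ IsFrame N W (rs N le_top (s i))) :
    ProjUP.GeneratedBy N s := fun x => by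
  obtain ⟨W, i, hx, he⟩ := h x
  refine eq_top_iff.mpr fun t _ => ?_
  obtain ⟨V, hxV, m, rfl⟩ := N.presheaf.exists_germ_eq t
  have hxVW : x ∈ V ⊓ W := ⟨hxV, hx⟩
  obtain ⟨a, ha⟩ := he.exists_coeff (inf_le_right : V ⊓ W ≤ W) (rs N inf_le_left m)
  rw [rs_rs] at ha
  have h1 : N.presheaf.germ V x hxV m = X.presheaf.germ (V ⊓ W) x hxVW a • N.presheaf.germ ⊤ x trivial (s i) := by
    rw [← show N.presheaf.germ (V ⊓ W) x hxVW (rs N inf_le_left m) = N.presheaf.germ V x hxV m from
      TopCat.Presheaf.germ_res_apply _ _ _ _ _, ← ha]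
    refine (PresheafOfModules.germ_smul (R := X.presheaf)
      (show PresheafOfModules (X.presheaf ⋙ forget₂ CommRingCat RingCat) from N.val) x (V ⊓ W) hxVW a _).trans ?_
    congr 1
    exact TopCat.Presheaf.germ_res_apply _ _ _ _ _
  exact h1 ▸ Submodule.smul_mem _ _ (Submodule.subset_span ⟨i, rfl⟩)

omit [Fintype ι] [M.IsQuasicoherent] in
theorem isQCoh {L : (Spec R).Modules} (hL : PicF.IsInvertible L) : L.IsQuasicoherent :=
  Groth.L21.Extend.isQCoh_of_isInvertible hL

omit [Fintype ι] in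
theorem loc1_of_generated {L : (Spec R).Modules} (hL : PicF.IsInvertible L) (s : ι → ProjUP.Γm L)
    (hs : ProjUP.GeneratedBy L s) : Loc1 R s := by
  haveI := isQCoh hL
  intro p
  obtain ⟨W, i, -, hpW, hf⟩ := exists_frame_of_generated hL s hs p
  obtain ⟨_, ⟨h, rfl⟩, hph, hsub⟩ :=
    PrimeSpectrum.isTopologicalBasis_basic_opens.exists_subset_of_mem_open hpW W.isOpen
  have hle : bo (R := R) h ≤ W := hsub
  refine ⟨i, h, hph, gen_of_frame L ?_⟩
  have := hf.mono hle
  rwa [rs_rs] at this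

omit [Fintype ι] in
theorem frames_of_loc1 {s : ι → ProjUP.Γm M} (hs : Loc1 R s) (x : Spec R) :
    ∃ (W : (Spec R).Opens) (i : ι), x ∈ W ∧ IsFrame M W (rs M le_top (s i)) := by
  obtain ⟨i, h, hh, hg⟩ := hs x
  exact ⟨bo h, i, hh, frame_of_gen M hg⟩

end Line

end Groth.L18.SpecLine

namespace Groth.L18.PUP

open Groth.L18.Frame Groth.L18.PS MvPolynomial

variable {n : ℕ} {R : Type u} [CommRing R] {Z : Scheme.{u}} (r : Z ⟶ P n R)

theorem rT_cover (z : Z) : ∃ (W : Z.Opens) (i : Fin (n + 1)), z ∈ W ∧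
    IsFrame ((Scheme.Modules.pullback r).obj (O1 n R)) W (rs _ le_top (rT r i)) := by
  obtain ⟨i, hi⟩ := Opens.mem_iSup.mp ((iSup_chart (n := n) (R := R)).ge (trivial : r.base z ∈ ⊤))
  exact ⟨r ⁻¹ᵁ D i, i, hi, rT_frame r i⟩

theorem isInvertible_pullback : PicF.IsInvertible ((Scheme.Modules.pullback r).obj (O1 n R)) :=
  Groth.L18.SpecLine.isInvertible_of_frames fun z => by
    obtain ⟨W, i, hz, he⟩ := rT_cover r z; exact ⟨W, _, hz, he⟩

theorem generatedBy_rT : ProjUP.GeneratedBy ((Scheme.Modules.pullback r).obj (O1 n R)) (rT r) :=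
  Groth.L18.SpecLine.generatedBy_of_frames _ (rT_cover r)

attribute [local instance] Groth.L18.SpecLine.modΓ

/-- `modΓ` over a ring given as a type. -/
@[reducible] def modΓ' {S : Type u} [CommRing S] (M : (Spec (CommRingCat.of S)).Modules) :
    Module S (ProjUP.Γm M) := Groth.L18.SpecLine.modΓ (R := CommRingCat.of S) M

attribute [local instance] modΓ'

/-- A point of projective space as a morphism to `Proj`. -/
abbrev toP (s : Z ⟶ CohB1.ProjSpace n R) : Z ⟶ P n R := s

theorem secKernel_eq (s : Spec (CommRingCat.of R) ⟶ CohB1.ProjSpace n R) :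
    ProjUP.secKernel n R s = LinearMap.ker (Fintype.linearCombination R
      (M := ProjUP.Γm ((Scheme.Modules.pullback (toP s)).obj (O1 n R)))
      (rT (toP s))) := rfl

theorem loc1_rT (s : Spec (CommRingCat.of R) ⟶ P n R) :
    Groth.L18.SpecLine.Loc1 R (Q := ProjUP.Γm ((Scheme.Modules.pullback s).obj (O1 n R))) (rT s) :=
  Groth.L18.SpecLine.loc1_of_generated (R := CommRingCat.of R) (isInvertible_pullback s) (rT s) (generatedBy_rT s)

open Groth.L18.SpecLine in
theorem exists_iso_of_ker_eq {ι : Type} [Fintype ι] {S : CommRingCat.{u}} {L L' : (Spec S).Modules}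
    [L.IsQuasicoherent] [L'.IsQuasicoherent] {s : ι → ProjUP.Γm L} {s' : ι → ProjUP.Γm L'}
    (h1 : Loc1 S s) (h2 : Loc1 S s')
    (hker : LinearMap.ker (Fintype.linearCombination S s) = LinearMap.ker (Fintype.linearCombination S s')) :
    ∃ τ : L ≅ L', ∀ j, τ.hom.app ⊤ (s j) = s' j := by
  classical
  let e : ProjUP.Γm L ≃ₗ[S] ProjUP.Γm L' :=
    (LinearMap.quotKerEquivOfSurjective _ h1.surjective).symm ≪≫ₗ Submodule.quotEquivOfEq _ _ hker ≪≫ₗ
      LinearMap.quotKerEquivOfSurjective _ h2.surjective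
  have he : ∀ j, e (s j) = s' j := fun j => by
    have hs : ∀ {L : (Spec S).Modules} (t : ι → ProjUP.Γm L), Fintype.linearCombination S t (Pi.single j 1) = t j :=
      fun t => by rw [Fintype.linearCombination_apply_single, one_smul]
    rw [← hs s, ← hs s']
    simp only [e, LinearEquiv.trans_apply]
    rw [show (LinearMap.quotKerEquivOfSurjective _ h1.surjective).symm
        (Fintype.linearCombination S s (Pi.single j 1)) = Submodule.Quotient.mk (Pi.single j 1) from
      (LinearEquiv.symm_apply_eq _).mpr rfl, Submodule.quotEquivOfEq_mk]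
    rfl
  have h1' := h1
  choose i h hh hg using h1'
  have hg' : ∀ p, Gen (h p) (s' (i p)) := fun p => by
    refine ⟨fun q => ?_, fun r hr => (hg p).2 r (e.injective (by rw [map_smul, he, hr, map_zero]))⟩
    obtain ⟨N, r, hr⟩ := (hg p).1 (e.symm q)
    exact ⟨N, r, by simpa [he] using congrArg e hr⟩
  refine exists_iso (W := fun p : PrimeSpectrum S => bo (h p)) (ix := i) (fun z => ⟨z, hh z⟩)
    (fun p => frame_of_gen L (hg p)) (fun p => frame_of_gen L' (hg' p)) fun p j => ?_
  obtain ⟨N, c, hc⟩ := (hg p).1 (s j)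
  have hc' : h p ^ N • s' j = c • s' (i p) := by simpa [he] using congrArg e hc
  have hu : IsUnit (ro (le_top : bo (h p) ≤ ⊤) (gs (h p ^ N))) := by
    simp only [gs, ro, map_pow]; exact (isUnit_ro (le_refl (bo (h p)))).pow N
  refine ⟨(↑hu.unit⁻¹ : Γ(Spec S, bo (h p))) * ro (le_top : bo (h p) ≤ ⊤) (gs c), ?_, ?_⟩
  · rw [mul_smul, ← rs_smul_r, ← hc, rs_smul_r, ← mul_smul, IsUnit.val_inv_mul, one_smul]
  · rw [mul_smul, ← rs_smul_r, ← hc', rs_smul_r, ← mul_smul, IsUnit.val_inv_mul, one_smul]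

theorem section_ext {S : Type u} [CommRing S] (s₁ s₂ : Spec (CommRingCat.of S) ⟶ CohB1.ProjSpace n S)
    (h₁ : s₁ ≫ CohB1.ProjSpace.toSpec n S = 𝟙 _) (h₂ : s₂ ≫ CohB1.ProjSpace.toSpec n S = 𝟙 _)
    (h : ProjUP.secKernel n S s₁ = ProjUP.secKernel n S s₂) : s₁ = s₂ := by
  rw [secKernel_eq, secKernel_eq] at h
  haveI := Groth.L18.SpecLine.isQCoh (R := CommRingCat.of S) (isInvertible_pullback (toP s₁))
  haveI := Groth.L18.SpecLine.isQCoh (R := CommRingCat.of S) (isInvertible_pullback (toP s₂))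
  obtain ⟨τ, hτ⟩ := exists_iso_of_ker_eq (S := CommRingCat.of S) (loc1_rT (toP s₁)) (loc1_rT (toP s₂)) h
  exact hom_ext (toP s₁) (toP s₂) (h₁.trans h₂.symm) τ hτ

theorem exists_section_iff (F : Submodule R (Fin (n + 1) → R)) :
    (∃ s : Spec (CommRingCat.of R) ⟶ CohB1.ProjSpace n R,
        s ≫ CohB1.ProjSpace.toSpec n R = 𝟙 _ ∧ ProjUP.secKernel n R s = F) ↔
      (Module.Projective R ((Fin (n + 1) → R) ⧸ F) ∧
        ∀ p : PrimeSpectrum R, Module.finrank (Localization.AtPrime p.asIdeal)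
          (LocalizedModule p.asIdeal.primeCompl ((Fin (n + 1) → R) ⧸ F)) = 1) := by
  classical
  constructor
  · rintro ⟨s, -, rfl⟩
    let e : ((Fin (n + 1) → R) ⧸ ProjUP.secKernel n R s) ≃ₗ[R] _ :=
      (Submodule.quotEquivOfEq _ _ (secKernel_eq s)).trans
        (LinearMap.quotKerEquivOfSurjective _ (loc1_rT (toP s)).surjective)
    haveI := (loc1_rT (toP s)).projective
    refine ⟨Module.Projective.of_equiv e.symm, fun p => ?_⟩
    refine Eq.trans ?_ ((loc1_rT (toP s)).finrank_eq p)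
    exact (IsLocalizedModule.mapEquiv p.asIdeal.primeCompl (LocalizedModule.mkLinearMap _ _)
      (LocalizedModule.mkLinearMap _ _) (Localization.AtPrime p.asIdeal) e).finrank_eq
  · rintro ⟨hproj, hrank⟩
    let Q : ModuleCat.{u} (CommRingCat.of R : CommRingCat.{u}) := ModuleCat.of R ((Fin (n + 1) → R) ⧸ F)
    let L : (Spec (CommRingCat.of R)).Modules := tilde Q
    let t : ((Fin (n + 1) → R) ⧸ F) →ₗ[R] ProjUP.Γm L :=
      { toFun := fun q => tilde.toOpen Q ⊤ q
        map_add' := fun a b => map_add (tilde.toOpen Q ⊤).hom a b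
        map_smul' := fun a b => by
          refine ((tilde.toOpen Q ⊤).hom.map_smul a b).trans ?_
          change ro (le_refl (⊤ : (Spec (CommRingCat.of R)).Opens)) (Groth.L18.SpecLine.gs (R := CommRingCat.of R) a) •
              (show Γ(L, ⊤) from tilde.toOpen Q ⊤ b) =
            Groth.L18.SpecLine.gs (R := CommRingCat.of R) a • (show Γ(L, ⊤) from tilde.toOpen Q ⊤ b)
          rw [ro_self] }
    haveI : IsIso (tilde.toOpen Q ⊤) := tilde.isIso_toOpen_top (R := CommRingCat.of R) (M := Q)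
    have htb : Function.Bijective t := ConcreteCategory.bijective_of_isIso (tilde.toOpen Q ⊤)
    let u : Fin (n + 1) → ((Fin (n + 1) → R) ⧸ F) := fun i => Submodule.Quotient.mk (Pi.single i 1)
    have hu : Fintype.linearCombination R u = F.mkQ := LinearMap.pi_ext fun i x => by
      rw [Fintype.linearCombination_apply_single, Submodule.mkQ_apply, ← Submodule.Quotient.mk_smul, ← Pi.single_smul, smul_eq_mul, mul_one]
    have hlc : Fintype.linearCombination R (t ∘ u) = t ∘ₗ F.mkQ := by
      rw [← hu]; exact LinearMap.ext fun c => by simp [Fintype.linearCombination_apply, map_sum]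
    have hloc : Groth.L18.SpecLine.Loc1 R (t ∘ u) := by
      have h0 : Groth.L18.SpecLine.Loc1 R u := Groth.L18.SpecLine.loc1_of_projective
        (by rw [hu]; exact F.mkQ_surjective) hrank
      intro p
      obtain ⟨i, h, hh, hg1, hg2⟩ := h0 p
      refine ⟨i, h, hh, fun q => ?_, fun r hr => hg2 r (htb.1 (by rw [map_smul, map_zero]; exact hr))⟩
      obtain ⟨q', rfl⟩ := htb.2 q
      obtain ⟨N, r, hr⟩ := hg1 q'
      exact ⟨N, r, by simp only [Function.comp_apply, ← map_smul, hr]⟩
    haveI : L.IsQuasicoherent := inferInstanceAs (tilde Q).IsQuasicoherent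
    have hfr := Groth.L18.SpecLine.frames_of_loc1 (R := CommRingCat.of R) L hloc
    obtain ⟨r, hr, τ, hτ⟩ := exists_hom (Z := Spec (CommRingCat.of R)) (𝟙 _) L
      (Groth.L18.SpecLine.isInvertible_of_frames fun z => by obtain ⟨W, i, hz, he⟩ := hfr z; exact ⟨W, _, hz, he⟩)
      (t ∘ u) (Groth.L18.SpecLine.generatedBy_of_frames _ hfr)
    refine ⟨r, hr, ?_⟩
    refine (secKernel_eq r).trans ?_
    ext c
    have h1 : τ.hom.app ⊤ (Fintype.linearCombination R
        (M := ProjUP.Γm ((Scheme.Modules.pullback (toP r)).obj (O1 n R)))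
        (rT (toP r)) c) = t (F.mkQ c) := by
      rw [← LinearMap.comp_apply t, ← hlc, Fintype.linearCombination_apply, Fintype.linearCombination_apply, map_sum]
      refine Finset.sum_congr rfl fun i _ => ?_
      exact (Scheme.Modules.Hom.app_smul _ _ _).trans (congrArg (fun x => Groth.L18.SpecLine.gs (R := CommRingCat.of R) (c i) • x) (hτ i))
    rw [LinearMap.mem_ker]
    constructor
    · intro h0
      rw [h0, map_zero] at h1
      exact (Submodule.Quotient.mk_eq_zero F).mp (htb.1 (h1.symm.trans (map_zero t).symm))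
    · intro hc
      rw [show F.mkQ c = 0 from (Submodule.Quotient.mk_eq_zero F).mpr hc, map_zero] at h1
      exact (ConcreteCategory.bijective_of_isIso (τ.hom.app ⊤)).1 (h1.trans (map_zero _).symm)

end Groth.L18.PUP
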