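import Mathlib.AlgebraicGeometry.Morphisms.Separated
import Mathlib.AlgebraicGeometry.Morphisms.ClosedImmersion
import Mathlib.AlgebraicGeometry.PullbackCarrier

/-!
Separatedness from an affine cover with affine intersections whose functions are generated by the two factors.
-/

set_option autoImplicit false
set_option backward.isDefEq.respectTransparency false
universe u

open CategoryTheory CategoryTheory.Limits AlgebraicGeometry TopologicalSpace

namespace Groth.L18.SepCover

variable {X : Scheme.{u}}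

theorem isSeparated_of_affine_cover {ι : Type u} (U : ι → X.Opens) (hU : iSup U = ⊤)
    (ha : ∀ i, IsAffineOpen (U i)) (hi : ∀ i j, IsAffineOpen (U i ⊓ U j))
    (hs : ∀ i j (c : Γ(X, U i ⊓ U j)), ∃ (a : Γ(X, U i)) (b : Γ(X, U j)),
      c = X.presheaf.map (homOfLE inf_le_left).op a * X.presheaf.map (homOfLE inf_le_right).op b) :
    X.IsSeparated := by
  let t := terminal.from X
  let 𝒰 := X.openCoverOfIsOpenCover U hU
  rw [Scheme.isSeparated_iff]
  refine ⟨IsZariskiLocalAtTarget.of_openCover (Scheme.Pullback.openCoverOfLeftRight 𝒰 𝒰 t t) ?_⟩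
  intro ⟨i, j⟩
  dsimp [Scheme.Cover.pullbackHom]
  refine (MorphismProperty.cancel_left_of_respectsIso (P := @IsClosedImmersion)
    (f := (pullbackDiagonalMapIdIso ..).inv) _).mp ?_
  haveI : IsAffine (U i).toScheme := ha i
  haveI : IsAffine (U j).toScheme := ha j
  haveI : IsAffine (U i ⊓ U j).toScheme := hi i j
  let e : pullback (U i).ι (U j).ι ≅ (U i ⊓ U j).toScheme :=
    IsOpenImmersion.isoOfRangeEq (pullback.fst (U i).ι (U j).ι ≫ (U i).ι) (U i ⊓ U j).ι (by
      rw [IsOpenImmersion.range_pullback_to_base_of_left, Scheme.Opens.range_ι, Scheme.Opens.range_ι, Scheme.Opens.range_ι]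
      rfl)
  have he1 : e.inv ≫ pullback.fst (U i).ι (U j).ι = X.homOfLE inf_le_left := by
    rw [← cancel_mono (U i).ι, Category.assoc, Scheme.homOfLE_ι]
    exact IsOpenImmersion.isoOfRangeEq_inv_fac _ _ _
  have he2 : e.inv ≫ pullback.snd (U i).ι (U j).ι = X.homOfLE inf_le_right := by
    rw [← cancel_mono (U j).ι, Category.assoc, Scheme.homOfLE_ι, ← pullback.condition, ← Category.assoc, he1,
      Scheme.homOfLE_ι]
  have main : ∀ m : pullback (U i).ι (U j).ι ⟶ pullback ((U i).ι ≫ t) ((U j).ι ≫ t),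
      m ≫ pullback.fst _ _ = pullback.fst _ _ → m ≫ pullback.snd _ _ = pullback.snd _ _ → IsClosedImmersion m := by
    intro m h1 h2
    rw [← MorphismProperty.cancel_left_of_respectsIso (P := @IsClosedImmersion) e.inv m]
    refine IsClosedImmersion.of_surjective_of_isAffine _ fun c => ?_
    obtain ⟨a, b, hc⟩ := hs i j ((U i ⊓ U j).topIso.hom c)
    let p := pullback.fst ((U i).ι ≫ t) ((U j).ι ≫ t)
    let q := pullback.snd ((U i).ι ≫ t) ((U j).ι ≫ t)
    refine ⟨p.appTop ((U i).topIso.inv a) * q.appTop ((U j).topIso.inv b), ?_⟩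
    have hp : (e.inv ≫ m).appTop (p.appTop ((U i).topIso.inv a)) =
        (X.homOfLE (inf_le_left : U i ⊓ U j ≤ U i)).appTop ((U i).topIso.inv a) := by
      rw [← he1, ← h1, ← Category.assoc]
      rfl
    have hq : (e.inv ≫ m).appTop (q.appTop ((U j).topIso.inv b)) =
        (X.homOfLE (inf_le_right : U i ⊓ U j ≤ U j)).appTop ((U j).topIso.inv b) := by
      rw [← he2, ← h2, ← Category.assoc]
      rfl
    rw [map_mul, hp, hq]
    refine (ConcreteCategory.bijective_of_isIso (U i ⊓ U j).topIso.hom).1 ?_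
    rw [map_mul, hc]
    congr 1
    · show ((U i).topIso.inv ≫ (X.homOfLE _).appTop ≫ (U i ⊓ U j).topIso.hom) a = _
      congr 2
      simp [Scheme.Opens.topIso, ← Functor.map_comp]
    · show ((U j).topIso.inv ≫ (X.homOfLE _).appTop ≫ (U i ⊓ U j).topIso.hom) b = _
      congr 2
      simp [Scheme.Opens.topIso, ← Functor.map_comp]
  refine main _ ?_ ?_
  · rw [Category.assoc]; exact pullbackDiagonalMapIdIso_inv_snd_fst ..
  · rw [Category.assoc]; exact pullbackDiagonalMapIdIso_inv_snd_snd ..

end Groth.L18.SepCover
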