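import Groth.Agent.L18.GenLocus
import Groth.Agent.L18.SeparatedCover
import Mathlib.AlgebraicGeometry.Morphisms.QuasiSeparated
import Mathlib.AlgebraicGeometry.Morphisms.QuasiCompact

/-!
Ample invertible modules: extension of sections, the affine loci form a basis, separatedness.
-/

set_option autoImplicit false
set_option backward.isDefEq.respectTransparency false
universe u

open CategoryTheory AlgebraicGeometry TopologicalSpace Opposite

noncomputable section

namespace Groth.L18.Ample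

open Groth.L18.Frame (rs ro rs_rs rs_self rs_smul ro_ro ro_self ro_mul IsFrame)
open Groth.L18.GenLoc

variable {X : Scheme.{u}} {L M N : X.Modules}

theorem genLocus_id : CohB1.genLocus (Coh.structureModule X) (𝟙 _) = ⊤ :=
  top_le_iff.mp (le_sSup (show IsIso ((Scheme.Modules.restrictFunctor (⊤ : X.Opens).ι).map
    (𝟙 (Coh.structureModule X))) by rw [CategoryTheory.Functor.map_id]; infer_instance))

theorem isInvertible_structureModule (X : Scheme.{u}) : PicF.IsInvertible (Coh.structureModule X) :=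
  isInvertible_of_frames fun x => ⟨_, _, by rw [genLocus_id]; trivial, isFrame_genLocus (𝟙 _)⟩

theorem isInvertible_tensorPow (hL : PicF.IsInvertible L) : ∀ n, PicF.IsInvertible (CohB1.tensorPow L n)
  | 0 => isInvertible_structureModule X
  | n + 1 => isInvertible_tensor (isInvertible_tensorPow hL n) hL

theorem isInvertible_of_iso (e : L ≅ M) (hL : PicF.IsInvertible L) : PicF.IsInvertible M := fun x => by
  obtain ⟨U, hx, ⟨i⟩⟩ := hL x
  exact ⟨U, hx, ⟨((Scheme.Modules.restrictFunctor U.ι).mapIso e).symm ≪≫ i⟩⟩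

/-- powers of a section -/
def pw (s : Coh.structureModule X ⟶ L) : ∀ n, Coh.structureModule X ⟶ CohB1.tensorPow L n
  | 0 => 𝟙 _
  | n + 1 => tensHom (pw s n) s

theorem genLocus_pw_succ (hL : PicF.IsInvertible L) (s : Coh.structureModule X ⟶ L) :
    ∀ n, CohB1.genLocus _ (pw s (n + 1)) = CohB1.genLocus L s
  | 0 => (genLocus_tensHom (isInvertible_structureModule X) hL (𝟙 _) s).trans (by rw [genLocus_id, top_inf_eq])
  | n + 1 => (genLocus_tensHom (isInvertible_tensorPow hL (n + 1)) hL (pw s (n + 1)) s).trans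
      (by rw [genLocus_pw_succ hL s n, inf_idem])

/-- replace a section of a module isomorphic to a positive power by a section of that power -/
theorem exists_of_iso {j : ℕ} (hj : 0 < j) (s : Coh.structureModule X ⟶ N) (e : N ≅ CohB1.tensorPow L j) :
    ∃ (n : ℕ) (s' : Coh.structureModule X ⟶ CohB1.tensorPow L (n + 1)),
      CohB1.genLocus _ s' = CohB1.genLocus N s := by
  obtain ⟨n, rfl⟩ := Nat.exists_eq_add_one.mpr hj
  exact ⟨n, s ≫ e.hom, Groth.L16.genLocus_comp_iso s e⟩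

/-! ### Twisting -/

/-- `N ⊗ L^k` -/
def tw (N L : X.Modules) : ℕ → X.Modules
  | 0 => N
  | k + 1 => CohB1.tensorMod (tw N L k) L

theorem tw_unit (L : X.Modules) : ∀ k, tw (Coh.structureModule X) L k = CohB1.tensorPow L k
  | 0 => rfl
  | k + 1 => congrArg (fun P => CohB1.tensorMod P L) (tw_unit L k)

/-- multiply a section by a power of `σ` -/
def up (N : X.Modules) {L : X.Modules} (σ : Γ(L, ⊤)) (U : X.Opens) :
    ∀ (d : ℕ) {k : ℕ}, Γ(tw N L k, U) → Γ(tw N L (k + d), U)
  | 0, _, x => x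
  | d + 1, _, x => tens _ L U (up N σ U d x) (rs L le_top σ)

/-- `m ⊗ σ^k` -/
def it {N L : X.Modules} (σ : Γ(L, ⊤)) (U : X.Opens) (m : Γ(N, U)) : ∀ k : ℕ, Γ(tw N L k, U)
  | 0 => m
  | k + 1 => tens _ L U (it σ U m k) (rs L le_top σ)

/-- frames of twists -/
def fr {N L : X.Modules} {W : X.Opens} (e : Γ(N, W)) (ε : Γ(L, W)) : ∀ k : ℕ, Γ(tw N L k, W)
  | 0 => e
  | k + 1 => tens _ L W (fr e ε k) ε

variable (σ : Γ(L, ⊤))

theorem isFrame_fr {W : X.Opens} {e : Γ(N, W)} {ε : Γ(L, W)} (he : IsFrame N W e) (hε : IsFrame L W ε) :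
    ∀ k, IsFrame (tw N L k) W (fr e ε k)
  | 0 => he
  | k + 1 => isFrame_tens (isFrame_fr he hε k) hε

theorem up_rs {U V : X.Opens} (h : V ≤ U) : ∀ (d : ℕ) {k : ℕ} (x : Γ(tw N L k, U)),
    rs (tw N L (k + d)) h (up N σ U d x) = up N σ V d (rs (tw N L k) h x)
  | 0, _, _ => rfl
  | d + 1, k, x => by
    show rs (CohB1.tensorMod (tw N L (k + d)) L) h (tens _ L U _ _) = tens _ L V _ _
    rw [tens_rs, up_rs h d x, rs_rs]

theorem it_rs {U V : X.Opens} (h : V ≤ U) (m : Γ(N, U)) : ∀ k : ℕ,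
    rs (tw N L k) h (it σ U m k) = it σ V (rs N h m) k
  | 0 => rfl
  | k + 1 => by
    show rs (CohB1.tensorMod (tw N L k) L) h (tens _ L U _ _) = tens _ L V _ _
    rw [tens_rs, it_rs h m k, rs_rs]

theorem up_it {U : X.Opens} (m : Γ(N, U)) : ∀ (d k : ℕ), up N σ U d (it σ U m k) = it σ U m (k + d)
  | 0, _ => rfl
  | d + 1, k => by
    show tens _ L U (up N σ U d (it σ U m k)) _ = tens _ L U _ _
    rw [up_it m d k]
    rfl

theorem up_smul {U : X.Opens} (c : Γ(X, U)) : ∀ (d : ℕ) {k : ℕ} (x : Γ(tw N L k, U)),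
    up N σ U d (c • x) = c • up N σ U d x
  | 0, _, _ => rfl
  | d + 1, k, x => by
    show tens _ L U (up N σ U d (c • x)) _ = c • tens _ L U _ _
    rw [up_smul c d x, tens_smul_left]

theorem up_fr {W : X.Opens} {e : Γ(N, W)} {ε : Γ(L, W)} {a : Γ(X, W)} (ha : a • ε = rs L le_top σ) (k : ℕ) :
    ∀ d : ℕ, up N σ W d (fr e ε k) = a ^ d • fr e ε (k + d)
  | 0 => by rw [pow_zero, one_smul]; rfl
  | d + 1 => by
    show tens _ L W (up N σ W d (fr e ε k)) _ = a ^ (d + 1) • tens _ L W _ ε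
    rw [up_fr ha k d, ← ha, tens_smul_left, tens_smul_right, ← mul_smul, pow_succ]
    rfl

theorem it_fr {W : X.Opens} {e : Γ(N, W)} {ε : Γ(L, W)} {a b : Γ(X, W)} (ha : a • ε = rs L le_top σ) :
    ∀ k : ℕ, it σ W (b • e) k = (b * a ^ k) • fr e ε k
  | 0 => by rw [pow_zero, mul_one]; rfl
  | k + 1 => by
    show tens _ L W (it σ W (b • e) k) _ = _ • tens _ L W _ ε
    rw [it_fr ha k, ← ha, tens_smul_left, tens_smul_right, ← mul_smul, pow_succ, mul_assoc]

/-- A section over `X_s` of an invertible module extends after twisting by a power of `s`. -/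
theorem exists_extend [CompactSpace X] [QuasiSeparatedSpace X] (hL : PicF.IsInvertible L)
    (hN : PicF.IsInvertible N) (s : Coh.structureModule X ⟶ L) (m : Γ(N, CohB1.genLocus L s)) :
    ∃ (k : ℕ) (t : Γ(tw N L k, ⊤)),
      rs (tw N L k) le_top t = it (secOf s) (CohB1.genLocus L s) m k := by
  let G := CohB1.genLocus L s
  let σ := secOf s
  have hloc : ∀ x : X, ∃ W : X.Opens, x ∈ W ∧ IsAffineOpen W ∧ (∃ e : Γ(N, W), IsFrame N W e) ∧
      ∃ ε : Γ(L, W), IsFrame L W ε := fun x => by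
    obtain ⟨W, e, hx, he⟩ := Frame.exists_frame hN x
    obtain ⟨W', ε, hx', hε⟩ := Frame.exists_frame hL x
    obtain ⟨_, ⟨V, hV, rfl⟩, hxV, hVW⟩ :=
      X.isBasis_affineOpens.exists_subset_of_mem_open (show x ∈ W ⊓ W' from ⟨hx, hx'⟩) (W ⊓ W').2
    exact ⟨V, hxV, hV, ⟨_, he.mono fun y hy => (hVW hy).1⟩, ⟨_, hε.mono fun y hy => (hVW hy).2⟩⟩
  choose W hxW hW he hε using hloc
  choose e he using he
  choose ε hε using hε
  obtain ⟨T, hT⟩ := isCompact_univ.elim_finite_subcover (fun x : X => (W x : Set X)) (fun x => (W x).2)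
    (fun x _ => Set.mem_iUnion.2 ⟨x, hxW x⟩)
  have hcov : (⊤ : X.Opens) ≤ ⨆ i : T, W i.1 := fun x _ => by
    obtain ⟨y, hy, hxy⟩ := Set.mem_iUnion₂.1 (hT (Set.mem_univ x))
    exact Opens.mem_iSup.2 ⟨⟨y, hy⟩, hxy⟩
  choose a ha using fun i : T => (hε i.1).exists_coeff le_rfl (rs L le_top σ)
  simp only [rs_self] at ha
  have hG : ∀ i : T, G ⊓ W i.1 = X.basicOpen (a i) := fun i => genLocus_inf_eq s (hε i.1) (ha i)
  have hBG : ∀ i : T, X.basicOpen (a i) ≤ G := fun i => (hG i).ge.trans inf_le_left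
  choose β hβ using fun i : T => (he i.1).exists_coeff (X.basicOpen_le (a i)) (rs N (hBG i) m)
  choose n c hc using fun i : T => exists_eq_pow_mul_of_isAffineOpen X (W i.1) (hW i.1) (a i) (β i)
  obtain ⟨K, hK⟩ := (Set.finite_range n).bddAbove
  let t : ∀ i : T, Γ(tw N L K, W i.1) := fun i => (c i * a i ^ (K - n i)) • fr (e i.1) (ε i.1) K
  have hha : ∀ (i : T) {V : X.Opens} (hV : V ≤ W i.1), ro hV (a i) • rs L hV (ε i.1) = rs L le_top σ :=
    fun i V hV => by rw [← rs_smul, ha, rs_rs]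
  have hfr : ∀ (i : T) {V : X.Opens} (hV : V ≤ W i.1) (k : ℕ),
      rs (tw N L k) hV (fr (e i.1) (ε i.1) k) = fr (rs N hV (e i.1)) (rs L hV (ε i.1)) k := by
    intro i V hV k
    induction k with
    | zero => rfl
    | succ k ih =>
      show rs (CohB1.tensorMod (tw N L k) L) hV (tens _ L _ _ _) = tens _ L V _ _
      rw [tens_rs, ih]
  have ht : ∀ i : T, rs (tw N L K) (X.basicOpen_le (a i)) (t i) = it σ _ (rs N (hBG i) m) K := fun i => by
    rw [← hβ i, it_fr σ (hha i (X.basicOpen_le (a i))) K, rs_smul, hfr]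
    congr 1
    rw [ro_mul]
    have h1 : ro (X.basicOpen_le (a i)) (c i) = ro (X.basicOpen_le (a i)) (a i) ^ n i * β i := hc i
    rw [h1, show ro (X.basicOpen_le (a i)) (a i ^ (K - n i)) = _ from map_pow _ _ _]
    rw [mul_comm (_ ^ n i) (β i), mul_assoc, ← pow_add, Nat.add_sub_cancel' (hK ⟨i, rfl⟩)]
  have hov : ∀ p : T × T, ∃ d : ℕ,
      up N σ _ d (rs (tw N L K) (inf_le_left : W p.1.1 ⊓ W p.2.1 ≤ W p.1.1) (t p.1) -
        rs (tw N L K) (inf_le_right : W p.1.1 ⊓ W p.2.1 ≤ W p.2.1) (t p.2)) = 0 := by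
    rintro ⟨i, j⟩
    set W₂ := W i.1 ⊓ W j.1 with hW₂
    set d₀ := rs (tw N L K) (inf_le_left : W₂ ≤ W i.1) (t i) - rs (tw N L K) (inf_le_right : W₂ ≤ W j.1) (t j)
      with hd₀
    let a' := ro (inf_le_left : W₂ ≤ W i.1) (a i)
    have hF : IsFrame (tw N L K) W₂ (fr (rs N (inf_le_left : W₂ ≤ W i.1) (e i.1))
        (rs L (inf_le_left : W₂ ≤ W i.1) (ε i.1)) K) :=
      isFrame_fr ((he i.1).mono _) ((hε i.1).mono _) K
    obtain ⟨z, hz⟩ := hF.exists_coeff le_rfl d₀
    rw [rs_self] at hz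
    have hVi : X.basicOpen a' ≤ X.basicOpen (a i) := (X.basicOpen_res (a i) _).trans_le inf_le_right
    have hVj : X.basicOpen a' ≤ X.basicOpen (a j) :=
      (le_inf ((hVi.trans (hBG i))) ((X.basicOpen_le a').trans inf_le_right)).trans_eq (hG j)
    have h0 : rs (tw N L K) (X.basicOpen_le a') d₀ = 0 := by
      have h1 := congrArg (rs (tw N L K) hVi) (ht i)
      have h2 := congrArg (rs (tw N L K) hVj) (ht j)
      rw [rs_rs, it_rs, rs_rs] at h1 h2
      refine (map_sub _ _ _).trans (sub_eq_zero.2 ?_)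
      show rs _ _ (rs _ _ _) = rs _ _ (rs _ _ _)
      rw [rs_rs, rs_rs, h1, h2]
    rw [← hz, rs_smul] at h0
    have hz0 : ro (X.basicOpen_le a') z = 0 := hF.inj (X.basicOpen_le a') (by rw [h0, zero_smul])
    have hq : IsCompact (W₂ : Set X) :=
      quasiSeparatedSpace_iff_forall_affineOpens.mp inferInstance ⟨_, hW i.1⟩ ⟨_, hW j.1⟩
    obtain ⟨d, hd⟩ := exists_pow_mul_eq_zero_of_res_basicOpen_eq_zero_of_isCompact X hq z a' hz0
    refine ⟨d, ?_⟩
    rw [← hz, up_smul, up_fr σ (hha i inf_le_left) K d, ← mul_smul, mul_comm z, hd, zero_smul]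
  choose d hd using hov
  obtain ⟨D, hD⟩ := (Set.finite_range d).bddAbove
  have hup0 : ∀ (U : X.Opens) (a b : ℕ) (x : Γ(tw N L K, U)), a ≤ b → up N σ U a x = 0 → up N σ U b x = 0 := by
    intro U a b x hab hx
    induction hab with
    | refl => exact hx
    | @step p hp ih =>
      show tens _ L U (up N σ U p x) _ = 0
      rw [ih]
      have := tens_smul_left (L := tw N L (K + p)) (M := L) (U := U) 0 (0 : Γ(tw N L (K + p), U)) (rs L le_top σ)
      rwa [zero_smul, zero_smul] at this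
  have hupsub : ∀ (U : X.Opens) (k : ℕ) (x y : Γ(tw N L K, U)),
      up N σ U k (x - y) = up N σ U k x - up N σ U k y := by
    intro U k x y
    induction k with
    | zero => rfl
    | succ k ih =>
      show tens _ L U (up N σ U k (x - y)) _ = tens _ L U (up N σ U k x) _ - tens _ L U (up N σ U k y) _
      rw [ih, eq_sub_iff_add_eq]
      refine (Groth.L00.Tensor.ev_add₁ _ _ _ _ _).symm.trans ?_
      exact congrArg (fun z => tens _ L U z _) (sub_add_cancel _ _)
  let t' : ∀ i : T, Γ(tw N L (K + D), W i.1) := fun i => up N σ _ D (t i)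
  have hcompat : TopCat.Presheaf.IsCompatible (X := X.toTopCat) (tw N L (K + D)).presheaf
      (fun i : T => W i.1) t' := fun i j => by
    show rs (tw N L (K + D)) (inf_le_left : W i.1 ⊓ W j.1 ≤ W i.1) (t' i) =
      rs (tw N L (K + D)) (inf_le_right : W i.1 ⊓ W j.1 ≤ W j.1) (t' j)
    simp only [t', up_rs]
    rw [← sub_eq_zero, ← hupsub]
    exact hup0 _ _ _ _ (hD ⟨(i, j), rfl⟩) (hd (i, j))
  let OM : TopCat.Sheaf Ab.{u} X.toTopCat := ⟨(tw N L (K + D)).presheaf, (tw N L (K + D)).isSheaf⟩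
  obtain ⟨g, hg, -⟩ := TopCat.Sheaf.existsUnique_gluing' OM
    (fun i : T => W i.1) ⊤ (fun i => homOfLE le_top) hcov t' hcompat
  refine ⟨K + D, g, OM.eq_of_locally_eq' (fun i : T => X.basicOpen (a i)) G (fun i => homOfLE (hBG i)) ?_ _ _
    fun i => ?_⟩
  · intro x hx
    obtain ⟨i, hi⟩ := Opens.mem_iSup.1 (hcov (Opens.mem_top x))
    exact Opens.mem_iSup.2 ⟨i, (hG i).le ⟨hx, hi⟩⟩
  · show rs (tw N L (K + D)) (hBG i) (rs (tw N L (K + D)) le_top g) = rs (tw N L (K + D)) (hBG i) (it σ G m (K + D))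
    rw [rs_rs, it_rs, show rs (tw N L (K + D)) ((hBG i).trans le_top) g =
      rs (tw N L (K + D)) (X.basicOpen_le (a i)) (rs (tw N L (K + D)) le_top g) from (rs_rs _ _ _ g).symm]
    rw [show rs (tw N L (K + D)) (le_top : W i.1 ≤ ⊤) g = t' i from hg i, up_rs, ht i, up_it]

theorem exists_extend_function [CompactSpace X] [QuasiSeparatedSpace X] (hL : PicF.IsInvertible L)
    (s : Coh.structureModule X ⟶ L) (f : Γ(X, CohB1.genLocus L s)) :
    ∃ (k : ℕ) (t : Coh.structureModule X ⟶ CohB1.tensorPow L k),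
      CohB1.genLocus _ t ⊓ CohB1.genLocus L s = X.basicOpen f := by
  obtain ⟨k, t, ht⟩ := exists_extend hL (isInvertible_structureModule X) s
    (show Γ(Coh.structureModule X, CohB1.genLocus L s) from f)
  refine ⟨k, ?_⟩
  rw [← tw_unit]
  refine ⟨Groth.L16.homOfSection _ t, ?_⟩
  let G := CohB1.genLocus L s
  let one : Γ(Coh.structureModule X, G) := (1 : Γ(X, G))
  have hone : IsFrame (Coh.structureModule X) G one := fun V h => by
    have : (fun a : Γ(X, V) => a • rs (Coh.structureModule X) h one) = fun a : Γ(X, V) => a * 1 := by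
      funext a
      show a * X.presheaf.map (homOfLE h).op (1 : Γ(X, G)) = a * 1
      rw [map_one]
    rw [this]
    simp only [mul_one]
    exact Function.bijective_id
  have hfr := isFrame_fr (N := Coh.structureModule X) hone (isFrame_genLocus s) k
  refine genLocus_inf_eq _ hfr ?_
  rw [secOf_homOfSection, ht]
  refine Eq.trans ?_ (congrArg (fun z => it (secOf s) G z k)
    (show f • one = (show Γ(Coh.structureModule X, G) from f) from mul_one f))
  rw [it_fr (secOf s) (a := (1 : Γ(X, G))) (ε := rs L le_top (secOf s)) (one_smul _ _), one_pow, mul_one]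

/-- quasi-separatedness from affine loci -/
theorem quasiSeparatedSpace_of_affine_genLocus (hL : PicF.IsInvertible L)
    (h : ∀ x : X, ∃ (n : ℕ) (s : Coh.structureModule X ⟶ CohB1.tensorPow L (n + 1)),
      x ∈ CohB1.genLocus _ s ∧ IsAffineOpen (CohB1.genLocus _ s)) : QuasiSeparatedSpace X := by
  choose n s hx ha using h
  refine Scheme.quasiSeparatedSpace_of_isOpenCover (fun x => CohB1.genLocus _ (s x)) ?_ ha fun x y => ?_
  · exact top_le_iff.mp fun x _ => Opens.mem_iSup.2 ⟨x, hx x⟩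
  · haveI := isAffineHom_genLocus_ι (isInvertible_tensorPow hL _) (s y)
    have := (ha x).preimage (CohB1.genLocus _ (s y)).ι
    rw [← Scheme.Hom.isAffineOpen_iff_of_isOpenImmersion (CohB1.genLocus _ (s y)).ι,
      Scheme.Hom.image_preimage_eq_opensRange_inf, Scheme.Opens.opensRange_ι, inf_comm] at this
    exact this.isCompact

/-- affine loci form a basis -/
theorem exists_affine_genLocus_subset (hL : CohB1.IsAmple L) (U : X.Opens) {x : X} (hx : x ∈ U) :
    ∃ (n : ℕ) (s : Coh.structureModule X ⟶ CohB1.tensorPow L (n + 1)),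
      x ∈ CohB1.genLocus _ s ∧ CohB1.genLocus _ s ≤ U ∧ IsAffineOpen (CohB1.genLocus _ s) := by
  obtain ⟨hinv, hc, h⟩ := hL
  haveI := hc
  haveI := quasiSeparatedSpace_of_affine_genLocus hinv h
  obtain ⟨n, s, hxs, hs⟩ := h x
  obtain ⟨f, hf, hxf⟩ := hs.exists_basicOpen_le (V := U) ⟨x, hx⟩ hxs
  have hinv' := isInvertible_tensorPow hinv (n + 1)
  obtain ⟨k, t, ht⟩ := exists_extend_function hinv' s f
  have h' := genLocus_tensHom (isInvertible_tensorPow hinv' k) hinv' t s
  rw [ht] at h'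
  obtain ⟨n', s', hs'⟩ := exists_of_iso (L := L) (j := (n + 1) * (k + 1)) (by positivity) (tensHom t s)
    (Groth.L00.Tensor.tensorPowMul L (n + 1) (k + 1))
  refine ⟨n', s', ?_⟩
  rw [hs', h']
  exact ⟨hxf, hf, hs.basicOpen f⟩

theorem exists_mul_of_mem_inter (hL : PicF.IsInvertible L) (s t : Coh.structureModule X ⟶ L)
    (hs : IsAffineOpen (CohB1.genLocus L s)) (c : Γ(X, CohB1.genLocus L s ⊓ CohB1.genLocus L t)) :
    ∃ (a : Γ(X, CohB1.genLocus L s)) (b : Γ(X, CohB1.genLocus L t)),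
      c = X.presheaf.map (homOfLE inf_le_left).op a * X.presheaf.map (homOfLE inf_le_right).op b := by
  obtain ⟨α, hα⟩ := (isFrame_genLocus s).exists_coeff le_rfl (rs L le_top (secOf t))
  obtain ⟨β, hβ⟩ := (isFrame_genLocus t).exists_coeff le_rfl (rs L le_top (secOf s))
  rw [rs_self] at hα hβ
  have hI : CohB1.genLocus L t ⊓ CohB1.genLocus L s = X.basicOpen α :=
    genLocus_inf_eq t (isFrame_genLocus s) hα
  let I := CohB1.genLocus L s ⊓ CohB1.genLocus L t
  have e1 : X.basicOpen α ≤ I := hI.ge.trans_eq (inf_comm _ _)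
  have e2 : I ≤ X.basicOpen α := (le_of_eq (inf_comm _ _)).trans hI.le
  obtain ⟨n, r, hr⟩ := exists_eq_pow_mul_of_isAffineOpen X _ hs α (ro e1 c)
  refine ⟨r, β ^ n, ?_⟩
  have hr' : ro (inf_le_left : I ≤ _) r = ro (inf_le_left : I ≤ _) α ^ n * c := by
    have := congrArg (ro e2) (show ro (X.basicOpen_le α) r = ro (X.basicOpen_le α) α ^ n * ro e1 c from hr)
    rw [ro_mul, show ro e2 (ro (X.basicOpen_le α) α ^ n) = ro e2 (ro (X.basicOpen_le α) α) ^ n from map_pow _ _ _,
      ro_ro, ro_ro, ro_ro, ro_self] at this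
    exact this
  have hαβ : ro (inf_le_left : I ≤ _) α * ro (inf_le_right : I ≤ _) β = 1 := by
    have h1 := congrArg (rs L (inf_le_left : I ≤ _)) hα
    have h2 := congrArg (rs L (inf_le_right : I ≤ _)) hβ
    rw [rs_smul, rs_rs, rs_rs] at h1 h2
    refine ((isFrame_genLocus t).mono (inf_le_right : I ≤ _)).inj le_rfl (b := 1) ?_
    rw [rs_self, rs_rs, one_smul, mul_smul, h2, h1]
  show c = ro inf_le_left r * ro inf_le_right (β ^ n)
  rw [hr', show ro (inf_le_right : I ≤ _) (β ^ n) = ro (inf_le_right : I ≤ _) β ^ n from map_pow _ _ _,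
    mul_right_comm, ← mul_pow, hαβ, one_pow, one_mul]

/-- a scheme with affine loci covering is separated -/
theorem isSeparated_of_affine_genLocus (hL : PicF.IsInvertible L)
    (h : ∀ x : X, ∃ (n : ℕ) (s : Coh.structureModule X ⟶ CohB1.tensorPow L (n + 1)),
      x ∈ CohB1.genLocus _ s ∧ IsAffineOpen (CohB1.genLocus _ s)) : X.IsSeparated := by
  choose n s hx ha using h
  refine Groth.L18.SepCover.isSeparated_of_affine_cover (fun x => CohB1.genLocus _ (s x))
    (top_le_iff.mp fun x _ => Opens.mem_iSup.2 ⟨x, hx x⟩) ha (fun x y => ?_) (fun x y => ?_)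
  · haveI := isAffineHom_genLocus_ι (isInvertible_tensorPow hL _) (s y)
    have := (ha x).preimage (CohB1.genLocus _ (s y)).ι
    rw [← Scheme.Hom.isAffineOpen_iff_of_isOpenImmersion (CohB1.genLocus _ (s y)).ι,
      Scheme.Hom.image_preimage_eq_opensRange_inf, Scheme.Opens.opensRange_ι, inf_comm] at this
    exact this
  · let j := (n x + 1) * (n y + 1)
    let s₁ : Coh.structureModule X ⟶ CohB1.tensorPow L j :=
      pw (s x) (n y + 1) ≫ (Groth.L00.Tensor.tensorPowMul L (n x + 1) (n y + 1)).hom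
    let t₁ : Coh.structureModule X ⟶ CohB1.tensorPow L j :=
      pw (s y) (n x + 1) ≫ (Groth.L00.Tensor.tensorPowMul L (n y + 1) (n x + 1) ≪≫
        eqToIso (congrArg (CohB1.tensorPow L) (mul_comm _ _))).hom
    have e1 : CohB1.genLocus _ s₁ = CohB1.genLocus _ (s x) :=
      (Groth.L16.genLocus_comp_iso _ _).trans (genLocus_pw_succ (isInvertible_tensorPow hL _) _ _)
    have e2 : CohB1.genLocus _ t₁ = CohB1.genLocus _ (s y) :=
      (Groth.L16.genLocus_comp_iso _ _).trans (genLocus_pw_succ (isInvertible_tensorPow hL _) _ _)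
    intro c
    have key : ∀ (A B : X.Opens), A = CohB1.genLocus _ s₁ → B = CohB1.genLocus _ t₁ → ∀ c : Γ(X, A ⊓ B),
        ∃ (a : Γ(X, A)) (b : Γ(X, B)),
          c = X.presheaf.map (homOfLE inf_le_left).op a * X.presheaf.map (homOfLE inf_le_right).op b := by
      rintro A B rfl rfl
      exact exists_mul_of_mem_inter (isInvertible_tensorPow hL j) s₁ t₁ (e1.symm ▸ ha x)
    exact key _ _ e1.symm e2.symm c

end Groth.L18.Ample
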