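import Mathlib.AlgebraicGeometry.Fiber
import Mathlib.AlgebraicGeometry.Stalk

/-!
# The local rings of a fibre
-/

set_option autoImplicit false
universe u

open CategoryTheory CategoryTheory.Limits AlgebraicGeometry

namespace Groth.L18

variable {X S : Scheme.{u}}

lemma stalkMap_fiberι_aux {F : Scheme.{u}} (f : X ⟶ S) (ι : F ⟶ X) [IsPreimmersion ι] (y : F)
    (x : X) (hx : ι y = x)
    (p : F ⟶ Spec (S.residueField (f x))) (H : IsPullback ι p f (S.fromSpecResidueField (f x))) :
    RingHom.ker (ι.stalkMap y).hom =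
      Ideal.map (f.stalkMap (ι y)).hom (IsLocalRing.maximalIdeal (S.presheaf.stalk (f (ι y)))) := by
  subst hx
  set σ := ι.stalkMap y
  set m := IsLocalRing.maximalIdeal (S.presheaf.stalk (f (ι y)))
  let ρ : S.residueField (f (ι y)) ⟶ F.presheaf.stalk y := Spec.preimage (F.fromSpecStalk y ≫ p)
  have hcond : f.stalkMap (ι y) ≫ σ = S.residue (f (ι y)) ≫ ρ := by
    apply Spec.map_injective
    rw [← cancel_mono (S.fromSpecStalk (f (ι y)))]
    simp only [Spec.map_comp, Category.assoc, Scheme.SpecMap_stalkMap_fromSpecStalk,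
      ρ, Spec.map_preimage, σ]
    rw [Scheme.SpecMap_stalkMap_fromSpecStalk_assoc]
    show _ = _ ≫ p ≫ S.fromSpecResidueField (f (ι y))
    rw [H.w]
  have hle : Ideal.map (f.stalkMap (ι y)).hom m ≤ RingHom.ker σ.hom := by
    rw [Ideal.map_le_iff_le_comap]
    intro a ha
    rw [Ideal.mem_comap, RingHom.mem_ker]
    show (f.stalkMap (ι y) ≫ σ).hom a = 0
    rw [hcond]
    show ρ.hom ((S.residue (f (ι y))).hom a) = 0
    rw [show (S.residue (f (ι y))).hom a = 0 from (IsLocalRing.residue_eq_zero_iff _).mpr ha, map_zero]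
  refine le_antisymm ?_ hle
  have hne : Ideal.map (f.stalkMap (ι y)).hom m ≠ ⊤ := fun e =>
    (RingHom.ker_ne_top σ.hom) (top_le_iff.mp (e ▸ hle))
  let Q := CommRingCat.of (X.presheaf.stalk (ι y) ⧸ Ideal.map (f.stalkMap (ι y)).hom m)
  haveI : Nontrivial Q := Ideal.Quotient.nontrivial_iff.mpr hne
  have hsurj : Function.Surjective (Ideal.Quotient.mk (Ideal.map (f.stalkMap (ι y)).hom m) :
      X.presheaf.stalk (ι y) → X.presheaf.stalk (ι y) ⧸ Ideal.map (f.stalkMap (ι y)).hom m) :=
    fun a => Quotient.inductionOn' a fun b => ⟨b, rfl⟩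
  let π : X.presheaf.stalk (ι y) ⟶ Q := CommRingCat.ofHom (Ideal.Quotient.mk _)
  haveI : IsLocalRing Q := IsLocalRing.of_surjective' π.hom hsurj
  let ρ' : S.residueField (f (ι y)) ⟶ Q := CommRingCat.ofHom
    (Ideal.Quotient.lift m ((Ideal.Quotient.mk _).comp (f.stalkMap (ι y)).hom) (fun a ha =>
      Ideal.Quotient.eq_zero_iff_mem.mpr (Ideal.mem_map_of_mem _ ha)))
  have hρ' : S.residue (f (ι y)) ≫ ρ' = f.stalkMap (ι y) ≫ π := rfl
  let l : Spec Q ⟶ F := H.lift (Spec.map π ≫ X.fromSpecStalk (ι y)) (Spec.map ρ') (by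
    rw [Category.assoc, ← Scheme.SpecMap_stalkMap_fromSpecStalk, ← Spec.map_comp_assoc, ← hρ',
      Spec.map_comp_assoc]
    rfl)
  have hl : l ≫ ι = Spec.map π ≫ X.fromSpecStalk (ι y) := H.lift_fst _ _ _
  haveI hπ : IsLocalHom π.hom := IsLocalHom.of_surjective π.hom hsurj
  have hpt : l (IsLocalRing.closedPoint Q) = y := by
    apply ι.isEmbedding.injective
    rw [← Scheme.Hom.comp_apply, hl, Scheme.Hom.comp_apply]
    rw [show (Spec.map π) (IsLocalRing.closedPoint Q) = IsLocalRing.closedPoint _ from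
      IsLocalRing.comap_closedPoint π.hom]
    exact Scheme.fromSpecStalk_closedPoint
  let θ : F.presheaf.stalk y ⟶ Q :=
    F.presheaf.stalkSpecializes (specializes_of_eq hpt) ≫ Scheme.stalkClosedPointTo l
  have hθ : σ ≫ θ = π := by
    apply Spec.map_injective
    rw [← cancel_mono (X.fromSpecStalk (ι y))]
    simp only [θ, Spec.map_comp, Category.assoc, σ]
    rw [Scheme.SpecMap_stalkMap_fromSpecStalk, Scheme.SpecMap_stalkSpecializes_fromSpecStalk_assoc,
      Scheme.Spec_stalkClosedPointTo_fromSpecStalk_assoc, hl]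
  intro a ha
  rw [← Ideal.Quotient.eq_zero_iff_mem]
  show π.hom a = 0
  rw [← hθ]
  show θ.hom (σ.hom a) = 0
  rw [RingHom.mem_ker.mp ha, map_zero]

lemma stalkMap_fiberι (f : X ⟶ S) (s : S) (y : ↥(f.fiber s)) :
    Function.Surjective ((f.fiberι s).stalkMap y).hom ∧
      RingHom.ker ((f.fiberι s).stalkMap y).hom =
        Ideal.map (f.stalkMap ((f.fiberι s).base y)).hom
          (IsLocalRing.maximalIdeal (S.presheaf.stalk (f.base ((f.fiberι s).base y)))) := by
  refine ⟨(f.fiberι s).stalkMap_surjective y, ?_⟩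
  have hs : f ((f.fiberι s) y) = s := by
    have h1 : (f.fiberι s ≫ f) y = (f.fiberToSpecResidueField s ≫ S.fromSpecResidueField s) y :=
      congrArg (fun g : f.fiber s ⟶ S => g y) pullback.condition
    simp only [Scheme.Hom.comp_apply, Scheme.fromSpecResidueField_apply] at h1
    exact h1
  have H : ∀ t, t = s → ∃ p : f.fiber s ⟶ Spec (S.residueField t),
      IsPullback (f.fiberι s) p f (S.fromSpecResidueField t) := by
    rintro t rfl
    exact ⟨f.fiberToSpecResidueField t, IsPullback.of_hasPullback _ _⟩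
  obtain ⟨p, hp⟩ := H _ hs
  exact stalkMap_fiberι_aux f (f.fiberι s) y _ rfl p hp

end Groth.L18
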