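import Mathlib.RingTheory.OrderOfVanishing.Basic
import Mathlib.RingTheory.Ideal.KrullsHeightTheorem
import Mathlib.RingTheory.Valuation.LocalSubring
import Mathlib.RingTheory.DiscreteValuationRing.Basic
import Mathlib.RingTheory.FiniteType
import Mathlib.FieldTheory.IntermediateField.Adjoin.Basic

/-!
Krull–Akizuki (the Noetherian part) and the existence of discrete valuation rings dominating
Noetherian domains in finitely generated field extensions.
-/

noncomputable section

namespace Groth.L18

open scoped Pointwise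

universe u v

section KrullAkizuki

variable {R : Type u} [CommRing R] [IsNoetherianRing R] [Ring.KrullDimLE 1 R]
variable {S : Type u} [CommRing S] [IsDomain S] [Algebra R S]

/-- Krull–Akizuki: if `R` is one-dimensional Noetherian, `S` is a domain over it in which every element
becomes an element of `R` after multiplication by a nonzero element of `R`, and `x ≠ 0` in `R`, then
`S / xS` is a Noetherian `R`-module. -/
theorem isNoetherian_quotient_span_algebraMap (hinj : Function.Injective (algebraMap R S))
    (hfrac : ∀ s : S, ∃ d r : R, d ≠ 0 ∧ algebraMap R S d * s = algebraMap R S r)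
    {x : R} (hx : x ≠ 0) :
    IsNoetherian R (S ⧸ Ideal.span {algebraMap R S x}) := by
  have : IsDomain R := hinj.isDomain
  let Q := S ⧸ Ideal.span {algebraMap R S x}
  let q : S →ₗ[R] Q := (Ideal.Quotient.mkₐ R _).toLinearMap
  let l := Ring.ord R x
  have hl : l ≠ ⊤ := Ring.ord_ne_top (mem_nonZeroDivisors_of_ne_zero hx)
  -- numerators over a fixed denominator
  let N : {d : R // d ≠ 0} → Submodule R Q := fun d =>
    (Submodule.comap (LinearMap.mulLeft R (algebraMap R S d.1))
      (LinearMap.range (Algebra.linearMap R S))).map q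
  have hbound : ∀ d, Module.length R (N d) ≤ l := by
    intro d
    set T : Submodule R S := Submodule.comap (LinearMap.mulLeft R (algebraMap R S d.1))
      (LinearMap.range (Algebra.linearMap R S))
    let I : Ideal R := Submodule.comap (Algebra.linearMap R S)
      (T.map (LinearMap.mulLeft R (algebraMap R S d.1)))
    have hdS : algebraMap R S d.1 ≠ 0 := fun h => d.2 (hinj (h.trans (map_zero _).symm))
    have hdI : d.1 ∈ I := by
      refine ⟨1, ⟨d.1, ?_⟩, ?_⟩ <;> simp
    have hI : Module.length R (R ⧸ I) ≠ ⊤ := by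
      refine ne_top_of_le_ne_top (Ring.ord_ne_top (mem_nonZeroDivisors_of_ne_zero d.2)) ?_
      exact Module.length_le_of_surjective (Submodule.factor
        ((Ideal.span_singleton_le_iff_mem I).mpr hdI)) (Submodule.factor_surjective _)
    let f : I →ₗ[R] R ⧸ (x • I) := (Submodule.mkQ _).comp I.subtype
    have hP : Module.length R (LinearMap.range f) = l := by
      have h1 := Module.length_eq_add_of_exact (Ideal.mulQuot x I) (Ideal.quotOfMul x I)
        (Ideal.mulQuot_injective I (mem_nonZeroDivisors_of_ne_zero hx))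
        (Ideal.quotOfMul_surjective I) (Ideal.exact_mulQuot_quotOfMul I)
      have hle : x • I ≤ I := by
        rintro _ ⟨b, hb, rfl⟩
        exact I.smul_mem x hb
      have h2 := Module.length_eq_add_of_exact (LinearMap.range f).subtype
        (Submodule.factor hle) (Submodule.injective_subtype _) (Submodule.factor_surjective _) (by
          intro z
          obtain ⟨r, rfl⟩ := Submodule.mkQ_surjective _ z
          simp only [Submodule.mkQ_apply, Submodule.factor_mk, Submodule.Quotient.mk_eq_zero,
            Submodule.coe_subtype, Subtype.range_coe_subtype, Set.mem_setOf_eq]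
          constructor
          · intro hr; exact ⟨⟨r, (Submodule.Quotient.mk_eq_zero I).mp hr⟩, rfl⟩
          · rintro ⟨⟨b, hb⟩, hbr⟩
            have := hle ((Submodule.Quotient.eq _).mp hbr)
            exact (Submodule.Quotient.mk_eq_zero I).mpr ((Submodule.sub_mem_iff_right I hb).mp this))
      rw [h1, add_comm] at h2
      exact ((ENat.add_left_injective_of_ne_top hI) h2).symm
    -- the surjection onto `N d`
    have hmem : ∀ i : I, ∃ t : T, algebraMap R S d.1 * t = algebraMap R S i := by
      intro i
      obtain ⟨t, ht, e⟩ := i.2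
      exact ⟨⟨t, ht⟩, e⟩
    choose φ hφ using hmem
    let g : I →ₗ[R] N d :=
      { toFun := fun i => ⟨q (φ i), (φ i).1, (φ i).2, rfl⟩
        map_add' := fun i j => Subtype.ext (by
          show q (φ (i + j)) = q (φ i) + q (φ j)
          rw [← map_add]; congr 1
          exact mul_left_cancel₀ hdS (by rw [hφ, mul_add, hφ, hφ, Submodule.coe_add, map_add]))
        map_smul' := fun r i => Subtype.ext (by
          show q (φ (r • i)) = r • q (φ i)
          rw [← map_smul]; congr 1
          exact mul_left_cancel₀ hdS (by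
            rw [hφ, mul_smul_comm, hφ, Submodule.coe_smul, smul_eq_mul, map_mul, Algebra.smul_def])) }
    have hg : Function.Surjective g := by
      rintro ⟨_, t, ⟨r, hr⟩, rfl⟩
      have hrI : r ∈ I := ⟨t, ⟨r, hr⟩, hr.symm⟩
      refine ⟨⟨r, hrI⟩, Subtype.ext ?_⟩
      show q (φ ⟨r, hrI⟩) = q t
      congr 1
      exact mul_left_cancel₀ hdS ((hφ _).trans hr)
    have hker : LinearMap.ker f ≤ LinearMap.ker g := by
      rintro ⟨i, hi⟩ h
      obtain ⟨j, hj, hji⟩ := (Submodule.Quotient.mk_eq_zero _).mp h
      change x • j = i at hji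
      refine Subtype.ext ?_
      show q (φ ⟨i, hi⟩) = 0
      refine Ideal.Quotient.eq_zero_iff_mem.mpr (Ideal.mem_span_singleton'.mpr ⟨φ ⟨j, hj⟩, ?_⟩)
      apply mul_left_cancel₀ hdS
      rw [hφ, ← mul_assoc, hφ, ← map_mul]
      exact congrArg _ ((mul_comm _ _).trans hji)
    calc Module.length R (N d) ≤ Module.length R (I ⧸ LinearMap.ker f) := by
          refine Module.length_le_of_surjective ((LinearMap.ker f).liftQ g hker) fun y => ?_
          obtain ⟨i, rfl⟩ := hg y
          exact ⟨Submodule.Quotient.mk i, rfl⟩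
      _ = l := by rw [(LinearMap.quotKerEquivRange f).length_eq, hP]
  have hmono : ∀ d e : {d : R // d ≠ 0}, N d ≤ N ⟨d.1 * e.1, mul_ne_zero d.2 e.2⟩ := by
    intro d e
    refine Submodule.map_mono ?_
    rintro t ⟨r, hr⟩
    refine ⟨r * e.1, ?_⟩
    simp only [Algebra.linearMap_apply, LinearMap.mulLeft_apply, map_mul] at hr ⊢
    rw [hr]; ring
  -- a denominator with numerators of maximal length
  classical
  have hex : ∃ n : ℕ, ∀ d, Module.length R (N d) ≤ n :=
    ⟨l.toNat, fun d => (hbound d).trans (ENat.coe_toNat hl).ge⟩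
  obtain ⟨d₀, hd₀⟩ : ∃ d₀, ∀ d, Module.length R (N d) ≤ Module.length R (N d₀) := by
    by_contra! h
    have key : ∀ n : ℕ, ∃ d, (n : ℕ∞) ≤ Module.length R (N d) := by
      intro n
      induction n with
      | zero => exact ⟨⟨1, one_ne_zero⟩, by simp⟩
      | succ n ih =>
        obtain ⟨d, hd⟩ := ih
        obtain ⟨e, he⟩ := h d
        exact ⟨e, by push_cast; exact Order.add_one_le_of_lt (hd.trans_lt he)⟩
    obtain ⟨n, hn⟩ := hex
    obtain ⟨d, hd⟩ := key (n + 1)
    exact absurd (hd.trans (hn d)) (by push_cast; exact not_le.mpr (ENat.lt_add_one_iff (ENat.coe_ne_top n) |>.mpr le_rfl))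
  have hfin : IsFiniteLength R (N d₀) :=
    Module.length_ne_top_iff.mp (ne_top_of_le_ne_top hl (hbound d₀))
  have htop : N d₀ = ⊤ := by
    rw [eq_top_iff]
    intro z _
    obtain ⟨s, rfl⟩ := Ideal.Quotient.mk_surjective z
    obtain ⟨e, r, he, her⟩ := hfrac s
    let de : {d : R // d ≠ 0} := ⟨d₀.1 * e, mul_ne_zero d₀.2 he⟩
    have h1 : N d₀ ≤ N de := hmono d₀ ⟨e, he⟩
    have h2 : q s ∈ N de := by
      refine ⟨s, ⟨d₀.1 * r, ?_⟩, rfl⟩
      simp only [Algebra.linearMap_apply, LinearMap.mulLeft_apply, de, map_mul, mul_assoc, her]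
    obtain ⟨_, _⟩ := isFiniteLength_iff_isNoetherian_isArtinian.mp
      (Module.length_ne_top_iff.mp (ne_top_of_le_ne_top hl (hbound de)))
    have h3 : Submodule.comap (N de).subtype (N d₀) = ⊤ := by
      by_contra hne
      have := Submodule.length_lt hne
      rw [(Submodule.comapSubtypeEquivOfLe h1).length_eq] at this
      exact absurd (hd₀ de) (not_le.mpr this)
    exact (Submodule.mem_comap.mp (h3.ge (Submodule.mem_top (x := (⟨q s, h2⟩ : N de)))) : _)
  obtain ⟨_, _⟩ := isFiniteLength_iff_isNoetherian_isArtinian.mp hfin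
  exact isNoetherian_of_linearEquiv
    ((LinearEquiv.ofEq _ _ htop).trans Submodule.topEquiv)

/-- Krull–Akizuki: such an `S` is a Noetherian ring. -/
theorem isNoetherianRing_of_krullDimLE_one (hinj : Function.Injective (algebraMap R S))
    (hfrac : ∀ s : S, ∃ d r : R, d ≠ 0 ∧ algebraMap R S d * s = algebraMap R S r) :
    IsNoetherianRing S := by
  refine (isNoetherianRing_iff_ideal_fg S).mpr fun J => ?_
  by_cases hJ : J = ⊥
  · rw [hJ]; exact Submodule.fg_bot
  obtain ⟨a, ha, ha0⟩ := Submodule.exists_mem_ne_zero_of_ne_bot hJ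
  obtain ⟨d, r, hd, hdr⟩ := hfrac a
  have hr : r ≠ 0 := fun h => by
    rw [h, map_zero, mul_eq_zero] at hdr
    exact hdr.elim (fun h' => hd (hinj (h'.trans (map_zero _).symm))) ha0
  have hrJ : algebraMap R S r ∈ J := hdr ▸ J.mul_mem_left _ ha
  have hN := isNoetherian_quotient_span_algebraMap hinj hfrac hr
  let I₀ : Ideal S := Ideal.span {algebraMap R S r}
  have : IsNoetherian S (S ⧸ I₀) := isNoetherian_of_tower R hN
  refine Submodule.fg_of_fg_map_of_fg_inf_ker (Submodule.mkQ I₀) (IsNoetherian.noetherian _) ?_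
  rw [Submodule.ker_mkQ, inf_eq_right.mpr ((Ideal.span_singleton_le_iff_mem J).mpr hrJ)]
  exact Submodule.fg_span_singleton _

end KrullAkizuki

section DVR

variable {L : Type u} [Field L]

/-- A valuation ring of the field `L`, other than `L` itself, containing a one-dimensional Noetherian
ring with fraction field `L`, is discrete. -/
theorem isDiscreteValuationRing_of_krullDimLE_one (C : Subring L) [IsNoetherianRing C]
    [Ring.KrullDimLE 1 C] (hC : ∀ z : L, ∃ a b : C, (b : L) ≠ 0 ∧ z = a / b)
    (R : ValuationSubring L) (hR : C ≤ R.toSubring) (htop : R ≠ ⊤) :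
    IsDiscreteValuationRing R := by
  let _ : Algebra C R := (Subring.inclusion hR).toAlgebra
  have : IsNoetherianRing R := by
    refine isNoetherianRing_of_krullDimLE_one (R := C)
      (fun a b h => Subtype.ext (Subtype.ext_iff.mp h :)) fun s => ?_
    obtain ⟨a, b, hb, e⟩ := hC s
    refine ⟨b, a, fun h => hb (by rw [h]; rfl), Subtype.ext ?_⟩
    show (b : L) * (s : L) = (a : L)
    rw [e]; field_simp
  have hp : IsPrincipalIdealRing R := IsBezout.TFAE.out 0 1 |>.mp this
  refine { hp with not_a_field' := fun h => htop ?_ }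
  rw [← IsLocalRing.isField_iff_maximalIdeal_eq] at h
  ext z
  refine ⟨fun _ => ValuationSubring.mem_top z, fun _ => ?_⟩
  rcases R.mem_or_inv_mem z with hz | hz
  · exact hz
  by_cases h0 : z = 0
  · rw [h0]; exact R.zero_mem
  obtain ⟨⟨w, hw⟩, e⟩ := h.mul_inv_cancel (a := (⟨z⁻¹, hz⟩ : R)) fun he =>
    inv_ne_zero h0 (congrArg Subtype.val he)
  have e' : z⁻¹ * w = 1 := congrArg Subtype.val e
  exact (show z = w by field_simp at e'; exact e'.symm) ▸ hw

/-- The main existence theorem: a valuation ring `V` of `L` containing the image of a Noetherian ring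
`A`, with `L` finitely generated as a field over `A`, can be replaced by a discrete one keeping a
given ideal `p` (not mapping to zero) inside the maximal ideal. -/
theorem exists_isDiscreteValuationRing_of_le {A : Type v} [CommRing A] [IsNoetherianRing A]
    [Algebra A L] {S : Set L} (hS : S.Finite)
    (hgen : Subfield.closure (Set.range (algebraMap A L) ∪ S) = ⊤)
    (p : Ideal A) (V : ValuationSubring L) (hV : ∀ a : A, algebraMap A L a ∈ V)
    (hp : ∀ a ∈ p, V.valuation (algebraMap A L a) < 1) (hne : ∃ a ∈ p, algebraMap A L a ≠ 0) :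
    ∃ R : ValuationSubring L, IsDiscreteValuationRing R ∧ (∀ a : A, algebraMap A L a ∈ R) ∧
      ∀ a ∈ p, R.valuation (algebraMap A L a) < 1 := by
  classical
  obtain ⟨t, ht⟩ := IsNoetherian.noetherian p
  have htne : ∃ y ∈ t, algebraMap A L y ≠ 0 := by
    by_contra! h
    obtain ⟨a, hap, ha⟩ := hne
    have : p ≤ RingHom.ker (algebraMap A L) := ht ▸ Submodule.span_le.mpr h
    exact ha (this hap)
  obtain ⟨y₀, hy₀, hy₀'⟩ := htne
  obtain ⟨x, hxt, hxmax⟩ := Finset.exists_max_image t
    (fun y => V.valuation (algebraMap A L y)) ⟨y₀, hy₀⟩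
  have hxp : x ∈ p := ht ▸ Submodule.subset_span hxt
  set ξ := algebraMap A L x
  have hξ0 : ξ ≠ 0 := fun h => by
    have := hxmax y₀ hy₀
    rw [h, map_zero, le_zero_iff, map_eq_zero] at this
    exact hy₀' this
  let G : Set L := (fun s => if s ∈ V then s else s⁻¹) '' S ∪ (fun y => algebraMap A L y / ξ) '' t
  let B : Subalgebra A L := Algebra.adjoin A G
  have hGfin : G.Finite := (hS.image _).union (t.finite_toSet.image _)
  have hBV : ∀ z ∈ B, z ∈ V := by
    intro z hz
    induction hz using Algebra.adjoin_induction with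
    | mem w hw =>
      rcases hw with ⟨s, -, rfl⟩ | ⟨y, hy, rfl⟩
      · dsimp only; split
        · assumption
        · exact (V.mem_or_inv_mem s).resolve_left (by assumption)
      · rw [← V.valuation_le_one_iff, map_div₀]
        exact div_le_one_of_le₀ (hxmax y hy) zero_le
    | algebraMap a => exact hV a
    | add _ _ _ _ h1 h2 => exact add_mem h1 h2
    | mul _ _ _ _ h1 h2 => exact mul_mem h1 h2
  have : IsNoetherianRing B := by
    have : Algebra.FiniteType A B :=
      (Subalgebra.fg_iff_finiteType B).mp ⟨hGfin.toFinset, by rw [Set.Finite.coe_toFinset]⟩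
    exact Algebra.FiniteType.isNoetherianRing A B
  have : IsNoetherianRing B.toSubring := ‹IsNoetherianRing B›
  let xB : B.toSubring := algebraMap A B x
  let mV : Ideal B.toSubring := (IsLocalRing.maximalIdeal V).comap
    ((B.toSubring.subtype).codRestrict V.toSubring fun b => hBV b.1 b.2)
  have hxmV : Ideal.span {xB} ≤ mV := by
    rw [Ideal.span_singleton_le_iff_mem]
    exact (V.valuation_lt_one_iff _).mpr (hp x hxp)
  have : mV.IsPrime := Ideal.IsPrime.comap _
  obtain ⟨P, hP, hPle⟩ := Ideal.exists_minimalPrimes_le hxmV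
  have : P.IsPrime := hP.1.1
  have hPht : P.height ≤ 1 :=
    Ideal.height_le_one_of_isPrincipal_of_mem_minimalPrimes (Ideal.span {xB}) P hP
  let C : LocalSubring L := LocalSubring.ofPrime B.toSubring P
  have : IsNoetherianRing C.toSubring :=
    IsLocalization.isNoetherianRing P.primeCompl C.toSubring ‹_›
  have : Ring.KrullDimLE 1 C.toSubring := by
    rw [Ring.krullDimLE_iff, IsLocalization.AtPrime.ringKrullDim_eq_height P C.toSubring]
    exact_mod_cast hPht
  have hBC : ∀ z ∈ B, z ∈ C.toSubring := fun z hz => LocalSubring.le_ofPrime B.toSubring P hz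
  have hC : ∀ z : L, ∃ a b : C.toSubring, (b : L) ≠ 0 ∧ z = a / b := by
    intro z
    have hle : Subfield.closure (Set.range (algebraMap A L) ∪ S) ≤
        Subfield.closure (B : Set L) := by
      rw [Subfield.closure_le]
      rintro w (⟨a, rfl⟩ | hw)
      · exact Subfield.subset_closure (B.algebraMap_mem a)
      · have : (if w ∈ V then w else w⁻¹) ∈ B := Algebra.subset_adjoin (Or.inl ⟨w, hw, rfl⟩)
        split_ifs at this
        · exact Subfield.subset_closure this
        · simpa using inv_mem (Subfield.subset_closure (s := (B : Set L)) this)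
    obtain ⟨y, hy, w, hw, rfl⟩ := Subfield.mem_closure_iff.mp (hle (hgen ▸ Subfield.mem_top z))
    rw [show (B : Set L) = (B.toSubring : Set L) from rfl, Subring.closure_eq] at hy hw
    by_cases h0 : w = 0
    · exact ⟨0, 1, one_ne_zero, by simp [h0]⟩
    · exact ⟨⟨y, hBC y hy⟩, ⟨w, hBC w hw⟩, h0, rfl⟩
  obtain ⟨R, hR, hRl⟩ := C.exists_le_valuationSubring
  have hpR : ∀ a ∈ p, R.valuation (algebraMap A L a) < 1 := by
    intro a ha
    have haP : algebraMap A B a ∈ P := by
      have : p.map (algebraMap A B) ≤ P := by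
        rw [← ht, Ideal.submodule_span_eq, Ideal.map_span, Ideal.span_le]
        rintro _ ⟨y, hy, rfl⟩
        have : algebraMap A B y = xB * ⟨_, Algebra.subset_adjoin (Or.inr ⟨y, hy, rfl⟩)⟩ :=
          Subtype.ext (show algebraMap A L y = ξ * (algebraMap A L y / ξ) by field_simp)
        rw [this]
        exact P.mul_mem_right _ (hP.1.2 (Ideal.subset_span rfl))
      exact this (Ideal.mem_map_of_mem _ ha)
    have hnu := (IsLocalization.AtPrime.to_map_mem_maximal_iff C.toSubring P (algebraMap A B a : B)).mpr haP
    refine (R.valuation_lt_one_iff ⟨algebraMap A L a, hR (hBC _ (B.algebraMap_mem a))⟩).mp ?_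
    exact fun hu => hnu (hRl.map_nonunit ⟨_, hBC _ (B.algebraMap_mem a)⟩ hu)
  refine ⟨R, isDiscreteValuationRing_of_krullDimLE_one C.toSubring hC R hR ?_,
    fun a => hR (hBC _ (B.algebraMap_mem a)), hpR⟩
  intro htop
  have h1 := hpR x hxp
  have h2 : ξ⁻¹ ∈ R := htop ▸ ValuationSubring.mem_top _
  have h3 := (R.valuation_le_one_iff _).mpr h2
  rw [map_inv₀, inv_le_one₀ (zero_lt_iff.mpr ((map_ne_zero _).mpr hξ0))] at h3
  exact absurd h3 (not_le.mpr h1)

/-- A Noetherian local ring mapping to a field `L` which is finitely generated over its image, such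
that the kernel is not the maximal ideal, is dominated by a discrete valuation ring. -/
theorem exists_isDiscreteValuationRing_dominating {A : Type v} [CommRing A] [IsNoetherianRing A]
    [IsLocalRing A] [Algebra A L] {S : Set L} (hS : S.Finite)
    (hgen : Subfield.closure (Set.range (algebraMap A L) ∪ S) = ⊤)
    (hker : RingHom.ker (algebraMap A L) ≠ IsLocalRing.maximalIdeal A) :
    ∃ R : ValuationSubring L, IsDiscreteValuationRing R ∧ (∀ a : A, algebraMap A L a ∈ R) ∧
      ∀ a ∈ IsLocalRing.maximalIdeal A, R.valuation (algebraMap A L a) < 1 := by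
  obtain ⟨V, hV, hl⟩ := IsLocalRing.exists_factor_valuationRing (algebraMap A L)
  refine exists_isDiscreteValuationRing_of_le hS hgen _ V hV (fun a ha => ?_) ?_
  · refine (V.valuation_lt_one_iff ⟨_, hV a⟩).mp ?_
    exact fun hu => ha (hl.map_nonunit a hu)
  · by_contra! h
    exact hker (le_antisymm (IsLocalRing.le_maximalIdeal (RingHom.ker_ne_top _))
      fun a ha => h a ha)

/-- Generators of a field over the fraction field of `A` generate it as a field over the image of `A`. -/
theorem closure_range_union_eq_top {A : Type v} [CommRing A] (K : Type*) [Field K] [Algebra A K]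
    [IsFractionRing A K] [Algebra K L] [Algebra A L] [IsScalarTower A K L] {S : Set L}
    (h : IntermediateField.adjoin K S = ⊤) :
    Subfield.closure (Set.range (algebraMap A L) ∪ S) = ⊤ := by
  refine eq_top_iff.mpr fun z _ => ?_
  have hz : z ∈ (IntermediateField.adjoin K S).toSubfield := by rw [h]; trivial
  rw [IntermediateField.adjoin_toSubfield] at hz
  refine Subfield.closure_le.mpr ?_ hz
  rintro w (⟨k, rfl⟩ | hw)
  · obtain ⟨a, b, -, rfl⟩ := IsFractionRing.div_surjective A k
    rw [map_div₀, ← IsScalarTower.algebraMap_apply, ← IsScalarTower.algebraMap_apply]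
    exact div_mem (Subfield.subset_closure (Or.inl ⟨a, rfl⟩))
      (Subfield.subset_closure (Or.inl ⟨b, rfl⟩))
  · exact Subfield.subset_closure (Or.inr hw)

end DVR

end Groth.L18
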