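import Groth.Agent.L18.ValCrit
import Mathlib.AlgebraicGeometry.AffineSpace
import Mathlib.AlgebraicGeometry.Morphisms.Proper
import Mathlib.AlgebraicGeometry.PullbackCarrier

/-!
Universal closedness can be tested on base changes to affine spaces.
-/

noncomputable section

namespace Groth.L18

open CategoryTheory AlgebraicGeometry Limits IsLocalRing TopologicalSpace

universe u

variable {X Y S : Scheme.{u}} {R : Type u} [CommRing R] [IsLocalRing R]

/-- The value of sections at a morphism from the spectrum of a local ring. -/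
def valueAt (g : Spec (CommRingCat.of R) ⟶ X) (U : X.Opens) (hU : g (closedPoint R) ∈ U) :
    Γ(X, U) ⟶ CommRingCat.of R :=
  X.presheaf.germ U _ hU ≫ Scheme.stalkClosedPointTo g

theorem valueAt_comp (g : Spec (CommRingCat.of R) ⟶ X) (φ : X ⟶ Y) (U : Y.Opens)
    (hU : (g ≫ φ) (closedPoint R) ∈ U) :
    valueAt (g ≫ φ) U hU = φ.app U ≫ valueAt g (φ ⁻¹ᵁ U) hU := by
  show Y.presheaf.germ U _ hU ≫ Scheme.stalkClosedPointTo (g ≫ φ) = _
  rw [Scheme.stalkClosedPointTo_comp]
  exact Scheme.Hom.germ_stalkMap_assoc φ U (g (closedPoint R)) hU (Scheme.stalkClosedPointTo g)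

theorem valueAt_congr {g g' : Spec (CommRingCat.of R) ⟶ X} (h : g = g') (U : X.Opens)
    (hU : g (closedPoint R) ∈ U) : valueAt g U hU = valueAt g' U (h ▸ hU) := by
  subst h; rfl

theorem valueAt_res (g : Spec (CommRingCat.of R) ⟶ X) {U U' : X.Opens} (hle : U' ≤ U)
    (hU' : g (closedPoint R) ∈ U') :
    X.presheaf.map (homOfLE hle).op ≫ valueAt g U' hU' = valueAt g U (hle hU') :=
  X.presheaf.germ_res_assoc (homOfLE hle) _ hU' _

theorem valueAt_top (g : Spec (CommRingCat.of R) ⟶ X) :
    valueAt g ⊤ trivial = g.appTop ≫ (Scheme.ΓSpecIso (CommRingCat.of R)).hom := by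
  refine (Scheme.germ_stalkClosedPointTo g ⊤ trivial).trans ?_
  simp only [Iso.trans_hom, Functor.mapIso_hom, Iso.op_hom, Scheme.Hom.appTop]
  congr 1

theorem SpecMap_valueAt_fromSpec (g : Spec (CommRingCat.of R) ⟶ X) {U : X.Opens} (hUaff : IsAffineOpen U)
    (hU : g (closedPoint R) ∈ U) : Spec.map (valueAt g U hU) ≫ hUaff.fromSpec = g := by
  rw [valueAt, Spec.map_comp, Category.assoc]
  exact (congrArg (Spec.map (Scheme.stalkClosedPointTo g) ≫ ·)
    (hUaff.fromSpecStalk_eq_fromSpecStalk hU)).trans (Scheme.Spec_stalkClosedPointTo_fromSpecStalk g)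

theorem mem_basicOpen_iff_isUnit_valueAt (g : Spec (CommRingCat.of R) ⟶ X) {U : X.Opens}
    (hU : g (closedPoint R) ∈ U) (v : Γ(X, U)) :
    g (closedPoint R) ∈ X.basicOpen v ↔ IsUnit ((valueAt g U hU).hom v) := by
  refine (X.mem_basicOpen v _ hU).trans ⟨fun h => h.map (Scheme.stalkClosedPointTo g).hom, fun h => ?_⟩
  exact (Scheme.isLocalHom_stalkClosedPointTo' g).map_nonunit _ h

set_option maxHeartbeats 1000000 in
/-- If the base changes to all affine spaces are closed, lifts exist for all valuation subrings of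
residue fields. -/
theorem exists_lift_of_affineSpace_closed (f : X ⟶ S) [QuasiCompact f]
    (H : ∀ n : ℕ, IsClosedMap (pullback.snd f (𝔸(ULift.{u} (Fin n); S) ↘ S)).base) (x : X)
    (V : ValuationSubring (X.residueField x)) (h : Spec (CommRingCat.of V) ⟶ S)
    (hh : Spec.map (CommRingCat.ofHom V.subtype) ≫ h = X.fromSpecResidueField x ≫ f) :
    ∃ l : Spec (CommRingCat.of V) ⟶ X,
      l ≫ f = h ∧ Spec.map (CommRingCat.ofHom V.subtype) ≫ l = X.fromSpecResidueField x := by
  classical
  obtain ⟨_, ⟨W, hW, rfl⟩, hcW, -⟩ := S.isBasis_affineOpens.exists_subset_of_mem_open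
    (Set.mem_univ (h (closedPoint V))) isOpen_univ
  replace hW : IsAffineOpen W := hW
  obtain ⟨s₀, hs₀, he⟩ := isCompact_and_isOpen_iff_finite_and_eq_biUnion_affineOpens.mp
    ⟨f.isCompact_preimage hW.isCompact, (f ⁻¹ᵁ W).2⟩
  obtain ⟨s, rfl⟩ := hs₀.exists_finset_coe
  have hle : ∀ U ∈ s, (U : X.Opens) ≤ f ⁻¹ᵁ W := fun U hU y hy =>
    he.ge (Set.mem_iUnion₂.mpr ⟨U, hU, hy⟩)
  by_cases hall : ∃ U ∈ s, ∃ hx : x ∈ (U : X.Opens), ∀ a, (X.evaluation U x hx).hom a ∈ V
  · obtain ⟨U, hU, hx, hmem⟩ := hall
    exact exists_lift_of_evaluation_mem f V h hh U.2 hx hW (hle U hU) hcW hmem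
  exfalso
  push Not at hall
  choose! c hc using fun U (hU : U ∈ s) => fun hx : x ∈ (U : X.Opens) => hall U hU hx
  let ι := {U // U ∈ s ∧ x ∈ (U : X.Opens)}
  have : Finite ι := Finite.of_injective (fun j : ι => (⟨j.1, j.2.1⟩ : {U // U ∈ s}))
    fun i j h => Subtype.ext (congrArg Subtype.val h :)
  obtain ⟨n, ⟨en⟩⟩ := Finite.exists_equiv_fin ι
  let t : ι → V := fun j => ⟨((X.evaluation j.1 x j.2.2).hom (c j.1))⁻¹,
    (V.mem_or_inv_mem _).resolve_left (hc j.1 j.2.1 j.2.2)⟩
  let b : Spec (CommRingCat.of V) ⟶ 𝔸(ULift.{u} (Fin n); S) :=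
    AffineSpace.homOfVector h fun i => (Scheme.ΓSpecIso (CommRingCat.of V)).inv.hom (t (en.symm i.down))
  set p := 𝔸(ULift.{u} (Fin n); S) ↘ S
  let a : Spec (X.residueField x) ⟶ pullback f p :=
    pullback.lift (X.fromSpecResidueField x) (Spec.map (CommRingCat.ofHom V.subtype) ≫ b)
      (by rw [Category.assoc, AffineSpace.homOfVector_over]; exact hh.symm)
  let pt : ↥(Spec (CommRingCat.of (X.residueField x))) := closedPoint (X.residueField x)
  let cp : ↥(Spec (CommRingCat.of V)) := closedPoint V
  let a' : Spec (CommRingCat.of (X.residueField x)) ⟶ pullback f p := a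
  have hspec : pullback.snd f p (a' pt) ⤳ b cp := by
    rw [← Scheme.Hom.comp_apply]
    show (a' ≫ pullback.snd f p) pt ⤳ b cp
    rw [show a' ≫ pullback.snd f p = Spec.map (CommRingCat.ofHom V.subtype) ≫ b from
      pullback.lift_snd _ _ _, Scheme.Hom.comp_apply]
    exact (specializes_closedPoint _).map b.continuous
  obtain ⟨z', hz', hz'q⟩ := hspec.mem_closed ((H n) _ isClosed_closure)
    ⟨a' pt, subset_closure (Set.mem_singleton _), rfl⟩
  replace hz' : a' pt ⤳ z' := specializes_iff_mem_closure.mpr hz'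
  have hx'W : pullback.fst f p z' ∈ f ⁻¹ᵁ W := by
    show f (pullback.fst f p z') ∈ W
    have h1 : f (pullback.fst f p z') = p (pullback.snd f p z') := by
      rw [← Scheme.Hom.comp_apply, ← Scheme.Hom.comp_apply, pullback.condition]
    have h2 : p (b cp) = h cp := by
      rw [← Scheme.Hom.comp_apply]
      exact congrArg (fun φ => φ cp) (AffineSpace.homOfVector_over h _)
    rw [h1, hz'q, h2]
    exact hcW
  obtain ⟨U, hU, hx'U⟩ := Set.mem_iUnion₂.mp (he.le hx'W)
  have hfst : pullback.fst f p (a' pt) = x := by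
    rw [← Scheme.Hom.comp_apply, show a' ≫ pullback.fst f p = X.fromSpecResidueField x from
      pullback.lift_fst _ _ _]
    exact Scheme.fromSpecResidueField_apply _ _
  have hx : x ∈ (U : X.Opens) := by
    rw [← hfst]
    exact (hz'.map (pullback.fst f p).continuous).mem_open U.1.2 hx'U
  let j : ι := ⟨U, hU, hx⟩
  let O : (pullback f p).Opens := pullback.fst f p ⁻¹ᵁ U.1
  have hzO : a' (closedPoint (X.residueField x)) ∈ O := by
    show pullback.fst f p (a' pt) ∈ U.1
    rw [hfst]
    exact hx
  let T : Γ(𝔸(ULift.{u} (Fin n); S), ⊤) := AffineSpace.coord S ⟨en j⟩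
  let w : Γ(pullback f p, O) := ((pullback f p).presheaf.map (homOfLE le_top).op).hom
    ((pullback.snd f p).appTop.hom T)
  let u : Γ(pullback f p, O) := ((pullback.fst f p).app U).hom (c U) * w
  have hb : (valueAt b ⊤ trivial).hom T = t j := by
    rw [valueAt_top]
    show (Scheme.ΓSpecIso _).hom.hom (b.appTop.hom T) = _
    erw [AffineSpace.homOfVector_appTop_coord]
    simp
  have hu : (valueAt a' O hzO).hom u = 1 := by
    have e1 : (valueAt a' O hzO).hom (((pullback.fst f p).app U).hom (c U)) =
        (X.evaluation U x hx).hom (c U) := by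
      have hU' : (a' ≫ pullback.fst f p) (closedPoint (X.residueField x)) ∈ (U : X.Opens) := hzO
      have h1 := congr($(valueAt_comp a' (pullback.fst f p) U hU') (c U))
      refine h1.symm.trans ?_
      let r : Spec (CommRingCat.of (X.residueField x)) ⟶ X := X.fromSpecResidueField x
      refine (congr($(valueAt_congr (show a' ≫ pullback.fst f p = r from
        pullback.lift_fst _ _ _) U.1 hU') (c U))).trans ?_
      have hUaff : IsAffineOpen (U : X.Opens) := U.2
      have hr : r (closedPoint (X.residueField x)) ∈ U.1 :=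
        (Scheme.fromSpecResidueField_apply (X := X) x pt).symm ▸ hx
      have h2 := SpecMap_valueAt_fromSpec r hUaff hr
      have h3 := SpecMap_evaluation_fromSpec hUaff x hx
      have h4 := Spec.map_injective ((cancel_mono hUaff.fromSpec).mp (h2.trans h3.symm))
      exact congr($h4 (c U))
    have e2 : (valueAt a' O hzO).hom w = (t j : X.residueField x) := by
      have h1 := congr($(valueAt_res a' (le_top (a := O)) hzO) ((pullback.snd f p).appTop.hom T))
      refine h1.trans ?_
      have h2 := congr($(valueAt_comp a' (pullback.snd f p) ⊤ trivial) T)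
      refine h2.symm.trans ?_
      refine (congr($(valueAt_congr (show a' ≫ pullback.snd f p =
        Spec.map (CommRingCat.ofHom V.subtype) ≫ b from pullback.lift_snd _ _ _) ⊤ trivial) T)).trans ?_
      rw [valueAt_top]
      show (Scheme.ΓSpecIso _).hom.hom
        ((Spec.map (CommRingCat.ofHom V.subtype) ≫ b).appTop.hom T) = _
      rw [Scheme.Hom.comp_appTop]
      have h3 := congr($(Scheme.ΓSpecIso_naturality (CommRingCat.ofHom V.subtype)) (b.appTop.hom T))
      refine h3.trans ?_
      rw [← hb, valueAt_top]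
      rfl
    show (valueAt a' O hzO).hom (_ * w) = 1
    rw [map_mul, e1, e2]
    exact mul_inv_cancel₀ fun h0 => hc U hU hx (by rw [h0]; exact zero_mem V)
  have hnot : z' ∉ (pullback f p).basicOpen (u - 1) := by
    intro hz
    have := (mem_basicOpen_iff_isUnit_valueAt a' hzO (u - 1)).mp
      (hz'.mem_open ((pullback f p).basicOpen (u - 1)).2 hz)
    rw [map_sub, map_one, hu, sub_self] at this
    exact not_isUnit_zero this
  have hz'O : z' ∈ O := hx'U
  have hwu : IsUnit (((pullback f p).presheaf.germ O z' hz'O).hom w) := by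
    have h1 : IsUnit (((pullback f p).presheaf.germ O z' hz'O).hom u) := by
      rcases isUnit_or_isUnit_one_sub_self (((pullback f p).presheaf.germ O z' hz'O).hom u) with h | h
      · exact h
      · refine absurd (((pullback f p).mem_basicOpen _ _ hz'O).mpr ?_) hnot
        rw [← map_one ((pullback f p).presheaf.germ O z' hz'O).hom, ← map_sub] at h
        have := h.neg
        rwa [← map_neg, neg_sub] at this
    rw [map_mul] at h1
    exact isUnit_of_mul_isUnit_right h1
  have hq : b cp ∈ (𝔸(ULift.{u} (Fin n); S)).basicOpen T := by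
    rw [← hz'q]
    have h1 : z' ∈ (pullback f p).basicOpen w := ((pullback f p).mem_basicOpen _ _ hz'O).mpr hwu
    rw [Scheme.basicOpen_res] at h1
    have h2 := h1.2
    exact (Scheme.preimage_basicOpen (pullback.snd f p) T).ge h2
  have hunit : IsUnit (t j) := hb ▸ (mem_basicOpen_iff_isUnit_valueAt b (U := ⊤) trivial T).mp hq
  obtain ⟨⟨i, hi⟩, hi'⟩ := hunit.exists_right_inv
  refine hc U hU hx ?_
  have h1 : ((X.evaluation U x hx).hom (c U))⁻¹ * i = 1 := congrArg Subtype.val hi'
  show (X.evaluation U x hx).hom (c U) ∈ V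
  rw [← inv_inv ((X.evaluation U x hx).hom (c U)), ← eq_inv_of_mul_eq_one_right h1]
  exact hi

/-- A quasi-compact morphism is universally closed if its base changes to affine spaces are closed. -/
theorem universallyClosed_of_affineSpace (f : X ⟶ S) [QuasiCompact f]
    (H : ∀ n : ℕ, IsClosedMap (pullback.snd f (𝔸(ULift.{u} (Fin n); S) ↘ S)).base) :
    UniversallyClosed f :=
  .of_valuativeCriterion f (existence_of_residueField f (exists_lift_of_affineSpace_closed f H))

theorem isClosedMap_pullback_snd (f : X ⟶ S) [UniversallyClosed f] (g : Y ⟶ S) :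
    IsClosedMap (pullback.snd f g).base :=
  (pullback.snd f g).isClosedMap

/-- Properness from closedness of the maps induced on base changes, the target separated over the base. -/
theorem universallyClosed_of_closed_induced (q : Y ⟶ S) (f : X ⟶ Y) [IsSeparated q] [QuasiCompact f]
    (H : ∀ (S' : Scheme.{u}) (g : S' ⟶ S),
      IsClosedMap (pullback.map (f ≫ q) g q g f (𝟙 S') (𝟙 S) (Category.comp_id (f ≫ q))
        ((Category.comp_id g).trans (Category.id_comp g).symm)).base) :
    UniversallyClosed f := by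
  refine universallyClosed_of_affineSpace f fun n => ?_
  set p := 𝔸(ULift.{u} (Fin n); Y) ↘ Y
  let j : pullback f p ⟶ pullback (f ≫ q) (p ≫ q) := pullback.mapDesc f p q
  let Δ : 𝔸(ULift.{u} (Fin n); Y) ⟶ pullback q (p ≫ q) := pullback.lift p (𝟙 _) (Category.id_comp _).symm
  let m := pullback.map (f ≫ q) (p ≫ q) q (p ≫ q) f (𝟙 _) (𝟙 S) (Category.comp_id (f ≫ q))
    ((Category.comp_id (p ≫ q)).trans (Category.id_comp (p ≫ q)).symm)
  have hsq : j ≫ m = pullback.snd f p ≫ Δ := by
    apply pullback.hom_ext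
    · simp only [j, m, Δ, pullback.mapDesc, pullback.map, Category.comp_id, Category.assoc]
      erw [pullback.lift_fst, pullback.lift_fst_assoc, pullback.lift_fst, pullback.condition]
    · simp only [j, m, Δ, pullback.mapDesc, pullback.map, Category.comp_id, Category.assoc]
      erw [pullback.lift_snd, pullback.lift_snd, pullback.lift_snd, Category.comp_id]
  have hinj : Function.Injective Δ := by
    intro a b hab
    have := congrArg (pullback.snd q (p ≫ q)) hab
    rwa [← Scheme.Hom.comp_apply, ← Scheme.Hom.comp_apply, pullback.lift_snd] at this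
  intro Z hZ
  have himg : (pullback.snd f p).base '' Z = Δ ⁻¹' (m '' (j '' Z)) := by
    rw [← Set.image_comp, ← TopCat.coe_comp, ← Scheme.Hom.comp_base, hsq, Scheme.Hom.comp_base,
      TopCat.coe_comp, Set.image_comp, Set.preimage_image_eq _ hinj]
  rw [himg]
  exact (H _ (p ≫ q) _ (j.isClosedEmbedding.isClosedMap _ hZ)).preimage Δ.continuous

end Groth.L18
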