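import Mathlib.RingTheory.GradedAlgebra.Homogeneous.Ideal
import Mathlib.RingTheory.GradedAlgebra.Radical
import Mathlib.RingTheory.GradedAlgebra.FiniteType
import Mathlib.RingTheory.FiniteType
import Mathlib.RingTheory.Noetherian.Nilpotent
import Mathlib.RingTheory.GradedAlgebra.Noetherian
import Mathlib.Algebra.Group.Submonoid.BigOperators
import Mathlib.RingTheory.Adjoin.FG
import Mathlib.Algebra.Algebra.Operations
import Mathlib.Tactic.Ring

/-!
Generators of `ℕ`-graded algebras: irrelevant ideal versus algebra generators over degree zero,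
and stabilisation of degrees.
-/

noncomputable section

namespace Groth.L18

open HomogeneousIdeal DirectSum

universe u

variable {R A : Type u} [CommRing R] [CommRing A] [Algebra R A]
variable (𝒜 : ℕ → Submodule R A) [GradedAlgebra 𝒜]

theorem proj_mul_of_right_mem {c e : A} {d : ℕ} (he : e ∈ 𝒜 d) (n : ℕ) :
    GradedRing.proj 𝒜 n (c * e) = if d ≤ n then GradedRing.proj 𝒜 (n - d) c * e else 0 := by
  rw [GradedRing.proj_apply, GradedRing.proj_apply]
  exact DirectSum.coe_decompose_mul_of_right_mem 𝒜 n he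

theorem proj_of_mem {a : A} {n : ℕ} (ha : a ∈ 𝒜 n) : GradedRing.proj 𝒜 n a = a := by
  rw [GradedRing.proj_apply, DirectSum.decompose_of_mem_same 𝒜 ha]

theorem proj_of_mem_ne {a : A} {m n : ℕ} (ha : a ∈ 𝒜 m) (h : m ≠ n) :
    GradedRing.proj 𝒜 n a = 0 := by
  rw [GradedRing.proj_apply, DirectSum.decompose_of_mem_ne 𝒜 ha h]

theorem proj_mem (a : A) (n : ℕ) : GradedRing.proj 𝒜 n a ∈ 𝒜 n := by
  rw [GradedRing.proj_apply]
  exact SetLike.coe_mem _

theorem sub_proj_zero_mem_irrelevant (a : A) :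
    a - GradedRing.proj 𝒜 0 a ∈ (irrelevant 𝒜).toIdeal := by
  rw [HomogeneousIdeal.mem_iff, mem_irrelevant_iff, map_sub, proj_of_mem 𝒜 (proj_mem 𝒜 a 0), sub_self]

theorem mem_adjoin_of_irrelevant_le_span (E : Set A) (hE : ∀ e ∈ E, ∃ d : ℕ, 0 < d ∧ e ∈ 𝒜 d)
    (h : (irrelevant 𝒜).toIdeal ≤ Ideal.span E) (n : ℕ) :
    ∀ a ∈ 𝒜 n, a ∈ Algebra.adjoin (𝒜 0) E := by
  induction n using Nat.strong_induction_on with
  | _ n IH =>
    intro a ha
    rcases Nat.eq_zero_or_pos n with rfl | hn
    · exact Subalgebra.algebraMap_mem (Algebra.adjoin (𝒜 0) E) (⟨a, ha⟩ : 𝒜 0)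
    · have hspan : a ∈ Ideal.span E := h (mem_irrelevant_of_mem 𝒜 hn ha)
      suffices H : ∀ x ∈ Ideal.span E, ∀ c : A,
          GradedRing.proj 𝒜 n (c * x) ∈ Algebra.adjoin (𝒜 0) E by
        have := H a hspan 1
        rwa [one_mul, proj_of_mem 𝒜 ha] at this
      intro x hx
      refine Submodule.span_induction ?_ ?_ ?_ ?_ hx
      · intro e he c
        obtain ⟨d, hd, hed⟩ := hE e he
        rw [proj_mul_of_right_mem 𝒜 hed]
        split
        · exact mul_mem (IH (n - d) (by omega) _ (proj_mem 𝒜 _ _)) (Algebra.subset_adjoin he)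
        · exact zero_mem _
      · intro c; simp
      · intro x y _ _ hx hy c
        rw [mul_add, map_add]
        exact add_mem (hx c) (hy c)
      · intro r x _ hx c
        rw [smul_eq_mul, ← mul_assoc]
        exact hx _

theorem irrelevant_eq_span_iff (E : Set A) (hE : ∀ e ∈ E, ∃ d : ℕ, 0 < d ∧ e ∈ 𝒜 d) :
    (irrelevant 𝒜).toIdeal = Ideal.span E ↔ Algebra.adjoin (𝒜 0) E = ⊤ := by
  classical
  have hle : Ideal.span E ≤ (irrelevant 𝒜).toIdeal := by
    rw [Ideal.span_le]
    intro e he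
    obtain ⟨d, hd, hed⟩ := hE e he
    exact mem_irrelevant_of_mem 𝒜 hd hed
  constructor
  · intro h
    rw [_root_.eq_top_iff]
    rintro a -
    rw [← DirectSum.sum_support_decompose 𝒜 a]
    exact sum_mem fun i _ => mem_adjoin_of_irrelevant_le_span 𝒜 E hE h.le i _ (SetLike.coe_mem _)
  · intro h
    refine le_antisymm ?_ hle
    intro x hx
    have key : ∀ y ∈ Algebra.adjoin (𝒜 0) E, y - GradedRing.proj 𝒜 0 y ∈ Ideal.span E := by
      intro y hy
      induction hy using Algebra.adjoin_induction with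
      | mem y hy =>
        obtain ⟨d, hd, hyd⟩ := hE y hy
        rw [proj_of_mem_ne 𝒜 hyd hd.ne', sub_zero]
        exact Ideal.subset_span hy
      | algebraMap r =>
        rw [show algebraMap (𝒜 0) A r = (r : A) from rfl, proj_of_mem 𝒜 r.2, sub_self]
        exact zero_mem _
      | add y z _ _ hy hz =>
        rw [map_add, add_sub_add_comm]
        exact add_mem hy hz
      | mul y z _ _ hy hz =>
        have : GradedRing.proj 𝒜 0 (y * z) = GradedRing.proj 𝒜 0 y * GradedRing.proj 𝒜 0 z := by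
          exact map_mul (GradedRing.projZeroRingHom 𝒜) y z
        rw [this]
        convert! add_mem (Ideal.mul_mem_left _ y hz)
          (Ideal.mul_mem_right (GradedRing.proj 𝒜 0 z) _ hy) using 1
        ring
    have := key x (h ▸ Algebra.mem_top)
    rwa [(mem_irrelevant_iff 𝒜 x).mp hx, sub_zero] at this

theorem finiteType_iff_irrelevant_fg :
    (irrelevant 𝒜).toIdeal.FG ↔ Algebra.FiniteType (𝒜 0) A := by
  classical
  constructor
  · rintro ⟨s, hs⟩
    let T : Finset A := s.biUnion fun x =>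
      ((DirectSum.decompose 𝒜 x).support.filter (· ≠ 0)).image fun i => (DirectSum.decompose 𝒜 x i : A)
    have hT : ∀ e ∈ (T : Set A), ∃ d : ℕ, 0 < d ∧ e ∈ 𝒜 d := by
      intro e he
      simp only [T, Finset.mem_coe, Finset.mem_biUnion, Finset.mem_image, Finset.mem_filter] at he
      obtain ⟨x, hx, i, ⟨hi, hi0⟩, rfl⟩ := he
      exact ⟨i, Nat.pos_of_ne_zero hi0, SetLike.coe_mem _⟩
    have hspan : (irrelevant 𝒜).toIdeal = Ideal.span (T : Set A) := by
      apply le_antisymm
      · rw [← hs, Ideal.span_le]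
        intro x hx
        have hx' : GradedRing.proj 𝒜 0 x = 0 := by
          rw [← mem_irrelevant_iff, ← HomogeneousIdeal.mem_iff, ← hs]
          exact Submodule.subset_span hx
        rw [← DirectSum.sum_support_decompose 𝒜 x]
        refine Ideal.sum_mem _ fun i hi => ?_
        rcases eq_or_ne i 0 with rfl | hi0
        · rw [GradedRing.proj_apply] at hx'
          rw [hx']; exact zero_mem _
        · apply Ideal.subset_span
          simp only [T, Finset.mem_coe, Finset.mem_biUnion, Finset.mem_image, Finset.mem_filter]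
          exact ⟨x, hx, i, ⟨hi, hi0⟩, rfl⟩
      · rw [Ideal.span_le]
        intro e he
        obtain ⟨d, hd, hed⟩ := hT e he
        exact mem_irrelevant_of_mem 𝒜 hd hed
    exact ⟨⟨T, (irrelevant_eq_span_iff 𝒜 _ hT).mp hspan⟩⟩
  · intro h
    obtain ⟨s, hs, hs'⟩ := GradedAlgebra.exists_finset_adjoin_eq_top_and_homogeneous_ne_zero 𝒜
    refine ⟨s, ((irrelevant_eq_span_iff 𝒜 _ fun e he => ?_).mpr hs).symm⟩
    obtain ⟨n, hn, hn'⟩ := hs' e he
    exact ⟨n, Nat.pos_of_ne_zero hn, hn'⟩

theorem isNoetherianRing_iff :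
    IsNoetherianRing A ↔ IsNoetherianRing (𝒜 0) ∧ Algebra.FiniteType (𝒜 0) A := by
  constructor
  · intro h
    exact ⟨inferInstance, (finiteType_iff_irrelevant_fg 𝒜).mp (IsNoetherian.noetherian _)⟩
  · rintro ⟨h1, h2⟩
    exact Algebra.FiniteType.isNoetherianRing (𝒜 0) A

theorem exists_degree_le_irrelevant_pow [Algebra.FiniteType (𝒜 0) A] (n : ℕ) :
    ∃ m₀ : ℕ, ∀ m : ℕ, m₀ ≤ m → ∀ a ∈ 𝒜 m, a ∈ (irrelevant 𝒜).toIdeal ^ n := by
  classical
  obtain ⟨s, hs, hs'⟩ := GradedAlgebra.exists_finset_adjoin_eq_top_and_homogeneous_ne_zero 𝒜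
  choose! d hd0 hd using hs'
  have hspan : (irrelevant 𝒜).toIdeal = Ideal.span (s : Set A) :=
    (irrelevant_eq_span_iff 𝒜 _ fun e he => ⟨d e, Nat.pos_of_ne_zero (hd0 e he), hd e he⟩).mpr hs
  set D := s.sup d with hD
  refine ⟨n * D + 1, fun m hm => ?_⟩
  induction n generalizing m with
  | zero => intro a _; simp
  | succ n IH =>
    intro a ha
    have ha1 : a ∈ Ideal.span (s : Set A) := hspan ▸ mem_irrelevant_of_mem 𝒜 (by omega) ha
    suffices H : ∀ x ∈ Ideal.span (s : Set A), ∀ c : A,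
        GradedRing.proj 𝒜 m (c * x) ∈ (irrelevant 𝒜).toIdeal ^ (n + 1) by
      have := H a ha1 1
      rwa [one_mul, proj_of_mem 𝒜 ha] at this
    intro x hx
    refine Submodule.span_induction ?_ ?_ ?_ ?_ hx
    · intro e he c
      rw [proj_mul_of_right_mem 𝒜 (hd e he)]
      split
      · rw [pow_succ]
        refine Ideal.mul_mem_mul (IH (m - d e) ?_ _ (proj_mem 𝒜 _ _))
          (hspan ▸ Ideal.subset_span he)
        have : d e ≤ D := Finset.le_sup (f := d) he
        rw [Nat.add_mul, one_mul] at hm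
        omega
      · exact zero_mem _
    · intro c; simp
    · intro x y _ _ hx hy c
      rw [mul_add, map_add]
      exact add_mem (hx c) (hy c)
    · intro r x _ hx c
      rw [smul_eq_mul, ← mul_assoc]
      exact hx _

/-- Every element of degree `N` is an `𝒜 0`-combination of monomials of degree `N` in homogeneous
algebra generators. -/
theorem mem_span_monomials (s : Finset A) (d : A → ℕ) (hd : ∀ e ∈ s, e ∈ 𝒜 (d e))
    (hs : Algebra.adjoin (𝒜 0) (s : Set A) = ⊤) (N : ℕ) {a : A} (ha : a ∈ 𝒜 N) :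
    a ∈ Submodule.span (𝒜 0) {x | ∃ f : A → ℕ, (∑ e ∈ s, f e * d e) = N ∧ x = ∏ e ∈ s, e ^ f e} := by
  classical
  set S := Submodule.span (𝒜 0) {x | ∃ f : A → ℕ, (∑ e ∈ s, f e * d e) = N ∧ x = ∏ e ∈ s, e ^ f e}
  have hmem : a ∈ Submodule.span (𝒜 0) (Submonoid.closure (s : Set A) : Set A) := by
    rw [← Algebra.adjoin_eq_span, hs]
    trivial
  suffices H : ∀ x ∈ Submodule.span (𝒜 0) (Submonoid.closure (s : Set A) : Set A),
      GradedRing.proj 𝒜 N x ∈ S by
    simpa [proj_of_mem 𝒜 ha] using H a hmem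
  intro x hx
  refine Submodule.span_induction ?_ ?_ ?_ ?_ hx
  · intro x hx
    obtain ⟨f, -, rfl⟩ := Submonoid.mem_closure_finset.mp hx
    have hdeg : ∏ e ∈ s, e ^ f e ∈ 𝒜 (∑ e ∈ s, f e * d e) := by
      refine SetLike.prod_mem_graded 𝒜 (fun e => f e * d e) (fun e => e ^ f e) ?_
      intro e he
      simpa using SetLike.pow_mem_graded (f e) (hd e he)
    rcases eq_or_ne (∑ e ∈ s, f e * d e) N with h | h
    · rw [proj_of_mem 𝒜 (h ▸ hdeg)]
      exact Submodule.subset_span ⟨f, h, rfl⟩
    · rw [proj_of_mem_ne 𝒜 hdeg h]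
      exact zero_mem _
  · simp
  · intro x y _ _ hx hy
    rw [map_add]; exact add_mem hx hy
  · intro r x _ hx
    have : GradedRing.proj 𝒜 N (r • x) = r • GradedRing.proj 𝒜 N x := by
      rw [Algebra.smul_def, Algebra.smul_def, GradedRing.proj_apply, GradedRing.proj_apply]
      exact DirectSum.coe_decompose_mul_of_left_mem_zero 𝒜 r.2
    rw [this]; exact S.smul_mem r hx

/-- Elements of degree `N` of a degree-`0`-stable submodule. -/
theorem smul_mem_degree {N : ℕ} (r : 𝒜 0) {x : A} (hx : x ∈ 𝒜 N) : r • x ∈ 𝒜 N := by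
  rw [Algebra.smul_def]
  simpa using SetLike.mul_mem_graded r.2 hx

/-- A common period: large degrees are the degree `h` part times the degree lowered by `h`. -/
theorem exists_period [Algebra.FiniteType (𝒜 0) A] :
    ∃ h : ℕ, 0 < h ∧ ∀ N : ℕ, 2 * h ≤ N → 𝒜 N = 𝒜 h * 𝒜 (N - h) := by
  classical
  obtain ⟨s, hs, hs'⟩ := GradedAlgebra.exists_finset_adjoin_eq_top_and_homogeneous_ne_zero 𝒜
  choose! d hd0 hd using hs'
  set D := ∏ e ∈ s, d e with hD
  have hDpos : 0 < D := Finset.prod_pos fun e he => Nat.pos_of_ne_zero (hd0 e he)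
  set k := s.card + 1 with hk
  have step : ∀ N, k * D ≤ N → 𝒜 N ≤ 𝒜 D * 𝒜 (N - D) := by
    intro N hN a ha
    have hspan := mem_span_monomials 𝒜 s d hd hs N ha
    refine Submodule.span_induction ?_ ?_ ?_ ?_ hspan
    · rintro x ⟨f, hf, rfl⟩
      have : ∃ e ∈ s, D ≤ f e * d e := by
        by_contra hcon
        push Not at hcon
        have h1 : ∑ e ∈ s, f e * d e ≤ s.card • D :=
          Finset.sum_le_card_nsmul _ _ _ fun e he => (hcon e he).le
        rw [smul_eq_mul] at h1
        have h2 : k * D = s.card * D + D := by rw [hk]; ring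
        omega
      obtain ⟨e, he, hle⟩ := this
      have hdvd : d e ∣ D := Finset.dvd_prod_of_mem _ he
      obtain ⟨q, hq⟩ := hdvd
      have hqf : q ≤ f e := by
        have hpos := Nat.pos_of_ne_zero (hd0 e he)
        rw [hq, mul_comm] at hle
        exact Nat.le_of_mul_le_mul_right hle hpos
      rw [← Finset.mul_prod_erase s (fun e => e ^ f e) he, ← Nat.add_sub_cancel' hqf, pow_add,
        mul_assoc]
      refine Submodule.mul_mem_mul ?_ ?_
      · have := SetLike.pow_mem_graded q (hd e he)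
        rw [smul_eq_mul] at this
        rwa [hq, mul_comm]
      · have h1 := SetLike.pow_mem_graded (f e - q) (hd e he)
        rw [smul_eq_mul] at h1
        have h2 : ∏ e' ∈ s.erase e, e' ^ f e' ∈ 𝒜 (∑ e' ∈ s.erase e, f e' * d e') := by
          refine SetLike.prod_mem_graded 𝒜 (fun e => f e * d e) (fun e => e ^ f e) ?_
          intro e' he'
          simpa using SetLike.pow_mem_graded (f e') (hd e' (Finset.mem_of_mem_erase he'))
        have h3 := SetLike.mul_mem_graded h1 h2
        convert h3 using 2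
        rw [← hf, ← Finset.add_sum_erase s (fun e => f e * d e) he, hq, mul_comm (d e) q, Nat.sub_mul]
        have : q * d e ≤ f e * d e := Nat.mul_le_mul_right _ hqf
        omega
    · exact zero_mem _
    · intro x y _ _ hx hy; exact add_mem hx hy
    · intro r x _ hx
      refine Submodule.mul_induction_on hx ?_ ?_
      · intro u hu v hv
        rw [← smul_mul_assoc]
        exact Submodule.mul_mem_mul (smul_mem_degree 𝒜 r hu) hv
      · intro u v hu hv
        rw [smul_add]; exact add_mem hu hv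
  have steps : ∀ i N, i ≤ k → 2 * (k * D) ≤ N → 𝒜 N ≤ 𝒜 (i * D) * 𝒜 (N - i * D) := by
    intro i
    induction i with
    | zero =>
      intro N _ _ a ha
      simpa using Submodule.mul_mem_mul (SetLike.one_mem_graded 𝒜) ha
    | succ i IH =>
      intro N hi hN
      have hle : i * D ≤ k * D := Nat.mul_le_mul_right _ (by omega)
      refine (IH N (by omega) hN).trans ((mul_le_mul_right (step (N - i * D) (by omega)) _).trans ?_)
      rw [← mul_assoc]
      have h1 : N - i * D - D = N - (i + 1) * D := by rw [Nat.add_mul, one_mul]; omega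
      rw [h1]
      refine mul_le_mul_left ?_ _
      rw [Submodule.mul_le]
      intro u hu v hv
      rw [Nat.add_mul, one_mul]
      exact SetLike.mul_mem_graded hu hv
  refine ⟨k * D, Nat.mul_pos (by omega) hDpos, fun N hN => le_antisymm (steps k N le_rfl hN) ?_⟩
  rw [Submodule.mul_le]
  intro u hu v hv
  have := SetLike.mul_mem_graded hu hv
  rwa [Nat.add_sub_cancel' (by omega)] at this

theorem exists_veronese_pow [Algebra.FiniteType (𝒜 0) A] :
    ∃ h : ℕ, 0 < h ∧ ∀ m : ℕ, 0 < m → 𝒜 (m * h) = 𝒜 h ^ m := by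
  obtain ⟨h, hh, H⟩ := exists_period 𝒜
  refine ⟨h, hh, fun m hm => ?_⟩
  induction m with
  | zero => omega
  | succ m IH =>
    rcases Nat.eq_zero_or_pos m with rfl | hm'
    · simp
    · rw [H ((m + 1) * h) (by nlinarith), show (m + 1) * h - h = m * h by
        rw [Nat.add_mul, one_mul, Nat.add_sub_cancel], IH hm', pow_succ']

end Groth.L18
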