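import Mathlib.AlgebraicGeometry.ProjectiveSpectrum.Basic
import Mathlib.AlgebraicGeometry.ProjectiveSpectrum.Proper
import Mathlib.AlgebraicGeometry.Noetherian
import Mathlib.AlgebraicGeometry.Properties
import Mathlib.RingTheory.GradedAlgebra.Radical
import Mathlib.RingTheory.Noetherian.Nilpotent
import Groth.Agent.L18.GradedGen

/-!
The underlying space of `Proj`: closed sets, nilpotents of the irrelevant ideal, covers by basic
opens, reducedness, noetherianity.
-/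

noncomputable section

namespace Groth.L18

open HomogeneousIdeal DirectSum CategoryTheory AlgebraicGeometry

universe u

variable {R A : Type u} [CommRing R] [CommRing A] [Algebra R A]
variable (𝒜 : ℕ → Submodule R A) [GradedAlgebra 𝒜]

open ProjectiveSpectrum in
theorem vanishingIdeal_zeroLocus_of_homogeneous (I : HomogeneousIdeal 𝒜) :
    (irrelevant 𝒜).toIdeal ⊓ (vanishingIdeal (zeroLocus 𝒜 (I : Set A))).toIdeal
      = (irrelevant 𝒜).toIdeal ⊓ I.toIdeal.radical := by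
  apply le_antisymm
  · rintro f ⟨hf1, hf2⟩
    refine ⟨hf1, ?_⟩
    rw [I.isHomogeneous.radical_eq]
    rw [SetLike.mem_coe, Ideal.mem_sInf]
    rintro P ⟨hPh, hIP, hP⟩
    by_cases hirr : irrelevant 𝒜 ≤ (⟨P, hPh⟩ : HomogeneousIdeal 𝒜)
    · exact hirr hf1
    · let x : ProjectiveSpectrum 𝒜 := ⟨⟨P, hPh⟩, hP, hirr⟩
      have hx : x ∈ zeroLocus 𝒜 (I : Set A) := by
        rw [mem_zeroLocus]
        exact hIP
      exact ((mem_vanishingIdeal _ _).mp hf2) x hx
  · rintro f ⟨hf1, hf2⟩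
    refine ⟨hf1, ?_⟩
    refine (mem_vanishingIdeal _ _).mpr fun x hx => ?_
    exact (x.isPrime.radical_le_iff.mpr (show I.toIdeal ≤ x.asHomogeneousIdeal.toIdeal from
      (mem_zeroLocus 𝒜 x _).mp hx)) hf2

open ProjectiveSpectrum in
theorem zeroLocus_eq_zeroLocus_hull (E : Set A) :
    zeroLocus 𝒜 E = zeroLocus 𝒜 ((Ideal.homogeneousHull 𝒜 (Ideal.span E) : HomogeneousIdeal 𝒜) : Set A) := by
  ext x
  rw [mem_zeroLocus, mem_zeroLocus]
  constructor
  · intro h
    have h' : Ideal.span E ≤ x.asHomogeneousIdeal.toIdeal := Ideal.span_le.mpr h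
    exact Ideal.homogeneousHull.gc 𝒜 (Ideal.span E) x.asHomogeneousIdeal |>.mpr h'
  · intro h a ha
    exact h (Ideal.le_toIdeal_homogeneousHull 𝒜 _ (Ideal.subset_span ha))

open ProjectiveSpectrum in
theorem irrelevant_inf_vanishingIdeal_zeroLocus (E : Set A) :
    (irrelevant 𝒜).toIdeal ⊓ (vanishingIdeal (zeroLocus 𝒜 E)).toIdeal =
      (irrelevant 𝒜).toIdeal ⊓ (Ideal.homogeneousHull 𝒜 (Ideal.span E)).toIdeal.radical := by
  rw [zeroLocus_eq_zeroLocus_hull, vanishingIdeal_zeroLocus_of_homogeneous]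

open ProjectiveSpectrum in
theorem mem_vanishingIdeal_univ_iff {f : A} (hf : f ∈ (irrelevant 𝒜).toIdeal) :
    f ∈ (vanishingIdeal (Set.univ : Set (ProjectiveSpectrum 𝒜))).toIdeal ↔ IsNilpotent f := by
  have h := vanishingIdeal_zeroLocus_of_homogeneous 𝒜 (⊥ : HomogeneousIdeal 𝒜)
  have hu : zeroLocus 𝒜 (((⊥ : HomogeneousIdeal 𝒜)) : Set A) = Set.univ := by
    ext x
    simp [mem_zeroLocus, HomogeneousIdeal.coe_bot]
  rw [hu, HomogeneousIdeal.toIdeal_bot] at h
  have := SetLike.ext_iff.mp h f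
  simp only [Submodule.mem_inf, hf, true_and] at this
  rw [this]
  exact mem_nilradical

open ProjectiveSpectrum in
theorem zeroLocus_eq_univ_iff (E : Set A) (hE : E ⊆ (irrelevant 𝒜).toIdeal) :
    zeroLocus 𝒜 E = Set.univ ↔ ∀ e ∈ E, IsNilpotent e := by
  constructor
  · intro h e he
    rw [← mem_vanishingIdeal_univ_iff 𝒜 (hE he), ← h]
    exact subset_vanishingIdeal_zeroLocus 𝒜 E he
  · intro h
    rw [Set.eq_univ_iff_forall]
    intro x
    rw [mem_zeroLocus]
    intro e he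
    obtain ⟨n, hn⟩ := h e he
    exact x.isPrime.mem_of_pow_mem n (by rw [hn]; exact zero_mem _)

open ProjectiveSpectrum in
theorem isIrreducible_iff (Z : Set (ProjectiveSpectrum 𝒜)) (hZ : IsClosed Z) :
    IsIrreducible Z ↔ (¬ (irrelevant 𝒜).toIdeal ≤ (vanishingIdeal Z).toIdeal ∧
      ∀ f ∈ (irrelevant 𝒜).toIdeal, ∀ g ∈ (irrelevant 𝒜).toIdeal,
        f * g ∈ (vanishingIdeal Z).toIdeal → f ∈ (vanishingIdeal Z).toIdeal ∨ g ∈ (vanishingIdeal Z).toIdeal) := by
  have hmemZ : ∀ f, f ∈ (vanishingIdeal Z).toIdeal ↔ ∀ x ∈ Z, f ∈ x.asHomogeneousIdeal.toIdeal :=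
    fun f => mem_vanishingIdeal Z f
  constructor
  · rintro ⟨⟨x, hx⟩, hirr⟩
    refine ⟨fun hle => x.not_irrelevant_le fun a ha => (hmemZ a).mp (hle ha) x hx, ?_⟩
    intro f _ g _ hfg
    have hsub : Z ⊆ zeroLocus 𝒜 {f} ∪ zeroLocus 𝒜 {g} := by
      intro y hy
      rcases y.isPrime.mem_or_mem ((hmemZ _).mp hfg y hy) with h | h
      · exact Or.inl (Set.singleton_subset_iff.mpr h)
      · exact Or.inr (Set.singleton_subset_iff.mpr h)
    rcases isPreirreducible_iff_isClosed_union_isClosed.mp hirr _ _ (isClosed_zeroLocus 𝒜 _)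
      (isClosed_zeroLocus 𝒜 _) hsub with h | h
    · exact Or.inl ((hmemZ f).mpr fun y hy => Set.singleton_subset_iff.mp (h hy))
    · exact Or.inr ((hmemZ g).mpr fun y hy => Set.singleton_subset_iff.mp (h hy))
  · rintro ⟨h1, h2⟩
    refine ⟨?_, isPreirreducible_iff_isClosed_union_isClosed.mpr ?_⟩
    · rw [Set.nonempty_iff_ne_empty]
      rintro rfl
      exact h1 fun a _ => (hmemZ a).mpr (by simp)
    · intro z₁ z₂ hz₁ hz₂ hsub
      obtain ⟨s₁, rfl⟩ := (isClosed_iff_zeroLocus 𝒜 z₁).mp hz₁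
      obtain ⟨s₂, rfl⟩ := (isClosed_iff_zeroLocus 𝒜 z₂).mp hz₂
      by_contra hcon
      rw [not_or] at hcon
      obtain ⟨x, hxZ, hx⟩ := Set.not_subset.mp hcon.1
      obtain ⟨y, hyZ, hy⟩ := Set.not_subset.mp hcon.2
      obtain ⟨f, hfs, hfx⟩ := Set.not_subset.mp hx
      obtain ⟨g, hgs, hgy⟩ := Set.not_subset.mp hy
      obtain ⟨t, ht, htx⟩ := SetLike.not_le_iff_exists.mp x.not_irrelevant_le
      obtain ⟨t', ht', hty⟩ := SetLike.not_le_iff_exists.mp y.not_irrelevant_le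
      have hft : f * t ∈ (irrelevant 𝒜).toIdeal := Ideal.mul_mem_left _ _ ht
      have hgt : g * t' ∈ (irrelevant 𝒜).toIdeal := Ideal.mul_mem_left _ _ ht'
      have hprod : f * t * (g * t') ∈ (vanishingIdeal Z).toIdeal := by
        refine (hmemZ _).mpr fun z hz => ?_
        rcases hsub hz with h | h
        · exact Ideal.mul_mem_right _ _ (Ideal.mul_mem_right _ _ (h hfs))
        · exact Ideal.mul_mem_left _ _ (Ideal.mul_mem_right _ _ (h hgs))
      rcases h2 _ hft _ hgt hprod with h | h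
      · rcases x.isPrime.mem_or_mem ((hmemZ _).mp h x hxZ) with h' | h'
        · exact hfx h'
        · exact htx h'
      · rcases y.isPrime.mem_or_mem ((hmemZ _).mp h y hyZ) with h' | h'
        · exact hgy h'
        · exact hty h'

theorem iSup_basicOpen_eq_top_iff {ι : Type*} (f : ι → A) (hf : ∀ i, ∃ d : ℕ, 0 < d ∧ f i ∈ 𝒜 d) :
    (⨆ i, Proj.basicOpen 𝒜 (f i)) = ⊤ ↔
      (irrelevant 𝒜).toIdeal ≤ (Ideal.span (Set.range f)).radical := by
  have hhom : (Ideal.span (Set.range f)).IsHomogeneous 𝒜 := by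
    refine Ideal.homogeneous_span 𝒜 _ ?_
    rintro _ ⟨i, rfl⟩
    obtain ⟨d, -, hd⟩ := hf i
    exact ⟨d, hd⟩
  constructor
  · intro h a ha
    have hV : ProjectiveSpectrum.zeroLocus 𝒜 (Set.range f) = ∅ := by
      rw [Set.eq_empty_iff_forall_notMem]
      intro x hx
      have hx' : x ∈ (⨆ i, Proj.basicOpen 𝒜 (f i)) := h ▸ trivial
      obtain ⟨i, hi⟩ := TopologicalSpace.Opens.mem_iSup.mp hx'
      exact hi (hx ⟨i, rfl⟩)
    have := irrelevant_inf_vanishingIdeal_zeroLocus 𝒜 (Set.range f)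
    rw [hV, hhom.toIdeal_homogeneousHull_eq_self] at this
    have ha' : a ∈ (irrelevant 𝒜).toIdeal ⊓
        (ProjectiveSpectrum.vanishingIdeal (∅ : Set (ProjectiveSpectrum 𝒜))).toIdeal :=
      ⟨ha, (ProjectiveSpectrum.mem_vanishingIdeal _ _).mpr (by simp)⟩
    rw [this] at ha'
    exact ha'.2
  · intro h
    rw [_root_.eq_top_iff]
    intro x _
    refine TopologicalSpace.Opens.mem_iSup.mpr ?_
    by_contra hcon
    push Not at hcon
    apply x.not_irrelevant_le
    intro a ha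
    refine x.isPrime.radical_le_iff.mpr ?_ (h ha)
    rw [Ideal.span_le]
    rintro _ ⟨i, rfl⟩
    simpa using hcon i

theorem isEmpty_iff_nilpotent :
    IsEmpty (Proj 𝒜) ↔ ∀ f ∈ (irrelevant 𝒜).toIdeal, IsNilpotent f := by
  constructor
  · intro h f hf
    rw [← mem_vanishingIdeal_univ_iff 𝒜 hf]
    exact (ProjectiveSpectrum.mem_vanishingIdeal _ _).mpr fun x _ => (h.false x).elim
  · intro h
    refine ⟨fun x => x.not_irrelevant_le fun a ha => ?_⟩
    obtain ⟨n, hn⟩ := h a ha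
    exact x.isPrime.mem_of_pow_mem n (by rw [hn]; exact zero_mem _)

theorem isEmpty_iff_eventually_bot (hfg : (irrelevant 𝒜).toIdeal.FG) :
    IsEmpty (Proj 𝒜) ↔ ∃ n : ℕ, ∀ k : ℕ, n ≤ k → 𝒜 k = ⊥ := by
  rw [isEmpty_iff_nilpotent]
  constructor
  · intro h
    have hle : (irrelevant 𝒜).toIdeal ≤ (⊥ : Ideal A).radical := fun f hf => mem_nilradical.mpr (h f hf)
    obtain ⟨N, hN⟩ := Ideal.exists_pow_le_of_le_radical_of_fg hle hfg
    have := (finiteType_iff_irrelevant_fg 𝒜).mp hfg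
    obtain ⟨m₀, hm₀⟩ := exists_degree_le_irrelevant_pow 𝒜 N
    exact ⟨m₀, fun k hk => (Submodule.eq_bot_iff _).mpr fun a ha => by simpa using hN (hm₀ k hk a ha)⟩
  · rintro ⟨n, hn⟩
    have key : ∀ (i : ℕ) (a : A), 0 < i → a ∈ 𝒜 i → IsNilpotent a := by
      intro i a hi ha
      refine ⟨n + 1, ?_⟩
      have h := SetLike.pow_mem_graded (n + 1) ha
      rw [smul_eq_mul, hn ((n + 1) * i) (by nlinarith)] at h
      simpa using h
    intro f hf
    rw [← mem_nilradical]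
    have hle : (irrelevant 𝒜).toIdeal ≤ nilradical A := by
      rw [toIdeal_irrelevant_le]
      intro i hi a ha
      exact mem_nilradical.mpr (key i a hi ha)
    exact hle hf

/-- A homogeneous element of positive degree whose product with `f` is nilpotent kills `Away`. -/
theorem isReduced_away {d : ℕ} (hd : 0 < d) {f : A} (hf : f ∈ 𝒜 d)
    (hred : ∀ f ∈ (irrelevant 𝒜).toIdeal, IsNilpotent f → f = 0) :
    _root_.IsReduced (HomogeneousLocalization.Away 𝒜 f) := by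
  refine ⟨fun x hx => ?_⟩
  obtain ⟨n, a, ha, rfl⟩ := HomogeneousLocalization.Away.mk_surjective 𝒜 hf x
  obtain ⟨k, hk⟩ := hx
  have hk' := congrArg HomogeneousLocalization.val hk
  rw [HomogeneousLocalization.val_pow, HomogeneousLocalization.val_zero,
    HomogeneousLocalization.Away.val_mk, Localization.mk_pow, Localization.mk_eq_mk',
    IsLocalization.mk'_eq_zero_iff] at hk'
  obtain ⟨⟨_, ⟨N, rfl⟩⟩, hN⟩ := hk'
  simp only at hN
  have hnil : IsNilpotent (f * a) := by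
    refine ⟨N + k, ?_⟩
    calc (f * a) ^ (N + k) = f ^ k * a ^ N * (f ^ N * a ^ k) := by ring
      _ = 0 := by rw [hN, mul_zero]
  have hirr : f * a ∈ (irrelevant 𝒜).toIdeal :=
    Ideal.mul_mem_right _ _ (mem_irrelevant_of_mem 𝒜 hd hf)
  have h0 := hred _ hirr hnil
  ext
  rw [HomogeneousLocalization.Away.val_mk, HomogeneousLocalization.val_zero, Localization.mk_eq_mk',
    IsLocalization.mk'_eq_zero_iff]
  exact ⟨⟨f, 1, pow_one f⟩, h0⟩

theorem isReduced_proj (hred : ∀ f ∈ (irrelevant 𝒜).toIdeal, IsNilpotent f → f = 0) :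
    AlgebraicGeometry.IsReduced (Proj 𝒜) := by
  have : ∀ i, AlgebraicGeometry.IsReduced ((Proj.affineOpenCover 𝒜).openCover.X i) := fun i =>
    have := isReduced_away 𝒜 i.1.2 i.2.2 hred
    inferInstanceAs (AlgebraicGeometry.IsReduced (Spec (.of (HomogeneousLocalization.Away 𝒜 (i.2 : A)))))
  exact AlgebraicGeometry.IsReduced.of_openCover _ (Proj.affineOpenCover 𝒜).openCover

theorem isNoetherianRing_away [IsNoetherianRing A] {d : ℕ} (f : A) (hf : f ∈ 𝒜 d) :
    IsNoetherianRing (HomogeneousLocalization.Away 𝒜 f) := by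
  obtain ⟨h0, hft⟩ := (isNoetherianRing_iff 𝒜).mp inferInstance
  have := HomogeneousLocalization.Away.finiteType f d hf
  exact Algebra.FiniteType.isNoetherianRing (𝒜 0) _

theorem isNoetherian_proj [IsNoetherianRing A] : AlgebraicGeometry.IsNoetherian (Proj 𝒜) := by
  obtain ⟨h0, hft⟩ := (isNoetherianRing_iff 𝒜).mp inferInstance
  have : IsLocallyNoetherian (Spec (CommRingCat.of (𝒜 0))) := inferInstance
  have : IsLocallyNoetherian (Proj 𝒜) := LocallyOfFiniteType.isLocallyNoetherian (Proj.toSpecZero 𝒜)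
  have : CompactSpace (Proj 𝒜) := QuasiCompact.compactSpace_of_compactSpace (Proj.toSpecZero 𝒜)
  exact { }

theorem compactSpace_iff :
    CompactSpace (Proj 𝒜) ↔ ∃ s : Finset A, (∀ f ∈ s, ∃ d : ℕ, 0 < d ∧ f ∈ 𝒜 d) ∧
      (irrelevant 𝒜).toIdeal ≤ (Ideal.span (s : Set A)).radical := by
  classical
  constructor
  · intro hc
    have htop : (⨆ i : Σ i : PNat, 𝒜 i, Proj.basicOpen 𝒜 (i.2 : A)) = ⊤ := by
      refine (iSup_basicOpen_eq_top_iff 𝒜 _ fun i => ⟨i.1, i.1.2, i.2.2⟩).mpr ?_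
      refine le_trans ?_ Ideal.le_radical
      rw [toIdeal_irrelevant_le]
      intro i hi a ha
      exact Ideal.subset_span ⟨⟨⟨i, hi⟩, ⟨a, ha⟩⟩, rfl⟩
    obtain ⟨t, ht⟩ := hc.isCompact_univ.elim_finite_subcover
      (fun i : Σ i : PNat, 𝒜 i => (Proj.basicOpen 𝒜 (i.2 : A) : Set (Proj 𝒜)))
      (fun i => TopologicalSpace.Opens.isOpen _)
      (by rw [← TopologicalSpace.Opens.coe_iSup, htop]; simp)
    refine ⟨t.image fun i => (i.2 : A), ?_, ?_⟩
    · intro f hf
      obtain ⟨i, -, rfl⟩ := Finset.mem_image.mp hf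
      exact ⟨i.1, i.1.2, i.2.2⟩
    · have h2 : (⨆ i : t, Proj.basicOpen 𝒜 (i.1.2 : A)) = ⊤ := by
        rw [_root_.eq_top_iff]
        intro x _
        have := ht (Set.mem_univ x)
        simp only [Set.mem_iUnion] at this
        obtain ⟨i, hi, hx⟩ := this
        exact TopologicalSpace.Opens.mem_iSup.mpr ⟨⟨i, hi⟩, hx⟩
      refine ((iSup_basicOpen_eq_top_iff 𝒜 (fun i : t => (i.1.2 : A))
        fun i => ⟨i.1.1, i.1.1.2, i.1.2.2⟩).mp h2).trans ?_
      refine Ideal.radical_mono (Ideal.span_mono ?_)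
      rintro _ ⟨i, rfl⟩
      exact Finset.mem_image_of_mem _ i.2
  · rintro ⟨s, hs, hle⟩
    have htop : (⨆ i : (s : Set A), Proj.basicOpen 𝒜 (i : A)) = ⊤ := by
      refine (iSup_basicOpen_eq_top_iff 𝒜 _ fun i => hs _ i.2).mpr ?_
      rwa [Subtype.range_coe]
    refine ⟨?_⟩
    rw [← TopologicalSpace.Opens.coe_top, ← htop, TopologicalSpace.Opens.coe_iSup]
    refine isCompact_iUnion fun i => ?_
    obtain ⟨d, hd, hi⟩ := hs _ i.2
    exact (Proj.isAffineOpen_basicOpen 𝒜 _ hi hd).isCompact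

end Groth.L18

namespace Groth.L18

open HomogeneousIdeal DirectSum CategoryTheory AlgebraicGeometry

universe u

variable {R A : Type u} [CommRing R] [CommRing A] [Algebra R A]
variable (𝒜 : ℕ → Submodule R A) [GradedAlgebra 𝒜]

theorem isIntegral_proj_iff (hred : ∀ f ∈ (irrelevant 𝒜).toIdeal, IsNilpotent f → f = 0) :
    AlgebraicGeometry.IsIntegral (Proj 𝒜) ↔ ((∃ f ∈ (irrelevant 𝒜).toIdeal, f ≠ 0) ∧
      ∀ f ∈ (irrelevant 𝒜).toIdeal, ∀ g ∈ (irrelevant 𝒜).toIdeal, f * g = 0 → f = 0 ∨ g = 0) := by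
  have hr := isReduced_proj 𝒜 hred
  have hI : ∀ f ∈ (irrelevant 𝒜).toIdeal,
      (f ∈ (ProjectiveSpectrum.vanishingIdeal (Set.univ : Set (ProjectiveSpectrum 𝒜))).toIdeal ↔ f = 0) := by
    intro f hf
    rw [mem_vanishingIdeal_univ_iff 𝒜 hf]
    exact ⟨hred f hf, fun h => h ▸ IsNilpotent.zero⟩
  have hirr : IrreducibleSpace (Proj 𝒜) ↔ IsIrreducible (Set.univ : Set (ProjectiveSpectrum 𝒜)) :=
    irreducibleSpace_def _
  rw [isIntegral_iff_irreducibleSpace_and_isReduced, and_iff_left hr, hirr,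
    isIrreducible_iff 𝒜 _ isClosed_univ]
  apply and_congr
  · rw [SetLike.not_le_iff_exists]
    exact exists_congr fun f => ⟨fun h => ⟨h.1, fun h0 => h.2 ((hI f h.1).mpr h0)⟩,
      fun h => ⟨h.1, fun h0 => h.2 ((hI f h.1).mp h0)⟩⟩
  · refine forall₂_congr fun f hf => forall₂_congr fun g hg => ?_
    rw [hI f hf, hI g hg, hI (f * g) (Ideal.mul_mem_right _ _ hf)]

end Groth.L18
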