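import Mathlib.AlgebraicGeometry.ProjectiveSpectrum.Functor
import Mathlib.AlgebraicGeometry.Morphisms.Affine
import Mathlib.AlgebraicGeometry.Morphisms.ClosedImmersion
import Mathlib.AlgebraicGeometry.Morphisms.IsIso
import Groth.Agent.L18.ProjTopology

/-!
Properties of `Proj.map` checked on the charts `Spec (Away.map φ s)`.
-/

noncomputable section

namespace Groth.L18

open HomogeneousIdeal HomogeneousLocalization DirectSum CategoryTheory AlgebraicGeometry CategoryTheory.Limits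

universe u

variable {R A : Type u} [CommRing R] [CommRing A] [Algebra R A]
variable {𝒜 : ℕ → Submodule R A} [GradedAlgebra 𝒜]
variable {R' B : Type u} [CommRing R'] [CommRing B] [Algebra R' B]
variable {ℬ : ℕ → Submodule R' B} [GradedAlgebra ℬ]
variable (φ : 𝒜 →+*ᵍ ℬ)
variable (hφ : ℬ₊ ≤ 𝒜₊.map φ)

theorem map_preimage_opensRange_awayι {i : ℕ} (hi : 0 < i) (s : A) (hs : s ∈ 𝒜 i) :
    Proj.map φ hφ ⁻¹ᵁ (Proj.awayι 𝒜 s hs hi).opensRange =
      (Proj.awayι ℬ (φ s) (φ.2 hs) hi).opensRange := by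
  rw [Proj.opensRange_awayι, Proj.opensRange_awayι, Proj.map_preimage_basicOpen]

theorem isPullback_awayι {i : ℕ} (hi : 0 < i) (s : A) (hs : s ∈ 𝒜 i) :
    IsPullback (Spec.map (CommRingCat.ofHom (Away.map φ s))) (Proj.awayι ℬ (φ s) (φ.2 hs) hi)
      (Proj.awayι 𝒜 s hs hi) (Proj.map φ hφ) :=
  IsOpenImmersion.isPullback _ _ _ _ (Proj.awayι_comp_map φ hφ hi s hs)
    (map_preimage_opensRange_awayι φ hφ hi s hs)

/-- A property local at the target holds for `Proj.map` if it holds on all charts. -/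
theorem map_property (P : MorphismProperty Scheme.{u}) [IsZariskiLocalAtTarget P]
    (H : ∀ (i : ℕ) (_ : 0 < i) (s : A), s ∈ 𝒜 i → P (Spec.map (CommRingCat.ofHom (Away.map φ s)))) :
    P (Proj.map φ hφ) := by
  refine IsZariskiLocalAtTarget.of_openCover (Proj.affineOpenCover 𝒜).openCover fun j => ?_
  have hpb := (isPullback_awayι φ hφ j.1.2 (j.2 : A) j.2.2).flip
  refine (P.arrow_mk_iso_iff ?_).mp (H _ j.1.2 (j.2 : A) j.2.2)
  exact Arrow.isoMk hpb.isoPullback (Iso.refl _) (by exact hpb.isoPullback_hom_snd.trans (Category.comp_id _).symm)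

theorem map_isAffineHom : IsAffineHom (Proj.map φ hφ) :=
  map_property φ hφ @IsAffineHom fun _ _ _ _ => inferInstance

theorem away_map_surjective {i : ℕ} (hi : 0 < i) (s : A) (hs : s ∈ 𝒜 i)
    (h : ∀ n : ℕ, 0 < n → ∀ y ∈ ℬ n, ∃ x ∈ 𝒜 n, φ x = y) :
    Function.Surjective (Away.map φ s) := by
  intro x
  obtain ⟨n, b, hb, rfl⟩ := Away.mk_surjective ℬ (φ.2 hs) x
  have hmem : φ s * b ∈ ℬ ((n + 1) • i) := by
    rw [smul_eq_mul, Nat.add_mul, one_mul, add_comm]
    exact SetLike.mul_mem_graded (φ.2 hs) (by simpa using hb)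
  obtain ⟨a, ha, hab⟩ := h ((n + 1) • i) (by simpa using hi) _ hmem
  refine ⟨Away.mk 𝒜 hs (n + 1) a ha, ?_⟩
  rw [Away.map_mk]
  ext
  rw [Away.val_mk, Away.val_mk, Localization.mk_eq_mk_iff, Localization.r_iff_exists]
  refine ⟨1, ?_⟩
  simp only [hab, OneMemClass.coe_one, one_mul]
  show φ s ^ n * (φ s * b) = φ s ^ (n + 1) * b
  ring

theorem away_map_injective {i : ℕ} (hi : 0 < i) (s : A) (hs : s ∈ 𝒜 i)
    (h : ∀ n : ℕ, 0 < n → ∀ x ∈ 𝒜 n, φ x = 0 → x = 0) :
    Function.Injective (Away.map φ s) := by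
  rw [injective_iff_map_eq_zero]
  intro x hx
  obtain ⟨n, a, ha, rfl⟩ := Away.mk_surjective 𝒜 hs x
  rw [Away.map_mk] at hx
  have hx' := congrArg HomogeneousLocalization.val hx
  rw [Away.val_mk, HomogeneousLocalization.val_zero, Localization.mk_eq_mk',
    IsLocalization.mk'_eq_zero_iff] at hx'
  obtain ⟨⟨_, N, rfl⟩, hN⟩ := hx'
  simp only at hN
  have hmem : s ^ (N + 1) * a ∈ 𝒜 ((N + 1) • i + n • i) :=
    SetLike.mul_mem_graded (SetLike.pow_mem_graded _ hs) ha
  have h0 : s ^ (N + 1) * a = 0 := by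
    refine h _ (lt_of_lt_of_le (by simpa using hi) (Nat.le_add_right _ _)) _ hmem ?_
    rw [map_mul, map_pow, pow_succ, mul_assoc, mul_comm (φ s), ← mul_assoc, hN, zero_mul]
  ext
  rw [Away.val_mk, HomogeneousLocalization.val_zero, Localization.mk_eq_mk',
    IsLocalization.mk'_eq_zero_iff]
  exact ⟨⟨s ^ (N + 1), N + 1, rfl⟩, h0⟩

theorem exists_degree_preimage_of_surjective (hsurj : Function.Surjective φ) (n : ℕ) {y : B}
    (hy : y ∈ ℬ n) : ∃ x ∈ 𝒜 n, φ x = y := by
  obtain ⟨x, rfl⟩ := hsurj y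
  refine ⟨DirectSum.decompose 𝒜 x n, SetLike.coe_mem _, ?_⟩
  rw [φ.map_directSumDecompose, DirectSum.decompose_of_mem_same ℬ hy]

theorem map_isClosedImmersion (hsurj : Function.Surjective φ) : IsClosedImmersion (Proj.map φ hφ) :=
  map_property φ hφ @IsClosedImmersion fun i hi s hs =>
    IsClosedImmersion.spec_of_surjective _ <| away_map_surjective φ hi s hs fun n _ y hy =>
      exists_degree_preimage_of_surjective φ hsurj n hy

theorem map_isIso_of_bijOn (hbij : ∀ n : ℕ, 0 < n → Set.BijOn φ (𝒜 n) (ℬ n)) :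
    IsIso (Proj.map φ hφ) :=
  map_property φ hφ (MorphismProperty.isomorphisms Scheme.{u}) fun i hi s hs => by
    have hb : Function.Bijective (Away.map φ s) :=
      ⟨away_map_injective φ hi s hs fun n hn x hx h0 =>
          (hbij n hn).injOn hx (zero_mem _) (by rw [h0, map_zero]),
        away_map_surjective φ hi s hs fun n hn y hy => (hbij n hn).surjOn hy⟩
    have : IsIso (CommRingCat.ofHom (Away.map φ s)) :=
      (ConcreteCategory.isIso_iff_bijective _).mpr hb
    exact MorphismProperty.isomorphisms.infer_property _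

theorem map_denseRange (hker : ∀ a : A, φ a = 0 → IsNilpotent a) :
    DenseRange (Proj.map φ hφ).base := by
  rw [DenseRange, dense_iff_inter_open]
  rintro U hU ⟨x, hx⟩
  obtain ⟨_, ⟨g, rfl⟩, hxg, hgU⟩ :=
    (ProjectiveSpectrum.isTopologicalBasis_basic_opens 𝒜).exists_subset_of_mem_open hx hU
  obtain ⟨t, ht, htx⟩ := SetLike.not_le_iff_exists.mp x.not_irrelevant_le
  have hgt : g * t ∈ (irrelevant 𝒜).toIdeal := Ideal.mul_mem_left _ _ ht
  have hnn : ¬ IsNilpotent (g * t) := by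
    rintro ⟨n, hn⟩
    rcases x.isPrime.mem_or_mem (x.isPrime.mem_of_pow_mem n (hn ▸ zero_mem _)) with h | h
    · exact hxg h
    · exact htx h
  have himg : φ (g * t) ∈ (irrelevant ℬ).toIdeal := by
    rw [HomogeneousIdeal.mem_iff, mem_irrelevant_iff, GradedRing.proj_apply, ← φ.map_directSumDecompose,
      ← GradedRing.proj_apply, (mem_irrelevant_iff 𝒜 _).mp hgt, map_zero]
  have hnn' : ¬ IsNilpotent (φ (g * t)) := by
    rintro ⟨n, hn⟩
    rw [← map_pow] at hn
    exact hnn ((hker _ hn).of_pow)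
  rw [← mem_vanishingIdeal_univ_iff ℬ himg] at hnn'
  obtain ⟨y, hy⟩ : ∃ y : ProjectiveSpectrum ℬ, φ (g * t) ∉ y.asHomogeneousIdeal.toIdeal := by
    by_contra hcon
    push Not at hcon
    exact hnn' ((ProjectiveSpectrum.mem_vanishingIdeal _ _).mpr fun y _ => hcon y)
  refine ⟨(Proj.map φ hφ).base y, hgU ?_, y, rfl⟩
  intro hmem
  apply hy
  rw [map_mul]
  exact Ideal.mul_mem_right _ _ hmem

theorem map_quotient_nilradical (hsurj : Function.Surjective φ)
    (hker : ∀ a : A, φ a = 0 ↔ a ∈ (irrelevant 𝒜).toIdeal ∧ IsNilpotent a) :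
    IsClosedImmersion (Proj.map φ hφ) ∧ IsHomeomorph (Proj.map φ hφ).base ∧
      AlgebraicGeometry.IsReduced (Proj ℬ) := by
  have hci := map_isClosedImmersion φ hφ hsurj
  refine ⟨hci, ?_, ?_⟩
  · have hd := map_denseRange φ hφ fun a ha => ((hker a).mp ha).2
    have hemb := (Proj.map φ hφ).isClosedEmbedding
    refine isHomeomorph_iff_isEmbedding_surjective.mpr ⟨hemb.isEmbedding, ?_⟩
    rw [← Set.range_eq_univ, ← hemb.isClosed_range.closure_eq]
    exact hd.closure_range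
  · refine isReduced_proj ℬ fun b hb hnil => ?_
    obtain ⟨a, rfl⟩ := hsurj b
    have h0 : φ (GradedRing.proj 𝒜 0 a) = 0 := by
      rw [GradedRing.proj_apply, φ.map_directSumDecompose, ← GradedRing.proj_apply]
      exact (mem_irrelevant_iff ℬ _).mp hb
    have ha' : φ (a - GradedRing.proj 𝒜 0 a) = φ a := by rw [map_sub, h0, sub_zero]
    rw [← ha'] at hnil ⊢
    obtain ⟨n, hn⟩ := hnil
    rw [← map_pow] at hn
    exact (hker _).mpr ⟨sub_proj_zero_mem_irrelevant 𝒜 a, ((hker _).mp hn).2.of_pow⟩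

end Groth.L18
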