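import Mathlib.AlgebraicGeometry.ProjectiveSpectrum.Functor
import Mathlib.AlgebraicGeometry.Morphisms.ClosedImmersion
import Mathlib.AlgebraicGeometry.Morphisms.QuasiCompact
import Groth.Agent.L18.ProjMap

/-!
Closed subschemes of `Proj 𝒜` (degree one generators) are `Proj` of graded quotients.
-/

noncomputable section

namespace Groth.L18.ClosedSub

open HomogeneousLocalization CategoryTheory AlgebraicGeometry TopologicalSpace Opposite DirectSum

universe u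

variable {R A : Type u} [CommRing R] [CommRing A] [Algebra R A]
variable (𝒜 : ℕ → Submodule R A) [GradedAlgebra 𝒜]

/-- The function `F / t^d` on `D₊(t)`. -/
def sec {t : A} (ht : t ∈ 𝒜 1) {d : ℕ} (F : A) (hF : F ∈ 𝒜 d) :
    Γ(Proj 𝒜, Proj.basicOpen 𝒜 t) :=
  Proj.awayToSection 𝒜 t (Away.mk 𝒜 ht d F (by simpa using hF))

variable {𝒜}

theorem sec_zero {t : A} (ht : t ∈ 𝒜 1) (d : ℕ) : sec 𝒜 ht (0 : A) (zero_mem (𝒜 d)) = 0 := by
  rw [sec, ← map_zero (Proj.awayToSection 𝒜 t).hom]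
  congr 1
  apply HomogeneousLocalization.val_injective
  rw [Away.val_mk, HomogeneousLocalization.val_zero, Localization.mk_zero]

theorem sec_add {t : A} (ht : t ∈ 𝒜 1) {d : ℕ} {F G : A} (hF : F ∈ 𝒜 d) (hG : G ∈ 𝒜 d) :
    sec 𝒜 ht (F + G) (add_mem hF hG) = sec 𝒜 ht F hF + sec 𝒜 ht G hG := by
  rw [sec, sec, sec, ← map_add]
  congr 1
  apply HomogeneousLocalization.val_injective
  rw [Away.val_mk, HomogeneousLocalization.val_add, Away.val_mk, Away.val_mk, ← Localization.add_mk_self]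

theorem sec_mul {t : A} (ht : t ∈ 𝒜 1) {d e : ℕ} {F G : A} (hF : F ∈ 𝒜 d) (hG : G ∈ 𝒜 e)
    {k : ℕ} (hk : k = d + e) (hFG : F * G ∈ 𝒜 k) :
    sec 𝒜 ht (F * G) hFG = sec 𝒜 ht F hF * sec 𝒜 ht G hG := by
  subst hk
  rw [sec, sec, sec, ← map_mul]
  congr 1
  apply HomogeneousLocalization.val_injective
  rw [Away.val_mk, HomogeneousLocalization.val_mul, Away.val_mk, Away.val_mk, Localization.mk_mul]
  congr 1
  exact Subtype.ext (pow_add t d e)

theorem sec_pow {t' : A} (ht' : t' ∈ 𝒜 1) {t : A} (ht : t ∈ 𝒜 1) (N : ℕ) (h : t ^ N ∈ 𝒜 N) :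
    sec 𝒜 ht' (t ^ N) h = sec 𝒜 ht' t ht ^ N := by
  rw [sec, sec, ← map_pow]
  congr 1
  apply HomogeneousLocalization.val_injective
  rw [Away.val_mk, HomogeneousLocalization.val_pow, Away.val_mk, Localization.mk_pow]
  congr 1
  exact Subtype.ext (by simp)

theorem sec_self_mul {t : A} (ht : t ∈ 𝒜 1) {m : ℕ} {c : A} (hc : c ∈ 𝒜 m) (N : ℕ)
    (h : t ^ N * c ∈ 𝒜 (N + m)) : sec 𝒜 ht (t ^ N * c) h = sec 𝒜 ht c hc := by
  rw [sec, sec]
  congr 1
  apply HomogeneousLocalization.val_injective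
  rw [Away.val_mk, Away.val_mk, Localization.mk_eq_mk_iff, Localization.r_iff_exists]
  refine ⟨1, ?_⟩
  simp only [OneMemClass.coe_one, one_mul, pow_add]
  ring

theorem sec_val {t : A} (ht : t ∈ 𝒜 1) {d : ℕ} {F : A} (hF : F ∈ 𝒜 d) (p : ProjectiveSpectrum.top 𝒜)
    (hp : p ∈ Proj.basicOpen 𝒜 t) :
    HomogeneousLocalization.val ((sec 𝒜 ht F hF).1 ⟨p, hp⟩) =
      Localization.mk F (⟨t ^ d, fun h => hp (p.isPrime.mem_of_pow_mem d h)⟩ :
        @Ideal.primeCompl A _ p.asHomogeneousIdeal.toIdeal p.isPrime) := by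
  rw [sec]
  erw [ProjectiveSpectrum.Proj.awayToSection_apply]
  rw [Away.val_mk, Localization.mk_eq_mk', IsLocalization.map_mk', ← Localization.mk_eq_mk']
  rfl

theorem basicOpen_sec_le {t' : A} (ht' : t' ∈ 𝒜 1) {t : A} (ht : t ∈ 𝒜 1) :
    (Proj 𝒜).basicOpen (sec 𝒜 ht' t ht) ≤ Proj.basicOpen 𝒜 t := by
  intro p hp
  have hp' : p ∈ Proj.basicOpen 𝒜 t' := Scheme.basicOpen_le _ _ hp
  have hu := RingedSpace.isUnit_res_basicOpen (Proj 𝒜).toRingedSpace (sec 𝒜 ht' t ht)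
  obtain ⟨v, hv⟩ := hu.exists_right_inv
  have hvp := congrArg (fun q => HomogeneousLocalization.val (q.1 ⟨p, hp⟩)) hv
  change HomogeneousLocalization.val ((sec 𝒜 ht' t ht).1 ⟨p, hp'⟩ * v.1 ⟨p, hp⟩) =
    HomogeneousLocalization.val 1 at hvp
  rw [HomogeneousLocalization.val_mul, HomogeneousLocalization.val_one, sec_val ht' ht p hp'] at hvp
  intro htp
  obtain ⟨⟨k, ⟨b, _⟩, ⟨q, _⟩, hq⟩, hb⟩ := HomogeneousLocalization.mk_surjective (v.1 ⟨p, hp⟩)
  rw [← hb, HomogeneousLocalization.val_mk, Localization.mk_mul, ← Localization.mk_one, Localization.mk_eq_mk_iff,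
    Localization.r_iff_exists] at hvp
  obtain ⟨⟨w, hw⟩, hvp⟩ := hvp
  simp only [Submonoid.coe_mul, OneMemClass.coe_one, one_mul, mul_one, pow_one] at hvp
  have hmem : w * (t * b) ∈ p.asHomogeneousIdeal.toIdeal :=
    Ideal.mul_mem_left _ _ (Ideal.mul_mem_right _ _ htp)
  rw [hvp] at hmem
  rcases p.isPrime.mem_or_mem hmem with h | h
  · exact hw h
  · rcases p.isPrime.mem_or_mem h with h | h
    · exact hp' h
    · exact hq h

theorem res_sec {t' : A} (ht' : t' ∈ 𝒜 1) {t : A} (ht : t ∈ 𝒜 1) {m : ℕ} {c : A} (hc : c ∈ 𝒜 m)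
    {W : (Proj 𝒜).Opens} (h' : W ≤ Proj.basicOpen 𝒜 t') (h : W ≤ Proj.basicOpen 𝒜 t) :
    (Proj 𝒜).presheaf.map (homOfLE h').op (sec 𝒜 ht' c hc) =
      (Proj 𝒜).presheaf.map (homOfLE h').op (sec 𝒜 ht' t ht) ^ m *
        (Proj 𝒜).presheaf.map (homOfLE h).op (sec 𝒜 ht c hc) := by
  have hpm : t ^ m ∈ 𝒜 m := by simpa using SetLike.pow_mem_graded m ht
  rw [← map_pow, ← sec_pow ht' ht m hpm]
  refine Subtype.ext (funext fun p => HomogeneousLocalization.val_injective _ ?_)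
  show HomogeneousLocalization.val ((sec 𝒜 ht' c hc).1 ⟨p.1, h' p.2⟩) =
    HomogeneousLocalization.val ((sec 𝒜 ht' (t ^ m) hpm).1 ⟨p.1, h' p.2⟩ * (sec 𝒜 ht c hc).1 ⟨p.1, h p.2⟩)
  rw [HomogeneousLocalization.val_mul, sec_val, sec_val, sec_val, Localization.mk_mul,
    Localization.mk_eq_mk_iff, Localization.r_iff_exists]
  refine ⟨1, ?_⟩
  simp only [Submonoid.coe_mul, OneMemClass.coe_one, one_mul]
  ring

section Main

variable {Z : Scheme.{u}} (i : Z ⟶ Proj 𝒜) (s : Finset A)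

variable (𝒜) in
/-- `F` of degree `d` vanishes on `Z` (tested on the charts of `s`). -/
def Vanish (d : ℕ) (F : A) : Prop :=
  ∀ t ∈ s, ∀ ht : t ∈ 𝒜 1, ∀ hF : F ∈ 𝒜 d, (i.app (Proj.basicOpen 𝒜 t)) (sec 𝒜 ht F hF) = 0

theorem exists_vanish [IsClosedImmersion i] {t : A} (ht : t ∈ 𝒜 1) {m : ℕ} {c : A} (hc : c ∈ 𝒜 m)
    (h : (i.app (Proj.basicOpen 𝒜 t)) (sec 𝒜 ht c hc) = 0) :
    ∃ N, Vanish 𝒜 i s (N + m) (t ^ N * c) := by
  classical
  have key : ∀ t' ∈ s, ∃ N, ∀ ht' : t' ∈ 𝒜 1,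
      (i.app (Proj.basicOpen 𝒜 t')) (sec 𝒜 ht' t ht ^ N * sec 𝒜 ht' c hc) = 0 := by
    intro t' _
    by_cases ht' : t' ∈ 𝒜 1
    swap
    · exact ⟨0, fun h => absurd h ht'⟩
    have hle := basicOpen_sec_le ht' ht
    have hU := (Proj.isAffineOpen_basicOpen 𝒜 t' ht' one_pos).preimage i
    obtain ⟨N, hN⟩ := exists_pow_mul_eq_zero_of_res_basicOpen_eq_zero_of_isAffineOpen Z hU
      ((i.app _) (sec 𝒜 ht' c hc)) ((i.app _) (sec 𝒜 ht' t ht)) (by
        have hW : i ⁻¹ᵁ (Proj 𝒜).basicOpen (sec 𝒜 ht' t ht) = Z.basicOpen ((i.app _) (sec 𝒜 ht' t ht)) :=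
          Scheme.preimage_basicOpen i _
        have h1 : (i.app ((Proj 𝒜).basicOpen (sec 𝒜 ht' t ht)))
            ((Proj 𝒜).presheaf.map (homOfLE (Scheme.basicOpen_le _ (sec 𝒜 ht' t ht))).op (sec 𝒜 ht' c hc)) = 0 := by
          rw [res_sec ht' ht hc (Scheme.basicOpen_le _ _) hle, map_mul]
          have h2 : (i.app ((Proj 𝒜).basicOpen (sec 𝒜 ht' t ht)))
              ((Proj 𝒜).presheaf.map (homOfLE hle).op (sec 𝒜 ht c hc)) = 0 := by
            rw [← CommRingCat.comp_apply, Scheme.Hom.naturality, CommRingCat.comp_apply, h, map_zero]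
          rw [h2, mul_zero]
        rw [← CommRingCat.comp_apply, Scheme.Hom.naturality, CommRingCat.comp_apply] at h1
        revert h1
        show _ → Z.presheaf.map (homOfLE (Z.basicOpen_le _)).op _ = 0
        rw [← map_zero (Z.presheaf.map (eqToHom hW.symm).op).hom]
        intro h1
        have h3 := congrArg (Z.presheaf.map (eqToHom hW.symm).op) h1
        rw [← CommRingCat.comp_apply, ← Functor.map_comp] at h3
        rw [map_zero] at h3 ⊢
        exact h3)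
    exact ⟨N, fun _ => by rw [map_mul, map_pow]; exact hN⟩
  choose! N hN using key
  refine ⟨s.sup N, fun t' ht's ht' hF => ?_⟩
  have hp : t ^ s.sup N ∈ 𝒜 (s.sup N) := by simpa using SetLike.pow_mem_graded (s.sup N) ht
  rw [sec_mul ht' hp hc rfl, sec_pow ht' ht, ← Nat.sub_add_cancel (Finset.le_sup ht's : N t' ≤ s.sup N),
    pow_add, mul_assoc, map_mul, hN t' ht's ht', mul_zero]

theorem app_eq_zero_of_vanish {t : A} (hts : t ∈ s) (ht : t ∈ 𝒜 1) {m : ℕ} {c : A} (hc : c ∈ 𝒜 m) {N : ℕ}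
    (h : Vanish 𝒜 i s (N + m) (t ^ N * c)) :
    (i.app (Proj.basicOpen 𝒜 t)) (sec 𝒜 ht c hc) = 0 := by
  have hmem : t ^ N * c ∈ 𝒜 (N + m) :=
    SetLike.mul_mem_graded (by simpa using SetLike.pow_mem_graded N ht) hc
  rw [← sec_self_mul ht hc N hmem]
  exact h t hts ht hmem

variable {R' B : Type u} [CommRing R'] [CommRing B] [Algebra R' B]
variable {ℬ : ℕ → Submodule R' B} [GradedAlgebra ℬ]

theorem ker_app_eq [IsClosedImmersion i] (φ : 𝒜 →+*ᵍ ℬ)
    (hφ : HomogeneousIdeal.irrelevant ℬ ≤ (HomogeneousIdeal.irrelevant 𝒜).map φ)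
    (hker : ∀ (d : ℕ) (F : A), F ∈ 𝒜 d → (φ F = 0 ↔ Vanish 𝒜 i s d F))
    {t : A} (hts : t ∈ s) (ht : t ∈ 𝒜 1) :
    RingHom.ker ((Proj.map φ hφ).app (Proj.basicOpen 𝒜 t)).hom =
      RingHom.ker (i.app (Proj.basicOpen 𝒜 t)).hom := by
  ext x
  obtain ⟨y, rfl⟩ := ((ConcreteCategory.isIso_iff_bijective (Proj.awayToSection 𝒜 t)).mp
    (Proj.basicOpenIsoAway 𝒜 t ht one_pos).isIso_hom).2 x
  obtain ⟨m, c, hc, rfl⟩ := Away.mk_surjective 𝒜 ht y
  have hc' : c ∈ 𝒜 m := by simpa using hc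
  rw [RingHom.mem_ker, RingHom.mem_ker]
  have hR : (i.app (Proj.basicOpen 𝒜 t)) (sec 𝒜 ht c hc') = 0 ↔ ∃ N, φ (t ^ N * c) = 0 := by
    refine ⟨fun h => ?_, fun ⟨N, hN⟩ => ?_⟩
    · obtain ⟨N, hN⟩ := exists_vanish i s ht hc' h
      exact ⟨N, (hker _ _ (SetLike.mul_mem_graded (by simpa using SetLike.pow_mem_graded N ht) hc')).mpr hN⟩
    · exact app_eq_zero_of_vanish i s hts ht hc' ((hker _ _
        (SetLike.mul_mem_graded (by simpa using SetLike.pow_mem_graded N ht) hc')).mp hN)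
  refine Iff.trans ?_ hR.symm
  have hcomp := congrArg (fun ψ => ψ (Away.mk 𝒜 ht m c hc))
    (Proj.awayToSection_comp_appLE φ hφ (s := t) ht)
  rw [Scheme.Hom.app_eq_appLE]
  erw [hcomp]
  rw [CommRingCat.comp_apply]
  refine (map_eq_zero_iff _ (((ConcreteCategory.isIso_iff_bijective (Proj.awayToSection ℬ (φ t))).mp
    (Proj.basicOpenIsoAway ℬ (φ t) (φ.2 ht) one_pos).isIso_hom).1)).trans ?_
  show Away.map φ t (Away.mk 𝒜 ht m c hc) = 0 ↔ _
  rw [Away.map_mk,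
    ← (HomogeneousLocalization.val_injective _).eq_iff, Away.val_mk, HomogeneousLocalization.val_zero,
    Localization.mk_eq_mk', IsLocalization.mk'_eq_zero_iff]
  constructor
  · rintro ⟨⟨_, N, rfl⟩, hN⟩
    exact ⟨N, by rw [map_mul, map_pow]; exact hN⟩
  · rintro ⟨N, hN⟩
    exact ⟨⟨φ t ^ N, N, rfl⟩, by rw [map_mul, map_pow] at hN; exact hN⟩

theorem exists_iso [IsClosedImmersion i] (hs1 : ∀ f ∈ s, f ∈ 𝒜 1)
    (hs : (HomogeneousIdeal.irrelevant 𝒜).toIdeal ≤ Ideal.span (s : Set A))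
    (φ : 𝒜 →+*ᵍ ℬ) (hsurj : Function.Surjective φ)
    (hφ : HomogeneousIdeal.irrelevant ℬ ≤ (HomogeneousIdeal.irrelevant 𝒜).map φ)
    (hker : ∀ (d : ℕ) (F : A), F ∈ 𝒜 d → (φ F = 0 ↔ Vanish 𝒜 i s d F)) :
    ∃ e : Z ≅ Proj ℬ, e.hom ≫ Proj.map φ hφ = i := by
  have : IsClosedImmersion (Proj.map φ hφ) := Groth.L18.map_isClosedImmersion φ hφ hsurj
  have hk : (Proj.map φ hφ).ker = i.ker := by
    refine Scheme.IdealSheafData.ext_of_iSup_eq_top
      (fun t : s => ⟨Proj.basicOpen 𝒜 t.1, Proj.isAffineOpen_basicOpen 𝒜 t.1 (hs1 _ t.2) one_pos⟩)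
      (Proj.iSup_basicOpen_eq_top 𝒜 (fun t : s => t.1) (hs.trans (le_of_eq (by simp)))) fun t => ?_
    rw [Scheme.Hom.ker_apply, Scheme.Hom.ker_apply]
    exact ker_app_eq i s φ hφ hker t.2 (hs1 _ t.2)
  have := IsClosedImmersion.isIso_lift (Proj.map φ hφ) i hk
  exact ⟨asIso (IsClosedImmersion.lift (Proj.map φ hφ) i hk.le), IsClosedImmersion.lift_fac _ _ _⟩

/-- The ideal of forms vanishing on `Z`. -/
def vanishIdeal : Ideal A where
  carrier := {x | ∀ d, Vanish 𝒜 i s d (decompose 𝒜 x d : A)}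
  zero_mem' d t _ ht hF := by
    simp only [decompose_zero, DirectSum.zero_apply, ZeroMemClass.coe_zero] at hF ⊢
    rw [sec_zero ht, map_zero]
  add_mem' {x y} hx hy d t hts ht hF := by
    simp only [decompose_add, DirectSum.add_apply, Submodule.coe_add] at hF ⊢
    rw [sec_add ht (SetLike.coe_mem _) (SetLike.coe_mem _), map_add, hx d t hts ht (SetLike.coe_mem _),
      hy d t hts ht (SetLike.coe_mem _), add_zero]
  smul_mem' a x hx := by
    rw [smul_eq_mul]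
    induction a using DirectSum.Decomposition.inductionOn 𝒜 with
    | zero =>
      intro d t _ ht hF
      simp only [zero_mul, decompose_zero, DirectSum.zero_apply, ZeroMemClass.coe_zero] at hF ⊢
      rw [sec_zero ht, map_zero]
    | homogeneous a =>
      rename_i j
      intro d t hts ht hF
      have := DirectSum.coe_decompose_mul_of_left_mem 𝒜 d (b := x) a.2
      split_ifs at this with hjd
      · simp only [this] at hF ⊢
        rw [sec_mul ht a.2 (SetLike.coe_mem _) (by omega), map_mul, hx (d - j) t hts ht (SetLike.coe_mem _),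
          mul_zero]
      · simp only [this] at hF ⊢
        rw [sec_zero ht, map_zero]
    | add a b ha hb =>
      intro d t hts ht hF
      simp only [add_mul, decompose_add, DirectSum.add_apply, Submodule.coe_add] at hF ⊢
      rw [sec_add ht (SetLike.coe_mem _) (SetLike.coe_mem _), map_add, ha d t hts ht (SetLike.coe_mem _),
        hb d t hts ht (SetLike.coe_mem _), add_zero]

theorem decompose_mem_vanishIdeal {x : A} (hx : x ∈ vanishIdeal i s) (d : ℕ) :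
    (decompose 𝒜 x d : A) ∈ vanishIdeal i s := by
  intro e t hts ht hF
  by_cases h : d = e
  · subst h
    simp only [decompose_of_mem_same 𝒜 (SetLike.coe_mem (decompose 𝒜 x d))] at hF ⊢
    exact hx d t hts ht hF
  · simp only [decompose_of_mem_ne 𝒜 (SetLike.coe_mem (decompose 𝒜 x d)) h] at hF ⊢
    rw [sec_zero ht, map_zero]

theorem mem_vanishIdeal_iff {d : ℕ} {F : A} (hF : F ∈ 𝒜 d) :
    F ∈ vanishIdeal i s ↔ Vanish 𝒜 i s d F := by
  refine ⟨fun h => ?_, fun h e t hts ht hF' => ?_⟩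
  · have := h d
    rwa [decompose_of_mem_same 𝒜 hF] at this
  · by_cases he : d = e
    · subst he
      simp only [decompose_of_mem_same 𝒜 hF] at hF' ⊢
      exact h t hts ht hF'
    · simp only [decompose_of_mem_ne 𝒜 hF he] at hF' ⊢
      rw [sec_zero ht, map_zero]

end Main

section Quot

variable (𝒜) (I : Ideal A)

/-- The image grading on `A ⧸ I`. -/
def quotGrading (d : ℕ) : Submodule R (A ⧸ I) := (𝒜 d).map (Ideal.Quotient.mkₐ R I).toLinearMap

omit [GradedAlgebra 𝒜] in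
theorem mk_mem_quotGrading {d : ℕ} {x : A} (hx : x ∈ 𝒜 d) :
    Ideal.Quotient.mk I x ∈ quotGrading 𝒜 I d := ⟨x, hx, rfl⟩

instance : SetLike.GradedMonoid (quotGrading 𝒜 I) where
  one_mem := ⟨1, SetLike.one_mem_graded 𝒜, map_one (Ideal.Quotient.mkₐ R I)⟩
  mul_mem := by
    rintro i j _ _ ⟨x, hx, rfl⟩ ⟨y, hy, rfl⟩
    exact ⟨x * y, SetLike.mul_mem_graded hx hy, map_mul (Ideal.Quotient.mkₐ R I) x y⟩

/-- The degreewise quotient map. -/
def sumMap : (⨁ d, 𝒜 d) →ₐ[R] ⨁ d, quotGrading 𝒜 I d :=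
  DirectSum.toAlgebra R (fun d => 𝒜 d)
    (fun d => (DirectSum.lof R ℕ (fun d => quotGrading 𝒜 I d) d).comp
      (((Ideal.Quotient.mkₐ R I).toLinearMap.comp (𝒜 d).subtype).codRestrict (quotGrading 𝒜 I d)
        fun x => ⟨x.1, x.2, rfl⟩))
    (by
      simp only [LinearMap.comp_apply, DirectSum.lof_eq_of, DirectSum.one_def]
      congr 1)
    (fun {i j} ai aj => by
      simp only [LinearMap.comp_apply, DirectSum.lof_eq_of, DirectSum.of_mul_of]
      congr 1)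

theorem sumMap_of {d : ℕ} (x : 𝒜 d) :
    sumMap 𝒜 I (DirectSum.of _ d x) =
      DirectSum.of (fun d => quotGrading 𝒜 I d) d ⟨Ideal.Quotient.mk I x.1, mk_mem_quotGrading 𝒜 I x.2⟩ := by
  rw [sumMap, DirectSum.toAlgebra_apply]
  exact DirectSum.toSemiring_of (A := fun d => 𝒜 d) _ _ _ d x

theorem sumMap_apply (z : ⨁ d, 𝒜 d) (e : ℕ) :
    ((sumMap 𝒜 I z) e : A ⧸ I) = Ideal.Quotient.mk I (z e : A) := by
  induction z using DirectSum.induction_on with
  | zero => simp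
  | of d x =>
    rw [sumMap_of]
    by_cases h : d = e
    · subst h; simp
    · rw [DirectSum.of_eq_of_ne _ _ _ (Ne.symm h), DirectSum.of_eq_of_ne _ _ _ (Ne.symm h)]; simp
  | add a b ha hb => simp [map_add, ha, hb]

variable (hI : ∀ x ∈ I, ∀ d, (decompose 𝒜 x d : A) ∈ I)

include hI in
theorem sumMap_decompose_eq_zero {x : A} (hx : x ∈ I) :
    sumMap 𝒜 I (decomposeAlgEquiv 𝒜 x) = 0 := by
  refine DFinsupp.ext fun e => Subtype.ext ?_
  rw [sumMap_apply, decomposeAlgEquiv_apply]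
  exact Ideal.Quotient.eq_zero_iff_mem.mpr (hI x hx e)

/-- The decomposition of `A ⧸ I`. -/
def quotDecompose : (A ⧸ I) →ₐ[R] ⨁ d, quotGrading 𝒜 I d :=
  Ideal.Quotient.liftₐ I ((sumMap 𝒜 I).comp (decomposeAlgEquiv 𝒜).toAlgHom)
    fun _ hx => sumMap_decompose_eq_zero 𝒜 I hI hx

theorem quotDecompose_mk_of_mem {d : ℕ} {x : A} (hx : x ∈ 𝒜 d) :
    quotDecompose 𝒜 I hI (Ideal.Quotient.mk I x) =
      DirectSum.of (fun d => quotGrading 𝒜 I d) d ⟨Ideal.Quotient.mk I x, mk_mem_quotGrading 𝒜 I hx⟩ := by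
  show sumMap 𝒜 I (decompose 𝒜 x) = _
  rw [decompose_of_mem 𝒜 hx, sumMap_of]

/-- `A ⧸ I` is graded for homogeneous `I`. -/
abbrev quotGradedAlgebra : GradedAlgebra (quotGrading 𝒜 I) :=
  GradedAlgebra.ofAlgHom (quotGrading 𝒜 I) (quotDecompose 𝒜 I hI)
    (by
      refine Ideal.Quotient.algHom_ext R (AlgHom.ext fun x => ?_)
      induction x using DirectSum.Decomposition.inductionOn 𝒜 with
      | zero => simp
      | homogeneous a =>
        simp only [AlgHom.comp_apply, Ideal.Quotient.mkₐ_eq_mk, AlgHom.id_apply,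
          quotDecompose_mk_of_mem 𝒜 I hI a.2, DirectSum.coeAlgHom_of]
      | add a b ha hb => simp only [map_add, ha, hb])
    (by
      rintro d ⟨_, x, hx, rfl⟩
      exact quotDecompose_mk_of_mem 𝒜 I hI hx)

/-- The quotient map as a graded ring homomorphism. -/
def quotHom : 𝒜 →+*ᵍ quotGrading 𝒜 I where
  __ := Ideal.Quotient.mk I
  map_mem hx := mk_mem_quotGrading 𝒜 I hx

theorem quotHom_apply (x : A) : quotHom 𝒜 I x = Ideal.Quotient.mk I x := rfl

theorem irrelevant_le_map [GradedAlgebra (quotGrading 𝒜 I)] :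
    HomogeneousIdeal.irrelevant (quotGrading 𝒜 I) ≤ (HomogeneousIdeal.irrelevant 𝒜).map (quotHom 𝒜 I) := by
  rw [← toIdeal_le_toIdeal_iff, HomogeneousIdeal.toIdeal_irrelevant_le]
  rintro d hd _ ⟨x, hx, rfl⟩
  exact Ideal.mem_map_of_mem _ (HomogeneousIdeal.mem_irrelevant_of_mem 𝒜 hd hx)

end Quot

theorem exists_quotient {Z : Scheme.{u}} (i : Z ⟶ Proj 𝒜) [IsClosedImmersion i] (s : Finset A)
    (hs1 : ∀ f ∈ s, f ∈ 𝒜 1)
    (hs : (HomogeneousIdeal.irrelevant 𝒜).toIdeal ≤ Ideal.span (s : Set A)) :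
    ∃ (B : Type u) (_ : CommRing B) (_ : Algebra R B) (ℬ : ℕ → Submodule R B) (_ : GradedAlgebra ℬ)
      (φ : 𝒜 →+*ᵍ ℬ) (_ : Function.Surjective φ)
      (hφ : HomogeneousIdeal.irrelevant ℬ ≤ (HomogeneousIdeal.irrelevant 𝒜).map φ)
      (e : Z ≅ Proj ℬ), e.hom ≫ Proj.map φ hφ = i := by
  letI := quotGradedAlgebra 𝒜 (vanishIdeal i s) (fun x hx d => decompose_mem_vanishIdeal i s hx d)
  have hsurj : Function.Surjective (quotHom 𝒜 (vanishIdeal i s)) := Ideal.Quotient.mk_surjective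
  obtain ⟨e, he⟩ := exists_iso i s hs1 hs (quotHom 𝒜 _) hsurj (irrelevant_le_map 𝒜 _) fun d F hF => by
    rw [quotHom_apply, Ideal.Quotient.eq_zero_iff_mem, mem_vanishIdeal_iff i s hF]
  exact ⟨_, inferInstance, inferInstance, _, this, quotHom 𝒜 _, hsurj, irrelevant_le_map 𝒜 _, e, he⟩

end Groth.L18.ClosedSub
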