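import Groth.Agent.L18.RelAmpleOps

/-!
Relative ampleness of composites.
-/

set_option autoImplicit false
set_option backward.isDefEq.respectTransparency false
universe u

open CategoryTheory CategoryTheory.Limits AlgebraicGeometry TopologicalSpace Opposite

noncomputable section

namespace Groth.L18.Ample

open Groth.L18.Frame (rs ro rs_rs rs_self IsFrame)
open Groth.L18.GenLoc

variable {X Y Z : Scheme.{u}} {L : X.Modules}

def twIso (N M : X.Modules) : ∀ k, tw N M k ≅ CohB1.tensorMod N (CohB1.tensorPow M k)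
  | 0 => (Groth.L00.Tensor.tensorUnitRight N).symm
  | k + 1 => Groth.L00.Tensor.tensorIso (twIso N M k) (Iso.refl M) ≪≫
      Groth.L00.Tensor.tensorAssoc N (CohB1.tensorPow M k) M

/-- extension over the non-vanishing locus of a section of an invertible module -/
theorem exists_genLocus_eq_of_restrict_gen [CompactSpace X] [QuasiSeparatedSpace X] {N M : X.Modules}
    (hN : PicF.IsInvertible N) (hM : PicF.IsInvertible M) (φ : Coh.structureModule X ⟶ M) {G : X.Opens}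
    (hφ : CohB1.genLocus _ φ = G) (s₁ : Coh.structureModule G.toScheme ⟶ N.restrict G.ι) :
    ∃ k : ℕ, ∀ j : ℕ, k < j → ∃ s' : Coh.structureModule X ⟶ CohB1.tensorMod N (CohB1.tensorPow M j),
      CohB1.genLocus _ s' = G.ι ''ᵁ CohB1.genLocus _ s₁ := by
  let m₀ : Γ(N, G.ι ''ᵁ ⊤) := secOf s₁
  have hG : CohB1.genLocus _ φ ≤ G.ι ''ᵁ ⊤ := by rw [hφ, G.ι_image_top]
  obtain ⟨k, t, ht⟩ := exists_extend hM hN φ (rs N hG m₀)
  refine ⟨k, fun j hj => ?_⟩
  obtain ⟨i, rfl⟩ : ∃ i, j = k + (i + 1) := ⟨j - k - 1, by omega⟩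
  let t₁ := Groth.L16.homOfSection _ t ≫ (twIso N M k).hom
  have hMk := isInvertible_tensorPow hM k
  refine ⟨tensHom t₁ (pw φ (i + 1)) ≫ (Groth.L00.Tensor.tensorAssoc _ _ _ ≪≫
    Groth.L00.Tensor.tensorIso (Iso.refl N) (Groth.L00.Tensor.tensorPowAdd M k (i + 1))).hom, ?_⟩
  rw [Groth.L16.genLocus_comp_iso, genLocus_tensHom (isInvertible_tensor hN hMk) (isInvertible_tensorPow hM _),
    Groth.L16.genLocus_comp_iso, genLocus_pw_succ hM]
  have htw : ∀ (U : X.Opens) (h : U ≤ CohB1.genLocus _ φ),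
      IsFrame (tw N M k) U (rs (tw N M k) le_top (secOf (Groth.L16.homOfSection _ t))) ↔
      IsFrame N U (rs N (h.trans hG) m₀) := by
    intro U h
    rw [secOf_homOfSection, show rs (tw N M k) (le_top : U ≤ ⊤) t =
      rs (tw N M k) h (rs (tw N M k) le_top t) from (rs_rs _ _ _ t).symm, ht, it_rs, rs_rs]
    exact le_genLocus_of_it φ hN hM h _ k
  apply le_antisymm
  · set U := CohB1.genLocus _ (Groth.L16.homOfSection _ t) ⊓ CohB1.genLocus _ φ with hU
    have h1 := (isFrame_genLocus (Groth.L16.homOfSection _ t)).mono (inf_le_left : U ≤ _)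
    rw [rs_rs] at h1
    have h2 : IsFrame N U (rs N ((inf_le_right : U ≤ _).trans hG) m₀) := (htw U inf_le_right).mp h1
    have hUG : U ≤ G := inf_le_right.trans hφ.le
    have he : G.ι ''ᵁ (G.ι ⁻¹ᵁ U) = U := by
      rw [Scheme.Hom.image_preimage_eq_opensRange_inf, Scheme.Opens.opensRange_ι, inf_eq_right.mpr hUG]
    rw [← he]
    refine G.ι.image_mono (le_genLocus s₁ ((isFrame_restrict_iff N G _ _).mpr ?_))
    have h3 := h2.mono he.le
    rw [rs_rs] at h3
    exact h3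
  · set U := G.ι ''ᵁ CohB1.genLocus _ s₁ with hU
    have hUφ : U ≤ CohB1.genLocus _ φ :=
      ((Scheme.Hom.image_le_opensRange _ _).trans_eq G.opensRange_ι).trans hφ.ge
    refine le_inf (le_genLocus _ ((htw U hUφ).mpr ?_)) hUφ
    exact (isFrame_restrict_iff N G _ _).mp (isFrame_genLocus s₁)

theorem exists_forall_isAmple_tensor_pullback_pow (f : X ⟶ Y) [QuasiCompact f] {K : Y.Modules}
    (hL : RelAmple.IsRelAmple f L) (hK : CohB1.IsAmple K) :
    ∃ n₀ : ℕ, ∀ n, n₀ ≤ n →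
      CohB1.IsAmple (CohB1.tensorMod L ((Scheme.Modules.pullback f).obj (CohB1.tensorPow K n))) := by
  haveI := hK.2.1
  haveI := isSeparated_of_isAmple hK
  choose a t hyt hta using hK.2.2
  haveI : CompactSpace X := QuasiCompact.compactSpace_of_compactSpace f
  haveI : IsSeparated f := by
    refine IsZariskiLocalAtTarget.of_iSup_eq_top (P := @IsSeparated) _ (iSup_affineOpens_eq_top Y) fun W => ?_
    haveI := isSeparated_of_isAmple (hL.2 W)
    infer_instance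
  haveI : X.IsSeparated := ⟨by rw [← Limits.terminal.comp_from f]; infer_instance⟩
  have hLi : PicF.IsInvertible L := isInvertible_of_cover fun x =>
    ⟨f ⁻¹ᵁ CohB1.genLocus _ (t (f x)), hyt (f x), (hL.2 ⟨_, hta (f x)⟩).1⟩
  obtain ⟨T, hT⟩ := isCompact_univ.elim_finite_subcover (fun y : Y => (CohB1.genLocus _ (t y) : Set Y))
    (fun y => (CohB1.genLocus _ (t y)).2) (fun y _ => Set.mem_iUnion.2 ⟨y, hyt y⟩)
  let m : ℕ := ∏ y ∈ T, (a y + 1)
  have hm : 0 < m := Finset.prod_pos fun y _ => Nat.succ_pos _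
  set K' := (Scheme.Modules.pullback f).obj K
  have hK' : PicF.IsInvertible K' := isInvertible_pullback f hK.1
  have hφ : ∀ y ∈ T, ∃ φ : Coh.structureModule X ⟶ CohB1.tensorPow K' m,
      CohB1.genLocus _ φ = f ⁻¹ᵁ CohB1.genLocus _ (t y) := by
    intro y hy
    obtain ⟨c, hc⟩ : a y + 1 ∣ m := Finset.dvd_prod_of_mem _ hy
    obtain ⟨c', rfl⟩ : ∃ c', c = c' + 1 := Nat.exists_eq_add_one.mpr (Nat.pos_of_mul_pos_left (hc ▸ hm))
    obtain ⟨t', ht'⟩ := exists_pull_pow f hK.1 (pw (t y) (c' + 1) ≫ (Groth.L00.Tensor.tensorPowMul K (a y + 1) (c' + 1) ≪≫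
      eqToIso (congrArg (CohB1.tensorPow K) hc.symm)).hom)
    refine ⟨t', ?_⟩
    rw [ht', Groth.L16.genLocus_comp_iso, genLocus_pw_succ (isInvertible_tensorPow hK.1 _)]
  have hM := isInvertible_tensorPow hK' m
  have key : ∀ x : X, ∃ (P : ℕ) (B : X.Opens) (k : ℕ), x ∈ B ∧ IsAffineOpen B ∧ ∀ n, k ≤ n →
      ∃ u : Coh.structureModule X ⟶ CohB1.tensorPow (CohB1.tensorMod L ((Scheme.Modules.pullback f).obj (CohB1.tensorPow K n))) (P + 1),
        CohB1.genLocus _ u = B := by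
    intro x
    obtain ⟨y, hy, hxy⟩ := Set.mem_iUnion₂.1 (hT (Set.mem_univ (f x)))
    obtain ⟨φ, hφy⟩ := hφ y hy
    set G := f ⁻¹ᵁ CohB1.genLocus _ (t y)
    have hxG : x ∈ G := hxy
    obtain ⟨b, s, hxs, hs⟩ := (hL.2 ⟨_, hta y⟩).2.2 ⟨x, hxG⟩
    obtain ⟨m', hm'⟩ : ∃ m', m = m' + 1 := Nat.exists_eq_add_one.mpr hm
    let s₁ : Coh.structureModule G.toScheme ⟶ (CohB1.tensorPow L ((b + 1) * m)).restrict G.ι :=
      pw s (m' + 1) ≫ (Groth.L00.Tensor.tensorPowMul (L.restrict G.ι) (b + 1) (m' + 1) ≪≫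
        eqToIso (congrArg (CohB1.tensorPow (L.restrict G.ι)) (congrArg ((b + 1) * ·) hm'.symm)) ≪≫
        Groth.L00.Tensor.tensorPowRestrict G.ι L ((b + 1) * m)).hom
    have hs₁ : CohB1.genLocus _ s₁ = CohB1.genLocus _ s := by
      rw [Groth.L16.genLocus_comp_iso, genLocus_pw_succ (isInvertible_tensorPow (isInvertible_restrict hLi G) _)]
    obtain ⟨k, hk⟩ := exists_genLocus_eq_of_restrict_gen (isInvertible_tensorPow hLi ((b + 1) * m)) hM φ hφy s₁
    refine ⟨(b + 1) * m - 1, G.ι ''ᵁ CohB1.genLocus _ s₁, k + 1, ⟨⟨x, hxG⟩, hs₁ ▸ hxs, rfl⟩,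
      hs₁ ▸ hs.image_of_isOpenImmersion _, fun n hn => ?_⟩
    obtain ⟨u, hu⟩ := hk (n * (b + 1)) (by
      have : n ≤ n * (b + 1) := Nat.le_mul_of_pos_right n (Nat.succ_pos b)
      omega)
    let P := (b + 1) * m
    have hP : (b + 1) * m - 1 + 1 = (b + 1) * m := Nat.sub_add_cancel (Nat.mul_pos (Nat.succ_pos b) hm)
    rw [hP]
    refine ⟨u ≫ (Groth.L00.Tensor.tensorIso (Iso.refl _)
      (Groth.L00.Tensor.tensorPowMul K' m (n * (b + 1)) ≪≫
        eqToIso (congrArg (CohB1.tensorPow K') (show m * (n * (b + 1)) = n * ((b + 1) * m) by ring)) ≪≫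
        (Groth.L00.Tensor.tensorPowMul K' n ((b + 1) * m)).symm ≪≫
        Groth.L00.Tensor.tensorPowIso (pullPow f K n).symm _) ≪≫
      (Groth.L00.Tensor.tensorPowTensor L _ _).symm).hom, ?_⟩
    rw [Groth.L16.genLocus_comp_iso, hu]
  choose P B k hxB hB hu using key
  obtain ⟨S, hS⟩ := isCompact_univ.elim_finite_subcover (fun x : X => (B x : Set X))
    (fun x => (B x).2) (fun x _ => Set.mem_iUnion.2 ⟨x, hxB x⟩)
  refine ⟨S.sup k, fun n hn => ⟨isInvertible_tensor hLi (isInvertible_pullback f (isInvertible_tensorPow hK.1 n)),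
    inferInstance, fun x => ?_⟩⟩
  obtain ⟨z, hz, hxz⟩ := Set.mem_iUnion₂.1 (hS (Set.mem_univ x))
  obtain ⟨u, hu'⟩ := hu z n ((Finset.le_sup hz).trans hn)
  exact ⟨P z, u, hu' ▸ hxz, hu' ▸ hB z⟩

theorem exists_forall_isRelAmple_comp [CompactSpace Z] (f : X ⟶ Y) (g : Y ⟶ Z)
    [QuasiCompact f] [QuasiCompact g] {K : Y.Modules}
    (hL : RelAmple.IsRelAmple f L) (hK : RelAmple.IsRelAmple g K) :
    ∃ n₀ : ℕ, 0 < n₀ ∧ ∀ n, n₀ ≤ n →
      RelAmple.IsRelAmple (f ≫ g) (CohB1.tensorMod L ((Scheme.Modules.pullback f).obj (CohB1.tensorPow K n))) := by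
  choose W hW hzW _ using fun z : Z => exists_affine_le (Opens.mem_top z)
  have key : ∀ z : Z, ∃ n₀ : ℕ, ∀ n, n₀ ≤ n → CohB1.IsAmple
      ((CohB1.tensorMod L ((Scheme.Modules.pullback f).obj (CohB1.tensorPow K n))).restrict ((f ≫ g) ⁻¹ᵁ W z).ι) := by
    intro z
    set B := g ⁻¹ᵁ W z
    set A := f ⁻¹ᵁ B
    haveI : CompactSpace (B : Scheme.{u}) := isCompact_iff_compactSpace.mp (g.isCompact_preimage (hW z).isCompact)
    haveI := hL.1
    obtain ⟨n₀, hn₀⟩ := exists_forall_isAmple_tensor_pullback_pow (f ∣_ B)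
      (isRelAmple_restrict_target f hL B) (hK.2 ⟨_, hW z⟩)
    refine ⟨n₀, fun n hn => isAmple_of_iso ?_ (hn₀ n hn)⟩
    exact Groth.L00.Tensor.tensorIso (Iso.refl _)
      ((Scheme.Modules.pullback (f ∣_ B)).mapIso (Groth.L00.Tensor.tensorPowRestrict B.ι K n ≪≫
          (Scheme.Modules.restrictFunctorIsoPullback B.ι).app _) ≪≫
        (Scheme.Modules.pullbackComp _ _).app _ ≪≫
        (Scheme.Modules.pullbackCongr (morphismRestrict_ι f B)).app _ ≪≫
        ((Scheme.Modules.pullbackComp _ _).app _).symm ≪≫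
        ((Scheme.Modules.restrictFunctorIsoPullback A.ι).app _).symm) ≪≫
      Groth.L00.Tensor.tensorRestrict A.ι L _
  choose n₀ hn₀ using key
  obtain ⟨T, hT⟩ := isCompact_univ.elim_finite_subcover (fun z : Z => (W z : Set Z))
    (fun z => (W z).2) (fun z _ => Set.mem_iUnion.2 ⟨z, hzW z⟩)
  refine ⟨T.sup n₀ + 1, Nat.succ_pos _, fun n hn => isRelAmple_of_local _ fun z => ?_⟩
  obtain ⟨z', hz', hzz'⟩ := Set.mem_iUnion₂.1 (hT (Set.mem_univ z))
  exact ⟨W z', hW z', hzz', hn₀ z' n ((Finset.le_sup hz').trans (by omega))⟩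

end Groth.L18.Ample
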