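import Groth.Agent.L18.Ample
import Groth.Agent.L16.QcqsPush
import Groth.Agent.L21.Extend.Semilocal
import Groth.Agent.L00.TensorQCoh

/-!
Sections of quasi-coherent modules over `X_s` extend after twisting by a power of `s`.
-/

set_option autoImplicit false
set_option backward.isDefEq.respectTransparency false
universe u

open CategoryTheory AlgebraicGeometry TopologicalSpace Opposite

noncomputable section

namespace Groth.L18.Ample

open Groth.L18.Frame (rs ro rs_rs rs_self rs_smul ro_ro ro_self ro_mul IsFrame)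
open Groth.L18.GenLoc

variable {X : Scheme.{u}} {L N : X.Modules} (σ : Γ(L, ⊤))

theorem isQCoh_tw (N : X.Modules) [Coh.IsQCoh N] (hL : PicF.IsInvertible L) : ∀ k, Coh.IsQCoh (tw N L k)
  | 0 => ‹_›
  | k + 1 => by
    haveI := isQCoh_tw N hL k
    haveI := Groth.L21.Extend.isQCoh_of_isInvertible hL
    exact Groth.L00.Tensor.isQCoh_tensorMod (tw N L k) L

theorem fr_smul {W : X.Opens} (c : Γ(X, W)) (e : Γ(N, W)) (ε : Γ(L, W)) :
    ∀ k : ℕ, fr (c • e) ε k = c • fr e ε k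
  | 0 => rfl
  | k + 1 => by
    show tens _ L W (fr (c • e) ε k) ε = c • tens _ L W _ ε
    rw [fr_smul c e ε k, tens_smul_left]

theorem it_eq_smul_fr {W : X.Opens} {ε : Γ(L, W)} {a : Γ(X, W)} (ha : a • ε = rs L le_top σ) (e : Γ(N, W))
    (k : ℕ) : it σ W e k = a ^ k • fr e ε k := by
  have := it_fr σ (e := e) (b := (1 : Γ(X, W))) ha k
  rwa [one_smul, one_mul] at this

theorem up_eq_zero {W : X.Opens} {ε : Γ(L, W)} {a : Γ(X, W)} (ha : a • ε = rs L le_top σ) {k : ℕ} :
    ∀ (d : ℕ) (x : Γ(tw N L k, W)) (c : Γ(X, W)), (c * a ^ d) • x = 0 → c • up N σ W d x = 0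
  | 0, x, c, h => by rwa [pow_zero, mul_one] at h
  | d + 1, x, c, h => by
    show c • tens _ L W (up N σ W d x) (rs L le_top σ) = 0
    rw [← ha, tens_smul_right, ← mul_smul, ← tens_smul_left,
      up_eq_zero ha d x (c * a) (by rwa [mul_assoc, ← pow_succ'])]
    have := tens_smul_left (L := tw N L (k + d)) (M := L) (U := W) 0 (0 : Γ(tw N L (k + d), W)) ε
    rwa [zero_smul, zero_smul] at this

/-- A section over `X_s` of a quasi-coherent module extends after twisting by a power of `s`. -/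
theorem exists_extend_qcoh [CompactSpace X] [QuasiSeparatedSpace X] (hL : PicF.IsInvertible L)
    [Coh.IsQCoh N] (s : Coh.structureModule X ⟶ L) (m : Γ(N, CohB1.genLocus L s)) :
    ∃ (k : ℕ) (t : Γ(tw N L k, ⊤)),
      rs (tw N L k) le_top t = it (secOf s) (CohB1.genLocus L s) m k := by
  let G := CohB1.genLocus L s
  let σ := secOf s
  have hloc : ∀ x : X, ∃ W : X.Opens, x ∈ W ∧ IsAffineOpen W ∧ ∃ ε : Γ(L, W), IsFrame L W ε := fun x => by
    obtain ⟨W', ε, hx', hε⟩ := Frame.exists_frame hL x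
    obtain ⟨_, ⟨V, hV, rfl⟩, hxV, hVW⟩ :=
      X.isBasis_affineOpens.exists_subset_of_mem_open (show x ∈ W' from hx') W'.2
    exact ⟨V, hxV, hV, ⟨_, hε.mono fun y hy => hVW hy⟩⟩
  choose W hxW hW hε using hloc
  choose ε hε using hε
  obtain ⟨T, hT⟩ := isCompact_univ.elim_finite_subcover (fun x : X => (W x : Set X)) (fun x => (W x).2)
    (fun x _ => Set.mem_iUnion.2 ⟨x, hxW x⟩)
  have hcov : (⊤ : X.Opens) ≤ ⨆ i : T, W i.1 := fun x _ => by
    obtain ⟨y, hy, hxy⟩ := Set.mem_iUnion₂.1 (hT (Set.mem_univ x))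
    exact Opens.mem_iSup.2 ⟨⟨y, hy⟩, hxy⟩
  choose a ha using fun i : T => (hε i.1).exists_coeff le_rfl (rs L le_top σ)
  simp only [rs_self] at ha
  have hG : ∀ i : T, G ⊓ W i.1 = X.basicOpen (a i) := fun i => genLocus_inf_eq s (hε i.1) (ha i)
  have hBG : ∀ i : T, X.basicOpen (a i) ≤ G := fun i => (hG i).ge.trans inf_le_left
  choose n c hc using fun i : T => Groth.L16.QCohSect.exists_pow_smul_eq_res (hW i.1) N (a i) (rs N (hBG i) m)
  obtain ⟨K, hK⟩ := (Set.finite_range n).bddAbove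
  let t : ∀ i : T, Γ(tw N L K, W i.1) := fun i => (a i ^ (K - n i)) • fr (c i) (ε i.1) K
  have hha : ∀ (i : T) {V : X.Opens} (hV : V ≤ W i.1), ro hV (a i) • rs L hV (ε i.1) = rs L le_top σ :=
    fun i V hV => by rw [← rs_smul, ha, rs_rs]
  have hfr : ∀ (i : T) {V : X.Opens} (hV : V ≤ W i.1) (k : ℕ),
      ∀ e : Γ(N, W i.1), rs (tw N L k) hV (fr e (ε i.1) k) = fr (rs N hV e) (rs L hV (ε i.1)) k := by
    intro i V hV k e
    induction k with
    | zero => rfl
    | succ k ih =>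
      show rs (CohB1.tensorMod (tw N L k) L) hV (tens _ L _ _ _) = tens _ L V _ _
      rw [tens_rs, ih]
  have ht : ∀ i : T, rs (tw N L K) (X.basicOpen_le (a i)) (t i) = it σ _ (rs N (hBG i) m) K := fun i => by
    rw [it_eq_smul_fr σ (hha i (X.basicOpen_le (a i))) _ K, rs_smul, hfr, hc i, fr_smul, ← mul_smul]
    congr 1
    simp only [ro, map_pow]
    rw [← pow_add, Nat.sub_add_cancel (hK ⟨i, rfl⟩)]
  have hov : ∀ p : T × T, ∃ d : ℕ,
      up N σ _ d (rs (tw N L K) (inf_le_left : W p.1.1 ⊓ W p.2.1 ≤ W p.1.1) (t p.1) -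
        rs (tw N L K) (inf_le_right : W p.1.1 ⊓ W p.2.1 ≤ W p.2.1) (t p.2)) = 0 := by
    rintro ⟨i, j⟩
    set W₂ := W i.1 ⊓ W j.1 with hW₂
    set d₀ := rs (tw N L K) (inf_le_left : W₂ ≤ W i.1) (t i) - rs (tw N L K) (inf_le_right : W₂ ≤ W j.1) (t j)
      with hd₀
    let a' := ro (inf_le_left : W₂ ≤ W i.1) (a i)
    have hVi : X.basicOpen a' ≤ X.basicOpen (a i) := (X.basicOpen_res (a i) _).trans_le inf_le_right
    have hVj : X.basicOpen a' ≤ X.basicOpen (a j) :=
      (le_inf ((hVi.trans (hBG i))) ((X.basicOpen_le a').trans inf_le_right)).trans_eq (hG j)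
    have h0 : rs (tw N L K) (X.basicOpen_le a') d₀ = 0 := by
      have h1 := congrArg (rs (tw N L K) hVi) (ht i)
      have h2 := congrArg (rs (tw N L K) hVj) (ht j)
      rw [rs_rs, it_rs, rs_rs] at h1 h2
      refine (map_sub _ _ _).trans (sub_eq_zero.2 ?_)
      show rs _ _ (rs _ _ _) = rs _ _ (rs _ _ _)
      rw [rs_rs, rs_rs, h1, h2]
    have hq : IsCompact (W₂ : Set X) :=
      quasiSeparatedSpace_iff_forall_affineOpens.mp inferInstance ⟨_, hW i.1⟩ ⟨_, hW j.1⟩
    haveI := isQCoh_tw N hL K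
    obtain ⟨d, hd⟩ := Groth.L16.QcqsPush.exists_pow_smul_eq_zero (tw N L K) hq a' d₀ h0
    refine ⟨d, (one_smul _ _).symm.trans (up_eq_zero σ (hha i inf_le_left) d d₀ 1 ?_)⟩
    rw [one_mul]
    exact hd
  choose d hd using hov
  obtain ⟨D, hD⟩ := (Set.finite_range d).bddAbove
  have hup0 : ∀ (U : X.Opens) (a b : ℕ) (x : Γ(tw N L K, U)), a ≤ b → up N σ U a x = 0 → up N σ U b x = 0 := by
    intro U a b x hab hx
    induction hab with
    | refl => exact hx
    | @step p hp ih =>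
      show tens _ L U (up N σ U p x) _ = 0
      rw [ih]
      have := tens_smul_left (L := tw N L (K + p)) (M := L) (U := U) 0 (0 : Γ(tw N L (K + p), U)) (rs L le_top σ)
      rwa [zero_smul, zero_smul] at this
  have hupsub : ∀ (U : X.Opens) (k : ℕ) (x y : Γ(tw N L K, U)),
      up N σ U k (x - y) = up N σ U k x - up N σ U k y := by
    intro U k x y
    induction k with
    | zero => rfl
    | succ k ih =>
      show tens _ L U (up N σ U k (x - y)) _ = tens _ L U (up N σ U k x) _ - tens _ L U (up N σ U k y) _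
      rw [ih, eq_sub_iff_add_eq]
      refine (Groth.L00.Tensor.ev_add₁ _ _ _ _ _).symm.trans ?_
      exact congrArg (fun z => tens _ L U z _) (sub_add_cancel _ _)
  let t' : ∀ i : T, Γ(tw N L (K + D), W i.1) := fun i => up N σ _ D (t i)
  have hcompat : TopCat.Presheaf.IsCompatible (X := X.toTopCat) (tw N L (K + D)).presheaf
      (fun i : T => W i.1) t' := fun i j => by
    show rs (tw N L (K + D)) (inf_le_left : W i.1 ⊓ W j.1 ≤ W i.1) (t' i) =
      rs (tw N L (K + D)) (inf_le_right : W i.1 ⊓ W j.1 ≤ W j.1) (t' j)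
    simp only [t', up_rs]
    rw [← sub_eq_zero, ← hupsub]
    exact hup0 _ _ _ _ (hD ⟨(i, j), rfl⟩) (hd (i, j))
  let OM : TopCat.Sheaf Ab.{u} X.toTopCat := ⟨(tw N L (K + D)).presheaf, (tw N L (K + D)).isSheaf⟩
  obtain ⟨g, hg, -⟩ := TopCat.Sheaf.existsUnique_gluing' OM
    (fun i : T => W i.1) ⊤ (fun i => homOfLE le_top) hcov t' hcompat
  refine ⟨K + D, g, OM.eq_of_locally_eq' (fun i : T => X.basicOpen (a i)) G (fun i => homOfLE (hBG i)) ?_ _ _
    fun i => ?_⟩
  · intro x hx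
    obtain ⟨i, hi⟩ := Opens.mem_iSup.1 (hcov (Opens.mem_top x))
    exact Opens.mem_iSup.2 ⟨i, (hG i).le ⟨hx, hi⟩⟩
  · show rs (tw N L (K + D)) (hBG i) (rs (tw N L (K + D)) le_top g) = rs (tw N L (K + D)) (hBG i) (it σ G m (K + D))
    rw [rs_rs, it_rs, show rs (tw N L (K + D)) ((hBG i).trans le_top) g =
      rs (tw N L (K + D)) (X.basicOpen_le (a i)) (rs (tw N L (K + D)) le_top g) from (rs_rs _ _ _ g).symm]
    rw [show rs (tw N L (K + D)) (le_top : W i.1 ≤ ⊤) g = t' i from hg i, up_rs, ht i, up_it]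

end Groth.L18.Ample
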