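import Groth.Agent.L18.RelAmpleOps

/-!
Surjectivity of the counit `f^* f_* M → M` for invertible `M` gives generating sections locally on the base.
-/

set_option autoImplicit false
set_option backward.isDefEq.respectTransparency false
universe u

open CategoryTheory CategoryTheory.Limits AlgebraicGeometry TopologicalSpace Opposite

noncomputable section

namespace Groth.L18.Ample

open Groth.L18.Frame (rs ro rs_rs rs_self rs_smul ro_ro ro_self ro_mul IsFrame pull pull_rs pull_smul)
open Groth.L18.GenLoc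

variable {X Y : Scheme.{u}} {M : X.Modules}

theorem subsingleton_sections_bot (N : X.Modules) {U : X.Opens} (h : U = ⊥) : Subsingleton Γ(N, U) := by
  subst h
  exact Module.subsingleton Γ(X, ⊥) Γ(N, ⊥)

theorem eq_zero_of_rs_eq_zero (N : X.Modules) {U V : X.Opens} (h : V ≤ U) (m : Γ(N, U)) (hUV : U ≤ V)
    (h0 : rs N h m = 0) : m = 0 := by
  obtain rfl : V = U := le_antisymm h hUV
  rwa [rs_self] at h0

theorem exists_section_of_counit_epi (f : X ⟶ Y) (hM : PicF.IsInvertible M)
    (hepi : Epi ((Scheme.Modules.pullbackPushforwardAdjunction f).counit.app M)) (x : X) :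
    ∃ (V : Y.Opens) (m : Γ(M, f ⁻¹ᵁ V)) (W : X.Opens) (hW : W ≤ f ⁻¹ᵁ V), x ∈ W ∧ IsFrame M W (rs M hW m) := by
  set j := X.fromSpecResidueField x
  obtain ⟨W₀, e, hxW₀, he⟩ := Frame.exists_frame hM x
  let p : Spec (X.residueField x) := IsLocalRing.closedPoint _
  have hp : ∀ q, j q = x := Scheme.fromSpecResidueField_apply x
  have htop : ∀ U : X.Opens, x ∈ U → j ⁻¹ᵁ U = ⊤ := fun U hx => top_le_iff.mp fun q _ => by
    show j q ∈ U
    rwa [hp]
  haveI : Nontrivial Γ(Spec (X.residueField x), j ⁻¹ᵁ W₀) := by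
    rw [htop W₀ hxW₀]
    exact (Scheme.ΓSpecIso _).commRingCatIsoToRingEquiv.toEquiv.nontrivial
  have hne : pull j M W₀ e ≠ 0 := by
    intro h0
    have h1 := (he.pullback j M _ le_rfl).injective
      (a₁ := (1 : Γ(Spec (X.residueField x), j ⁻¹ᵁ W₀))) (a₂ := 0) (by simp [h0])
    exact one_ne_zero h1
  let ψ := (Scheme.Modules.pullbackPushforwardAdjunction j).unit.app M
  have hψ : ψ ≠ 0 := by
    intro h
    apply hne
    show ψ.app W₀ e = 0
    rw [h]
    rfl
  have hex : ∃ (V : Y.Opens) (m : Γ(M, f ⁻¹ᵁ V)), pull j M (f ⁻¹ᵁ V) m ≠ 0 := by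
    by_contra! hall
    apply hψ
    have h0 : (Scheme.Modules.pushforward f).map ψ = 0 := by
      ext V m
      exact hall V m
    have := (Scheme.Modules.pullbackPushforwardAdjunction f).counit.naturality ψ
    simp only [Functor.comp_map, h0, Functor.map_zero, Limits.zero_comp, Functor.id_map] at this
    haveI _i := hepi
    exact (cancel_epi ((Scheme.Modules.pullbackPushforwardAdjunction f).counit.app M)).mp (this.symm.trans Limits.comp_zero.symm)
  obtain ⟨V, m, hm⟩ := hex
  have hxV : x ∈ f ⁻¹ᵁ V := by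
    by_contra hx
    apply hm
    have hb : j ⁻¹ᵁ (f ⁻¹ᵁ V) = ⊥ := bot_unique fun q hq => absurd ((hp q) ▸ hq) hx
    haveI := subsingleton_sections_bot ((Scheme.Modules.pullback j).obj M) hb
    exact Subsingleton.elim _ _
  have he' := he.mono (inf_le_left : W₀ ⊓ f ⁻¹ᵁ V ≤ W₀)
  set W := W₀ ⊓ f ⁻¹ᵁ V
  obtain ⟨a, ha⟩ := he'.exists_coeff le_rfl (rs M (inf_le_right : W ≤ _) m)
  rw [rs_self] at ha
  have hxa : x ∈ X.basicOpen a := by
    by_contra hx
    apply hm
    have hj : (j ⁻¹ᵁ W) = ⊤ := htop _ ⟨hxW₀, hxV⟩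
    have h1 : (Spec (X.residueField x)).basicOpen (j.app W a) = ⊥ := by
      rw [← Scheme.preimage_basicOpen]
      exact bot_unique fun q hq => absurd ((hp q) ▸ hq) hx
    have h2 : j.app W a = 0 := (basicOpen_eq_bot_iff _).mp h1
    have h3 := congrArg (pull j M W) ha
    rw [pull_smul, h2, zero_smul, ← pull_rs] at h3
    exact eq_zero_of_rs_eq_zero _ _ _ ((htop _ hxV).trans hj.symm).le h3.symm
  refine ⟨V, m, X.basicOpen a, (X.basicOpen_le a).trans inf_le_right, hxa, ?_⟩
  have h := (he'.mono (X.basicOpen_le a)).smul_unit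
    (show IsUnit (ro (X.basicOpen_le a) a) from RingedSpace.isUnit_res_basicOpen _ a)
  rwa [← rs_smul, ha, rs_rs] at h

/-- a section over a basic open generating at a point gives a global one -/
theorem exists_gen_of_basicOpen [CompactSpace X] [QuasiSeparatedSpace X] {N : X.Modules} (hN : PicF.IsInvertible N)
    (a : Γ(X, ⊤)) {G : X.Opens} (hG : X.basicOpen a = G) (m : Γ(N, G)) {U : X.Opens} (hU : U ≤ G)
    (hfr : IsFrame N U (rs N hU m)) :
    ∃ s : Coh.structureModule X ⟶ N, U ≤ CohB1.genLocus N s := by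
  subst hG
  let φ : Coh.structureModule X ⟶ Coh.structureModule X :=
    Groth.L16.homOfSection _ (show Γ(Coh.structureModule X, ⊤) from a)
  have hφ : CohB1.genLocus _ φ = X.basicOpen a := genLocus_function a
  obtain ⟨k, t, ht⟩ := exists_extend (isInvertible_structureModule X) hN φ (rs N hφ.le m)
  refine ⟨Groth.L16.homOfSection _ t ≫ (twUnit N k).hom, ?_⟩
  rw [Groth.L16.genLocus_comp_iso]
  refine le_genLocus _ ?_
  have h : U ≤ CohB1.genLocus _ φ := hU.trans hφ.ge
  rw [secOf_homOfSection, show rs (tw N (Coh.structureModule X) k) (le_top : U ≤ ⊤) t =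
      rs (tw N (Coh.structureModule X) k) h (rs (tw N (Coh.structureModule X) k) le_top t) from (rs_rs _ _ _ t).symm,
    ht, it_rs, rs_rs]
  exact (le_genLocus_of_it φ hN (isInvertible_structureModule X) h _ k).mpr hfr

/-- tensoring a relatively ample module with one having a relatively generated power -/
theorem isRelAmple_tensor_of_counit_epi (f : X ⟶ Y) {L L' : X.Modules} (hL : RelAmple.IsRelAmple f L)
    (hL' : PicF.IsInvertible L') {n : ℕ} (hn : 0 < n)
    (hepi : Epi ((Scheme.Modules.pullbackPushforwardAdjunction f).counit.app (CohB1.tensorPow L' n))) :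
    RelAmple.IsRelAmple f (CohB1.tensorMod L L') := by
  refine ⟨hL.1, fun V => ?_⟩
  set A := f ⁻¹ᵁ V.1 with hA
  have hLA := hL.2 V
  haveI := hLA.2.1
  haveI := isSeparated_of_isAmple hLA
  refine isAmple_of_iso (Groth.L00.Tensor.tensorRestrict A.ι L L')
    (isAmple_tensor_of_gen hLA (isInvertible_restrict hL' A) fun z => ?_)
  have hM := isInvertible_tensorPow hL' n
  set M := CohB1.tensorPow L' n with hMdef
  obtain ⟨V', m, W, hWV, hzW, hfr⟩ := exists_section_of_counit_epi f hM hepi (A.ι z)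
  have hzV' : f (A.ι z) ∈ V' := hWV hzW
  obtain ⟨g, hg, hzg⟩ := V.2.exists_basicOpen_le (V := V') ⟨_, hzV'⟩ z.2
  let G : A.toScheme.Opens := A.toScheme.basicOpen ((f ∣_ V.1).appTop (V.1.topIso.inv g))
  have eG : A.ι ''ᵁ G = f ⁻¹ᵁ Y.basicOpen g := by
    show A.ι ''ᵁ A.toScheme.basicOpen _ = _
    rw [← Scheme.preimage_basicOpen_top, image_morphismRestrict_preimage,
      Scheme.Opens.ι_image_basicOpen_topIso_inv]
  have hzG : z ∈ G := by
    obtain ⟨z', hz', e⟩ := eG.ge (show A.ι z ∈ f ⁻¹ᵁ Y.basicOpen g from hzg)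
    exact A.ι.isOpenEmbedding.injective e ▸ hz'
  have hle : A.ι ''ᵁ G ≤ f ⁻¹ᵁ V' := eG.le.trans (f.preimage_mono hg)
  let U : A.toScheme.Opens := G ⊓ A.ι ⁻¹ᵁ W
  have hUW : A.ι ''ᵁ U ≤ W := by
    rintro _ ⟨w, hw, rfl⟩
    exact hw.2
  have hfr' : IsFrame (M.restrict A.ι) U
      (rs (M.restrict A.ι) (inf_le_left : U ≤ G) (show Γ(M.restrict A.ι, G) from rs M hle m)) := by
    refine (isFrame_restrict_iff M A _ _).mpr ?_
    have h := hfr.mono hUW
    rw [rs_rs] at h
    convert h using 1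
    exact rs_rs M hle (A.ι.image_mono (inf_le_left : U ≤ G)) m
  obtain ⟨s', hs'⟩ := exists_gen_of_basicOpen (isInvertible_restrict hM A) _ rfl
    (show Γ(M.restrict A.ι, G) from rs M hle m) inf_le_left hfr'
  obtain ⟨k, t, ht⟩ := exists_of_iso (L := L'.restrict A.ι) hn s'
    (Groth.L00.Tensor.tensorPowRestrict A.ι L' n).symm
  refine ⟨k, t, ?_⟩
  rw [ht]
  exact hs' ⟨hzG, hzW⟩

end Groth.L18.Ample
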