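import Groth.Agent.L18.GlobGen
import Groth.Agent.L18.CounitGen
import Groth.Agent.L00.LocalData

/-!
Global generation and ampleness of twists.
-/

set_option autoImplicit false
set_option backward.isDefEq.respectTransparency false
universe u

open CategoryTheory CategoryTheory.Limits AlgebraicGeometry TopologicalSpace Opposite

noncomputable section

namespace Groth.L18.Ample

open Groth.L18.Frame (rs ro rs_rs rs_self rs_smul ro_ro IsFrame pull pull_rs pull_smul)
open Groth.L18.GenLoc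

variable {X : Scheme.{u}} {L M : X.Modules}

theorem isFT_of_isInvertible (hM : PicF.IsInvertible M) : CohB1.IsFT M := by
  refine Groth.L00.Local.isFT_of_generators M fun x => ?_
  obtain ⟨W, e, hxW, he⟩ := Frame.exists_frame hM x
  let s : Coh.structureModule W.toScheme ⟶ M.restrict W.ι :=
    Groth.L16.homOfSection _ (show Γ(M, W.ι ''ᵁ ⊤) from rs M W.ι_image_top.le e)
  haveI : IsIso s := by
    have hF : IsFrame (M.restrict W.ι) ⊤ (rs (M.restrict W.ι) le_top (secOf s)) := by
      rw [rs_self, secOf_homOfSection]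
      exact (isFrame_restrict_iff M W ⊤ _).mpr (he.mono W.ι_image_top.le)
    have h := (isIso_restrict_iff_isFrame s ⊤).2 hF
    refine Scheme.Modules.Hom.isIso_iff_isIso_app.2 fun V => ?_
    have h' := Scheme.Modules.Hom.isIso_iff_isIso_app.1 h ((⊤ : W.toScheme.Opens).ι ⁻¹ᵁ V)
    have eV : (⊤ : W.toScheme.Opens).ι ''ᵁ ((⊤ : W.toScheme.Opens).ι ⁻¹ᵁ V) = V := by
      rw [Scheme.Hom.image_preimage_eq_opensRange_inf, Scheme.Opens.opensRange_ι, top_inf_eq]
    rw [← eV]
    exact h'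
  let sec : PUnit.{u + 1} → (M.restrict W.ι).sections := fun _ => (M.restrict W.ι).unitHomEquiv s
  refine ⟨W, { I := PUnit.{u + 1}, s := sec, epi := ?_ }, hxW, (inferInstance : Finite PUnit.{u + 1})⟩
  have h1 : SheafOfModules.ιFree PUnit.unit ≫ (M.restrict W.ι).freeHomEquiv.symm sec = s :=
    (SheafOfModules.unitHomEquiv_symm_freeHomEquiv_apply _ _).symm.trans (by
      rw [Equiv.apply_symm_apply]; exact Equiv.symm_apply_apply _ _)
  haveI : Epi (SheafOfModules.ιFree PUnit.unit ≫ (M.restrict W.ι).freeHomEquiv.symm sec) := h1 ▸ inferInstance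
  exact epi_of_epi (SheafOfModules.ιFree PUnit.unit) _

theorem isCoh_of_isInvertible (hM : PicF.IsInvertible M) : Coh.IsCoh M :=
  ⟨Groth.L21.Extend.isQCoh_of_isInvertible hM, isFT_of_isInvertible hM⟩

theorem eq_zero_of_killsGlobal {F G : X.Modules} (hF : Curv2.IsGloballyGenerated F) (g : F ⟶ G)
    (hg : KillsGlobal g) : g = 0 := by
  obtain ⟨ι, p, hp⟩ := hF
  refine (cancel_epi p).mp ((SheafOfModules.freeHomEquiv G).injective (funext fun i => ?_))
  rw [comp_zero, SheafOfModules.freeHomEquiv_comp_apply]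
  refine PresheafOfModules.sections_ext _ _ fun V => ?_
  let σ := SheafOfModules.freeHomEquiv F p i
  have h1 : σ.eval V = rs F (le_top : V.unop ≤ ⊤) (σ.eval (op ⊤)) :=
    (σ.2 (homOfLE (le_top : V.unop ≤ ⊤)).op).symm
  have h2 : g.app V.unop (rs F (le_top : V.unop ≤ ⊤) (σ.eval (op ⊤))) = 0 := by
    rw [hom_app_rs, hg]
    exact map_zero _
  exact (congrArg (g.app V.unop) h1).trans h2

theorem exists_genLocus_mem_of_gg (hM : PicF.IsInvertible M) (hg : Curv2.IsGloballyGenerated M) (x : X) :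
    ∃ s : Coh.structureModule X ⟶ M, x ∈ CohB1.genLocus M s := by
  set j := X.fromSpecResidueField x
  obtain ⟨W₀, e, hxW₀, he⟩ := Frame.exists_frame hM x
  have hp : ∀ q, j q = x := Scheme.fromSpecResidueField_apply x
  have htop : ∀ U : X.Opens, x ∈ U → j ⁻¹ᵁ U = ⊤ := fun U hx => top_le_iff.mp fun q _ => by
    show j q ∈ U
    rwa [hp]
  haveI : Nontrivial Γ(Spec (X.residueField x), j ⁻¹ᵁ W₀) := by
    rw [htop W₀ hxW₀]
    exact (Scheme.ΓSpecIso _).commRingCatIsoToRingEquiv.toEquiv.nontrivial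
  have hne : pull j M W₀ e ≠ 0 := by
    intro h0
    have h1 := (he.pullback j M _ le_rfl).injective
      (a₁ := (1 : Γ(Spec (X.residueField x), j ⁻¹ᵁ W₀))) (a₂ := 0) (by simp [h0])
    exact one_ne_zero h1
  let ψ := (Scheme.Modules.pullbackPushforwardAdjunction j).unit.app M
  obtain ⟨m, hm⟩ : ∃ m : Γ(M, ⊤), pull j M ⊤ m ≠ 0 := by
    by_contra! hall
    apply hne
    show ψ.app W₀ e = 0
    rw [eq_zero_of_killsGlobal hg ψ hall]
    rfl
  refine ⟨Groth.L16.homOfSection M m, ?_⟩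
  obtain ⟨a, ha⟩ := he.exists_coeff le_rfl (rs M le_top m)
  rw [rs_self] at ha
  have hxa : x ∈ X.basicOpen a := by
    by_contra hx
    apply hm
    have h1 : (Spec (X.residueField x)).basicOpen (j.app W₀ a) = ⊥ := by
      rw [← Scheme.preimage_basicOpen]
      exact bot_unique fun q hq => absurd ((hp q) ▸ hq) hx
    have h2 : j.app W₀ a = 0 := (basicOpen_eq_bot_iff _).mp h1
    have h3 := congrArg (pull j M W₀) ha
    rw [pull_smul, h2, zero_smul, ← pull_rs] at h3
    exact eq_zero_of_rs_eq_zero _ _ _ (le_top.trans (htop W₀ hxW₀).ge) h3.symm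
  have h := genLocus_inf_eq (Groth.L16.homOfSection M m) he (a := a) (by rw [secOf_homOfSection, ha])
  exact (h.ge hxa).1

/-- twists by high powers of an ample module are ample and globally generated -/
theorem exists_forall_isAmple_gg (hL : CohB1.IsAmple L) (hM : PicF.IsInvertible M) :
    ∃ n₀ : ℕ, 0 < n₀ ∧ ∀ n, n₀ ≤ n →
      CohB1.IsAmple (CohB1.tensorMod (CohB1.tensorPow L n) M) ∧
        Curv2.IsGloballyGenerated (CohB1.tensorMod (CohB1.tensorPow L n) M) := by
  obtain ⟨n₀, hn₀⟩ := exists_forall_isGloballyGenerated hL M (isCoh_of_isInvertible hM)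
  refine ⟨n₀ + 1, Nat.succ_pos _, fun n hn => ?_⟩
  obtain ⟨m, rfl⟩ : ∃ m, n = m + 1 := ⟨n - 1, by omega⟩
  refine ⟨?_, isGloballyGenerated_of_iso (Groth.L00.Tensor.tensorComm _ _) (hn₀ _ (by omega))⟩
  have hL' : PicF.IsInvertible (CohB1.tensorMod M (CohB1.tensorPow L m)) :=
    isInvertible_tensor hM (isInvertible_tensorPow hL.1 m)
  refine isAmple_of_iso ?_ (isAmple_tensor_of_gen hL hL' fun x => ?_)
  · exact Groth.L00.Tensor.tensorComm _ _ ≪≫ Groth.L00.Tensor.tensorAssoc _ _ _ ≪≫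
      Groth.L00.Tensor.tensorComm _ _
  · obtain ⟨s, hs⟩ := exists_genLocus_mem_of_gg hL' (hn₀ m (by omega)) x
    exact ⟨0, s ≫ (Groth.L00.Tensor.tensorPowOne _).symm.hom, by rwa [Groth.L16.genLocus_comp_iso]⟩

end Groth.L18.Ample
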