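import Groth.Agent.L29.DCoh.CokerLocFree
import Groth.Agent.L29.DCoh.Flat
import Groth.Agent.L00.LocalData
import Groth.Agent.L20.ModStalk

/-!
Finitely presented flat modules are finite locally free, and conversely.
-/

set_option autoImplicit false
set_option backward.isDefEq.respectTransparency false
set_option backward.isDefEq.respectTransparency.types false
universe u

open CategoryTheory CategoryTheory.Limits AlgebraicGeometry TopologicalSpace

noncomputable section

namespace Groth.L18.LFP

variable {X : Scheme.{u}}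

/-- finite free modules in the two models -/
def freeIso (X : Scheme.{u}) (I : Type u) [Finite I] :
    SheafOfModules.free (R := X.ringCatSheaf) I ≅ FlatMod.freeMod X (Nat.card I) :=
  Sigma.whiskerEquiv (f := fun _ : I => Coh.structureModule X) (g := fun _ : Fin (Nat.card I) => Coh.structureModule X)
    (Finite.equivFin I) (fun _ => Iso.refl _)

/-- a finite presentation makes a module a cokernel of a map of finite free modules -/
theorem exists_cokernel_free (M : X.Modules) (P : M.Presentation) [P.IsFinite] :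
    ∃ (n m : ℕ) (φ : FlatMod.freeMod X n ⟶ FlatMod.freeMod X m), Nonempty (cokernel φ ≅ M) := by
  haveI : Finite P.generators.I := (SheafOfModules.Presentation.IsFinite.isFiniteType_generators (p := P)).finite
  haveI : Finite P.relations.I := (SheafOfModules.Presentation.IsFinite.isFiniteType_relations (p := P)).finite
  refine ⟨Nat.card P.relations.I, Nat.card P.generators.I,
    (freeIso X _).inv ≫ (P.relations.π ≫ kernel.ι _) ≫ (freeIso X _).hom, ⟨?_⟩⟩
  exact cokernel.mapIso _ _ (freeIso X _).symm (freeIso X _).symm (by simp) ≪≫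
    IsColimit.coconePointUniqueUpToIso (colimit.isColimit _) P.isColimit

/-- finitely presented modules are locally cokernels of maps of finite free modules -/
theorem exists_cokernel_free_nhd (M : X.Modules) (hM : CohB1.IsFP M) (x : X) :
    ∃ (U : X.Opens) (n m : ℕ) (φ : FlatMod.freeMod U n ⟶ FlatMod.freeMod U m),
      x ∈ U ∧ Nonempty (cokernel φ ≅ M.restrict U.ι) := by
  obtain ⟨d, hd⟩ := hM.exists_quasicoherentData
  have hc : TopologicalSpace.IsOpenCover d.X := (Opens.coversTop_iff _ d.X).1 d.coversTop
  obtain ⟨i, hi⟩ := TopologicalSpace.Opens.mem_iSup.1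
    (show x ∈ ⨆ i, d.X i from hc.symm ▸ TopologicalSpace.Opens.mem_top x)
  haveI := hd.isFinite_presentation i
  haveI : PreservesColimitsOfSize.{u, u} (Scheme.Modules.overEquiv (d.X i)).functor :=
    (Scheme.Modules.overEquiv (d.X i)).toAdjunction.leftAdjoint_preservesColimits
  let P₁ := ((d.presentation i).map (Scheme.Modules.overEquiv (d.X i)).functor
    (TopologicalSpace.Opens.sheafOfModulesEquivOverUnit (d.X i) X.ringCatSheaf).symm).ofIsIso
      ((Scheme.Modules.overFunctorEquiv (d.X i)).app M).hom
  haveI : P₁.IsFinite :=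
    ⟨⟨inferInstanceAs (Finite (d.presentation i).generators.I)⟩,
      ⟨inferInstanceAs (Finite (d.presentation i).relations.I)⟩⟩
  obtain ⟨n, m, φ, h⟩ := exists_cokernel_free _ P₁
  exact ⟨d.X i, n, m, φ, hi, h⟩

theorem isFinLocFree_of_isFlat_of_isFP (M : X.Modules) (hflat : FlatMod.IsFlat M) (hM : CohB1.IsFP M) :
    FlatMod.IsFinLocFree M := by
  refine Groth.L29.DC.isFinLocFree_of_local fun x => ?_
  obtain ⟨U, n, m, φ, hx, ⟨e⟩⟩ := exists_cokernel_free_nhd M hM x
  refine ⟨U, hx, Groth.L29.LocFree.of_iso e (Groth.L29.DC.Fib.isFinLocFree_cokernel_free φ ?_)⟩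
  exact Groth.L00.KFlat.isFlat_of_iso
    (((Scheme.Modules.restrictFunctorIsoPullback U.ι).app M).symm ≪≫ e.symm)
    (Groth.L00.TorAmp.isFlat_pullback U.ι hflat)

/-- reindexed finite free module -/
def uliftIso (X : Scheme.{u}) (n : ℕ) :
    SheafOfModules.free (R := X.ringCatSheaf) (ULift.{u} (Fin n)) ≅ FlatMod.freeMod X n :=
  Sigma.whiskerEquiv (f := fun _ : ULift.{u} (Fin n) => Coh.structureModule X) (g := fun _ : Fin n => Coh.structureModule X)
    Equiv.ulift (fun _ => Iso.refl _)

/-- a free module of finite rank is finitely presented -/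
def freePresentation (X : Scheme.{u}) (n : ℕ) : (FlatMod.freeMod X n).Presentation :=
  SheafOfModules.presentationOfIsCokernelFree (ι := PEmpty.{u + 1}) (σ := ULift.{u} (Fin n))
    (R := X.ringCatSheaf) 0 (uliftIso X n).hom zero_comp
    (CokernelCofork.IsColimit.ofπ _ _ (fun x _ => (uliftIso X n).inv ≫ x) (fun x _ => (uliftIso X n).hom_inv_id_assoc x)
      (fun x _ m hm => by rw [← hm, Iso.inv_hom_id_assoc]))

theorem isFP_of_presentation (M : X.Modules)
    (h : ∀ x : X, ∃ (U : X.Opens) (P : (M.restrict U.ι).Presentation),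
      x ∈ U ∧ Finite P.generators.I ∧ Finite P.relations.I) : CohB1.IsFP M := by
  choose U P hU hg hr using h
  let d : SheafOfModules.QuasicoherentData.{u} (R := X.ringCatSheaf) M :=
    SheafOfModules.QuasicoherentData.mk.{u, u, u, u} (R := X.ringCatSheaf) (M := M) (↥X) U
      (Groth.L00.Local.coversTop_of_forall_exists U fun x => ⟨x, hU x⟩) fun x =>
        SheafOfModules.Presentation.ofIsIso.{u, u, u} (Groth.L00.Local.overIso M (U x)).hom
          ((P x).map (Scheme.Modules.overEquiv (U x)).inverse (Groth.L00.Local.overInverseUnit (U x)))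
  have hd : ∀ x : ↥X, (d.presentation x).IsFinite := fun x => ⟨⟨hg x⟩, ⟨hr x⟩⟩
  haveI : SheafOfModules.QuasicoherentData.IsFinitePresentation.{u, u, u, u} (R := X.ringCatSheaf) (M := M) d :=
    SheafOfModules.QuasicoherentData.IsFinitePresentation.mk (R := X.ringCatSheaf) (M := M) (q := d) hd
  refine SheafOfModules.IsFinitePresentation.mk (R := X.ringCatSheaf) (M := M) ?_
  exact ⟨d, this⟩

theorem isFP_of_isFinLocFree (M : X.Modules) (hM : FlatMod.IsFinLocFree M) : CohB1.IsFP M := by
  refine isFP_of_presentation M fun x => ?_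
  obtain ⟨U, n, hx, ⟨e⟩⟩ := hM x
  refine ⟨U, (freePresentation (U : Scheme.{u}) n).ofIsIso e.inv, hx, ?_, ?_⟩
  · show Finite (ULift.{u} (Fin n)); infer_instance
  · show Finite PEmpty.{u + 1}; infer_instance

theorem isFlat_and_isFP_iff (M : X.Modules) :
    (FlatMod.IsFlat M ∧ CohB1.IsFP M) ↔ FlatMod.IsFinLocFree M :=
  ⟨fun h => isFinLocFree_of_isFlat_of_isFP M h.1 h.2,
    fun h => ⟨Groth.L29.DC.isFlat_of_isFinLocFree h, isFP_of_isFinLocFree M h⟩⟩

end Groth.L18.LFP
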