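import Groth.Agent.L18.LocFreeFP
import Mathlib.AlgebraicGeometry.Modules.Tilde
import Mathlib.RingTheory.Flat.Localization
import Mathlib.RingTheory.Flat.EquationalCriterion

/-!
Finite locally free / finitely presented modules on affine schemes.
-/

set_option autoImplicit false
set_option backward.isDefEq.respectTransparency false
set_option backward.isDefEq.respectTransparency.types false
universe u

open CategoryTheory CategoryTheory.Limits AlgebraicGeometry TopologicalSpace

noncomputable section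

namespace Groth.L18.LFP

variable {R : CommRingCat.{u}}

theorem isFP_tilde (M : ModuleCat.{u} R) [Module.FinitePresentation R M] : CohB1.IsFP (tilde M) := by
  obtain ⟨s, hs, ht⟩ := Module.FinitePresentation.out (R := R) (M := M)
  obtain ⟨t, ht⟩ := ht
  let P := presentationTilde.{u} M (s : Set M) hs (t : Set ((s : Set M) →₀ R)) ht
  refine isFP_of_presentation _ fun x => ?_
  refine ⟨⊤, Scheme.Modules.presentationRestrict (⊤ : (Spec R).Opens).ι P, trivial, ?_, ?_⟩
  · show Finite (s : Set M); infer_instance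
  · show Finite (t : Set ((s : Set M) →₀ R)); infer_instance

theorem finitePresentation_of_isFP_tilde (M : ModuleCat.{u} R) (h : CohB1.IsFP (tilde M)) :
    Module.FinitePresentation R M := by
  obtain ⟨d, hd⟩ := h.exists_quasicoherentData
  have h' := Groth.L20.ModStalk.finitePresentation_sections (tilde M) h (isAffineOpen_top (Spec R))
  let e : R ≃+* Γ(Spec R, ⊤) := (Scheme.ΓSpecIso R).symm.commRingCatIsoToRingEquiv
  let i : (moduleSpecΓFunctor (R := R)).obj (tilde M) ≅ M := (tilde.toTildeΓNatIso.app M).symm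
  letI : Algebra R Γ(Spec R, ⊤) := e.toRingHom.toAlgebra
  haveI : Module.FinitePresentation R Γ(Spec R, ⊤) :=
    Module.FinitePresentation.of_equiv
      (LinearEquiv.ofBijective (Algebra.linearMap R Γ(Spec R, ⊤)) e.bijective)
  letI : Module R Γ(tilde M, ⊤) := Module.compHom _ e.toRingHom
  haveI : IsScalarTower R Γ(Spec R, ⊤) Γ(tilde M, ⊤) := IsScalarTower.of_algebraMap_smul fun _ _ => rfl
  haveI : Module.FinitePresentation Γ(Spec R, ⊤) Γ(tilde M, ⊤) := h'
  haveI : Module.FinitePresentation R Γ(tilde M, ⊤) := Module.FinitePresentation.trans R _ Γ(Spec R, ⊤)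
  haveI : Module.FinitePresentation R ((moduleSpecΓFunctor (R := R)).obj (tilde M)) :=
    Module.FinitePresentation.of_equiv
      ({ toFun := fun x => x
         invFun := fun x => x
         map_add' := fun _ _ => rfl
         map_smul' := fun _ _ => rfl } : Γ(tilde M, ⊤) ≃ₗ[R] (moduleSpecΓFunctor (R := R)).obj (tilde M))
  exact Module.FinitePresentation.of_equiv i.toLinearEquiv

theorem tilde_isFP_iff (M : ModuleCat.{u} R) : CohB1.IsFP (tilde M) ↔ Module.FinitePresentation R M :=
  ⟨finitePresentation_of_isFP_tilde M, fun _ => isFP_tilde M⟩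

theorem flat_sections {X : Scheme.{u}} (M : X.Modules) [Coh.IsQCoh M] (h : FlatMod.IsFlat M) {V : X.Opens}
    (hV : IsAffineOpen V) : Module.Flat Γ(X, V) Γ(M, V) := by
  have hx : ∀ P : Ideal Γ(X, V), P.IsMaximal → ∃ x : V, (hV.primeIdealOf x).asIdeal = P := fun P hP => by
    refine ⟨⟨hV.fromSpec ⟨P, hP.isPrime⟩, ?_⟩, ?_⟩
    · have : hV.fromSpec ⟨P, hP.isPrime⟩ ∈ Set.range hV.fromSpec := ⟨_, rfl⟩
      rwa [hV.range_fromSpec] at this
    · exact congrArg (fun p : Spec Γ(X, V) => p.asIdeal)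
        (hV.fromSpec.isOpenEmbedding.injective (a₁ := hV.primeIdealOf _) (hV.fromSpec_primeIdealOf _))
  refine Module.flat_of_localized_maximal Γ(M, V) fun P hP => ?_
  obtain ⟨⟨x, hxV⟩, hxP⟩ := hx P hP
  letI := Groth.L20.ModStalk.stalkModule M hxV
  haveI : IsLocalizedModule P.primeCompl (Groth.L20.ModStalk.germₗ M hxV) := by
    have := Groth.L20.ModStalk.isLocalizedModule_germ M hV hxV
    simpa only [hxP] using this
  letI := X.presheaf.algebra_section_stalk (⟨x, hxV⟩ : V)
  haveI := hV.isLocalization_stalk ⟨x, hxV⟩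
  haveI : Module.Flat Γ(X, V) (X.presheaf.stalk x) :=
    IsLocalization.flat (X.presheaf.stalk x) (hV.primeIdealOf ⟨x, hxV⟩).asIdeal.primeCompl
  haveI : IsScalarTower Γ(X, V) (X.presheaf.stalk x) (M.presheaf.stalk x) :=
    IsScalarTower.of_algebraMap_smul fun _ _ => rfl
  haveI : Module.Flat (X.presheaf.stalk x) (M.presheaf.stalk x) := h x
  haveI : Module.Flat Γ(X, V) (M.presheaf.stalk x) := Module.Flat.trans Γ(X, V) (X.presheaf.stalk x) _
  exact Module.Flat.of_linearEquiv (IsLocalizedModule.iso P.primeCompl (Groth.L20.ModStalk.germₗ M hxV))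

theorem retract_biprod {C : Type*} [Category C] [Abelian C] {A F : C} (a : A ⟶ F) (b : F ⟶ A)
    (h : a ≫ b = 𝟙 A) : Nonempty (A ⊞ cokernel a ≅ F) := by
  have hc : a ≫ (𝟙 F - b ≫ a) = 0 := by simp [Preadditive.comp_sub, reassoc_of% h]
  let σ : cokernel a ⟶ F := cokernel.desc _ _ hc
  have h1 : σ ≫ b = 0 := by
    apply (cancel_epi (cokernel.π _)).1
    simp [σ, Preadditive.sub_comp, h]
  have h2 : σ ≫ cokernel.π a = 𝟙 _ := by
    apply (cancel_epi (cokernel.π _)).1
    simp [σ, Preadditive.sub_comp]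
  refine ⟨⟨biprod.desc a σ, biprod.lift b (cokernel.π a), ?_, ?_⟩⟩
  · apply biprod.hom_ext' <;> apply biprod.hom_ext <;> simp [h, h1, h2]
  · rw [biprod.lift_desc]
    simp [σ]

attribute [local instance] preservesBinaryBiproducts_of_preservesBinaryCoproducts

theorem isFinLocFree_tilde (M : ModuleCat.{u} R) [Module.Finite R M] [Module.Projective R M] :
    FlatMod.IsFinLocFree (tilde M) := by
  obtain ⟨n, f, g, -, -, hfg⟩ := Module.Finite.exists_comp_eq_id_of_projective R M
  let a : M ⟶ ModuleCat.of R (ULift.{u} (Fin n) →₀ R) :=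
    ModuleCat.ofHom (((Finsupp.linearEquivFunOnFinite R R (Fin n)).symm.trans
      (Finsupp.domLCongr Equiv.ulift.symm)).toLinearMap ∘ₗ g)
  let b : ModuleCat.of R (ULift.{u} (Fin n) →₀ R) ⟶ M :=
    ModuleCat.ofHom (f ∘ₗ ((Finsupp.linearEquivFunOnFinite R R (Fin n)).symm.trans
      (Finsupp.domLCongr Equiv.ulift.symm)).symm.toLinearMap)
  have hab : (tilde.functor R).map a ≫ (tilde.functor R).map b = 𝟙 _ := by
    rw [← Functor.map_comp, ← CategoryTheory.Functor.map_id]
    congr 1
    ext m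
    simp [a, b]
    exact LinearMap.congr_fun hfg m
  obtain ⟨i⟩ := retract_biprod _ _ hab
  exact Groth.L29.DC.Fib.isFinLocFree_of_biprod (M := tilde M) (n := n) (i ≪≫ tildeFinsupp _ ≪≫ uliftIso _ n)

theorem isFinLocFree_tilde_iff (M : ModuleCat.{u} R) :
    FlatMod.IsFinLocFree (tilde M) ↔ Module.Finite R M ∧ Module.Projective R M := by
  refine ⟨fun h => ?_, fun ⟨_, _⟩ => isFinLocFree_tilde M⟩
  haveI := finitePresentation_of_isFP_tilde M (isFP_of_isFinLocFree _ h)
  haveI : Coh.IsQCoh (tilde M) := inferInstanceAs (tilde M).IsQuasicoherent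
  haveI hflat : Module.Flat Γ(Spec R, ⊤) Γ(tilde M, ⊤) :=
    flat_sections (tilde M) (Groth.L29.DC.isFlat_of_isFinLocFree h) (isAffineOpen_top (Spec R))
  let e : R ≃+* Γ(Spec R, ⊤) := (Scheme.ΓSpecIso R).symm.commRingCatIsoToRingEquiv
  let i : (moduleSpecΓFunctor (R := R)).obj (tilde M) ≅ M := (tilde.toTildeΓNatIso.app M).symm
  letI : Algebra R Γ(Spec R, ⊤) := e.toRingHom.toAlgebra
  haveI : Module.Flat R Γ(Spec R, ⊤) :=
    Module.Flat.of_linearEquiv (LinearEquiv.ofBijective (Algebra.linearMap R Γ(Spec R, ⊤)) e.bijective).symm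
  letI : Module R Γ(tilde M, ⊤) := Module.compHom _ e.toRingHom
  haveI : IsScalarTower R Γ(Spec R, ⊤) Γ(tilde M, ⊤) := IsScalarTower.of_algebraMap_smul fun _ _ => rfl
  haveI : Module.Flat R Γ(tilde M, ⊤) := Module.Flat.trans R Γ(Spec R, ⊤) _
  let j : Γ(tilde M, ⊤) ≃ₗ[R] (moduleSpecΓFunctor (R := R)).obj (tilde M) :=
    { toFun := fun x => x
      invFun := fun x => x
      map_add' := fun _ _ => rfl
      map_smul' := fun _ _ => rfl }
  haveI : Module.Flat R M := Module.Flat.of_linearEquiv (j.trans i.toLinearEquiv).symm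
  exact ⟨inferInstance, Module.Flat.projective_of_finitePresentation⟩

end Groth.L18.LFP

namespace Groth.L18.LFP

open CategoryTheory CategoryTheory.Limits AlgebraicGeometry TopologicalSpace

variable {X : Scheme.{u}}

theorem finite_stalk (M : X.Modules) (hM : CohB1.IsFP M) (x : X) :
    Module.Finite (X.presheaf.stalk x) (M.presheaf.stalk x) := by
  haveI : SheafOfModules.IsFinitePresentation (R := X.ringCatSheaf) M := hM
  haveI : Coh.IsQCoh M := { nonempty_quasicoherentData := ⟨hM.exists_quasicoherentData.choose⟩ }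
  obtain ⟨V, hV, hxV, -⟩ := exists_isAffineOpen_mem_and_subset (x := x) (U := ⊤) trivial
  letI := Groth.L20.ModStalk.stalkModule M hxV
  haveI := Groth.L20.ModStalk.isLocalizedModule_germ M hV hxV
  letI := X.presheaf.algebra_section_stalk (⟨x, hxV⟩ : V)
  haveI := hV.isLocalization_stalk ⟨x, hxV⟩
  haveI : IsScalarTower Γ(X, V) (X.presheaf.stalk x) (M.presheaf.stalk x) :=
    IsScalarTower.of_algebraMap_smul fun _ _ => rfl
  haveI := Groth.L20.ModStalk.finitePresentation_sections M hM hV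
  exact Module.Finite.of_isLocalizedModule (hV.primeIdealOf ⟨x, hxV⟩).asIdeal.primeCompl
    (Groth.L20.ModStalk.germₗ M hxV)

theorem free_stalk (M : X.Modules) (hM : FlatMod.IsFinLocFree M) (x : X) :
    Module.Free (X.presheaf.stalk x) (M.presheaf.stalk x) := by
  haveI := finite_stalk M (isFP_of_isFinLocFree M hM) x
  haveI : Module.Flat (X.presheaf.stalk x) (M.presheaf.stalk x) := Groth.L29.DC.isFlat_of_isFinLocFree hM x
  exact Module.free_of_flat_of_isLocalRing

theorem isFP_and_free_iff (M : X.Modules) :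
    (CohB1.IsFP M ∧ ∀ x : X, Module.Free (X.presheaf.stalk x) (M.presheaf.stalk x)) ↔
      FlatMod.IsFinLocFree M :=
  ⟨fun h => isFinLocFree_of_isFlat_of_isFP M (fun x => by
      haveI := h.2 x
      show Module.Flat _ _
      infer_instance) h.1,
    fun h => ⟨isFP_of_isFinLocFree M h, free_stalk M h⟩⟩

attribute [local instance] preservesBinaryBiproducts_of_preservesBinaryCoproducts in
theorem isFlatAt_iff (F : X.Modules) (hF : CohB1.IsFP F) (x : X) :
    FlatMod.IsFlatAt F x ↔
      ∃ U : X.Opens, x ∈ U ∧ FlatMod.IsFinLocFree ((Scheme.Modules.pullback U.ι).obj F) := by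
  constructor
  · intro h
    obtain ⟨U, n, m, φ, hx, ⟨e⟩⟩ := exists_cokernel_free_nhd F hF x
    have hU : FlatMod.IsFlatAt ((Scheme.Modules.pullback U.ι).obj F) ⟨x, hx⟩ := by
      exact Groth.L00.TorAmp.flat_of_iso ((Groth.L00.PullStalk.stalkIso U.ι ⟨x, hx⟩).app F)
        (Groth.L00.TorAmp.flat_extendScalars (Groth.L00.PullStalk.φ U.ι ⟨x, hx⟩)
          ((Groth.L00.Stk.F X (U.ι ⟨x, hx⟩)).obj F) h)
    haveI : Module.Flat ((U : Scheme.{u}).presheaf.stalk ⟨x, hx⟩)
        ((Groth.L00.Stk.F (U : Scheme.{u}) ⟨x, hx⟩).obj (cokernel φ)) :=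
      Groth.L00.TorAmp.flat_of_iso ((Groth.L00.Stk.F _ _).mapIso
        (e ≪≫ (Scheme.Modules.restrictFunctorIsoPullback U.ι).app F)) hU
    obtain ⟨W, h', hxW, hd⟩ := Groth.L29.DC.Fib.exists_pseudo_nhd φ ⟨x, hx⟩
    obtain ⟨K, ⟨i⟩⟩ := Groth.L29.DC.Fib.cokernel_biprod_of_pseudo _ h' hd
    have hW : FlatMod.IsFinLocFree ((Scheme.Modules.restrictFunctor W.ι).obj (cokernel φ)) :=
      Groth.L29.LocFree.of_iso (PreservesCokernel.iso (Scheme.Modules.restrictFunctor W.ι) φ).symm
        (Groth.L29.DC.Fib.isFinLocFree_of_biprod (i ≪≫ (Scheme.Modules.restrictFunctorIsoPullback W.ι).app _ ≪≫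
          Groth.L29.LocFree.pullbackFreeIso W.ι m))
    let U' : X.Opens := U.ι ''ᵁ W
    refine ⟨U', ⟨⟨x, hx⟩, hxW, rfl⟩, ?_⟩
    have h1 : FlatMod.IsFinLocFree ((Scheme.Modules.pullback W.ι).obj ((Scheme.Modules.pullback U.ι).obj F)) :=
      Groth.L29.LocFree.of_iso
        ((Scheme.Modules.restrictFunctor W.ι).mapIso (e ≪≫ (Scheme.Modules.restrictFunctorIsoPullback U.ι).app F) ≪≫
          (Scheme.Modules.restrictFunctorIsoPullback W.ι).app _) hW
    have h2 := Groth.L29.LocFree.pullback (U.ι.isoImage W).inv h1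
    exact Groth.L29.LocFree.of_iso
      ((Scheme.Modules.pullbackComp _ _).app _ ≪≫ (Scheme.Modules.pullbackComp _ _).app _ ≪≫
        (Scheme.Modules.pullbackCongr (by simp [U'])).app _) h2
  · rintro ⟨U, hx, hU⟩
    have h' := Groth.L29.DC.isFlat_of_isFinLocFree hU ⟨x, hx⟩
    exact Groth.L29.DC.flat_of_extendScalars_bijective (Groth.L00.PullStalk.φ U.ι ⟨x, hx⟩)
      (ConcreteCategory.bijective_of_isIso (U.ι.stalkMap ⟨x, hx⟩)) _
      (Groth.L00.TorAmp.flat_of_iso ((Groth.L00.PullStalk.stalkIso U.ι ⟨x, hx⟩).app F).symm h')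

end Groth.L18.LFP
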