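import Groth.Prelude.Def_RelSpec
import Mathlib.AlgebraicGeometry.Morphisms.Affine

/-!
# Quasi-coherent algebras from their values on affine opens
-/

set_option autoImplicit false

noncomputable section

universe u

open CategoryTheory CategoryTheory.Limits AlgebraicGeometry TopologicalSpace Opposite

namespace Groth.L18.AlgExt

variable (S : Scheme.{u})

/-- The values of an algebra on affine opens, with all restriction maps. -/
structure Data where
  obj : ∀ (U : S.Opens), IsAffineOpen U → CommRingCat.{u}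
  res : ∀ {U V : S.Opens} (hU : IsAffineOpen U) (hV : IsAffineOpen V), V ≤ U → (obj U hU ⟶ obj V hV)
  res_id : ∀ {U : S.Opens} (hU : IsAffineOpen U), res hU hU le_rfl = 𝟙 _
  res_comp : ∀ {U V W : S.Opens} (hU : IsAffineOpen U) (hV : IsAffineOpen V) (hW : IsAffineOpen W)
    (h : V ≤ U) (h' : W ≤ V), res hU hV h ≫ res hV hW h' = res hU hW (h'.trans h)
  str : ∀ (U : S.Opens) (hU : IsAffineOpen U), Γ(S, U) ⟶ obj U hU
  str_res : ∀ {U V : S.Opens} (hU : IsAffineOpen U) (hV : IsAffineOpen V) (h : V ≤ U),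
    str U hU ≫ res hU hV h = S.presheaf.map (homOfLE h).op ≫ str V hV
  isLoc : ∀ (U : S.Opens) (hU : IsAffineOpen U) (r : Γ(S, U)),
    letI := (res hU (hU.basicOpen r) (S.basicOpen_le r)).hom.toAlgebra
    IsLocalization.Away ((str U hU).hom r) (obj (S.basicOpen r) (hU.basicOpen r))

variable {S} (D : Data S)

namespace Data

/-- The functor on the affine Zariski site. -/
def functor : S.AffineZariskiSiteᵒᵖ ⥤ CommRingCat.{u} where
  obj U := D.obj U.unop.1 U.unop.2
  map {U V} i := D.res U.unop.2 V.unop.2 (Scheme.AffineZariskiSite.toOpens_mono i.unop.le)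
  map_id U := D.res_id U.unop.2
  map_comp {U V W} i j := (D.res_comp U.unop.2 V.unop.2 W.unop.2
    (Scheme.AffineZariskiSite.toOpens_mono i.unop.le) (Scheme.AffineZariskiSite.toOpens_mono j.unop.le)).symm

/-- The structure map. -/
def φ : (Scheme.AffineZariskiSite.toOpensFunctor S).op ⋙ S.presheaf ⟶ D.functor where
  app U := D.str U.unop.1 U.unop.2
  naturality U V i := (D.str_res U.unop.2 V.unop.2 (Scheme.AffineZariskiSite.toOpens_mono i.unop.le)).symm

theorem coequifibered : D.φ.Coequifibered :=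
  Scheme.AffineZariskiSite.coequifibered_iff_forall_isLocalizationAway.mpr fun U r => D.isLoc U.1 U.2 r

/-- The gluing datum. -/
def glueData : (Scheme.AffineZariskiSite.directedCover S).RelativeGluingData :=
  Scheme.AffineZariskiSite.relativeGluingData D.coequifibered

instance : (D.glueData.functor ⋙ Scheme.forget).IsLocallyDirected :=
  Scheme.Cover.RelativeGluingData.instIsLocallyDirectedI₀CompFunctorForgetOfIsThin ..

/-- The glued scheme. -/
def space : Scheme.{u} := D.glueData.glued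

/-- Its structure map. -/
def p : D.space ⟶ S := D.glueData.toBase

/-- The charts. -/
def chart (U : S.Opens) (hU : IsAffineOpen U) : Spec (D.obj U hU) ⟶ D.space :=
  D.glueData.cover.f ⟨U, hU⟩

instance (U : S.Opens) (hU : IsAffineOpen U) : IsOpenImmersion (D.chart U hU) := D.glueData.cover.map_prop _

theorem chart_p (U : S.Opens) (hU : IsAffineOpen U) : D.chart U hU ≫ D.p = Spec.map (D.str U hU) ≫ hU.fromSpec :=
  colimit.ι_desc _ _

theorem p_preimage (U : S.Opens) (hU : IsAffineOpen U) : D.p ⁻¹ᵁ U = (D.chart U hU).opensRange := by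
  simpa using! D.glueData.toBase_preimage_eq_opensRange_ι ⟨U, hU⟩

instance isAffineHom_p : IsAffineHom D.p where
  isAffine_preimage U hU := by
    rw [D.p_preimage U hU]
    exact isAffineOpen_opensRange (D.chart U hU)

/-- The quasi-coherent algebra. -/
def alg : RelSpec.QCAlg S := RelSpec.QCAlg.directImage D.p

theorem top_le (U : S.Opens) (hU : IsAffineOpen U) :
    (⊤ : (Spec (D.obj U hU)).Opens) ≤ D.chart U hU ⁻¹ᵁ (D.p ⁻¹ᵁ U) := by
  rw [← Scheme.Hom.comp_preimage, D.chart_p, Scheme.Hom.comp_preimage, hU.fromSpec_preimage_self]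
  exact le_top

/-- The comparison on affine opens. -/
def ev (U : S.Opens) (hU : IsAffineOpen U) : D.alg.presheaf.obj (op U) ⟶ D.obj U hU :=
  (D.chart U hU).appLE (D.p ⁻¹ᵁ U) ⊤ (D.top_le U hU) ≫ (Scheme.ΓSpecIso (D.obj U hU)).hom

instance isIso_ev (U : S.Opens) (hU : IsAffineOpen U) : IsIso (D.ev U hU) := by
  haveI h : IsIso ((D.chart U hU).app (D.p ⁻¹ᵁ U)) :=
    Scheme.Hom.isIso_app _ _ (D.p_preimage U hU).le
  have hpre : D.chart U hU ⁻¹ᵁ (D.p ⁻¹ᵁ U) = ⊤ := top_le_iff.mp (D.top_le U hU)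
  haveI h2 : IsIso ((D.chart U hU).appLE (D.p ⁻¹ᵁ U) ⊤ (D.top_le U hU)) := by
    rw [Scheme.Hom.appLE]
    haveI : IsIso (homOfLE (D.top_le U hU)) := ⟨homOfLE (le_of_eq hpre), rfl, rfl⟩
    infer_instance
  rw [ev]
  exact @IsIso.comp_isIso _ _ _ _ _ _ _ h2 inferInstance

theorem chart_res_basic (U : S.Opens) (hU : IsAffineOpen U) (r : Γ(S, U)) :
    Spec.map (D.res hU (hU.basicOpen r) (S.basicOpen_le r)) ≫ D.chart U hU =
      D.chart (S.basicOpen r) (hU.basicOpen r) :=
  colimit.w D.glueData.functor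
    (homOfLE (Scheme.AffineZariskiSite.basicOpen_le (⟨U, hU⟩ : S.AffineZariskiSite) r))

theorem ev_res_basic (U : S.Opens) (hU : IsAffineOpen U) (r : Γ(S, U)) :
    D.alg.presheaf.map (homOfLE (S.basicOpen_le r)).op ≫ D.ev (S.basicOpen r) (hU.basicOpen r) =
      D.ev U hU ≫ D.res hU (hU.basicOpen r) (S.basicOpen_le r) := by
  simp only [ev, Category.assoc]
  rw [← Scheme.ΓSpecIso_naturality (D.res hU (hU.basicOpen r) (S.basicOpen_le r))]
  simp only [← Category.assoc]
  refine congrArg (· ≫ _) ?_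
  show D.space.presheaf.map _ ≫ (D.chart (S.basicOpen r) (hU.basicOpen r)).appLE _ _ _ = _
  rw [Scheme.Hom.map_appLE]
  simp only [← D.chart_res_basic U hU r, Scheme.Hom.appTop, Scheme.Hom.app_eq_appLE]
  rfl

theorem ev_res {U V : S.Opens} (hU : IsAffineOpen U) (hV : IsAffineOpen V) (h : V ≤ U)
    (a : D.alg.presheaf.obj (op U)) :
    (D.ev V hV).hom ((D.alg.presheaf.map (homOfLE h).op).hom a) = (D.res hU hV h).hom ((D.ev U hU).hom a) := by
  have hinv : ∀ c, (D.ev V hV).hom ((inv (D.ev V hV)).hom c) = c := fun c =>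
    ConcreteCategory.congr_hom (IsIso.inv_hom_id (D.ev V hV)) c
  suffices he : (D.alg.presheaf.map (homOfLE h).op).hom a =
      (inv (D.ev V hV)).hom ((D.res hU hV h).hom ((D.ev U hU).hom a)) by rw [he, hinv]
  refine TopCat.Sheaf.eq_of_locally_eq' (⟨D.alg.presheaf, D.alg.isSheaf⟩ : TopCat.Sheaf CommRingCat.{u} S.carrier)
    (fun q : {r : Γ(S, V) // ∃ s : Γ(S, U), S.basicOpen r = S.basicOpen s} => S.basicOpen q.1) V
    (fun q => homOfLE (S.basicOpen_le q.1)) (fun y hy => ?_) _ _ fun ⟨r, s, e⟩ => ?_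
  · obtain ⟨r, s, e, hy'⟩ := exists_basicOpen_le_affine_inter hV hU y ⟨hy, h hy⟩
    exact Opens.mem_iSup.mpr ⟨⟨r, s, e⟩, hy'⟩
  apply (ConcreteCategory.bijective_of_isIso (D.ev (S.basicOpen r) (hV.basicOpen r))).1
  have hrU : S.basicOpen r ≤ U := (S.basicOpen_le r).trans h
  have hl : ∀ b, (D.ev (S.basicOpen r) (hV.basicOpen r)).hom ((D.alg.presheaf.map (homOfLE (S.basicOpen_le r)).op).hom b) =
      (D.res hV (hV.basicOpen r) (S.basicOpen_le r)).hom ((D.ev V hV).hom b) :=
    fun b => ConcreteCategory.congr_hom (D.ev_res_basic V hV r) b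
  have key : ∀ {W : S.Opens} (hW : IsAffineOpen W) (_ : S.basicOpen s = W) (hWU : W ≤ U),
      D.alg.presheaf.map (homOfLE hWU).op ≫ D.ev W hW = D.ev U hU ≫ D.res hU hW hWU := by
    intro W hW hs hWU
    subst hs
    exact D.ev_res_basic U hU s
  show (D.ev _ (hV.basicOpen r)).hom ((D.alg.presheaf.map (homOfLE (S.basicOpen_le r)).op).hom _) =
    (D.ev _ (hV.basicOpen r)).hom ((D.alg.presheaf.map (homOfLE (S.basicOpen_le r)).op).hom _)
  refine Eq.trans ?_ (((hl _).trans (congrArg _ (hinv _))).symm)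
  have hm : (D.alg.presheaf.map (homOfLE (S.basicOpen_le r)).op).hom ((D.alg.presheaf.map (homOfLE h).op).hom a) =
      (D.alg.presheaf.map (homOfLE hrU).op).hom a :=
    (ConcreteCategory.congr_hom (D.alg.presheaf.map_comp (homOfLE h).op (homOfLE (S.basicOpen_le r)).op) a).symm
  rw [hm]
  exact (ConcreteCategory.congr_hom (key (hV.basicOpen r) e.symm hrU) a).trans
    (ConcreteCategory.congr_hom (D.res_comp hU hV (hV.basicOpen r) h (S.basicOpen_le r)) _).symm

set_option backward.isDefEq.respectTransparency false in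
theorem str_ev (U : S.Opens) (hU : IsAffineOpen U) : D.alg.str.app (op U) ≫ D.ev U hU = D.str U hU := by
  show D.p.app U ≫ (D.chart U hU).appLE (D.p ⁻¹ᵁ U) ⊤ (D.top_le U hU) ≫ (Scheme.ΓSpecIso (D.obj U hU)).hom = _
  have h1 := Scheme.Hom.congr_app (D.chart_p U hU) U
  have h2 := (Scheme.Hom.comp_app (D.chart U hU) D.p U).symm
  have hk : ∀ k : (op ⊤ : (Spec (D.obj U hU)).Opensᵒᵖ) ⟶ op ⊤,
      (Spec (D.obj U hU)).presheaf.map k = 𝟙 _ := fun k => by
    rw [Subsingleton.elim k (𝟙 _)]; exact CategoryTheory.Functor.map_id _ _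
  simp only [Scheme.Hom.appLE, Category.assoc]
  rw [reassoc_of% h2, h1, Scheme.Hom.comp_app, hU.fromSpec_app_self]
  simp only [Category.assoc]
  rw [Scheme.Hom.naturality_assoc]
  simp only [← Functor.map_comp_assoc]
  erw [hk, Category.id_comp]
  rw [← cancel_epi (Scheme.ΓSpecIso Γ(S, U)).hom, Iso.hom_inv_id_assoc]
  erw [Scheme.ΓSpecIso_naturality]

/-- The comparison as a ring isomorphism. -/
def evEquiv (U : S.Opens) (hU : IsAffineOpen U) : D.alg.presheaf.obj (op U) ≃+* D.obj U hU :=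
  (asIso (D.ev U hU)).commRingCatIsoToRingEquiv

theorem evEquiv_apply (U : S.Opens) (hU : IsAffineOpen U) (a : D.alg.presheaf.obj (op U)) :
    D.evEquiv U hU a = (D.ev U hU).hom a := rfl

end Data

end Groth.L18.AlgExt
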