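import Mathlib.AlgebraicGeometry.Noetherian
import Mathlib.AlgebraicGeometry.Stalk
import Mathlib.RingTheory.Localization.LocalizationLocalization
import Mathlib.RingTheory.Ideal.KrullsHeightTheorem
import Mathlib.Topology.Separation.Basic

/-!
Closed points of locally Noetherian schemes, and local rings at generizations.
-/

set_option autoImplicit false
universe u

open CategoryTheory AlgebraicGeometry TopologicalSpace

namespace Groth.L18.ClosedPoint

variable {X : Scheme.{u}}

/-- if the generic point of a domain is locally closed then every nonzero prime is maximal -/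
theorem isMaximal_of_zeroLocus_ne {A : Type u} [CommRing A] [IsDomain A] [IsNoetherianRing A] {f : A}
    (hf : f ≠ 0) (h : ∀ p : PrimeSpectrum A, p.asIdeal ≠ ⊥ → f ∈ p.asIdeal) (q : PrimeSpectrum A)
    (hq : q.asIdeal ≠ ⊥) : q.asIdeal.IsMaximal := by
  by_contra hmax
  obtain ⟨m, hm, hle⟩ := q.asIdeal.exists_le_maximal q.2.ne_top
  have hlt : q.asIdeal < m := lt_of_le_of_ne hle fun e => hmax (e ▸ hm)
  -- every element of `m` lies in a height one prime, and those are the finitely many minimal primes over `f`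
  have hfin : (Ideal.span {f}).minimalPrimes.Finite := Ideal.finite_minimalPrimes_of_isNoetherianRing _ _
  have hcover : (m : Set A) ⊆ ⋃ P ∈ hfin.toFinset, (P : Set A) := fun x hx => by
    rcases eq_or_ne x 0 with rfl | hx0
    · obtain ⟨P, hP, -⟩ := Ideal.exists_minimalPrimes_le
        (show Ideal.span {f} ≤ q.asIdeal from (Ideal.span_singleton_le_iff_mem _).mpr (h q hq))
      exact Set.mem_biUnion (hfin.mem_toFinset.mpr hP) P.zero_mem
    · obtain ⟨Q, hQ, hQm⟩ := Ideal.exists_minimalPrimes_le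
        (show Ideal.span {x} ≤ m from (Ideal.span_singleton_le_iff_mem _).mpr hx)
      haveI := hQ.1.1
      have hxQ : x ∈ Q := hQ.1.2 (Ideal.mem_span_singleton_self x)
      have hQ0 : Q ≠ ⊥ := fun e => hx0 (by simpa [e] using hxQ)
      have hfQ : f ∈ Q := h ⟨Q, hQ.1.1⟩ hQ0
      refine Set.mem_biUnion (hfin.mem_toFinset.mpr ?_) hxQ
      refine ⟨⟨hQ.1.1, (Ideal.span_singleton_le_iff_mem _).mpr hfQ⟩, fun P hP hPQ => ?_⟩
      haveI := hP.1
      rcases eq_or_lt_of_le hPQ with e | hlt'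
      · exact e.ge
      exfalso
      have h1 : Q.height ≤ 1 := Ideal.height_le_one_of_isPrincipal_of_mem_minimalPrimes _ _ hQ
      have h2 : P.height < 1 := (Ideal.height_strict_mono_of_isPrime hlt').trans_le h1
      rw [Order.lt_one_iff, Ideal.height_eq_zero_iff_eq_bot] at h2
      exact hf (by simpa [h2] using hP.2 (Ideal.mem_span_singleton_self f))
  obtain ⟨P, hP, hmP⟩ := (Ideal.subset_union_prime (I := m) ⊥ ⊥ fun P hP _ _ =>
    (hfin.mem_toFinset.mp hP).1.1).mp hcover
  have hPmin := hfin.mem_toFinset.mp hP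
  haveI := hPmin.1.1
  have h1 : P.height ≤ 1 := Ideal.height_le_one_of_isPrincipal_of_mem_minimalPrimes _ _ hPmin
  have h2 : q.asIdeal.height < 1 := (Ideal.height_strict_mono_of_isPrime (hlt.trans_le hmP)).trans_le h1
  rw [Order.lt_one_iff, Ideal.height_eq_zero_iff_eq_bot] at h2
  exact hq h2

/-- Every point of a locally Noetherian scheme specializes to a closed point. -/
theorem exists_isClosed_specializes [IsLocallyNoetherian X] (w : X) :
    ∃ x : X, w ⤳ x ∧ IsClosed ({x} : Set X) := by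
  obtain ⟨U, hU, hwU, -⟩ := exists_isAffineOpen_mem_and_subset (x := w) (U := ⊤) trivial
  haveI : CompactSpace (U : Set X) := isCompact_iff_compactSpace.mp hU.isCompact
  haveI : T0Space (U : Set X) := inferInstance
  obtain ⟨⟨x, hxU⟩, hxw, hxc⟩ := (isClosed_closure (s := ({⟨w, hwU⟩} : Set (U : Set X)))).exists_closed_singleton
    ⟨_, subset_closure rfl⟩
  have hwx : w ⤳ x := (specializes_iff_mem_closure.mpr hxw).map continuous_subtype_val
  have hU1 : ∀ z : X, x ⤳ z → z ∈ U → z = x := fun z hz hzU => by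
    have : (⟨x, hxU⟩ : (U : Set X)) ⤳ ⟨z, hzU⟩ := (Topology.IsInducing.subtypeVal.specializes_iff).mp hz
    exact congrArg Subtype.val (Set.mem_singleton_iff.mp (this.mem_closed hxc (Set.mem_singleton _)))
  by_cases hclosed : IsClosed ({x} : Set X)
  · exact ⟨x, hwx, hclosed⟩
  obtain ⟨y, hy, hyx⟩ : ∃ y ∈ closure ({x} : Set X), y ≠ x := by
    by_contra! h
    exact hclosed (isClosed_of_closure_subset fun y hy => h y hy)
  have hxy : x ⤳ y := specializes_iff_mem_closure.mpr hy
  refine ⟨y, hwx.trans hxy, isClosed_of_closure_subset fun z hz => ?_⟩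
  have hyz : y ⤳ z := specializes_iff_mem_closure.mpr hz
  obtain ⟨V, hV, hzV, -⟩ := exists_isAffineOpen_mem_and_subset (x := z) (U := ⊤) trivial
  haveI : IsNoetherianRing Γ(X, V) := IsLocallyNoetherian.component_noetherian ⟨V, hV⟩
  have hyV : y ∈ V := hyz.mem_open V.2 hzV
  have hxV : x ∈ V := hxy.mem_open V.2 hyV
  set p := hV.primeIdealOf ⟨x, hxV⟩
  have spec_iff : ∀ (a b : Spec Γ(X, V)), hV.fromSpec a ⤳ hV.fromSpec b ↔ a.asIdeal ≤ b.asIdeal := fun a b =>
    (hV.fromSpec.isOpenEmbedding.isInducing.specializes_iff).trans (PrimeSpectrum.le_iff_specializes a b).symm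
  obtain ⟨g, hgp, hg⟩ : ∃ g : Γ(X, V), g ∉ p.asIdeal ∧ ∀ q : Spec Γ(X, V), g ∉ q.asIdeal → hV.fromSpec q ∈ U := by
    obtain ⟨-, ⟨g, rfl⟩, hpg, hgU⟩ := PrimeSpectrum.isTopologicalBasis_basic_opens.exists_subset_of_mem_open
      (show p ∈ (hV.fromSpec) ⁻¹' (U : Set X) by
        show hV.fromSpec p ∈ U
        rw [hV.fromSpec_primeIdealOf]; exact hxU) (U.2.preimage hV.fromSpec.continuous)
    exact ⟨g, hpg, fun q hq => hgU hq⟩
  have key : ∀ q : PrimeSpectrum (Γ(X, V) ⧸ p.asIdeal), q.asIdeal ≠ ⊥ → Ideal.Quotient.mk _ g ∈ q.asIdeal := by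
    intro q hq
    by_contra hgq
    set q' : Spec Γ(X, V) := ⟨q.asIdeal.comap (Ideal.Quotient.mk _), inferInstance⟩
    have hle : p.asIdeal ≤ q'.asIdeal := fun a ha => by
      show Ideal.Quotient.mk _ a ∈ q.asIdeal
      rw [Ideal.Quotient.eq_zero_iff_mem.mpr ha]; exact zero_mem _
    have hqx : hV.fromSpec q' = x := hU1 _ (by
      have := (spec_iff p q').mpr hle
      rwa [hV.fromSpec_primeIdealOf] at this) (hg q' hgq)
    have : q' = p := hV.fromSpec.isOpenEmbedding.injective (by rw [hqx, hV.fromSpec_primeIdealOf])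
    refine hq (eq_bot_iff.mpr fun a ha => ?_)
    obtain ⟨b, rfl⟩ := Ideal.Quotient.mk_surjective a
    rw [Ideal.mem_bot, Ideal.Quotient.eq_zero_iff_mem]
    exact this ▸ ha
  have hxq : ∀ (v : X) (hv : v ∈ V), x ⤳ v → p.asIdeal ≤ (hV.primeIdealOf ⟨v, hv⟩).asIdeal := fun v hv h => by
    refine (spec_iff p _).mp ?_
    rw [hV.fromSpec_primeIdealOf, hV.fromSpec_primeIdealOf]
    exact h
  set qy := hV.primeIdealOf ⟨y, hyV⟩
  set qz := hV.primeIdealOf ⟨z, hzV⟩
  have hpy : p.asIdeal ≤ qy.asIdeal := hxq y hyV hxy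
  have hyz' : qy.asIdeal ≤ qz.asIdeal := by
    refine (spec_iff qy qz).mp ?_
    rw [hV.fromSpec_primeIdealOf, hV.fromSpec_primeIdealOf]
    exact hyz
  haveI : (qy.asIdeal.map (Ideal.Quotient.mk p.asIdeal)).IsPrime :=
    Ideal.map_isPrime_of_surjective Ideal.Quotient.mk_surjective (by rwa [Ideal.mk_ker])
  have hne : qy.asIdeal.map (Ideal.Quotient.mk p.asIdeal) ≠ ⊥ := fun e => by
    rw [Ideal.map_eq_bot_iff_le_ker, Ideal.mk_ker] at e
    refine hyx ?_
    have := congrArg hV.fromSpec (PrimeSpectrum.ext (le_antisymm e hpy) : qy = p)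
    rwa [hV.fromSpec_primeIdealOf, hV.fromSpec_primeIdealOf] at this
  have hmax := isMaximal_of_zeroLocus_ne (f := Ideal.Quotient.mk p.asIdeal g)
    (fun e => hgp (Ideal.Quotient.eq_zero_iff_mem.mp e)) key ⟨_, this⟩ hne
  have : qy.asIdeal.IsMaximal := by
    have := Ideal.comap_isMaximal_of_surjective _ Ideal.Quotient.mk_surjective (H := hmax)
    rwa [Ideal.comap_map_of_surjective _ Ideal.Quotient.mk_surjective, ← RingHom.ker_eq_comap_bot, Ideal.mk_ker,
      sup_eq_left.mpr hpy] at this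
  have := congrArg hV.fromSpec (PrimeSpectrum.ext (this.eq_of_le qz.2.ne_top hyz') : qy = qz)
  rw [hV.fromSpec_primeIdealOf, hV.fromSpec_primeIdealOf] at this
  exact this.symm

/-- the local ring at a generization is a localization at a prime of the local ring -/
theorem exists_stalk_equiv_localization_of_specializes {z w : X} (h : z ⤳ w) :
    ∃ (P : Ideal (X.presheaf.stalk w)) (_ : P.IsPrime),
      Nonempty (Localization.AtPrime P ≃+* X.presheaf.stalk z) := by
  obtain ⟨V, hV, hwV, -⟩ := exists_isAffineOpen_mem_and_subset (x := w) (U := ⊤) trivial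
  have hzV : z ∈ V := h.mem_open V.2 hwV
  letI := X.presheaf.algebra_section_stalk ⟨z, hzV⟩
  letI := X.presheaf.algebra_section_stalk ⟨w, hwV⟩
  haveI := hV.isLocalization_stalk ⟨z, hzV⟩
  haveI := hV.isLocalization_stalk ⟨w, hwV⟩
  set m := (hV.primeIdealOf ⟨w, hwV⟩).asIdeal with hm
  set r := (hV.primeIdealOf ⟨z, hzV⟩).asIdeal with hr
  have hle : r ≤ m := by
    refine (PrimeSpectrum.le_iff_specializes (hV.primeIdealOf ⟨z, hzV⟩) (hV.primeIdealOf ⟨w, hwV⟩)).2 ?_
    refine (hV.fromSpec.isOpenEmbedding.isInducing.specializes_iff).1 ?_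
    convert h <;> exact hV.fromSpec_primeIdealOf _
  have hdisj : Disjoint (m.primeCompl : Set Γ(X, V)) r := Set.disjoint_left.mpr fun a ha ha' => ha (hle ha')
  set P := r.map (algebraMap Γ(X, V) (X.presheaf.stalk w))
  haveI : P.IsPrime := IsLocalization.isPrime_of_isPrime_disjoint m.primeCompl _ r inferInstance hdisj
  have hP : P.comap (algebraMap Γ(X, V) (X.presheaf.stalk w)) = r :=
    IsLocalization.under_map_of_isPrime_disjoint m.primeCompl _ inferInstance hdisj
  have hloc := IsLocalization.isLocalization_isLocalization_atPrime_isLocalization m.primeCompl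
    (Localization.AtPrime P) P
  simp only [hP] at hloc
  exact ⟨P, inferInstance, ⟨(IsLocalization.algEquiv r.primeCompl _ (X.presheaf.stalk z)).toRingEquiv⟩⟩

theorem forall_stalk_iff_forall_closed [IsLocallyNoetherian X] (P : ∀ (R : Type u) [CommRing R], Prop)
    (hiso : ∀ (A B : Type u) [CommRing A] [CommRing B], (A ≃+* B) → P A → P B)
    (hloc : ∀ (A : Type u) [CommRing A] [IsLocalRing A] [IsNoetherianRing A], P A →
      ∀ (p : Ideal A) [p.IsPrime], P (Localization.AtPrime p)) :
    (∀ x : X, P (X.presheaf.stalk x)) ↔ ∀ x : X, IsClosed ({x} : Set X) → P (X.presheaf.stalk x) := by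
  refine ⟨fun h x _ => h x, fun h z => ?_⟩
  obtain ⟨w, hzw, hw⟩ := exists_isClosed_specializes z
  obtain ⟨p, hp, ⟨e⟩⟩ := exists_stalk_equiv_localization_of_specializes hzw
  exact hiso _ _ e (hloc _ (h w hw) p)

end Groth.L18.ClosedPoint
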