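import Groth.Agent.L18.ExtendQCoh
import Groth.Agent.L18.AmpleComp
import Groth.Agent.L20.ModStalk
import Groth.Prelude.Def_Curv2

/-!
Global generation: quasi-affine schemes, twists by ample modules.
-/

set_option autoImplicit false
set_option backward.isDefEq.respectTransparency false
universe u

open CategoryTheory CategoryTheory.Limits AlgebraicGeometry TopologicalSpace Opposite
open scoped TensorProduct

noncomputable section

namespace Groth.L18.Ample

open Groth.L18.Frame (rs ro rs_rs rs_self rs_smul ro_ro ro_self ro_mul IsFrame)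
open Groth.L18.GenLoc
open Groth.L00.Tensor (pre)
open MonoidalCategory

variable {X : Scheme.{u}}

/-- `g` kills all global sections -/
def KillsGlobal {F G : X.Modules} (g : F ⟶ G) : Prop := ∀ t : Γ(F, ⊤), g.app ⊤ t = 0

theorem hom_app_rs {F G : X.Modules} (g : F ⟶ G) {U V : X.Opens} (h : V ≤ U) (s : Γ(F, U)) :
    g.app V (rs F h s) = rs G h (g.app U s) :=
  congr($(g.mapPresheaf.naturality (homOfLE h).op) s)

theorem isGloballyGenerated_of_kills (F : X.Modules) (h : ∀ (G : X.Modules) (g : F ⟶ G), KillsGlobal g → g = 0) :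
    Curv2.IsGloballyGenerated F := by
  let sec : Γ(F, ⊤) → F.sections := fun t => F.unitHomEquiv (Groth.L16.homOfSection F t)
  let p : (SheafOfModules.free Γ(F, ⊤) : X.Modules) ⟶ F := (SheafOfModules.freeHomEquiv _).symm sec
  refine ⟨Γ(F, ⊤), p, Preadditive.epi_of_cancel_zero _ fun {G : X.Modules} (g : F ⟶ G) hg => h G g fun t => ?_⟩
  have h1 : p ≫ g = (SheafOfModules.freeHomEquiv G).symm (fun t => SheafOfModules.sectionsMap g (sec t)) :=
    SheafOfModules.freeHomEquiv_symm_comp (R := X.ringCatSheaf) sec g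
  rw [hg] at h1
  have h2 := congrFun (congrArg (SheafOfModules.freeHomEquiv G) h1) t
  rw [Equiv.apply_symm_apply] at h2
  have h3 := congrArg (fun σ : G.sections => σ.eval (op ⊤)) h2
  refine Eq.trans ?_ (h3.symm.trans ?_)
  · show g.app ⊤ t = g.app ⊤ ((Groth.L16.homOfSection F t).app ⊤ (1 : Γ(X, ⊤)))
    rw [Groth.L16.homOfSection_app, one_smul]
    exact congrArg _ (rs_self F le_rfl t).symm
  · rfl

theorem isGloballyGenerated_of_iso {F F' : X.Modules} (e : F ≅ F') (h : Curv2.IsGloballyGenerated F) :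
    Curv2.IsGloballyGenerated F' := by
  obtain ⟨ι, p, hp⟩ := h
  exact ⟨ι, p ≫ e.hom, inferInstance⟩

theorem eq_zero_of_local {F G : X.Modules} (g : F ⟶ G)
    (h : ∀ (V : X.Opens) (s : Γ(F, V)), ∀ x ∈ V, ∃ (W : X.Opens) (hW : W ≤ V), x ∈ W ∧ g.app W (rs F hW s) = 0) :
    g = 0 := by
  ext V s
  choose W hW hxW hs using fun x : V => h V s x.1 x.2
  show g.app V s = 0
  refine TopCat.Sheaf.eq_of_locally_eq' (⟨G.presheaf, G.isSheaf⟩ : TopCat.Sheaf Ab X.toTopCat) W V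
    (fun x => homOfLE (hW x)) (fun x hx => Opens.mem_iSup.mpr ⟨⟨x, hx⟩, hxW ⟨x, hx⟩⟩) _ _ fun x => ?_
  show rs G (hW x) (g.app V s) = rs G (hW x) 0
  rw [← hom_app_rs, hs x]
  exact (map_zero _).symm

theorem eq_zero_of_pow_smul {G : X.Modules} {W : X.Opens} {U : X.Opens} (a : Γ(X, U)) (hW : W ≤ X.basicOpen a)
    (n : ℕ) (y : Γ(G, W)) (h : ro (hW.trans (X.basicOpen_le a)) (a ^ n) • y = 0) : y = 0 := by
  have hu : IsUnit (ro (hW.trans (X.basicOpen_le a)) (a ^ n)) := by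
    have h1 : IsUnit (ro (X.basicOpen_le a) a) := RingedSpace.isUnit_res_basicOpen _ a
    have h2 := (h1.map (X.presheaf.map (homOfLE hW).op).hom).pow n
    rw [show ro (hW.trans (X.basicOpen_le a)) (a ^ n) = ro hW (ro (X.basicOpen_le a) a) ^ n by
      simp only [ro, map_pow]; rw [← ro, ← ro, ro_ro]]
    exact h2
  rwa [hu.smul_eq_zero] at h

/-- quasi-coherent modules on quasi-affine schemes -/
theorem isGloballyGenerated_of_isQuasiAffine [X.IsQuasiAffine] (F : X.Modules) [Coh.IsQCoh F] :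
    Curv2.IsGloballyGenerated F := by
  refine isGloballyGenerated_of_kills F fun G g hg => eq_zero_of_local g fun V s x hx => ?_
  obtain ⟨_, ⟨a, ha, rfl⟩, hxa, haV⟩ := Opens.isBasis_iff_nbhd.mp (Scheme.IsQuasiAffine.isBasis_basicOpen X) hx
  refine ⟨_, haV, hxa, ?_⟩
  obtain ⟨n, t, ht⟩ := Groth.L16.QcqsPush.exists_pow_smul_eq_res F (U := ⊤)
    (by simpa using isCompact_univ) (by simpa using isQuasiSeparated_univ_iff.mpr inferInstance) a (rs F haV s)
  refine eq_zero_of_pow_smul a le_rfl n _ ?_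
  rw [← Scheme.Modules.Hom.app_smul, ← ht, hom_app_rs, hg t]
  exact map_zero _

variable {L M N : X.Modules}

theorem tens_add_left {U : X.Opens} (m m' : Γ(L, U)) (n : Γ(M, U)) :
    tens L M U (m + m') n = tens L M U m n + tens L M U m' n :=
  Groth.L00.Tensor.ev_add₁ (Groth.L00.Tensor.unit (pre L ⊗ pre M)) (op U) m m' n

theorem tens_zero_left {U : X.Opens} (n : Γ(M, U)) : tens L M U 0 n = 0 := by
  have := tens_smul_left (L := L) (M := M) (U := U) 0 (0 : Γ(L, U)) n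
  rwa [zero_smul, zero_smul] at this

/-- sections of a twist by a framed module are locally pure tensors -/
theorem exists_local_tens {W : X.Opens} {ε : Γ(M, W)} (hε : IsFrame M W ε) {V : X.Opens} (hV : V ≤ W)
    (y : Γ(CohB1.tensorMod L M, V)) {x : X} (hx : x ∈ V) :
    ∃ (V' : X.Opens) (h : V' ≤ V), x ∈ V' ∧ ∃ m : Γ(L, V'),
      rs (CohB1.tensorMod L M) h y = tens L M V' m (rs M (h.trans hV) ε) := by
  let P := pre L ⊗ pre M
  let η := Groth.L00.Tensor.unit P
  have hsurjP : ∀ (U : X.Opens) (h : U ≤ W) (p : P.obj (op U)), ∃ m : Γ(L, U),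
      η.app (op U) p = tens L M U m (rs M h ε) := by
    intro U h p
    induction p using TensorProduct.induction_on with
    | zero => exact ⟨0, by rw [tens_zero_left]; exact map_zero _⟩
    | tmul m n =>
      obtain ⟨a, ha⟩ := hε.exists_coeff h n
      refine ⟨a • (show Γ(L, U) from m), ?_⟩
      rw [tens_smul_left, ← tens_smul_right, ha]
      rfl
    | add p q hp hq =>
      obtain ⟨a, ha⟩ := hp
      obtain ⟨b, hb⟩ := hq
      refine ⟨a + b, ?_⟩
      rw [tens_add_left, ← ha, ← hb]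
      exact map_add _ _ _
  haveI := (((Opens.grothendieckTopology X).W_iff_isLocallyBijective _).1 (Groth.L00.Tensor.Wp_unit P)).2
  obtain ⟨S, hS, hS'⟩ := Groth.L00.Tensor.exists_local (J := Opens.grothendieckTopology X) η (U := op V) y
  obtain ⟨V', i, hi, hxV'⟩ := hS x hx
  obtain ⟨p, hp⟩ := hS' i hi
  obtain ⟨m, hm⟩ := hsurjP V' (i.le.trans hV) p
  exact ⟨V', i.le, hxV', m, (hp.symm.trans hm : _)⟩

theorem fr_rs {U V : X.Opens} (h : V ≤ U) (e : Γ(N, U)) (ε : Γ(L, U)) : ∀ k : ℕ,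
    rs (tw N L k) h (fr e ε k) = fr (rs N h e) (rs L h ε) k
  | 0 => rfl
  | k + 1 => by
    show rs (CohB1.tensorMod (tw N L k) L) h (tens _ L U _ _) = tens _ L V _ _
    rw [tens_rs, fr_rs h e ε k]

theorem fr_add {U : X.Opens} (e e' : Γ(N, U)) (ε : Γ(L, U)) : ∀ k : ℕ,
    fr (e + e') ε k = fr e ε k + fr e' ε k
  | 0 => rfl
  | k + 1 => by
    show tens _ L U (fr (e + e') ε k) ε = tens _ L U _ ε + tens _ L U _ ε
    rw [fr_add e e' ε k, tens_add_left]

/-- sections of `N ⊗ L^k` are locally `m ⊗ ε^k` -/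
theorem exists_local_fr {W : X.Opens} {ε : Γ(L, W)} (hε : IsFrame L W ε) : ∀ (k : ℕ) {V : X.Opens} (hV : V ≤ W)
    (y : Γ(tw N L k, V)) {x : X} (_ : x ∈ V), ∃ (V' : X.Opens) (h : V' ≤ V), x ∈ V' ∧ ∃ m : Γ(N, V'),
      rs (tw N L k) h y = fr m (rs L (h.trans hV) ε) k
  | 0, V, _, y, x, hx => ⟨V, le_rfl, hx, y, rs_self _ _ _⟩
  | k + 1, V, hV, y, x, hx => by
    obtain ⟨V₁, h₁, hx₁, a, ha⟩ := exists_local_tens (L := tw N L k) hε hV y hx
    obtain ⟨V₂, h₂, hx₂, m, hm⟩ := exists_local_fr hε k (h₁.trans hV) a hx₁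
    refine ⟨V₂, h₂.trans h₁, hx₂, m, ?_⟩
    refine (rs_rs (tw N L (k + 1)) h₁ h₂ y).symm.trans ?_
    refine (congrArg (rs (tw N L (k + 1)) h₂) ha).trans ?_
    show rs (CohB1.tensorMod (tw N L k) L) h₂ (tens _ L V₁ _ _) = tens _ L V₂ _ _
    rw [tens_rs, hm, rs_rs]

/-- Serre's generation theorem for twists by an ample module. -/
theorem exists_forall_isGloballyGenerated (hL : CohB1.IsAmple L) (F : X.Modules) (hF : Coh.IsCoh F) :
    ∃ n₀ : ℕ, ∀ n, n₀ ≤ n → Curv2.IsGloballyGenerated (CohB1.tensorMod F (CohB1.tensorPow L n)) := by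
  classical
  haveI := hL.2.1
  haveI := isSeparated_of_isAmple hL
  haveI : Coh.IsQCoh F := hF.1
  have hchoose : ∀ x : X, ∃ (a : ℕ) (s : Coh.structureModule X ⟶ CohB1.tensorPow L (a + 1)),
      x ∈ CohB1.genLocus _ s ∧ IsAffineOpen (CohB1.genLocus _ s) ∧
      ∃ e : Γ(L, CohB1.genLocus _ s), IsFrame L (CohB1.genLocus _ s) e := by
    intro x
    obtain ⟨W, e, hxW, he⟩ := Frame.exists_frame hL.1 x
    obtain ⟨a, s, hxs, hle, hs⟩ := exists_affine_genLocus_subset hL W hxW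
    exact ⟨a, s, hxs, hs, _, he.mono hle⟩
  choose a s hxs hs e he using hchoose
  obtain ⟨Z, hZ⟩ := isCompact_univ.elim_finite_subcover (fun x : X => (CohB1.genLocus _ (s x) : Set X))
    (fun x => (CohB1.genLocus _ (s x)).2) (fun x _ => Set.mem_iUnion.2 ⟨x, hxs x⟩)
  let d : ℕ := ∏ x ∈ Z, (a x + 1)
  have hd : 0 < d := Finset.prod_pos fun x _ => Nat.succ_pos _
  have hφ : ∀ x ∈ Z, ∃ φ : Coh.structureModule X ⟶ CohB1.tensorPow L d,
      CohB1.genLocus _ φ = CohB1.genLocus _ (s x) := by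
    intro x hx
    obtain ⟨c, hc⟩ : a x + 1 ∣ d := Finset.dvd_prod_of_mem _ hx
    obtain ⟨c', rfl⟩ : ∃ c', c = c' + 1 := Nat.exists_eq_add_one.mpr (Nat.pos_of_mul_pos_left (hc ▸ hd))
    refine ⟨pw (s x) (c' + 1) ≫ (Groth.L00.Tensor.tensorPowMul L (a x + 1) (c' + 1) ≪≫
      eqToIso (congrArg (CohB1.tensorPow L) hc.symm)).hom, ?_⟩
    rw [Groth.L16.genLocus_comp_iso, genLocus_pw_succ (isInvertible_tensorPow hL.1 _)]
  have hLd := isInvertible_tensorPow hL.1 d
  choose gen hgen using fun x : X => (Module.Finite.fg_top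
    (R := Γ(X, CohB1.genLocus _ (s x))) (M := Γ(F, CohB1.genLocus _ (s x)))
    (self := Groth.L20.ModStalk.finite_sections F hF (hs x)))
  -- uniform extension bound
  have hext : ∀ x ∈ Z, ∀ φ : Coh.structureModule X ⟶ CohB1.tensorPow L d,
      CohB1.genLocus _ φ = CohB1.genLocus _ (s x) → ∀ (i : ℕ) (c : Γ(F, CohB1.genLocus _ (s x))),
      ∃ k : ℕ, ∀ q, k ≤ q → ∀ (G : X.Modules) (g : tw (tw F L i) (CohB1.tensorPow L d) q ⟶ G),
        KillsGlobal g → g.app _ (it (secOf φ) (CohB1.genLocus _ (s x)) (fr c (e x) i) q) = 0 := by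
    intro x _ φ hφx i c
    haveI := isQCoh_tw F hL.1 i
    obtain ⟨k, t, ht⟩ := exists_extend_qcoh hLd φ (rs (tw F L i) hφx.le (fr c (e x) i))
    refine ⟨k, fun q hq G g hg => ?_⟩
    obtain ⟨j, rfl⟩ := Nat.exists_eq_add_of_le hq
    have h1 : rs (tw (tw F L i) (CohB1.tensorPow L d) (k + j)) le_top (up (tw F L i) (secOf φ) ⊤ j t) =
        it (secOf φ) (CohB1.genLocus _ (s x)) (fr c (e x) i) (k + j) := by
      have h2 := congrArg (rs _ hφx.ge) ht
      rw [rs_rs, it_rs, rs_rs, rs_self] at h2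
      rw [up_rs, h2, up_it]
    rw [← h1, hom_app_rs, hg]
    exact map_zero _
  choose φ hφ using hφ
  have hk : ∀ x : Z, ∃ k : ℕ, ∀ i : Fin d, ∀ c ∈ gen x.1, ∀ q, k ≤ q →
      ∀ (G : X.Modules) (g : tw (tw F L i) (CohB1.tensorPow L d) q ⟶ G), KillsGlobal g →
        g.app _ (it (secOf (φ x.1 x.2)) (CohB1.genLocus _ (s x.1)) (fr c (e x.1) i) q) = 0 := by
    intro x
    choose k hk using fun (i : Fin d) (c : gen x.1) => hext x.1 x.2 (φ x.1 x.2) (hφ x.1 x.2) i c.1
    refine ⟨Finset.univ.sup fun i => Finset.univ.sup (k i), fun i c hc q hq => hk i ⟨c, hc⟩ q ?_⟩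
    exact ((Finset.le_sup (f := k i) (Finset.mem_univ (⟨c, hc⟩ : gen x.1))).trans
      (Finset.le_sup (f := fun i => Finset.univ.sup (k i)) (Finset.mem_univ i))).trans hq
  choose k hk using hk
  refine ⟨d * (Finset.univ.sup k + 1), fun n hn => ?_⟩
  let i : Fin d := ⟨n % d, Nat.mod_lt _ hd⟩
  let q := n / d
  have hq : ∀ x : Z, k x ≤ q := fun x => by
    have : Finset.univ.sup k + 1 ≤ n / d := (Nat.le_div_iff_mul_le hd).mpr (by rw [mul_comm]; exact hn)
    have := Finset.le_sup (f := k) (Finset.mem_univ x)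
    show k x ≤ n / d
    omega
  refine isGloballyGenerated_of_iso (F := tw (tw F L i) (CohB1.tensorPow L d) q) (twIso _ _ _ ≪≫
    Groth.L00.Tensor.tensorIso (twIso F L i) (Groth.L00.Tensor.tensorPowMul L d q) ≪≫
    Groth.L00.Tensor.tensorAssoc _ _ _ ≪≫ Groth.L00.Tensor.tensorIso (Iso.refl F)
      (Groth.L00.Tensor.tensorPowAdd L _ _ ≪≫ eqToIso (congrArg (CohB1.tensorPow L) (Nat.mod_add_div n d)))) ?_
  refine isGloballyGenerated_of_kills _ fun G g hg => eq_zero_of_local g fun V y z hz => ?_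
  obtain ⟨x, hxZ, hzx⟩ := Set.mem_iUnion₂.1 (hZ (Set.mem_univ z))
  set D := CohB1.genLocus _ (s x)
  set σ := secOf (φ x hxZ)
  have hσ : IsFrame (CohB1.tensorPow L d) D (rs _ le_top σ) := by
    have h := (isFrame_genLocus (φ x hxZ)).mono (hφ x hxZ).ge
    rwa [rs_rs] at h
  -- all sections of `F` over `D` give killed sections
  have hkill : ∀ c : Γ(F, D), g.app D (it σ D (fr c (e x) i) q) = 0 := by
    intro c
    rw [it_eq_fr]
    induction (show c ∈ Submodule.span Γ(X, D) (gen x : Set Γ(F, D)) from (hgen x).ge Submodule.mem_top)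
      using Submodule.span_induction with
    | mem c hc =>
      have := hk ⟨x, hxZ⟩ i c hc q (hq _) G g hg
      rwa [it_eq_fr] at this
    | zero =>
      rw [← zero_smul Γ(X, D) (0 : Γ(F, D)), fr_smul, fr_smul, zero_smul]
      exact map_zero _
    | add c c' _ _ h h' => rw [fr_add, fr_add, map_add, h, h', add_zero]
    | smul r c _ h => rw [fr_smul, fr_smul, Scheme.Modules.Hom.app_smul, h, smul_zero]
  obtain ⟨V₁, h₁, hz₁, m₁, hm₁⟩ := exists_local_fr hσ q (inf_le_right : V ⊓ D ≤ D)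
    (rs _ inf_le_left y) (show z ∈ V ⊓ D from ⟨hz, hzx⟩)
  obtain ⟨V₂, h₂, hz₂, m₂, hm₂⟩ := exists_local_fr (he x) i (h₁.trans inf_le_right) m₁ hz₁
  obtain ⟨b, hb, hzb⟩ := (hs x).exists_basicOpen_le (V := V₂) ⟨z, hz₂⟩ hzx
  obtain ⟨p, c, hc⟩ := Groth.L16.QCohSect.exists_pow_smul_eq_res (hs x) F b (rs F hb m₂)
  refine ⟨X.basicOpen b, hb.trans (h₂.trans (h₁.trans inf_le_left)), hzb, eq_zero_of_pow_smul b le_rfl p _ ?_⟩
  have hy : rs _ (hb.trans (h₂.trans (h₁.trans inf_le_left))) y =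
      fr (fr (rs F hb m₂) (rs L (X.basicOpen_le b) (e x)) i) (rs _ le_top σ) q := by
    have h := congrArg (rs _ (hb.trans h₂)) hm₁
    rw [rs_rs, rs_rs, fr_rs, rs_rs, rs_rs] at h
    have h' := congrArg (rs _ hb) hm₂
    rw [rs_rs, fr_rs, rs_rs] at h'
    rw [h, h']
  rw [← Scheme.Modules.Hom.app_smul, hy, ← fr_smul, ← fr_smul, ← hc]
  have := congrArg (rs G (X.basicOpen_le b)) (hkill c)
  rw [← hom_app_rs, it_eq_fr, fr_rs, fr_rs, rs_rs] at this
  exact this.trans (map_zero _)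

end Groth.L18.Ample
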