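import Groth.Agent.L18.AmpleOps
import Groth.Prelude.Def_Mor2

/-!
Ampleness is local on the base; pullbacks along quasi-affine morphisms.
-/

set_option autoImplicit false
set_option backward.isDefEq.respectTransparency false
universe u

open CategoryTheory AlgebraicGeometry TopologicalSpace Opposite

noncomputable section

namespace Groth.L18.Ample

open Groth.L18.Frame (rs ro rs_rs rs_self rs_smul ro_ro ro_self ro_mul IsFrame)
open Groth.L18.GenLoc

variable {X Y : Scheme.{u}} {L : X.Modules}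

/-- frames of a restriction are frames -/
theorem isFrame_restrict_iff (N : X.Modules) (G : X.Opens) (U : G.toScheme.Opens) (τ : Γ(N.restrict G.ι, U)) :
    IsFrame (N.restrict G.ι) U τ ↔ IsFrame N (G.ι ''ᵁ U) (show Γ(N, G.ι ''ᵁ U) from τ) := by
  have key : ∀ (V : G.toScheme.Opens) (hV : V ≤ U),
      (fun a : Γ(X, G.ι ''ᵁ V) => a • rs N (G.ι.image_mono hV) (show Γ(N, G.ι ''ᵁ U) from τ)) =
        fun a : Γ(G.toScheme, V) => (show Γ(N.restrict G.ι, V) from a • rs (N.restrict G.ι) hV τ) := by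
    intro V hV
    funext a
    exact (Frame.restrict_smul' N G V a _).symm
  constructor
  · intro h V' hV'
    obtain ⟨V, rfl⟩ : ∃ V : G.toScheme.Opens, G.ι ''ᵁ V = V' := ⟨G.ι ⁻¹ᵁ V', by
      rw [Scheme.Hom.image_preimage_eq_opensRange_inf, Scheme.Opens.opensRange_ι, inf_eq_right]
      exact hV'.trans ((Scheme.Hom.image_le_opensRange _ _).trans_eq G.opensRange_ι)⟩
    have hV : V ≤ U := by
      intro y hy
      obtain ⟨y', hy', e⟩ := hV' ⟨y, hy, rfl⟩
      exact G.ι.isOpenEmbedding.injective e ▸ hy'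
    rw [key V hV]
    exact h V hV
  · intro h V hV
    have := h _ (G.ι.image_mono hV)
    rwa [key V hV] at this

theorem le_genLocus_of_it {N M : X.Modules} (s : Coh.structureModule X ⟶ M) (hN : PicF.IsInvertible N)
    (hM : PicF.IsInvertible M) {U : X.Opens} (hU : U ≤ CohB1.genLocus M s) (m : Γ(N, U)) (k : ℕ) :
    IsFrame (tw N M k) U (it (secOf s) U m k) ↔ IsFrame N U m := by
  constructor
  · intro h
    refine IsFrame.of_cover (ι := U) (fun x => U ⊓ (Frame.exists_frame hN x.1).choose) (fun x => inf_le_left)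
      (fun x hx => Opens.mem_iSup.2 ⟨⟨x, hx⟩, hx, (Frame.exists_frame hN x).choose_spec.choose_spec.1⟩) fun x => ?_
    set W := U ⊓ (Frame.exists_frame hN x.1).choose
    have he : IsFrame N W (rs N inf_le_right (Frame.exists_frame hN x.1).choose_spec.choose) :=
      (Frame.exists_frame hN x.1).choose_spec.choose_spec.2.mono _
    generalize rs N (inf_le_right : W ≤ _) (Frame.exists_frame hN x.1).choose_spec.choose = e at he
    obtain ⟨b, hb⟩ := he.exists_coeff le_rfl (rs N (inf_le_left : W ≤ U) m)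
    rw [rs_self] at hb
    have hε : IsFrame M W (rs M (inf_le_left.trans hU) (rs M le_top (secOf s))) := (isFrame_genLocus s).mono _
    rw [rs_rs] at hε
    have h1 := h.mono (inf_le_left : W ≤ U)
    rw [it_rs, ← hb, it_fr (secOf s) (a := (1 : Γ(X, W))) (one_smul _ _), one_pow, mul_one] at h1
    rw [← hb]
    exact he.smul_unit (Frame.isUnit_of_isFrame (isFrame_fr he hε k) h1)
  · intro h
    rw [it_eq_fr]
    refine isFrame_fr h ?_ k
    have := (isFrame_genLocus s).mono hU
    rwa [rs_rs] at this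

/-- an affine locus over a basic open of the base extends to the whole -/
theorem exists_genLocus_eq_of_restrict [CompactSpace X] [QuasiSeparatedSpace X] (hL : PicF.IsInvertible L)
    (f : Γ(X, ⊤)) {n : ℕ}
    (s : Coh.structureModule (X.basicOpen f).toScheme ⟶ CohB1.tensorPow (L.restrict (X.basicOpen f).ι) (n + 1)) :
    ∃ s' : Coh.structureModule X ⟶ CohB1.tensorPow L (n + 1),
      CohB1.genLocus _ s' = (X.basicOpen f).ι ''ᵁ CohB1.genLocus _ s := by
  let φ : Coh.structureModule X ⟶ Coh.structureModule X :=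
    Groth.L16.homOfSection _ (show Γ(Coh.structureModule X, ⊤) from f)
  have hφ : CohB1.genLocus _ φ = X.basicOpen f := genLocus_function f
  let N := CohB1.tensorPow L (n + 1)
  have hN : PicF.IsInvertible N := isInvertible_tensorPow hL _
  let G := X.basicOpen f
  let s₁ : Coh.structureModule G.toScheme ⟶ N.restrict G.ι :=
    s ≫ (Groth.L00.Tensor.tensorPowRestrict G.ι L (n + 1)).hom
  have hs₁ : CohB1.genLocus _ s₁ = CohB1.genLocus _ s := Groth.L16.genLocus_comp_iso _ _
  let m₀ : Γ(N, G.ι ''ᵁ ⊤) := secOf s₁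
  have hG : CohB1.genLocus _ φ ≤ G.ι ''ᵁ ⊤ := by rw [hφ, G.ι_image_top]
  obtain ⟨k, t, ht⟩ := exists_extend (isInvertible_structureModule X) hN φ (rs N hG m₀)
  let t₁ := Groth.L16.homOfSection _ t ≫ (twUnit N k).hom
  refine ⟨tensHom t₁ φ ≫ (Groth.L00.Tensor.tensorUnitRight N).hom, ?_⟩
  rw [Groth.L16.genLocus_comp_iso, genLocus_tensHom hN (isInvertible_structureModule X),
    Groth.L16.genLocus_comp_iso]
  have htw : ∀ (U : X.Opens) (h : U ≤ CohB1.genLocus _ φ),
      IsFrame (tw N (Coh.structureModule X) k) U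
        (rs (tw N (Coh.structureModule X) k) le_top (secOf (Groth.L16.homOfSection _ t))) ↔
      IsFrame N U (rs N (h.trans hG) m₀) := by
    intro U h
    rw [secOf_homOfSection, show rs (tw N (Coh.structureModule X) k) (le_top : U ≤ ⊤) t =
      rs (tw N (Coh.structureModule X) k) h (rs (tw N (Coh.structureModule X) k) le_top t) from (rs_rs _ _ _ t).symm,
      ht, it_rs, rs_rs]
    exact le_genLocus_of_it φ hN (isInvertible_structureModule X) h _ k
  apply le_antisymm
  · set U := CohB1.genLocus _ (Groth.L16.homOfSection _ t) ⊓ CohB1.genLocus _ φ with hU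
    have h1 := (isFrame_genLocus (Groth.L16.homOfSection _ t)).mono (inf_le_left : U ≤ _)
    rw [rs_rs] at h1
    have h2 : IsFrame N U (rs N ((inf_le_right : U ≤ _).trans hG) m₀) := (htw U inf_le_right).mp h1
    have hUG : U ≤ G := inf_le_right.trans hφ.le
    have he : G.ι ''ᵁ (G.ι ⁻¹ᵁ U) = U := by
      rw [Scheme.Hom.image_preimage_eq_opensRange_inf, Scheme.Opens.opensRange_ι, inf_eq_right.mpr hUG]
    rw [← hs₁, ← he]
    refine G.ι.image_mono (le_genLocus s₁ ((isFrame_restrict_iff N G _ _).mpr ?_))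
    have h3 := h2.mono he.le
    rw [rs_rs] at h3
    exact h3
  · set U := G.ι ''ᵁ CohB1.genLocus _ s₁ with hU
    rw [← hs₁, ← hU]
    have hUφ : U ≤ CohB1.genLocus _ φ :=
      ((Scheme.Hom.image_le_opensRange _ _).trans_eq G.opensRange_ι).trans hφ.ge
    refine le_inf (le_genLocus _ ((htw U hUφ).mpr ?_)) hUφ
    exact (isFrame_restrict_iff N G _ _).mp (isFrame_genLocus s₁)

theorem isSeparated_of_isAmple (h : CohB1.IsAmple L) : X.IsSeparated :=
  isSeparated_of_affine_genLocus h.1 h.2.2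

/-- pullback along a quasi-affine morphism -/
theorem isAmple_pullback_of_quasiAffine {Z : Scheme.{u}} (u : Z ⟶ X) [CompactSpace Z]
    (hu : ∀ W : X.Opens, IsAffineOpen W → Scheme.IsQuasiAffine (u ⁻¹ᵁ W : Scheme.{u}))
    (hL : CohB1.IsAmple L) : CohB1.IsAmple ((Scheme.Modules.pullback u).obj L) := by
  haveI := isSeparated_of_isAmple hL
  haveI : IsSeparated u := by
    refine IsZariskiLocalAtTarget.of_iSup_eq_top (P := @IsSeparated) _ (iSup_affineOpens_eq_top X) fun W => ?_
    haveI := hu W.1 W.2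
    infer_instance
  haveI : Z.IsSeparated := ⟨by
    rw [← Limits.terminal.comp_from u]; infer_instance⟩
  have hP := isInvertible_pullback u hL.1
  refine ⟨hP, inferInstance, fun z => ?_⟩
  obtain ⟨n, s, hx, hs⟩ := hL.2.2 (u z)
  obtain ⟨s', hs'⟩ := exists_pull_pow u hL.1 s
  have key : ∀ H : Z.Opens, Scheme.IsQuasiAffine (H : Scheme.{u}) → z ∈ H →
      ∃ f : Γ(Z, H), z ∈ Z.basicOpen f ∧ IsAffineOpen (Z.basicOpen f) := by
    intro H hH hz
    obtain ⟨_, ⟨r, hr, rfl⟩, hzr, -⟩ := Opens.isBasis_iff_nbhd.mp (Scheme.IsQuasiAffine.isBasis_basicOpen H.toScheme)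
      (Opens.mem_top (⟨z, hz⟩ : H.toScheme))
    have e : H.ι ''ᵁ H.toScheme.basicOpen r = Z.basicOpen (H.topIso.hom r) :=
      (congrArg (fun a => H.ι ''ᵁ H.toScheme.basicOpen a) (Iso.hom_inv_id_apply H.topIso r).symm).trans
        (Scheme.Opens.ι_image_basicOpen_topIso_inv (U := H) (H.topIso.hom r))
    exact ⟨H.topIso.hom r, e.le ⟨⟨z, hz⟩, hzr, rfl⟩,
      e ▸ (Scheme.Hom.isAffineOpen_iff_of_isOpenImmersion H.ι).mpr hr⟩
  obtain ⟨f, hzf, hf⟩ := key (CohB1.genLocus _ s') (by rw [hs']; exact hu _ hs) (by rw [hs']; exact hx)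
  have hP' := isInvertible_tensorPow hP (n + 1)
  obtain ⟨k, t, ht⟩ := exists_extend_function hP' s' f
  have h' := genLocus_tensHom (isInvertible_tensorPow hP' k) hP' t s'
  rw [ht] at h'
  obtain ⟨n', s'', hs''⟩ := exists_of_iso (L := (Scheme.Modules.pullback u).obj L) (j := (n + 1) * (k + 1))
    (by positivity) (tensHom t s') (Groth.L00.Tensor.tensorPowMul _ (n + 1) (k + 1))
  exact ⟨n', s'', by rw [hs'', h']; exact ⟨hzf, hf⟩⟩

end Groth.L18.Ample
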