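import Groth.Agent.L18.NormFree
import Groth.Prelude.Def_Mor2
import Mathlib.AlgebraicGeometry.Morphisms.FlatRank
import Mathlib.AlgebraicGeometry.Morphisms.FinitePresentation

/-!
Good bases of finite flat morphisms locally of finite presentation.
-/

set_option autoImplicit false
set_option backward.isDefEq.respectTransparency false
set_option backward.isDefEq.respectTransparency.types false
set_option linter.style.haveILetI false
universe u

open CategoryTheory CategoryTheory.Limits AlgebraicGeometry TopologicalSpace Opposite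

noncomputable section

namespace Groth.L18.NormFree

open Groth.L18.Frame (rs ro ro_ro ro_self ro_mul)

variable {X Y : Scheme.{u}} {π : X ⟶ Y}

theorem app_ro {U V : Y.Opens} (h : V ≤ U) (a : Γ(Y, U)) :
    π.app V (ro h a) = ro (fun _ hx => h hx : π ⁻¹ᵁ V ≤ π ⁻¹ᵁ U) (π.app U a) :=
  congr($(π.naturality (homOfLE h).op) a)

/-- Linear combinations over an open. -/
def comb {U : Y.Opens} {n : ℕ} (x : Fin n → Γ(X, π ⁻¹ᵁ U)) {V : Y.Opens} (h : V ≤ U) (a : Fin n → Γ(Y, V)) :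
    Γ(X, π ⁻¹ᵁ V) :=
  ∑ k, π.app V (a k) * ro (fun _ hx => h hx : π ⁻¹ᵁ V ≤ π ⁻¹ᵁ U) (x k)

theorem comb_ro {U : Y.Opens} {n : ℕ} (x : Fin n → Γ(X, π ⁻¹ᵁ U)) {V V' : Y.Opens} (h : V ≤ U) (h' : V' ≤ V)
    (a : Fin n → Γ(Y, V)) :
    ro (fun _ hx => h' hx : π ⁻¹ᵁ V' ≤ π ⁻¹ᵁ V) (comb x h a) = comb x (h'.trans h) fun k => ro h' (a k) := by
  simp only [comb, map_sum, map_mul, app_ro]
  refine Finset.sum_congr rfl fun k _ => ?_
  refine congrArg (_ * ·) ?_
  exact ro_ro _ _ _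

theorem comb_smul {U : Y.Opens} {n : ℕ} (x : Fin n → Γ(X, π ⁻¹ᵁ U)) {V : Y.Opens} (h : V ≤ U) (c : Γ(Y, V))
    (a : Fin n → Γ(Y, V)) : comb x h (fun k => c * a k) = π.app V c * comb x h a := by
  simp only [comb, Finset.mul_sum, map_mul, mul_assoc]

/-- Generation and independence after inverting an element. -/
def IsBasisAway {U : Y.Opens} {n : ℕ} (r : Γ(Y, U)) (x : Fin n → Γ(X, π ⁻¹ᵁ U)) : Prop :=
  (∀ z : Γ(X, π ⁻¹ᵁ U), ∃ (N : ℕ) (a : Fin n → Γ(Y, U)),
      π.app U (r ^ N) * z = ∑ k, π.app U (a k) * x k) ∧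
    ∀ a : Fin n → Γ(Y, U), ∑ k, π.app U (a k) * x k = 0 → ∃ N : ℕ, ∀ k, r ^ N * a k = 0

theorem comb_self {U : Y.Opens} {n : ℕ} (x : Fin n → Γ(X, π ⁻¹ᵁ U)) (a : Fin n → Γ(Y, U)) :
    comb x le_rfl a = ∑ k, π.app U (a k) * x k := by
  simp only [comb, ro_self]

theorem IsBasisAway.of_le {U : Y.Opens} (hU : IsAffineOpen U) {n : ℕ} {r g : Γ(Y, U)}
    {x : Fin n → Γ(X, π ⁻¹ᵁ U)} (hx : IsBasisAway r x) (hg : Y.basicOpen g ≤ Y.basicOpen r) :
    IsBasisAway g x := by
  haveI := hU.isLocalization_basicOpen g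
  have hu : IsUnit (algebraMap Γ(Y, U) Γ(Y, Y.basicOpen g) r) := by
    have h0 : IsUnit (ro (Y.basicOpen_le r) r) := RingedSpace.isUnit_res_basicOpen Y.toRingedSpace r
    have h1 : IsUnit (ro hg (ro (Y.basicOpen_le r) r)) := h0.map (Y.presheaf.map (homOfLE hg).op).hom
    rwa [ro_ro] at h1
  obtain ⟨v, hv⟩ := hu.exists_right_inv
  obtain ⟨M, a, ha⟩ := IsLocalization.Away.surj g v
  have h2 : algebraMap Γ(Y, U) Γ(Y, Y.basicOpen g) (r * a) = algebraMap Γ(Y, U) Γ(Y, Y.basicOpen g) (g ^ M) := by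
    rw [map_mul, map_pow, ← ha, ← mul_assoc, hv, one_mul]
  obtain ⟨k, hk⟩ := IsLocalization.Away.exists_of_eq g h2
  have key : ∀ N, g ^ ((k + M) * N) = (g ^ k * a) ^ N * r ^ N := fun N => by
    rw [pow_mul, pow_add, ← mul_pow, ← hk]
    ring
  refine ⟨fun z => ?_, fun b hb => ?_⟩
  · obtain ⟨N, b, hb⟩ := hx.1 z
    refine ⟨(k + M) * N, fun j => (g ^ k * a) ^ N * b j, ?_⟩
    rw [key, map_mul, mul_assoc, hb, Finset.mul_sum]
    simp only [map_mul, mul_assoc]
  · obtain ⟨N, hN⟩ := hx.2 b hb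
    exact ⟨(k + M) * N, fun j => by rw [key, mul_assoc, hN j, mul_zero]⟩

theorem IsBasisAway.bijective_basicOpen [IsAffineHom π] {U : Y.Opens} (hU : IsAffineOpen U) {n : ℕ}
    {g : Γ(Y, U)} {x : Fin n → Γ(X, π ⁻¹ᵁ U)} (hx : IsBasisAway g x) :
    Function.Bijective (comb x (Y.basicOpen_le g)) := by
  haveI := hU.isLocalization_basicOpen g
  have hπU : IsAffineOpen (π ⁻¹ᵁ U) := hU.preimage π
  haveI hloc : IsLocalization.Away (π.app U g) Γ(X, X.basicOpen (π.app U g)) := hπU.isLocalization_basicOpen _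
  have hpre : π ⁻¹ᵁ Y.basicOpen g = X.basicOpen (π.app U g) := Scheme.preimage_basicOpen π g
  have hle : π ⁻¹ᵁ Y.basicOpen g ≤ π ⁻¹ᵁ U := fun _ h => Y.basicOpen_le g h
  letI algX := (X.presheaf.map (homOfLE hle).op).hom.toAlgebra
  haveI : IsLocalization.Away (π.app U g) Γ(X, π ⁻¹ᵁ Y.basicOpen g) :=
    hπU.isLocalization_of_eq_basicOpen _ (homOfLE hle) hpre
  have hmap : ∀ b : Γ(Y, U), π.app (Y.basicOpen g) (algebraMap _ _ b) = algebraMap _ _ (π.app U b) :=
    fun b => app_ro (π := π) (Y.basicOpen_le g) b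
  have hcomb : ∀ b : Fin n → Γ(Y, U), comb x (Y.basicOpen_le g) (fun k => algebraMap _ _ (b k)) =
      algebraMap Γ(X, π ⁻¹ᵁ U) Γ(X, π ⁻¹ᵁ Y.basicOpen g) (∑ k, π.app U (b k) * x k) := by
    intro b
    simp only [comb, hmap, map_sum, map_mul]
    rfl
  constructor
  · intro a a' haa
    obtain ⟨⟨_, M, rfl⟩, hM⟩ := IsLocalization.exist_integer_multiples_of_finite (Submonoid.powers g)
      (fun k => a k - a' k)
    choose b hb using hM
    have hb' : ∀ k, algebraMap _ _ (b k) = algebraMap Γ(Y, U) Γ(Y, Y.basicOpen g) (g ^ M) * (a k - a' k) :=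
      fun k => (hb k).trans (Algebra.smul_def _ _)
    have h0 : algebraMap Γ(X, π ⁻¹ᵁ U) Γ(X, π ⁻¹ᵁ Y.basicOpen g) (∑ k, π.app U (b k) * x k) = 0 := by
      rw [← hcomb, funext hb', comb_smul]
      have : comb x (Y.basicOpen_le g) (fun k => a k - a' k) = comb x (Y.basicOpen_le g) a - comb x (Y.basicOpen_le g) a' := by
        simp only [comb, map_sub, sub_mul, Finset.sum_sub_distrib]
      rw [this, haa, sub_self, mul_zero]
    obtain ⟨⟨_, K, rfl⟩, hK⟩ := (IsLocalization.map_eq_zero_iff (Submonoid.powers (π.app U g)) _ _).1 h0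
    obtain ⟨L, hL⟩ := hx.2 (fun k => g ^ K * b k) (by
      rw [← hK]
      simp only [map_mul, map_pow, Finset.mul_sum, mul_assoc])
    funext k
    have h1 := congrArg (algebraMap Γ(Y, U) Γ(Y, Y.basicOpen g)) (hL k)
    rw [map_mul, map_mul, map_zero, hb', ← mul_assoc, ← mul_assoc, ← map_mul, ← map_mul, ← pow_add, ← pow_add] at h1
    have hu := IsLocalization.map_units (Γ(Y, Y.basicOpen g)) (⟨g ^ (L + K + M), _, rfl⟩ : Submonoid.powers g)
    exact sub_eq_zero.1 (hu.mul_right_eq_zero.1 h1)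
  · intro z
    obtain ⟨M, z₀, hz⟩ := IsLocalization.Away.surj (π.app U g) z
    obtain ⟨N, b, hb⟩ := hx.1 z₀
    have hu := IsLocalization.map_units (Γ(Y, Y.basicOpen g)) (⟨g ^ (N + M), _, rfl⟩ : Submonoid.powers g)
    obtain ⟨v, hv⟩ := hu.exists_right_inv
    refine ⟨fun k => v * algebraMap _ _ (b k), ?_⟩
    rw [comb_smul, hcomb, ← hb, map_mul, ← hz, ← hmap, map_pow, map_pow (π.app (Y.basicOpen g)).hom, ← hmap]
    rw [show π.app (Y.basicOpen g) v * (π.app (Y.basicOpen g) (algebraMap _ _ g) ^ N *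
        (z * π.app (Y.basicOpen g) (algebraMap _ _ g) ^ M)) =
      π.app (Y.basicOpen g) (algebraMap _ _ g ^ (N + M) * v) * z by rw [map_mul, map_pow, pow_add]; ring]
    rw [← map_pow, hv, map_one, one_mul]

theorem IsBasisAway.isGoodBasis [IsAffineHom π] {U : Y.Opens} (hU : IsAffineOpen U) {n : ℕ}
    {r : Γ(Y, U)} {x : Fin n → Γ(X, π ⁻¹ᵁ U)} (hx : IsBasisAway r x) :
    IsGoodBasis π fun k => ro (fun _ h => Y.basicOpen_le r h : π ⁻¹ᵁ Y.basicOpen r ≤ π ⁻¹ᵁ U) (x k) := by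
  intro V hV
  have hVU : V ≤ U := hV.trans (Y.basicOpen_le r)
  suffices Function.Bijective (comb x hVU) by
    convert this using 1
    funext a
    simp only [comb, ro_ro]
  have hbas : ∀ {V : Y.Opens}, V ≤ Y.basicOpen r → ∀ y : V, ∃ g : Γ(Y, U),
      Y.basicOpen g ≤ V ∧ y.1 ∈ Y.basicOpen g ∧ Function.Bijective (comb x (Y.basicOpen_le g)) := by
    intro V hV y
    obtain ⟨g, hg, hyg⟩ := hU.exists_basicOpen_le y (Y.basicOpen_le r (hV y.2))
    exact ⟨g, hg, hyg, (hx.of_le hU (hg.trans hV)).bijective_basicOpen hU⟩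
  have inj : ∀ {V : Y.Opens} (hV : V ≤ Y.basicOpen r) (hVU : V ≤ U), Function.Injective (comb x hVU) := by
    intro V hV hVU a a' haa
    choose g hgV hyg hg using hbas hV
    funext k
    refine Y.sheaf.eq_of_locally_eq' (fun y : V => Y.basicOpen (g y)) V (fun y => homOfLE (hgV y))
      (fun y hy => Opens.mem_iSup.2 ⟨⟨y, hy⟩, hyg ⟨y, hy⟩⟩) _ _ fun y => ?_
    have h1 := congrArg (ro (fun _ h => hgV y h : π ⁻¹ᵁ Y.basicOpen (g y) ≤ π ⁻¹ᵁ V)) haa
    rw [comb_ro, comb_ro] at h1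
    exact congrFun ((hg y).1 h1) k
  refine ⟨inj hV hVU, fun z => ?_⟩
  choose g hgV hyg hg using hbas hV
  choose a ha using fun y : V => (hg y).2 (ro (fun _ h => hgV y h : π ⁻¹ᵁ Y.basicOpen (g y) ≤ π ⁻¹ᵁ V) z)
  have compat : ∀ y y' : V, ∀ k, ro (inf_le_left : Y.basicOpen (g y) ⊓ Y.basicOpen (g y') ≤ _) (a y k) =
      ro inf_le_right (a y' k) := by
    intro y y' k
    have e : (fun k => ro (inf_le_left : Y.basicOpen (g y) ⊓ Y.basicOpen (g y') ≤ _) (a y k)) =
        fun k => ro inf_le_right (a y' k) := by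
      refine inj ((inf_le_left.trans (hgV y)).trans hV) (inf_le_left.trans (Y.basicOpen_le _)) ?_
      rw [← comb_ro x (Y.basicOpen_le _) inf_le_left, ← comb_ro x (Y.basicOpen_le _) inf_le_right, ha, ha, ro_ro, ro_ro]
    exact congrFun e k
  choose b hb hb' using fun k => Y.sheaf.existsUnique_gluing' (fun y : V => Y.basicOpen (g y)) V
    (fun y => homOfLE (hgV y)) (fun y hy => Opens.mem_iSup.2 ⟨⟨y, hy⟩, hyg ⟨y, hy⟩⟩) (fun y => a y k)
    (fun y y' => compat y y' k)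
  refine ⟨b, X.sheaf.eq_of_locally_eq' (fun y : V => π ⁻¹ᵁ Y.basicOpen (g y)) (π ⁻¹ᵁ V)
    (fun y => homOfLE fun _ h => hgV y h) (fun z hz => Opens.mem_iSup.2 ⟨⟨_, hz⟩, hyg ⟨_, hz⟩⟩) _ _ fun y => ?_⟩
  show ro _ (comb x hVU b) = ro _ z
  rw [comb_ro x hVU (hgV y)]
  exact (congrArg (comb x _) (funext fun k => hb k y)).trans (ha y)

/-- Elements forming a basis after inverting an element outside a given prime. -/
theorem exists_basisAway {A B : Type u} [CommRing A] [CommRing B] [Algebra A B] [Module.Finite A B]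
    [Module.Flat A B] [Algebra.FinitePresentation A B] (p : PrimeSpectrum A) :
    ∃ (r : A) (x : Fin (Module.rankAtStalk (R := A) B p) → B), r ∉ p.asIdeal ∧
      (∀ z : B, ∃ (N : ℕ) (a : Fin (Module.rankAtStalk (R := A) B p) → A), r ^ N • z = ∑ k, a k • x k) ∧
      ∀ a : Fin (Module.rankAtStalk (R := A) B p) → A, ∑ k, a k • x k = 0 → ∃ N : ℕ, ∀ k, r ^ N * a k = 0 := by
  haveI : Module.FinitePresentation A B := Module.FinitePresentation.of_finite_of_finitePresentation A B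
  haveI : Module.Free (Localization.AtPrime p.asIdeal) (LocalizedModule p.asIdeal.primeCompl B) :=
    Module.free_of_flat_of_isLocalRing
  obtain ⟨r, hr, hfree, hrank⟩ := Module.FinitePresentation.exists_free_localizedModule_powers
    p.asIdeal.primeCompl (LocalizedModule.mkLinearMap p.asIdeal.primeCompl B) (Localization.AtPrime p.asIdeal)
  haveI : Nontrivial (Localization (Submonoid.powers r)) :=
    (show Localization (Submonoid.powers r) →+* Localization.AtPrime p.asIdeal from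
      IsLocalization.map (M := Submonoid.powers r) (T := p.asIdeal.primeCompl) _ (RingHom.id _)
        (Submonoid.powers_le.mpr hr)).domain_nontrivial
  let f := LocalizedModule.mkLinearMap (Submonoid.powers r) B
  let b : Module.Basis (Fin (Module.rankAtStalk (R := A) B p)) (Localization (Submonoid.powers r))
      (LocalizedModule.Away r B) := Module.finBasisOfFinrankEq _ _ hrank
  obtain ⟨⟨_, e, rfl⟩, hxs⟩ := IsLocalizedModule.exist_integer_multiples_of_finite (Submonoid.powers r) f b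
  choose x hx using hxs
  have hx' : ∀ k, f (x k) = (r ^ e) • b k := hx
  refine ⟨r, x, hr, fun z => ?_, fun a ha => ?_⟩
  · obtain ⟨⟨_, M, rfl⟩, hM⟩ := IsLocalization.exist_integer_multiples_of_finite (Submonoid.powers r)
      (fun k => b.repr (f z) k)
    choose c hc' using hM
    have hc : ∀ k, algebraMap A (Localization (Submonoid.powers r)) (c k) = r ^ M • b.repr (f z) k := hc'
    have h1 : f (r ^ (M + e) • z) = f (∑ k, c k • x k) := by
      rw [map_smul, map_sum]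
      conv_lhs => rw [← b.sum_repr (f z)]
      rw [Finset.smul_sum]
      refine Finset.sum_congr rfl fun k _ => ?_
      rw [map_smul, hx', ← algebraMap_smul (Localization (Submonoid.powers r)) (c k),
        hc k, smul_assoc, pow_add, mul_smul]
      exact congrArg _ (smul_comm _ _ _)
    obtain ⟨⟨_, K, rfl⟩, hK⟩ := IsLocalizedModule.exists_of_eq (S := Submonoid.powers r) h1
    refine ⟨K + (M + e), fun k => r ^ K * c k, ?_⟩
    rw [pow_add, mul_smul]
    refine hK.trans ?_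
    rw [Submonoid.smul_def, Finset.smul_sum]
    simp only [smul_smul]
  · have h1 : ∑ k, algebraMap A (Localization (Submonoid.powers r)) (r ^ e * a k) • b k = 0 := by
      rw [← map_zero f, ← ha, map_sum]
      refine Finset.sum_congr rfl fun k _ => ?_
      rw [map_smul, hx', algebraMap_smul, ← mul_smul, mul_comm]
    have h2 := fun k => Fintype.linearIndependent_iff.1 b.linearIndependent _ h1 k
    choose N hN using fun k =>
      (IsLocalization.map_eq_zero_iff (Submonoid.powers r) (Localization (Submonoid.powers r)) _).1 (h2 k)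
    choose N' hN' using fun k => (N k).2
    refine ⟨Finset.univ.sup N' + e, fun k => ?_⟩
    obtain ⟨l, hl⟩ := Nat.exists_eq_add_of_le (Finset.le_sup (f := N') (Finset.mem_univ k))
    rw [hl, show r ^ (N' k + l + e) * a k = r ^ l * (r ^ N' k * (r ^ e * a k)) by ring]
    have h3 := hN k
    rw [← hN' k] at h3
    rw [h3, mul_zero]

theorem exists_goodBasis_of_flat [IsFinite π] [Flat π] [LocallyOfFinitePresentation π] (y : Y) :
    ∃ (W : Y.Opens) (n : ℕ) (c : Fin n → Γ(X, π ⁻¹ᵁ W)), y ∈ W ∧ n = π.finrank y ∧ IsGoodBasis π c := by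
  obtain ⟨_, ⟨U, hU, rfl⟩, hyU, -⟩ := Y.isBasis_affineOpens.exists_subset_of_mem_open (Set.mem_univ y) isOpen_univ
  have hyU' : y ∈ U := hyU
  have hπU : IsAffineOpen (π ⁻¹ᵁ U) := hU.preimage π
  have hfin : (π.app U).hom.Finite := IsFinite.finite_app π U hU
  have hflat : (π.app U).hom.Flat := by
    rw [Scheme.Hom.app_eq_appLE]
    exact HasRingHomProperty.appLE @Flat π inferInstance ⟨U, hU⟩ ⟨_, hπU⟩ le_rfl
  have hfp : (π.app U).hom.FinitePresentation := by
    rw [Scheme.Hom.app_eq_appLE]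
    exact HasRingHomProperty.appLE @LocallyOfFinitePresentation π inferInstance ⟨U, hU⟩ ⟨_, hπU⟩ le_rfl
  letI := (π.app U).hom.toAlgebra
  haveI : Module.Finite Γ(Y, U) Γ(X, π ⁻¹ᵁ U) := hfin
  haveI : Module.Flat Γ(Y, U) Γ(X, π ⁻¹ᵁ U) := hflat
  haveI : Algebra.FinitePresentation Γ(Y, U) Γ(X, π ⁻¹ᵁ U) := hfp
  obtain ⟨r, x, hr, h1, h2⟩ := exists_basisAway (A := Γ(Y, U)) (B := Γ(X, π ⁻¹ᵁ U)) (hU.primeIdealOf ⟨y, hyU'⟩)
  have hx : IsBasisAway r x := ⟨h1, h2⟩
  have hy : y ∈ Y.basicOpen r := by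
    have h : hU.primeIdealOf ⟨y, hyU'⟩ ∈ hU.fromSpec ⁻¹ᵁ Y.basicOpen r := by
      rw [hU.fromSpec_preimage_basicOpen]; exact hr
    have h' : hU.fromSpec (hU.primeIdealOf ⟨y, hyU'⟩) ∈ Y.basicOpen r := h
    rwa [hU.fromSpec_primeIdealOf] at h'
  refine ⟨Y.basicOpen r, _, _, hy, ?_, hx.isGoodBasis hU⟩
  have H2 : IsPullback hπU.fromSpec (Spec.map (π.app U)) π hU.fromSpec := by
    refine (IsOpenImmersion.isPullback _ _ _ _ ?_ ?_).flip
    · rw [← IsAffineOpen.SpecMap_appLE_fromSpec π hU hπU le_rfl, Scheme.Hom.app_eq_appLE]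
    · rw [IsAffineOpen.opensRange_fromSpec, IsAffineOpen.opensRange_fromSpec]
  have h3 := Scheme.Hom.finrank_of_isPullback _ _ _ _ H2 (hU.primeIdealOf ⟨y, hyU'⟩)
  rw [hU.fromSpec_primeIdealOf, Scheme.Hom.finrank_SpecMap_eq_finrank hfin hflat] at h3
  exact h3

theorem hasNorm_of_isFinLocFreeOfDeg {d : ℕ} (hd : 1 ≤ d) (h : Mor2.IsFinLocFreeOfDeg d π) :
    Nrm.HasNorm π d := by
  obtain ⟨⟨h1, h2, h3⟩, hdeg⟩ := h
  refine hasNorm_of_goodBases d hd fun y => ?_
  obtain ⟨W, n, c, hy, hn, hc⟩ := exists_goodBasis_of_flat (π := π) y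
  exact ⟨W, n, c, hy, by rw [hn, hdeg]; exact hd, by rw [hn, hdeg], hc⟩

end Groth.L18.NormFree
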