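import Groth.Agent.L19.Approx.IdealExt
import Groth.Agent.L18.TildeFunctor
import Groth.Agent.L16.QcqsPush
import Groth.Agent.L16.CohClosedPush
import Groth.Agent.L18.AmpleGG
import Groth.Prelude.Def_ClSub2
import Groth.Prelude.Def_BlowUp2

/-!
The module of a quasi-coherent ideal; quasi-compact opens as complements of finite type ideals.
-/

set_option autoImplicit false
set_option backward.isDefEq.respectTransparency false
universe u

open CategoryTheory CategoryTheory.Limits AlgebraicGeometry TopologicalSpace Opposite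

noncomputable section

namespace Groth.L18.IdealModule

open Groth.L18.Frame (rs ro rs_rs rs_self)

variable {X : Scheme.{u}} (I : X.IdealSheafData)

/-- Kernels of maps of quasi-coherent modules are quasi-coherent. -/
theorem isQCoh_kernel {F G : X.Modules} [Coh.IsQCoh F] [Coh.IsQCoh G] (φ : F ⟶ G) :
    Coh.IsQCoh (kernel φ) := by
  refine Groth.L00.Local.isQCoh_of_tilde_charts _ fun x => ?_
  obtain ⟨_, ⟨U, hU, rfl⟩, hxU, -⟩ :=
    X.isBasis_affineOpens.exists_subset_of_mem_open (Set.mem_univ x) isOpen_univ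
  let j := hU.fromSpec
  obtain ⟨NF, ⟨eF⟩⟩ := Groth.L00.Local.exists_tilde_iso_restrict j F
  obtain ⟨NG, ⟨eG⟩⟩ := Groth.L00.Local.exists_tilde_iso_restrict j G
  obtain ⟨l, hl⟩ := (tilde.functor Γ(X, U)).map_surjective
    (eF.inv ≫ (Scheme.Modules.restrictFunctor j).map φ ≫ eG.hom)
  exact ⟨_, j, inferInstance, kernel l, hU.opensRange_fromSpec.ge hxU,
    ⟨PreservesKernel.iso (Scheme.Modules.restrictFunctor j) φ ≪≫
      kernel.mapIso _ ((tilde.functor _).map l) eF eG (by rw [hl]; simp) ≪≫
      (PreservesKernel.iso (tilde.functor _) l).symm⟩⟩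

theorem exact_sections (V : X.Opens) :
    Function.Injective ((ClSub.idealModι I).app V) ∧
      ∀ a : Γ(X, V), I.subschemeι.app V a = 0 ↔
        ∃ m : Γ(ClSub.idealMod I, V), (show Γ(X, V) from (ClSub.idealModι I).app V m) = a := by
  let φ := ClSub.toSubscheme I
  let E := SheafOfModules.evaluation.{u} X.ringCatSheaf (op V)
  haveI : E.Additive := Functor.additive_of_preserves_binary_products E
  have hE : (ShortComplex.mk (kernel.ι φ) φ (kernel.condition φ)).Exact :=
    ShortComplex.exact_of_f_is_kernel _ (kernelIsKernel φ)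
  let S := (ShortComplex.mk (kernel.ι φ) φ (kernel.condition φ)).map E
  have hk : IsLimit (KernelFork.ofι S.f S.zero) :=
    isLimitForkMapOfIsLimit' E (kernel.condition φ) (kernelIsKernel φ)
  haveI : Mono S.f := mono_of_isLimit_fork hk
  refine ⟨(ModuleCat.mono_iff_injective S.f).1 inferInstance, fun a => ⟨fun ha => ?_, ?_⟩⟩
  · exact (ShortComplex.moduleCat_exact_iff S).1 (ShortComplex.exact_of_f_is_kernel S hk) a ha
  · rintro ⟨m, rfl⟩
    have := congr($(S.zero) m)
    exact this

theorem mem_ideal_iff {V : X.Opens} (hV : IsAffineOpen V) (a : Γ(X, V)) :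
    a ∈ I.ideal ⟨V, hV⟩ ↔
      ∃ m : Γ(ClSub.idealMod I, V), (show Γ(X, V) from (ClSub.idealModι I).app V m) = a := by
  rw [← (exact_sections I V).2, ← I.ker_subschemeι_app ⟨V, hV⟩]
  rfl

instance isQCoh_idealMod : Coh.IsQCoh (ClSub.idealMod I) := by
  haveI : Coh.IsQCoh (Coh.structureModule X) := Groth.L21.Extend.isQCoh_of_isInvertible
    (Groth.L18.Ample.isInvertible_structureModule X)
  haveI : Coh.IsQCoh (Coh.structureModule I.subscheme) := Groth.L21.Extend.isQCoh_of_isInvertible
    (Groth.L18.Ample.isInvertible_structureModule _)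
  haveI : Coh.IsQCoh (ClSub.quotMod I) :=
    Groth.L16.QcqsPush.isQCoh_push (Coh.structureModule I.subscheme) I.subschemeι
  exact isQCoh_kernel (ClSub.toSubscheme I)

theorem isCoh_idealMod (h : BlowUp.IsFiniteTypeIdeal I) : Coh.IsCoh (ClSub.idealMod I) := by
  refine Groth.L16.CohClosedPush.isCoh_of_finite_sections _ fun x => ?_
  obtain ⟨_, ⟨V, hV, rfl⟩, hxV, -⟩ := X.isBasis_affineOpens.exists_subset_of_mem_open (Set.mem_univ x) isOpen_univ
  refine ⟨V, hxV, hV, ?_⟩
  let f : Γ(ClSub.idealMod I, V) →ₗ[Γ(X, V)] Γ(X, V) :=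
    { toFun := fun m => (ClSub.idealModι I).app V m
      map_add' := fun a b => map_add _ a b
      map_smul' := fun r m => Scheme.Modules.Hom.app_smul (ClSub.idealModι I) r m }
  have hf : Function.Injective f := (exact_sections I V).1
  have hr : LinearMap.range f = I.ideal ⟨V, hV⟩ := by
    ext a
    exact (mem_ideal_iff I hV a).symm
  haveI : Module.Finite Γ(X, V) (I.ideal ⟨V, hV⟩) := Module.Finite.iff_fg.2 (h ⟨V, hV⟩)
  exact Module.Finite.equiv ((LinearEquiv.ofEq _ _ hr).symm.trans (LinearEquiv.ofInjective f hf).symm)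

theorem isCompact_compl_support [CompactSpace X] (h : BlowUp.IsFiniteTypeIdeal I) (U : X.Opens)
    (hU : (I.support : Set X) = (U : Set X)ᶜ) : IsCompact (U : Set X) := by
  classical
  obtain ⟨s, hs, hcov⟩ := Groth.L19.Approx.exists_finite_affineOpens (U := (⊤ : X.Opens)) isCompact_univ
  choose G hG using fun V : X.affineOpens => h V
  have e : (U : Set X) = ⋃ V ∈ s, ⋃ g ∈ G V, (X.basicOpen g : Set X) := by
    ext x
    simp only [Set.mem_iUnion]
    constructor
    · intro hx
      obtain ⟨⟨V, hVs⟩, hxV⟩ := Opens.mem_iSup.1 (hcov.le (Opens.mem_top x))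
      have hns : x ∉ I.support := fun h' => (hU.le h') hx
      rw [I.mem_support_iff_of_mem hxV, ← hG V, Scheme.zeroLocus_span, Scheme.mem_zeroLocus_iff] at hns
      push Not at hns
      obtain ⟨g, hg, hxg⟩ := hns
      exact ⟨V, hVs, g, hg, hxg⟩
    · rintro ⟨V, -, g, hg, hxg⟩
      by_contra hx
      have hs' : x ∈ I.support := hU.ge hx
      rw [I.mem_support_iff_of_mem (X.basicOpen_le g hxg), Scheme.mem_zeroLocus_iff] at hs'
      exact hs' g (hG V ▸ Ideal.subset_span hg) hxg
  rw [e]
  exact hs.isCompact_biUnion fun V _ => (G V).finite_toSet.isCompact_biUnion fun g _ => (V.2.basicOpen g).isCompact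

theorem exists_finiteType_of_isCompact [CompactSpace X] [QuasiSeparatedSpace X] (U : X.Opens)
    (hU : IsCompact (U : Set X)) :
    ∃ I : X.IdealSheafData, BlowUp.IsFiniteTypeIdeal I ∧ (I.support : Set X) = (U : Set X)ᶜ ∧
      ∀ V : X.affineOpens, V.1 ≤ U → I.ideal V = ⊤ := by
  let Z : Closeds X := ⟨(U : Set X)ᶜ, U.2.isClosed_compl⟩
  let L := Scheme.IdealSheafData.vanishingIdeal Z
  have hL : ∀ V : X.affineOpens, V.1 ≤ U → L.ideal V = ⊤ := by
    intro V hV
    rw [Scheme.IdealSheafData.vanishingIdeal_ideal]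
    have : V.2.fromSpec ⁻¹' (Z : Set X) = ∅ := by
      ext p
      refine ⟨fun hp => hp (hV ?_), False.elim⟩
      exact V.2.opensRange_fromSpec.le ⟨p, rfl⟩
    rw [this, PrimeSpectrum.vanishingIdeal_empty]
  obtain ⟨K, hKL, hfg, heq⟩ := Groth.L19.Approx.exists_fgOn_top L hU fun V hV => by
    rw [hL V hV]; exact Module.Finite.fg_top
  refine ⟨K, fun V => hfg V le_top, subset_antisymm (fun x hx hxU => ?_) ?_, fun V hV => (heq V hV).trans (hL V hV)⟩
  · obtain ⟨V, hxV⟩ := Opens.mem_iSup.1 (Groth.L19.Approx.le_iSup_affineOpens U hxU)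
    have h1 := (K.mem_support_iff_of_mem hxV).1 hx
    rw [heq V.1 V.2, hL V.1 V.2, Scheme.mem_zeroLocus_iff] at h1
    exact h1 1 Submodule.mem_top (by rw [Scheme.basicOpen_of_isUnit _ isUnit_one]; exact hxV)
  · exact (Scheme.IdealSheafData.le_support_iff_le_vanishingIdeal (Z := Z)).2 hKL

end Groth.L18.IdealModule
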