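import Groth.Agent.L00.TensorRestrict
import Groth.Agent.L18.Frame

/-!
Morphisms of `O_X`-modules which are bijective on small opens; adjuncts of presheaf morphisms which
are bijective on small opens.
-/

set_option autoImplicit false
universe u

open CategoryTheory MonoidalCategory AlgebraicGeometry TopologicalSpace Opposite
open Groth.L00 Groth.L00.Tensor

noncomputable section

namespace Groth.L18.IsoCover

variable {X : Scheme.{u}}

open Groth.L18.Frame (rs)

lemma app_rs' {M N : X.Modules} (φ : M ⟶ N) {U V : X.Opens} (h : V ≤ U) (s : Γ(M, U)) :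
    φ.app V (rs M h s) = rs N h (φ.app U s) :=
  congr($(φ.mapPresheaf.naturality (homOfLE h).op) s)

/-- A morphism bijective on all opens inside the members of a cover is an isomorphism. -/
theorem isIso_of_bijective {M N : X.Modules} (φ : M ⟶ N) {ι : Type*} (W : ι → X.Opens) (hW : ∀ x, ∃ k, x ∈ W k)
    (h : ∀ k (V : X.Opens), V ≤ W k → Function.Bijective (φ.app V)) : IsIso φ := by
  refine Scheme.Modules.Hom.isIso_iff_isIso_app.2 fun U => (ConcreteCategory.isIso_iff_bijective _).2 ?_
  have hc : U ≤ ⨆ k, U ⊓ W k := fun x hx => by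
    obtain ⟨k, hk⟩ := hW x
    exact Opens.mem_iSup.mpr ⟨k, hx, hk⟩
  let OM : TopCat.Sheaf Ab.{u} X.toTopCat := ⟨M.presheaf, M.isSheaf⟩
  let ON : TopCat.Sheaf Ab.{u} X.toTopCat := ⟨N.presheaf, N.isSheaf⟩
  refine ⟨fun a b hab => ?_, fun t => ?_⟩
  · refine OM.eq_of_locally_eq' (fun k => U ⊓ W k) U (fun k => homOfLE inf_le_left) hc a b fun k => ?_
    show rs M inf_le_left a = rs M inf_le_left b
    refine (h k (U ⊓ W k) inf_le_right).1 ?_
    rw [app_rs', app_rs', hab]
  · choose a ha using fun k => (h k (U ⊓ W k) inf_le_right).2 (rs N (inf_le_left : U ⊓ W k ≤ U) t)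
    obtain ⟨s, hs, -⟩ := OM.existsUnique_gluing' (fun k => U ⊓ W k) U (fun k => homOfLE inf_le_left) hc a fun k l => by
      show rs M inf_le_left (a k) = rs M inf_le_right (a l)
      refine (h k _ (inf_le_left.trans inf_le_right)).1 ?_
      rw [app_rs', app_rs', ha, ha, Frame.rs_rs, Frame.rs_rs]
    refine ⟨s, ON.eq_of_locally_eq' (fun k => U ⊓ W k) U (fun k => homOfLE inf_le_left) hc _ t fun k => ?_⟩
    show rs N inf_le_left (φ.app U s) = rs N inf_le_left t
    rw [← app_rs', show rs M (inf_le_left : U ⊓ W k ≤ U) s = a k from hs k, ha k]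

/-- The adjunct of a morphism of presheaves. -/
def adjunct {P : PX X} {M : X.Modules} (μ : P ⟶ pre M) : (shf X).obj P ⟶ M :=
  (shf X).map μ ≫ (counitIso M).hom

lemma unit_adjunct {P : PX X} {M : X.Modules} (μ : P ⟶ pre M) :
    Tensor.unit P ≫ (preF X).map (adjunct μ) = μ := by
  let adj := PresheafOfModules.sheafificationAdjunction (𝟙 X.ringCatSheaf.obj)
  have h : adj.unit.app P ≫ (preF X).map ((adj.homEquiv P M).symm μ) = μ :=
    (adj.homEquiv_unit P M _).symm.trans ((adj.homEquiv P M).apply_symm_apply μ)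
  have e : adjunct μ = (adj.homEquiv P M).symm μ := (adj.homEquiv_counit P M μ).symm
  rw [e]
  exact h

lemma adjunct_unit_apply {P : PX X} {M : X.Modules} (μ : P ⟶ pre M) (V : X.Opens) (p : P.obj (op V)) :
    (adjunct μ).app V ((Tensor.unit P).app (op V) p) = μ.app (op V) p :=
  congrArg (fun ψ : P ⟶ pre M => ψ.app (op V) p) (unit_adjunct μ)

theorem adjunct_bijective {P : PX X} {M : X.Modules} (μ : P ⟶ pre M) (V : X.Opens)
    (hμ : ∀ V' : X.Opens, V' ≤ V → Function.Bijective (μ.app (op V'))) :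
    Function.Bijective ((adjunct μ).app V) := by
  refine ⟨fun z z' hzz' => ?_, fun y => ?_⟩
  · haveI := unit_locallySurjective P
    obtain ⟨S, hS, hS'⟩ := exists_local (J := Opens.grothendieckTopology X) (Tensor.unit P) (U := op V) z
    obtain ⟨S₂, hS₂, hS₂'⟩ := exists_local (J := Opens.grothendieckTopology X) (Tensor.unit P) (U := op V) z'
    choose W i hi hxW using fun x : V => hS x.1 x.2
    choose W₂ i₂ hi₂ hxW₂ using fun x : V => hS₂ x.1 x.2
    let F : TopCat.Sheaf Ab.{u} X.toTopCat := ⟨((shf X).obj P).presheaf, ((shf X).obj P).isSheaf⟩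
    refine F.eq_of_locally_eq' (fun x : V => W x ⊓ W₂ x) V (fun x => homOfLE (inf_le_left.trans (i x).le))
      (fun x hx => Opens.mem_iSup.mpr ⟨⟨x, hx⟩, hxW _, hxW₂ _⟩) z z' fun x => ?_
    obtain ⟨p, hp⟩ := hS' (i x) (hi x)
    obtain ⟨p', hp'⟩ := hS₂' (i₂ x) (hi₂ x)
    show rs ((shf X).obj P) (inf_le_left.trans (i x).le) z = rs ((shf X).obj P) (inf_le_left.trans (i x).le) z'
    have e : rs ((shf X).obj P) (inf_le_left.trans (i x).le) z =
        (Tensor.unit P).app (op (W x ⊓ W₂ x)) (Groth.L00.Tensor.rs P (homOfLE inf_le_left).op p) := by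
      rw [Tensor.app_rs, hp]
      exact (Tensor.rs_comp (pre ((shf X).obj P)) (i x).op (homOfLE inf_le_left).op z).symm
    have e' : rs ((shf X).obj P) (inf_le_left.trans (i x).le) z' =
        (Tensor.unit P).app (op (W x ⊓ W₂ x)) (Groth.L00.Tensor.rs P (homOfLE inf_le_right).op p') := by
      rw [Tensor.app_rs, hp']
      exact (Tensor.rs_comp (pre ((shf X).obj P)) (i₂ x).op (homOfLE inf_le_right).op z').symm
    rw [e, e']
    congr 1
    refine (hμ _ (inf_le_left.trans (i x).le)).1 ?_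
    rw [← adjunct_unit_apply μ, ← adjunct_unit_apply μ, ← e, ← e', app_rs', app_rs', hzz']
  · obtain ⟨p, hp⟩ := (hμ V le_rfl).2 y
    exact ⟨(Tensor.unit P).app (op V) p, (adjunct_unit_apply μ V p).trans hp⟩

end Groth.L18.IsoCover
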