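import Mathlib.AlgebraicGeometry.FunctionField
import Mathlib.AlgebraicGeometry.ValuativeCriterion
import Mathlib.AlgebraicGeometry.Morphisms.SchemeTheoreticallyDominant
import Mathlib.RingTheory.LocalRing.LocalSubring
import Mathlib.Topology.NoetherianSpace

/-!
Local rings of an integral scheme as subrings of the function field: domination and separatedness.
-/

noncomputable section

namespace Groth.L18

open CategoryTheory AlgebraicGeometry Limits TopologicalSpace IsLocalRing

universe u

section Field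

variable {K : Type u} [Field K]

theorem range_le_iff {S : Type u} [CommRing S] [IsLocalRing S] (f : S →+* K) (Q : LocalSubring K) :
    LocalSubring.range f ≤ Q ↔
      ∃ h : ∀ a, f a ∈ Q.toSubring, ∀ a, IsUnit (⟨f a, h a⟩ : Q.toSubring) → IsUnit a ∨
        ∃ b, IsUnit b ∧ f b = f a := by
  constructor
  · rintro ⟨h, hl⟩
    refine ⟨fun a => h ⟨a, rfl⟩, fun a ha => Or.inr ?_⟩
    obtain ⟨⟨_, b, rfl⟩, hb⟩ := (hl.map_nonunit ⟨f a, a, rfl⟩ ha).exists_right_inv
    have hb' : f a * f b = 1 := congrArg Subtype.val hb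
    rw [← map_mul, ← map_one f] at hb'
    by_cases hu : IsUnit a
    · exact ⟨a, hu, rfl⟩
    · have hnu : ¬ IsUnit (a * b) := fun h => hu (IsUnit.of_mul_eq_one _ h.mul_val_inv |> fun _ =>
        isUnit_of_mul_isUnit_left h)
      have h1 : IsUnit (1 - a * b) := (isUnit_or_isUnit_one_sub_self (a * b)).resolve_left hnu
      have h0 := h1.map f
      rw [map_sub, hb', sub_self] at h0
      exact absurd h0 not_isUnit_zero
  · rintro ⟨h, hu⟩
    refine ⟨?_, ⟨?_⟩⟩
    · rintro _ ⟨a, rfl⟩; exact h a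
    · rintro ⟨_, a, rfl⟩ ha
      obtain ⟨b, hb, hba⟩ : ∃ b, IsUnit b ∧ f b = f a := (hu a ha).elim (fun h => ⟨a, h, rfl⟩) id
      have hr := hb.map f.rangeRestrict
      exact (show f.rangeRestrict b = ⟨f a, a, rfl⟩ from Subtype.ext hba) ▸ hr

theorem ofPrime_le_iff (A : Subring K) (P : Ideal A) [P.IsPrime] (M : LocalSubring K) :
    LocalSubring.ofPrime A P ≤ M ↔
      ∃ h : A ≤ M.toSubring, P = (maximalIdeal M.toSubring).comap (Subring.inclusion h) := by
  constructor
  · rintro ⟨h, hl⟩
    refine ⟨(LocalSubring.le_ofPrime A P).trans h, ?_⟩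
    ext a
    rw [Ideal.mem_comap, mem_maximalIdeal, mem_nonunits_iff,
      ← IsLocalization.AtPrime.to_map_mem_maximal_iff (LocalSubring.ofPrime A P).toSubring P,
      mem_maximalIdeal, mem_nonunits_iff, not_iff_not]
    refine ⟨fun hu => ?_, fun hu => hl.map_nonunit _ hu⟩
    exact hu.map (Subring.inclusion h)
  · rintro ⟨h, hP⟩
    have key : ∀ z : (LocalSubring.ofPrime A P).toSubring, ∃ a s : A, s ∉ P ∧
        (z : K) * (s : K) = (a : K) := by
      intro z
      obtain ⟨a, s, hz⟩ := IsLocalization.exists_mk'_eq P.primeCompl z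
      have := congrArg Subtype.val (IsLocalization.mk'_spec (LocalSubring.ofPrime A P).toSubring a s)
      rw [hz] at this
      exact ⟨a, s, s.2, this⟩
    have hunit : ∀ s : A, s ∉ P → IsUnit (Subring.inclusion h s) := by
      intro s hs
      rw [hP, Ideal.mem_comap, mem_maximalIdeal, mem_nonunits_iff, not_not] at hs
      exact hs
    have hle : (LocalSubring.ofPrime A P).toSubring ≤ M.toSubring := by
      intro z hz
      obtain ⟨a, s, hs, e⟩ := key ⟨z, hz⟩
      obtain ⟨w, hw⟩ := (hunit s hs).exists_right_inv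
      have hw' : (s : K) * (w : K) = 1 := congrArg Subtype.val hw
      have : z = (a : K) * w := by rw [← e, mul_assoc, hw', mul_one]
      rw [this]
      exact mul_mem (h a.2) w.2
    refine ⟨hle, ⟨fun z hz => ?_⟩⟩
    obtain ⟨a, s, hs, e⟩ := key z
    have hau : IsUnit (Subring.inclusion h a) := by
      have : Subring.inclusion h a = Subring.inclusion hle z * Subring.inclusion h s := Subtype.ext e.symm
      rw [this]
      exact hz.mul (hunit s hs)
    have haP : a ∉ P := by
      rw [hP, Ideal.mem_comap, mem_maximalIdeal, mem_nonunits_iff, not_not]; exact hau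
    have hz' : z * algebraMap A (LocalSubring.ofPrime A P).toSubring s = algebraMap A _ a :=
      Subtype.ext e
    exact isUnit_of_mul_isUnit_left (hz' ▸ IsLocalization.map_units
      (LocalSubring.ofPrime A P).toSubring (⟨a, haP⟩ : P.primeCompl))

theorem exists_ofPrime_le_iff (A : Subring K) (M : LocalSubring K) :
    ((∃ (P : Ideal A) (_ : P.IsPrime), LocalSubring.ofPrime A P ≤ M) ↔ A ≤ M.toSubring) ∧
      ∀ (P : Ideal A) [P.IsPrime] (hA : A ≤ M.toSubring),
        LocalSubring.ofPrime A P ≤ M →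
          P = (maximalIdeal M.toSubring).comap (Subring.inclusion hA) := by
  refine ⟨⟨?_, fun h => ?_⟩, fun P _ hA hle => ((ofPrime_le_iff A P M).mp hle).choose_spec⟩
  · rintro ⟨P, _, hle⟩
    exact ((ofPrime_le_iff A P M).mp hle).choose
  · exact ⟨_, inferInstance, (ofPrime_le_iff A _ M).mpr ⟨h, rfl⟩⟩

theorem exists_dominating_both_iff (M N : LocalSubring K) :
    (∃ Q : LocalSubring K, M ≤ Q ∧ N ≤ Q) ↔
      Ideal.span ((Subring.inclusion (le_sup_left : M.toSubring ≤ M.toSubring ⊔ N.toSubring)) ''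
            (maximalIdeal M.toSubring : Set M.toSubring) ∪
          (Subring.inclusion (le_sup_right : N.toSubring ≤ M.toSubring ⊔ N.toSubring)) ''
            (maximalIdeal N.toSubring : Set N.toSubring)) ≠ (⊤ : Ideal ↥(M.toSubring ⊔ N.toSubring)) := by
  constructor
  · rintro ⟨Q, ⟨hM, hMl⟩, ⟨hN, hNl⟩⟩
    refine ne_top_of_le_ne_top
      (Ideal.comap_ne_top (Subring.inclusion (sup_le hM hN)) (maximalIdeal.isMaximal Q.toSubring).ne_top) ?_
    rw [Ideal.span_le]
    rintro _ (⟨m, hm, rfl⟩ | ⟨m, hm, rfl⟩)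
    · exact fun hu => hm (hMl.map_nonunit m hu)
    · exact fun hu => hm (hNl.map_nonunit m hu)
  · intro h
    obtain ⟨P, hP, hle⟩ := Ideal.exists_le_maximal _ h
    refine ⟨LocalSubring.ofPrime _ P, ⟨le_sup_left.trans (LocalSubring.le_ofPrime _ P), ⟨fun m hm => ?_⟩⟩,
      ⟨le_sup_right.trans (LocalSubring.le_ofPrime _ P), ⟨fun m hm => ?_⟩⟩⟩
    all_goals by_contra hmu
    · have : Subring.inclusion (le_sup_left : M.toSubring ≤ M.toSubring ⊔ N.toSubring) m ∈ P :=
        hle (Ideal.subset_span (Or.inl ⟨m, hmu, rfl⟩))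
      exact (IsLocalization.AtPrime.to_map_mem_maximal_iff (LocalSubring.ofPrime _ P).toSubring P _).mpr
        this hm
    · have : Subring.inclusion (le_sup_right : N.toSubring ≤ M.toSubring ⊔ N.toSubring) m ∈ P :=
        hle (Ideal.subset_span (Or.inr ⟨m, hmu, rfl⟩))
      exact (IsLocalization.AtPrime.to_map_mem_maximal_iff (LocalSubring.ofPrime _ P).toSubring P _).mpr
        this hm

end Field

section Scheme

variable (X : Scheme.{u}) [IsIntegral X]

/-- The local ring at `x` inside the function field. -/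
abbrev localRing (x : X) : LocalSubring X.functionField :=
  LocalSubring.range (algebraMap (X.presheaf.stalk x) X.functionField)

variable {X}

theorem localRing_le_iff (x : X) (Q : LocalSubring X.functionField) :
    localRing X x ≤ Q ↔ ∃ h : ∀ a, algebraMap (X.presheaf.stalk x) X.functionField a ∈ Q.toSubring,
      ∀ a, IsUnit (⟨_, h a⟩ : Q.toSubring) → IsUnit a := by
  rw [range_le_iff]
  refine exists_congr fun h => forall_congr' fun a => imp_congr_right fun _ => ⟨?_, Or.inl⟩
  rintro (ha | ⟨b, hb, hba⟩)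
  · exact ha
  · exact IsFractionRing.injective (X.presheaf.stalk x) X.functionField hba ▸ hb

theorem eq_of_localRing_le [X.IsSeparated] {x y : X} {Q : LocalSubring X.functionField}
    (hx : localRing X x ≤ Q) (hy : localRing X y ≤ Q) : x = y := by
  let φ : ∀ z : X, localRing X z ≤ Q → (X.presheaf.stalk z →+* Q.toSubring) := fun z hz =>
    (algebraMap (X.presheaf.stalk z) X.functionField).codRestrict Q.toSubring
      ((localRing_le_iff z Q).mp hz).choose
  let g : ∀ z : X, localRing X z ≤ Q → (Spec (CommRingCat.of Q.toSubring) ⟶ X) := fun z hz =>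
    Spec.map (CommRingCat.ofHom (φ z hz)) ≫ X.fromSpecStalk z
  let ι : Spec X.functionField ⟶ Spec (CommRingCat.of Q.toSubring) :=
    Spec.map (CommRingCat.ofHom Q.toSubring.subtype)
  have hgen : ∀ z hz, ι ≫ g z hz = X.fromSpecStalk (genericPoint X) := by
    intro z hz
    rw [← Scheme.SpecMap_stalkSpecializes_fromSpecStalk
      (show genericPoint X ⤳ z from (genericPoint_spec X).specializes trivial)]
    simp only [g, ι, ← Category.assoc]
    congr 1
    exact (Spec.map_comp _ _).symm
  have hdom : IsDominant ι := by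
    constructor
    exact (PrimeSpectrum.denseRange_comap_iff_ker_le_nilRadical Q.toSubring.subtype).mpr
      (by rw [(RingHom.injective_iff_ker_eq_bot _).mp Subtype.val_injective]; exact bot_le)
  have he : g x hx = g y hy :=
    ext_of_isDominant (ι := ι) ((hgen x hx).trans (hgen y hy).symm)
  have hcl : ∀ z hz, g z hz (closedPoint Q.toSubring) = z := by
    intro z hz
    have : IsLocalHom (φ z hz) := ⟨fun a ha => ((localRing_le_iff z Q).mp hz).choose_spec a ha⟩
    have h' : IsLocalHom (CommRingCat.ofHom (φ z hz)).hom := this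
    show X.fromSpecStalk z (Spec.map (CommRingCat.ofHom (φ z hz)) (closedPoint Q.toSubring)) = z
    erw [Spec_closedPoint]
    exact X.fromSpecStalk_closedPoint
  rw [← hcl x hx, ← hcl y hy, he]

theorem exists_localRing_le_of_le {U : X.Opens} (hU : IsAffineOpen U) [Nonempty U]
    (Q : LocalSubring X.functionField)
    (h : (X.germToFunctionField U).hom.range ≤ Q.toSubring) :
    localRing X (hU.fromSpec
      ⟨(maximalIdeal Q.toSubring).comap ((X.germToFunctionField U).hom.codRestrict Q.toSubring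
        fun a => h ⟨a, rfl⟩), inferInstance⟩) ≤ Q := by
  set ψ := (X.germToFunctionField U).hom.codRestrict Q.toSubring fun a => h ⟨a, rfl⟩
  set p : PrimeSpectrum Γ(X, U) := ⟨(maximalIdeal Q.toSubring).comap ψ, inferInstance⟩
  set x := hU.fromSpec p
  have hxU : x ∈ U := hU.range_fromSpec.le ⟨p, rfl⟩
  let _ := (X.presheaf.germ U x hxU).hom.toAlgebra
  have : IsLocalization.AtPrime (X.presheaf.stalk x) p.asIdeal :=
    hU.isLocalization_stalk' p hxU
  have key : ∀ s : p.asIdeal.primeCompl, IsUnit (ψ s) := by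
    intro s
    by_contra hs
    exact s.2 hs
  let φ : X.presheaf.stalk x →+* Q.toSubring :=
    IsLocalization.lift (S := X.presheaf.stalk x) key
  have hφ : ∀ a, (φ a : X.functionField) = algebraMap (X.presheaf.stalk x) X.functionField a := by
    suffices Q.toSubring.subtype.comp φ = algebraMap (X.presheaf.stalk x) X.functionField from
      fun a => congr($this a)
    refine IsLocalization.ringHom_ext p.asIdeal.primeCompl ?_
    rw [RingHom.comp_assoc, IsLocalization.lift_comp]
    ext a
    exact (Scheme.algebraMap_germ_eq_germToFunctionField X hxU a).symm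
  refine (localRing_le_iff x Q).mpr ⟨fun a => hφ a ▸ (φ a).2, fun a ha => ?_⟩
  rw [show (⟨algebraMap (X.presheaf.stalk x) X.functionField a, _⟩ : Q.toSubring) = φ a from
    Subtype.ext (hφ a).symm] at ha
  obtain ⟨b, s, rfl⟩ := IsLocalization.exists_mk'_eq p.asIdeal.primeCompl a
  have hb : IsUnit (ψ b) := by
    have := ha.mul (key s)
    rwa [← IsLocalization.lift_eq (S := X.presheaf.stalk x) key (s : Γ(X, U)), ← map_mul,
      IsLocalization.mk'_spec, IsLocalization.lift_eq] at this
  have hbp : b ∈ p.asIdeal.primeCompl := fun hmem => hmem hb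
  exact isUnit_of_mul_isUnit_left ((IsLocalization.mk'_spec (X.presheaf.stalk x) b s).symm ▸
    IsLocalization.map_units (X.presheaf.stalk x) (⟨b, hbp⟩ : p.asIdeal.primeCompl))

set_option maxHeartbeats 1000000 in
theorem isCompact_inter_of_forall
    (H : ∀ (x y : X) (Q : LocalSubring X.functionField),
      localRing X x ≤ Q → localRing X y ≤ Q → x = y)
    (U V : X.affineOpens) : IsCompact ((U : Set X) ∩ (V : Set X)) := by
  rcases ((U : Set X) ∩ (V : Set X)).eq_empty_or_nonempty with he | ⟨w₀, hw₀⟩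
  · rw [he]; exact isCompact_empty
  have : Nonempty (U : X.Opens) := ⟨⟨w₀, hw₀.1⟩⟩
  have : Nonempty (V : X.Opens) := ⟨⟨w₀, hw₀.2⟩⟩
  set C := (X.germToFunctionField (U : X.Opens)).hom.range ⊔ (X.germToFunctionField (V : X.Opens)).hom.range
  let ψ : Γ(X, (U : X.Opens)) →+* C :=
    (X.germToFunctionField (U : X.Opens)).hom.codRestrict C fun a =>
      (le_sup_left : (X.germToFunctionField (U : X.Opens)).hom.range ≤ C) ⟨a, rfl⟩
  let h : PrimeSpectrum C → X := fun r => U.2.fromSpec (PrimeSpectrum.comap ψ r)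
  have hcont : Continuous h := U.2.fromSpec.continuous.comp (PrimeSpectrum.continuous_comap ψ)
  have key : ∀ (Q : LocalSubring X.functionField) (hQ : C ≤ Q.toSubring) (r : PrimeSpectrum C),
      r.asIdeal = (maximalIdeal Q.toSubring).comap (Subring.inclusion hQ) →
        localRing X (h r) ≤ Q := by
    intro Q hQ r hr
    have := exists_localRing_le_of_le U.2 Q (le_sup_left.trans hQ)
    refine le_of_eq_of_le ?_ this
    congr 2
    simp only [h]
    congr 1
    apply PrimeSpectrum.ext
    show r.asIdeal.comap ψ = _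
    rw [hr, Ideal.comap_comap]
    rfl
  have : Set.range h = (U : Set X) ∩ (V : Set X) := by
    apply Set.Subset.antisymm
    · rintro _ ⟨r, rfl⟩
      refine ⟨U.2.range_fromSpec.le ⟨_, rfl⟩, ?_⟩
      obtain ⟨hQ, hr⟩ := (ofPrime_le_iff C r.asIdeal _).mp le_rfl
      have h1 := key _ hQ r hr
      have h2 := exists_localRing_le_of_le V.2 _ (le_sup_right.trans hQ)
      rw [H _ _ _ h1 h2]
      exact V.2.range_fromSpec.le ⟨_, rfl⟩
    · rintro w ⟨hwU, hwV⟩
      have hC : C ≤ (localRing X w).toSubring := by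
        refine sup_le ?_ ?_ <;> rintro _ ⟨a, rfl⟩
        · exact ⟨X.presheaf.germ _ w hwU a, Scheme.algebraMap_germ_eq_germToFunctionField X hwU a⟩
        · exact ⟨X.presheaf.germ _ w hwV a, Scheme.algebraMap_germ_eq_germToFunctionField X hwV a⟩
      exact ⟨⟨(maximalIdeal (localRing X w).toSubring).comap (Subring.inclusion hC), inferInstance⟩,
        H _ _ _ (key _ hC _ rfl) le_rfl⟩
  rw [← this]
  exact isCompact_range hcont

theorem isSeparated_of_forall
    (H : ∀ (x y : X) (Q : LocalSubring X.functionField),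
      localRing X x ≤ Q → localRing X y ≤ Q → x = y) : X.IsSeparated := by
  constructor
  have : QuasiSeparatedSpace X :=
    quasiSeparatedSpace_iff_forall_affineOpens.mpr (isCompact_inter_of_forall H)
  have : QuasiSeparated (terminal.from X) :=
    (quasiSeparatedSpace_iff_quasiSeparated X).mp inferInstance
  refine IsSeparated.of_valuativeCriterion _ fun S => ⟨?_⟩
  rintro ⟨l₁, hl₁, hl₁'⟩ ⟨l₂, hl₂, hl₂'⟩
  ext : 1
  dsimp only at *
  set z := S.i₁ (closedPoint S.K) with hz
  set ψ := Scheme.stalkClosedPointTo S.i₁ with hψ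
  have hfac : ∀ l : Spec (CommRingCat.of S.R) ⟶ X,
      Spec.map (CommRingCat.ofHom (algebraMap S.R S.K)) ≫ l = S.i₁ →
      ∃ hzx : z ⤳ l (closedPoint S.R), Scheme.stalkClosedPointTo l ≫
        CommRingCat.ofHom (algebraMap S.R S.K) = X.presheaf.stalkSpecializes hzx ≫ ψ := by
    intro l hl
    have hsp : z ⤳ l (closedPoint S.R) := by
      rw [hz, ← hl]
      exact (specializes_closedPoint _).map l.continuous
    refine ⟨hsp, Spec.map_injective ?_⟩
    rw [← cancel_mono (X.fromSpecStalk (l (closedPoint S.R))), Spec.map_comp, Category.assoc,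
      Scheme.Spec_stalkClosedPointTo_fromSpecStalk, hl, Spec.map_comp, Category.assoc,
      Scheme.SpecMap_stalkSpecializes_fromSpecStalk, hψ, Scheme.Spec_stalkClosedPointTo_fromSpecStalk]
  obtain ⟨h₁, e₁⟩ := hfac l₁ hl₁
  obtain ⟨h₂, e₂⟩ := hfac l₂ hl₂
  let Q₀ : Subring (X.presheaf.stalk z) := (algebraMap S.R S.K).range.comap ψ.hom
  have hinjR : Function.Injective (algebraMap S.R S.K) := IsFractionRing.injective S.R S.K
  have hu : ∀ (a : Q₀) (r : S.R), algebraMap S.R S.K r = ψ.hom a → IsUnit r → IsUnit a := by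
    intro a r hr hru
    have : IsUnit (ψ.hom a) := hr ▸ hru.map _
    obtain ⟨u, hau⟩ := isUnit_of_map_unit ψ.hom _ this
    have hi : ((u⁻¹ : (X.presheaf.stalk z)ˣ) : X.presheaf.stalk z) ∈ Q₀ := by
      refine ⟨(hru.unit⁻¹ : S.Rˣ), ?_⟩
      have e1 : algebraMap S.R S.K ((hru.unit⁻¹ : S.Rˣ) : S.R) * ψ.hom a = 1 := by
        rw [← hr, ← map_mul, IsUnit.val_inv_mul, map_one]
      have e2 : ψ.hom ((u⁻¹ : (X.presheaf.stalk z)ˣ) : X.presheaf.stalk z) * ψ.hom a = 1 := by
        rw [← map_mul, ← hau, Units.inv_mul, map_one]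
      exact mul_right_cancel₀ (right_ne_zero_of_mul_eq_one e1) (e1.trans e2.symm)
    exact IsUnit.of_mul_eq_one ⟨_, hi⟩ (Subtype.ext (by simp [← hau]))
  have : IsLocalRing Q₀ := by
    refine .of_isUnit_or_isUnit_of_isUnit_add fun {a b} hab => ?_
    obtain ⟨ra, hra⟩ := a.2
    obtain ⟨rb, hrb⟩ := b.2
    obtain ⟨⟨c, rc, hrc⟩, hc⟩ := hab.exists_right_inv
    have hsum : IsUnit (ra + rb) := by
      refine IsUnit.of_mul_eq_one rc (hinjR ?_)
      rw [map_mul, map_add, hra, hrb, hrc, map_one, ← map_add, ← map_mul]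
      exact (congrArg ψ.hom (congrArg Subtype.val hc)).trans (map_one _)
    exact (isUnit_or_isUnit_of_isUnit_add hsum).imp (hu a ra hra) (hu b rb hrb)
  let Q : LocalSubring X.functionField :=
    LocalSubring.map (algebraMap (X.presheaf.stalk z) X.functionField) (LocalSubring.mk Q₀)
  have hle : ∀ (l : Spec (CommRingCat.of S.R) ⟶ X) (h : z ⤳ l (closedPoint S.R)),
      Scheme.stalkClosedPointTo l ≫ CommRingCat.ofHom (algebraMap S.R S.K) =
        X.presheaf.stalkSpecializes h ≫ ψ →
      localRing X (l (closedPoint S.R)) ≤ Q := by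
    intro l h e
    have hal : ∀ a, algebraMap (X.presheaf.stalk (l (closedPoint S.R))) X.functionField a =
        algebraMap (X.presheaf.stalk z) X.functionField ((X.presheaf.stalkSpecializes h).hom a) :=
      fun a => (TopCat.Presheaf.stalkSpecializes_comp_apply _ _ _ a).symm
    refine (localRing_le_iff _ Q).mpr ⟨fun a => ?_, fun a ha => ?_⟩
    · rw [hal]
      exact ⟨_, ⟨(Scheme.stalkClosedPointTo l).hom a, congr($e a)⟩, rfl⟩
    · obtain ⟨⟨_, c, ⟨rc, hrc⟩, rfl⟩, hc⟩ := ha.exists_right_inv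
      have hc' := congrArg Subtype.val hc
      have hc'' : (X.presheaf.stalkSpecializes h).hom a * c = 1 :=
        IsFractionRing.injective (X.presheaf.stalk z) X.functionField
          (by rw [map_mul, map_one, ← hal]; exact hc')
      have : IsUnit ((Scheme.stalkClosedPointTo l).hom a) := by
        refine IsUnit.of_mul_eq_one rc (hinjR ?_)
        rw [map_mul, hrc, map_one, ← map_one ψ.hom, ← hc'', map_mul]
        exact congrArg (· * ψ.hom c) congr($e a)
      exact isUnit_of_map_unit (Scheme.stalkClosedPointTo l).hom _ this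
  have hxy : l₁ (closedPoint S.R) = l₂ (closedPoint S.R) :=
    H _ _ _ (hle l₁ h₁ e₁) (hle l₂ h₂ e₂)
  have : ∀ (x₁ x₂ : X) (hx : x₁ = x₂) (φ₁ : X.presheaf.stalk x₁ ⟶ CommRingCat.of S.R)
      (φ₂ : X.presheaf.stalk x₂ ⟶ CommRingCat.of S.R) (g₁ : z ⤳ x₁) (g₂ : z ⤳ x₂),
      φ₁ ≫ CommRingCat.ofHom (algebraMap S.R S.K) = X.presheaf.stalkSpecializes g₁ ≫ ψ →
      φ₂ ≫ CommRingCat.ofHom (algebraMap S.R S.K) = X.presheaf.stalkSpecializes g₂ ≫ ψ →
      Spec.map φ₁ ≫ X.fromSpecStalk x₁ = Spec.map φ₂ ≫ X.fromSpecStalk x₂ := by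
    rintro x₁ _ rfl φ₁ φ₂ g₁ g₂ k₁ k₂
    suffices φ₁ = φ₂ by rw [this]
    ext a
    exact hinjR (congr($(k₁.trans k₂.symm) a))
  have := this _ _ hxy _ _ h₁ h₂ e₁ e₂
  rwa [Scheme.Spec_stalkClosedPointTo_fromSpecStalk, Scheme.Spec_stalkClosedPointTo_fromSpecStalk] at this

end Scheme

end Groth.L18
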