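import Groth.Agent.L18.ValCrit
import Groth.Agent.L19.Closure
import Mathlib.AlgebraicGeometry.FunctionField

/-!
Descent and composition of valuation rings mapping to a scheme; valuative criteria refined to the
points of a dominant morphism; valuation rings realising specializations.
-/

noncomputable section

namespace Groth.L18

open CategoryTheory AlgebraicGeometry Limits IsLocalRing

universe u

variable {X Y : Scheme.{u}}

theorem apply_closedPoint_of_isLocalHom {R S : Type u} [CommRing R] [IsLocalRing R] [CommRing S]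
    [IsLocalRing S] (ρ : R →+* S) [IsLocalHom ρ] (g : Spec (CommRingCat.of R) ⟶ X) :
    (Spec.map (CommRingCat.ofHom ρ) ≫ g) (closedPoint S) = g (closedPoint R) := by
  show g (PrimeSpectrum.comap ρ (closedPoint S)) = _
  rw [comap_closedPoint]

section Descend

variable {k K : Type u} [Field k] [Field K] {R : Type u} [CommRing R] [IsLocalRing R]
  (ιR : R →+* K) (j : k →+* K) (V : ValuationSubring k) (ρ : V →+* R)

theorem isLocalHom_descend (hinj : Function.Injective ιR) (hρ : ∀ v, ιR (ρ v) = j (v : k))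
    (hV : ∀ z, j z ∈ ιR.range → z ∈ V) : IsLocalHom ρ := by
  refine ⟨fun v hv => ?_⟩
  obtain ⟨r, hr⟩ := hv.exists_right_inv
  have h1 : j (v : k) * ιR r = 1 := by rw [← hρ, ← map_mul, hr, map_one]
  have hv0 : (v : k) ≠ 0 := fun h0 => by rw [h0, map_zero, zero_mul] at h1; exact zero_ne_one h1
  have hmem : (v : k)⁻¹ ∈ V := hV _ ⟨r, by rw [map_inv₀]; exact eq_inv_of_mul_eq_one_right h1⟩
  exact IsUnit.of_mul_eq_one ⟨_, hmem⟩ (Subtype.ext (mul_inv_cancel₀ hv0))

/-- A morphism from the spectrum of a ring of a field extension, given on a subfield, descends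
uniquely to the valuation ring of the subfield. -/
theorem existsUnique_descend (hinj : Function.Injective ιR) (hρ : ∀ v, ιR (ρ v) = j (v : k))
    (hV : ∀ z, j z ∈ ιR.range → z ∈ V) (m : Spec (CommRingCat.of k) ⟶ X)
    (φ : Spec (CommRingCat.of R) ⟶ X)
    (w : Spec.map (CommRingCat.ofHom ιR) ≫ φ = Spec.map (CommRingCat.ofHom j) ≫ m) :
    ∃! φ' : Spec (CommRingCat.of V) ⟶ X, Spec.map (CommRingCat.ofHom ρ) ≫ φ' = φ ∧
      Spec.map (CommRingCat.ofHom V.subtype) ≫ φ' = m := by
  obtain ⟨_, ⟨W, hW, rfl⟩, hcW, -⟩ := X.isBasis_affineOpens.exists_subset_of_mem_open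
    (Set.mem_univ (φ (closedPoint R))) isOpen_univ
  replace hW : IsAffineOpen W := hW
  have := isLocalHom_descend ιR j V ρ hinj hρ hV
  obtain ⟨α, hα⟩ := exists_eq_SpecMap_fromSpec hW φ (range_subset_of_closedPoint_mem φ hcW)
  obtain ⟨β, hβ⟩ := exists_eq_SpecMap_fromSpec hW m (by
    rintro _ ⟨p, rfl⟩
    have h1 := range_subset_of_closedPoint_mem φ hcW
      ⟨Spec.map (CommRingCat.ofHom ιR) (closedPoint K), rfl⟩
    erw [← Scheme.Hom.comp_apply, w, Scheme.Hom.comp_apply] at h1
    convert h1 using 2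
    exact Subsingleton.elim (α := PrimeSpectrum k) _ _)
  have hαβ : ∀ a, ιR (α.hom a) = j (β.hom a) := by
    rw [hα, hβ, ← Spec.map_comp_assoc, ← Spec.map_comp_assoc, cancel_mono] at w
    exact fun a => congr($(Spec.map_injective w) a)
  let γ : Γ(X, W) ⟶ CommRingCat.of V :=
    CommRingCat.ofHom (β.hom.codRestrict V.toSubring fun a => hV _ ⟨α.hom a, hαβ a⟩)
  refine ⟨Spec.map γ ≫ hW.fromSpec, ⟨?_, ?_⟩, fun φ' ⟨h1, h2⟩ => ?_⟩
  · rw [← Spec.map_comp_assoc, hα]
    congr 2
    ext a
    exact hinj ((hρ _).trans (hαβ a).symm)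
  · rw [← Spec.map_comp_assoc, hβ]
    rfl
  · refine ext_of_closedPoint_mem V.subtype Subtype.val_injective hW _ _ ?_
      (hW.range_fromSpec.le ⟨_, rfl⟩) ?_
    · rw [← apply_closedPoint_of_isLocalHom ρ φ', h1]; exact hcW
    · rw [h2, ← Spec.map_comp_assoc, hβ]; rfl

end Descend

section Glue

variable {K : Type u} [Field K] {R R' : ValuationSubring K} (ι : R →+* R')
  {Rt : ValuationSubring (ResidueField R')} (σ : R →+* Rt)

/-- A morphism from the spectrum of a valuation ring `R'` and one from a valuation ring of its residue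
field glue uniquely to the composite valuation ring. -/
theorem existsUnique_glue (hι : ∀ x, ((ι x : R') : K) = (x : K)) (hσs : Function.Surjective σ)
    (hσ : ∀ x, ((σ x : Rt) : ResidueField R') = residue R' (ι x))
    (g : Spec (CommRingCat.of R') ⟶ X) (ht : Spec (CommRingCat.of Rt) ⟶ X)
    (w : Spec.map (CommRingCat.ofHom Rt.subtype) ≫ ht =
      Spec.map (CommRingCat.ofHom (residue R')) ≫ g) :
    ∃! h : Spec (CommRingCat.of R) ⟶ X, Spec.map (CommRingCat.ofHom ι) ≫ h = g ∧
      Spec.map (CommRingCat.ofHom σ) ≫ h = ht := by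
  obtain ⟨_, ⟨W, hW, rfl⟩, hcW, -⟩ := X.isBasis_affineOpens.exists_subset_of_mem_open
    (Set.mem_univ (ht (closedPoint Rt))) isOpen_univ
  replace hW : IsAffineOpen W := hW
  have : IsLocalHom σ := .of_surjective σ hσs
  obtain ⟨δ, hδ⟩ := exists_eq_SpecMap_fromSpec hW ht (range_subset_of_closedPoint_mem ht hcW)
  have hgc : g (closedPoint R') ∈ W := by
    have h1 := range_subset_of_closedPoint_mem ht hcW
      ⟨Spec.map (CommRingCat.ofHom Rt.subtype) (closedPoint (ResidueField R')), rfl⟩
    erw [← Scheme.Hom.comp_apply, w] at h1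
    rwa [← apply_closedPoint_of_isLocalHom (residue R') g]
  obtain ⟨γ, hγ⟩ := exists_eq_SpecMap_fromSpec hW g (range_subset_of_closedPoint_mem g hgc)
  have hδγ : ∀ a, ((δ.hom a : Rt) : ResidueField R') = residue R' (γ.hom a) := by
    rw [hγ, hδ, ← Spec.map_comp_assoc, ← Spec.map_comp_assoc, cancel_mono] at w
    exact fun a => congr($(Spec.map_injective w) a)
  have hmem : ∀ a, ((γ.hom a : R') : K) ∈ R := by
    intro a
    obtain ⟨r, hr⟩ := hσs (δ.hom a)
    have h0 : residue R' (γ.hom a - ι r) = 0 := by rw [map_sub, ← hδγ, ← hσ, hr, sub_self]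
    rw [residue_eq_zero_iff] at h0
    have hm : ∀ z : R', z ∈ maximalIdeal R' → (z : K) ∈ R := by
      intro z hz
      rcases R.mem_or_inv_mem (z : K) with h | h
      · exact h
      by_cases hz0 : (z : K) = 0
      · rw [hz0]; exact zero_mem R
      exact absurd (IsUnit.of_mul_eq_one (ι ⟨_, h⟩)
        (Subtype.ext (show (z : K) * ((ι ⟨_, h⟩ : R') : K) = 1 by rw [hι]; exact mul_inv_cancel₀ hz0))) hz
    have h1 := add_mem (hm _ h0) r.2
    rwa [AddSubgroupClass.coe_sub, hι, sub_add_cancel] at h1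
  let α : Γ(X, W) ⟶ CommRingCat.of R :=
    CommRingCat.ofHom ((R'.subtype.comp γ.hom).codRestrict R.toSubring hmem)
  have hαγ : α ≫ CommRingCat.ofHom ι = γ := by ext a; exact hι _
  have hιinj : Function.Injective ι := fun a b h => Subtype.ext (by rw [← hι a, ← hι b, h])
  refine ⟨Spec.map α ≫ hW.fromSpec, ⟨?_, ?_⟩, fun h' ⟨h1, h2⟩ => ?_⟩
  · rw [← Spec.map_comp_assoc, hαγ, hγ]
  · rw [← Spec.map_comp_assoc, hδ]
    congr 2
    ext a
    refine (hσ _).trans ?_
    exact (congrArg (residue R') (congr($hαγ a))).trans (hδγ a).symm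
  · refine ext_of_closedPoint_mem ι hιinj hW _ _ ?_ (hW.range_fromSpec.le ⟨_, rfl⟩) ?_
    · rw [← apply_closedPoint_of_isLocalHom σ h', h2]; exact hcW
    · rw [h1, ← Spec.map_comp_assoc, hαγ, hγ]

end Glue

section Composite

variable {K : Type u} [Field K] (W : ValuationSubring K) (V : ValuationSubring (ResidueField W))

/-- The composite of a valuation ring and a valuation ring of its residue field. -/
def composite : ValuationSubring K where
  toSubring := (V.toSubring.comap (residue W)).map W.subtype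
  mem_or_inv_mem' z := by
    rcases W.mem_or_inv_mem z with hz | hz
    · by_cases hu : IsUnit (⟨z, hz⟩ : W)
      · rcases V.mem_or_inv_mem (residue W ⟨z, hz⟩) with h | h
        · exact Or.inl ⟨_, h, rfl⟩
        · obtain ⟨w, hw⟩ := hu.exists_right_inv
          have hwz : (z : K) * (w : K) = 1 := congrArg Subtype.val hw
          refine Or.inr ⟨w, ?_, eq_inv_of_mul_eq_one_right hwz⟩
          show residue W w ∈ V
          rwa [eq_inv_of_mul_eq_one_right (show residue W ⟨z, hz⟩ * residue W w = 1 by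
            rw [← map_mul, hw, map_one])]
      · refine Or.inl ⟨⟨z, hz⟩, ?_, rfl⟩
        show residue W ⟨z, hz⟩ ∈ V
        rw [(residue_eq_zero_iff _).mpr hu]
        exact zero_mem V
    · by_cases hu : IsUnit (⟨z⁻¹, hz⟩ : W)
      · rcases V.mem_or_inv_mem (residue W ⟨z⁻¹, hz⟩) with h | h
        · exact Or.inr ⟨_, h, rfl⟩
        · obtain ⟨w, hw⟩ := hu.exists_right_inv
          have hwz : (z⁻¹ : K) * (w : K) = 1 := congrArg Subtype.val hw
          refine Or.inl ⟨w, ?_, ?_⟩
          · show residue W w ∈ V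
            rwa [eq_inv_of_mul_eq_one_right (show residue W ⟨z⁻¹, hz⟩ * residue W w = 1 by
              rw [← map_mul, hw, map_one])]
          · show (w : K) = z
            rw [eq_inv_of_mul_eq_one_right hwz, inv_inv]
      · refine Or.inr ⟨⟨z⁻¹, hz⟩, ?_, rfl⟩
        show residue W ⟨z⁻¹, hz⟩ ∈ V
        rw [(residue_eq_zero_iff _).mpr hu]
        exact zero_mem V

theorem composite_le : composite W V ≤ W := by rintro _ ⟨a, -, rfl⟩; exact a.2

/-- The inclusion of the composite. -/
def compositeIncl : composite W V →+* W := Subring.inclusion (composite_le W V)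

theorem residue_compositeIncl_mem (x : composite W V) : residue W (compositeIncl W V x) ∈ V := by
  obtain ⟨a, ha, h⟩ := x.2
  rwa [show compositeIncl W V x = a from Subtype.ext h.symm]

/-- The projection of the composite to the valuation ring of the residue field. -/
def compositeRes : composite W V →+* V :=
  ((residue W).comp (compositeIncl W V)).codRestrict V.toSubring (residue_compositeIncl_mem W V)

theorem compositeRes_surjective : Function.Surjective (compositeRes W V) := by
  rintro ⟨t, ht⟩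
  obtain ⟨a, rfl⟩ := residue_surjective t
  exact ⟨⟨_, a, ht, rfl⟩, rfl⟩

end Composite

section Refined

variable {Z : Scheme.{u}} (p : Z ⟶ Y) (f : Y ⟶ X)

/-- Valuation rings of the residue field of a generalization realise the residue field. -/
theorem exists_valuation_through (z : Z) (y : Y) (hsp : p z ⤳ y) :
    ∃ (W : ValuationSubring (Z.residueField z)) (g : Spec (CommRingCat.of W) ⟶ Y)
      (e : Y.residueField y →+* ResidueField W),
      Spec.map (CommRingCat.ofHom W.subtype) ≫ g = Z.fromSpecResidueField z ≫ p ∧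
      Spec.map (CommRingCat.ofHom (residue W)) ≫ g =
        Spec.map (CommRingCat.ofHom e) ≫ Y.fromSpecResidueField y ∧
      g (closedPoint W) = y := by
  let ψ : Y.presheaf.stalk y ⟶ Z.residueField z :=
    Y.presheaf.stalkSpecializes hsp ≫ p.stalkMap z ≫ Z.residue z
  obtain ⟨W, hW, hl⟩ := exists_factor_valuationRing ψ.hom
  let φ : Y.presheaf.stalk y →+* W := ψ.hom.codRestrict W.toSubring hW
  have hloc : IsLocalHom φ := hl
  let e : Y.residueField y →+* ResidueField W := ResidueField.map φ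
  refine ⟨W, Spec.map (CommRingCat.ofHom φ) ≫ Y.fromSpecStalk y, e, ?_, ?_, ?_⟩
  · rw [Scheme.fromSpecResidueField, Category.assoc, ← Scheme.SpecMap_stalkMap_fromSpecStalk,
      ← Scheme.SpecMap_stalkSpecializes_fromSpecStalk hsp]
    simp only [← Spec.map_comp_assoc]
    rfl
  · rw [Scheme.fromSpecResidueField]
    simp only [← Spec.map_comp_assoc]
    rfl
  · rw [apply_closedPoint_of_isLocalHom]
    exact Y.fromSpecStalk_closedPoint

theorem exists_extension {k L : Type u} [Field k] [Field L] (e : k →+* L) (V : ValuationSubring k) :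
    ∃ V' : ValuationSubring L, V'.comap e = V := by
  obtain ⟨V', hV'⟩ := (LocalSubring.range (e.comp V.subtype)).exists_le_valuationSubring
  refine ⟨V', ValuationSubring.toLocalSubring_injective ?_⟩
  have hle : V ≤ V'.comap e := fun v hv => hV'.1 ⟨⟨v, hv⟩, rfl⟩
  have hdom : V.toLocalSubring ≤ (V'.comap e).toLocalSubring := by
    refine ⟨hle, ⟨fun v hv => ?_⟩⟩
    obtain ⟨⟨w, hw⟩, hvw⟩ := hv.exists_right_inv
    have hvw' : (v : k) * w = 1 := congrArg Subtype.val hvw
    have hu : IsUnit (Subring.inclusion hV'.1 ⟨e v, v, rfl⟩) :=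
      IsUnit.of_mul_eq_one ⟨e w, hw⟩ (Subtype.ext (by
        show e (v : k) * e w = 1
        rw [← map_mul, hvw', map_one]))
    obtain ⟨⟨_, w', rfl⟩, hw'⟩ := (hV'.2.map_nonunit _ hu).exists_right_inv
    refine IsUnit.of_mul_eq_one w' (Subtype.ext (e.injective ?_))
    show e ((v : k) * (w' : k)) = e 1
    rw [map_mul, map_one]
    exact congrArg Subtype.val hw'
  exact le_antisymm (V.isMax_toLocalSubring hdom) hdom

theorem exists_lift_of_refined
    {z : Z} {y : Y} (hz : p z ⤳ y)
    (hex : ∀ (R : ValuationSubring (Z.residueField z)) (φ : Spec (CommRingCat.of R) ⟶ X),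
      Spec.map (CommRingCat.ofHom R.subtype) ≫ φ = Z.fromSpecResidueField z ≫ p ≫ f →
      ∃ φ' : Spec (CommRingCat.of R) ⟶ Y,
        Spec.map (CommRingCat.ofHom R.subtype) ≫ φ' = Z.fromSpecResidueField z ≫ p ∧ φ' ≫ f = φ)
    (huniq : ∀ (R : ValuationSubring (Z.residueField z))
      (φ₁ φ₂ : Spec (CommRingCat.of R) ⟶ Y),
      Spec.map (CommRingCat.ofHom R.subtype) ≫ φ₁ = Z.fromSpecResidueField z ≫ p →
      Spec.map (CommRingCat.ofHom R.subtype) ≫ φ₂ = Z.fromSpecResidueField z ≫ p →
      φ₁ ≫ f = φ₂ ≫ f → φ₁ = φ₂)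
    (V : ValuationSubring (Y.residueField y)) (h : Spec (CommRingCat.of V) ⟶ X)
    (hh : Spec.map (CommRingCat.ofHom V.subtype) ≫ h = Y.fromSpecResidueField y ≫ f) :
    ∃ l : Spec (CommRingCat.of V) ⟶ Y,
      l ≫ f = h ∧ Spec.map (CommRingCat.ofHom V.subtype) ≫ l = Y.fromSpecResidueField y := by
  obtain ⟨W, g, e, hg, hge, -⟩ := exists_valuation_through p z y hz
  obtain ⟨V', hV'⟩ := exists_extension e V
  let ρ : V →+* V' := (e.comp V.subtype).codRestrict V'.toSubring fun v =>
    (SetLike.ext_iff.mp hV' (v : Y.residueField y)).mpr v.2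
  have hρ : ∀ v, V'.subtype (ρ v) = e (v : Y.residueField y) := fun _ => rfl
  have hV : ∀ a, e a ∈ V'.subtype.range → a ∈ V := by
    rintro a ⟨r, hr⟩
    rw [← hV']
    exact ValuationSubring.mem_comap.mpr (hr ▸ r.2)
  let ht := Spec.map (CommRingCat.ofHom ρ) ≫ h
  have w : Spec.map (CommRingCat.ofHom V'.subtype) ≫ ht =
      Spec.map (CommRingCat.ofHom (residue W)) ≫ g ≫ f := by
    rw [← Category.assoc _ g, hge, Category.assoc, ← hh, ← Spec.map_comp_assoc,
      ← Spec.map_comp_assoc]
    rfl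
  obtain ⟨φ, ⟨hφι, hφσ⟩, -⟩ := existsUnique_glue (compositeIncl W V') (compositeRes W V')
    (fun _ => rfl) (compositeRes_surjective W V') (fun _ => rfl) (g ≫ f) ht w
  have hφgen : Spec.map (CommRingCat.ofHom (composite W V').subtype) ≫ φ =
      Z.fromSpecResidueField z ≫ p ≫ f := by
    rw [← Category.assoc _ p, ← hg, Category.assoc, ← hφι, ← Spec.map_comp_assoc]
    rfl
  obtain ⟨φ', hφ'gen, hφ'f⟩ := hex _ φ hφgen
  have hι : Spec.map (CommRingCat.ofHom (compositeIncl W V')) ≫ φ' = g := by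
    refine huniq W _ _ ?_ hg ?_
    · rw [← Spec.map_comp_assoc, ← hφ'gen]; rfl
    · rw [Category.assoc, hφ'f, hφι]
  obtain ⟨l, ⟨hl, hlgen⟩, -⟩ := existsUnique_descend V'.subtype e V ρ Subtype.val_injective hρ hV
    (Y.fromSpecResidueField y) (Spec.map (CommRingCat.ofHom (compositeRes W V')) ≫ φ') (by
      rw [← hge, ← hι, ← Spec.map_comp_assoc, ← Spec.map_comp_assoc]; rfl)
  refine ⟨l, ?_, hlgen⟩
  refine (existsUnique_descend V'.subtype e V ρ Subtype.val_injective hρ hV
    (Y.fromSpecResidueField y ≫ f) ht (by rw [w, ← Category.assoc _ g, hge, Category.assoc])).unique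
    ⟨?_, ?_⟩ ⟨rfl, hh⟩
  · rw [← Category.assoc, hl, Category.assoc, hφ'f, hφσ]
  · rw [← Category.assoc, hlgen]

theorem ext_of_refined
    {z : Z} {y : Y} (hz : p z ⤳ y)
    (huniq : ∀ (R : ValuationSubring (Z.residueField z))
      (φ₁ φ₂ : Spec (CommRingCat.of R) ⟶ Y),
      Spec.map (CommRingCat.ofHom R.subtype) ≫ φ₁ = Z.fromSpecResidueField z ≫ p →
      Spec.map (CommRingCat.ofHom R.subtype) ≫ φ₂ = Z.fromSpecResidueField z ≫ p →
      φ₁ ≫ f = φ₂ ≫ f → φ₁ = φ₂)
    (V : ValuationSubring (Y.residueField y)) (l₁ l₂ : Spec (CommRingCat.of V) ⟶ Y)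
    (hf : l₁ ≫ f = l₂ ≫ f)
    (h₁ : Spec.map (CommRingCat.ofHom V.subtype) ≫ l₁ = Y.fromSpecResidueField y)
    (h₂ : Spec.map (CommRingCat.ofHom V.subtype) ≫ l₂ = Y.fromSpecResidueField y) : l₁ = l₂ := by
  obtain ⟨W, g, e, hg, hge, -⟩ := exists_valuation_through p z y hz
  obtain ⟨V', hV'⟩ := exists_extension e V
  let ρ : V →+* V' := (e.comp V.subtype).codRestrict V'.toSubring fun v =>
    (SetLike.ext_iff.mp hV' (v : Y.residueField y)).mpr v.2
  have hρ : ∀ v, V'.subtype (ρ v) = e (v : Y.residueField y) := fun _ => rfl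
  have hV : ∀ a, e a ∈ V'.subtype.range → a ∈ V := by
    rintro a ⟨r, hr⟩
    rw [← hV']
    exact ValuationSubring.mem_comap.mpr (hr ▸ r.2)
  have w : ∀ l : Spec (CommRingCat.of V) ⟶ Y,
      Spec.map (CommRingCat.ofHom V.subtype) ≫ l = Y.fromSpecResidueField y →
      Spec.map (CommRingCat.ofHom V'.subtype) ≫ Spec.map (CommRingCat.ofHom ρ) ≫ l =
        Spec.map (CommRingCat.ofHom (residue W)) ≫ g := by
    intro l hl
    rw [hge, ← hl, ← Spec.map_comp_assoc, ← Spec.map_comp_assoc]
    rfl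
  obtain ⟨φ₁, ⟨hι₁, hσ₁⟩, -⟩ := existsUnique_glue (compositeIncl W V') (compositeRes W V')
    (fun _ => rfl) (compositeRes_surjective W V') (fun _ => rfl) g _ (w l₁ h₁)
  obtain ⟨φ₂, ⟨hι₂, hσ₂⟩, -⟩ := existsUnique_glue (compositeIncl W V') (compositeRes W V')
    (fun _ => rfl) (compositeRes_surjective W V') (fun _ => rfl) g _ (w l₂ h₂)
  have hover : φ₁ ≫ f = φ₂ ≫ f :=
    (existsUnique_glue (compositeIncl W V') (compositeRes W V')
      (fun _ => rfl) (compositeRes_surjective W V') (fun _ => rfl) (g ≫ f)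
      (Spec.map (CommRingCat.ofHom ρ) ≫ l₁ ≫ f)
      (by simp only [← Category.assoc] at *; rw [w l₁ h₁])).unique
      ⟨by rw [← Category.assoc, hι₁], by rw [← Category.assoc, hσ₁, Category.assoc]⟩
      ⟨by rw [← Category.assoc, hι₂], by rw [← Category.assoc, hσ₂, Category.assoc, hf]⟩
  have hgen' : ∀ φ, Spec.map (CommRingCat.ofHom (compositeIncl W V')) ≫ φ = g →
      Spec.map (CommRingCat.ofHom (composite W V').subtype) ≫ φ = Z.fromSpecResidueField z ≫ p := by
    intro φ hφ
    rw [← hg, ← hφ, ← Spec.map_comp_assoc]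
    rfl
  have heq := huniq _ φ₁ φ₂ (hgen' _ hι₁) (hgen' _ hι₂) hover
  exact (existsUnique_descend V'.subtype e V ρ Subtype.val_injective hρ hV
    (Y.fromSpecResidueField y) (Spec.map (CommRingCat.ofHom ρ) ≫ l₁)
    (by rw [w l₁ h₁, hge])).unique ⟨rfl, h₁⟩
      ⟨by rw [← hσ₁, ← hσ₂, heq], h₂⟩

end Refined

/-- Uniqueness in valuative squares follows from that for valuation subrings of residue fields. -/
theorem uniqueness_of_residueField (f : Y ⟶ X)
    (H : ∀ (y : Y) (V : ValuationSubring (Y.residueField y)) (l₁ l₂ : Spec (CommRingCat.of V) ⟶ Y),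
      l₁ ≫ f = l₂ ≫ f → Spec.map (CommRingCat.ofHom V.subtype) ≫ l₁ = Y.fromSpecResidueField y →
      Spec.map (CommRingCat.ofHom V.subtype) ≫ l₂ = Y.fromSpecResidueField y → l₁ = l₂) :
    ValuativeCriterion.Uniqueness f := by
  intro S
  constructor
  rintro ⟨l₁, hl₁, hl₁'⟩ ⟨l₂, hl₂, hl₂'⟩
  ext : 1
  dsimp only at *
  set y := S.i₁ (closedPoint S.K)
  let j : Y.residueField y ⟶ CommRingCat.of S.K :=
    Y.descResidueField (Scheme.stalkClosedPointTo S.i₁)
  have hj : Spec.map j ≫ Y.fromSpecResidueField y = S.i₁ :=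
    Scheme.descResidueField_stalkClosedPointTo_fromSpecResidueField S.K Y S.i₁
  let RK : ValuationSubring S.K :=
    ⟨(algebraMap S.R S.K).range, ValuationRing.isInteger_or_isInteger S.R⟩
  let V : ValuationSubring (Y.residueField y) := RK.comap j.hom
  let eR : S.R ≃+* (algebraMap S.R S.K).range :=
    RingEquiv.ofBijective (algebraMap S.R S.K).rangeRestrict
      ⟨fun a b hab => IsFractionRing.injective S.R S.K (congrArg Subtype.val hab),
        (algebraMap S.R S.K).rangeRestrict_surjective⟩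
  let ρ : V →+* S.R := eR.symm.toRingHom.comp
    ((j.hom.comp V.subtype).codRestrict (algebraMap S.R S.K).range fun v => v.2)
  have hρ : ∀ v, algebraMap S.R S.K (ρ v) = j.hom v := fun v =>
    congrArg Subtype.val (eR.apply_symm_apply ⟨j.hom v, v.2⟩)
  have hinj := IsFractionRing.injective S.R S.K
  have hV : ∀ a, j.hom a ∈ (algebraMap S.R S.K).range → a ∈ V := fun a ha => ha
  obtain ⟨m₁, ⟨hm₁, hm₁'⟩, -⟩ := existsUnique_descend (algebraMap S.R S.K) j.hom V ρ hinj hρ hV
    (Y.fromSpecResidueField y) l₁ (hl₁.trans hj.symm)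
  obtain ⟨m₂, ⟨hm₂, hm₂'⟩, -⟩ := existsUnique_descend (algebraMap S.R S.K) j.hom V ρ hinj hρ hV
    (Y.fromSpecResidueField y) l₂ (hl₂.trans hj.symm)
  have hover : m₁ ≫ f = m₂ ≫ f := by
    refine (existsUnique_descend (algebraMap S.R S.K) j.hom V ρ hinj hρ hV
      (Y.fromSpecResidueField y ≫ f) S.i₂ ?_).unique ⟨?_, ?_⟩ ⟨?_, ?_⟩
    · rw [← S.commSq.w, ← hj, Category.assoc]; rfl
    · rw [← Category.assoc, hm₁, hl₁']
    · rw [← Category.assoc, hm₁']
    · rw [← Category.assoc, hm₂, hl₂']
    · rw [← Category.assoc, hm₂']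
  rw [← hm₁, ← hm₂, H y V m₁ m₂ hover hm₁' hm₂']

/-- If the image of a quasi-compact morphism is dense, every point specializes a point of the image. -/
theorem exists_specializes_of_denseRange {Z : Scheme.{u}} (p : Z ⟶ Y) [QuasiCompact p]
    (hd : DenseRange p) (y : Y) : ∃ z : Z, p z ⤳ y :=
  Groth.L19.exists_specializes_of_mem_closure_range p (hd y)

theorem ker_toResidueField_ne {p : Y ⟶ X} {y : Y} {x' : X} (hsp : p y ⤳ x') (hne : x' ≠ p y) :
    RingHom.ker (X.presheaf.stalkSpecializes hsp ≫ p.stalkMap y ≫ Y.residue y).hom ≠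
      maximalIdeal (X.presheaf.stalk x') := by
  set ψ := X.presheaf.stalkSpecializes hsp ≫ p.stalkMap y ≫ Y.residue y
  intro hker
  refine hne ?_
  have h1 : Spec.map ψ ≫ X.fromSpecStalk x' = Y.fromSpecResidueField y ≫ p := by
    rw [Scheme.fromSpecResidueField, Category.assoc, ← Scheme.SpecMap_stalkMap_fromSpecStalk,
      ← Scheme.SpecMap_stalkSpecializes_fromSpecStalk hsp]
    simp only [ψ, ← Spec.map_comp_assoc, Category.assoc]
  let pt : ↥(Spec (Y.residueField y)) := closedPoint (Y.residueField y)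
  have h3 : Spec.map ψ pt = closedPoint (X.presheaf.stalk x') := by
    apply PrimeSpectrum.ext
    show (maximalIdeal (Y.residueField y)).comap ψ.hom = _
    rw [IsLocalRing.isField_iff_maximalIdeal_eq.mp (Field.toIsField _)]
    exact hker
  have h2 : X.fromSpecStalk x' (Spec.map ψ pt) = p y := by
    rw [← Scheme.Hom.comp_apply, h1, Scheme.Hom.comp_apply, Scheme.fromSpecResidueField_apply]
  exact (X.fromSpecStalk_closedPoint.symm.trans (congrArg _ h3.symm)).trans h2

/-- A morphism from a valuation ring into a separated scheme is determined at the generic point. -/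
theorem ext_of_isSeparated [Y.IsSeparated] {K : Type u} [Field K] {V : ValuationSubring K}
    (g₁ g₂ : Spec (CommRingCat.of V) ⟶ Y)
    (h : Spec.map (CommRingCat.ofHom V.subtype) ≫ g₁ = Spec.map (CommRingCat.ofHom V.subtype) ≫ g₂) :
    g₁ = g₂ := by
  let S : ValuativeCommSq (terminal.from Y) :=
    ⟨V, K, Spec.map (CommRingCat.ofHom V.subtype) ≫ g₁, g₁ ≫ terminal.from Y, ⟨Category.assoc _ _ _⟩⟩
  exact congrArg CommSq.LiftStruct.l ((IsSeparated.valuativeCriterion (terminal.from Y) S).elim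
    ⟨g₁, rfl, rfl⟩ ⟨g₂, h.symm, terminal.hom_ext _ _⟩)

/-- The morphism at the function field, compared with a valuation ring dominating a point. -/
theorem stalkClosedPointTo_generic (f : Y ⟶ X) {y : Y} {k : Type u} [Field k] {V : ValuationSubring k}
    (j : Y.residueField y ⟶ CommRingCat.of k) (φ : Spec (CommRingCat.of V) ⟶ X)
    (w : Spec.map (CommRingCat.ofHom V.subtype) ≫ φ = Spec.map j ≫ Y.fromSpecResidueField y ≫ f) :
    ∃ hy : f y ⤳ φ (closedPoint V), Scheme.stalkClosedPointTo φ ≫ CommRingCat.ofHom V.subtype =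
      X.presheaf.stalkSpecializes hy ≫ f.stalkMap y ≫ Y.residue y ≫ j := by
  let pt : ↥(Spec (CommRingCat.of k)) := closedPoint k
  have h1 : φ (Spec.map (CommRingCat.ofHom V.subtype) pt) = f y := by
    rw [← Scheme.Hom.comp_apply, w, Scheme.Hom.comp_apply, Scheme.Hom.comp_apply,
      Scheme.fromSpecResidueField_apply]
  have hy : f y ⤳ φ (closedPoint V) :=
    h1 ▸ (specializes_closedPoint _).map φ.continuous
  refine ⟨hy, Spec.map_injective ?_⟩
  rw [← cancel_mono (X.fromSpecStalk (φ (closedPoint V))), Spec.map_comp, Category.assoc,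
    Scheme.Spec_stalkClosedPointTo_fromSpecStalk, w]
  simp only [Spec.map_comp, Category.assoc, Scheme.SpecMap_stalkSpecializes_fromSpecStalk,
    Scheme.SpecMap_stalkMap_fromSpecStalk, Scheme.fromSpecResidueField]

/-- Generators of a residue field over an affine open of the base. -/
theorem exists_finite_generating (f : Y ⟶ X) [LocallyOfFiniteType f] {y : Y} {U : Y.Opens}
    (hU : IsAffineOpen U) (hy : y ∈ U) {W : X.Opens} (hW : IsAffineOpen W) (hUW : U ≤ f ⁻¹ᵁ W) :
    ∃ t : Set (Y.residueField y), t.Finite ∧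
      Subfield.closure (Set.range (f.appLE W U hUW ≫ Y.evaluation U y hy).hom ∪ t) = ⊤ := by
  let _ : Algebra Γ(X, W) Γ(Y, U) := (f.appLE W U hUW).hom.toAlgebra
  obtain ⟨t, ht⟩ : (⊤ : Subalgebra Γ(X, W) Γ(Y, U)).FG := (f.finiteType_appLE hW hU hUW).1
  set e := (Y.evaluation U y hy).hom
  refine ⟨e '' t, t.finite_toSet.image e, top_unique fun z _ => ?_⟩
  have hF : ∀ a, e a ∈ Subfield.closure
      (Set.range (f.appLE W U hUW ≫ Y.evaluation U y hy).hom ∪ e '' t) := by
    intro a
    have ha : a ∈ Algebra.adjoin Γ(X, W) (t : Set Γ(Y, U)) := ht.ge Algebra.mem_top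
    induction ha using Algebra.adjoin_induction with
    | mem w hw => exact Subfield.subset_closure (Or.inr ⟨w, hw, rfl⟩)
    | algebraMap b => exact Subfield.subset_closure (Or.inl ⟨b, rfl⟩)
    | add _ _ _ _ h1 h2 => rw [map_add]; exact add_mem h1 h2
    | mul _ _ _ _ h1 h2 => rw [map_mul]; exact mul_mem h1 h2
  obtain ⟨a, b, -, rfl⟩ := exists_evaluation_div_eq hU y hy z
  exact div_mem (hF a) (hF b)

section FunctionField

variable [IsIntegral Y] (f : Y ⟶ X)

/-- The residue map at the generic point of an integral scheme. -/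
theorem bijective_residue_genericPoint :
    Function.Bijective (Y.residue (genericPoint Y)).hom :=
  ⟨RingHom.injective (R := Y.functionField) ((Y.residue (genericPoint Y)).hom),
    Y.residue_surjective (genericPoint Y)⟩

/-- A lift over the generic point from a point of `Y` dominated by the valuation ring. -/
theorem exists_lift_of_center [X.IsSeparated] (R : ValuationSubring (Y.residueField (genericPoint Y)))
    (φ : Spec (CommRingCat.of R) ⟶ X)
    (w : Spec.map (CommRingCat.ofHom R.subtype) ≫ φ =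
      Y.fromSpecResidueField (genericPoint Y) ≫ f)
    (H : ∀ (x : X) (hx : f (genericPoint Y) ⤳ x),
      ((∀ a, (X.presheaf.stalkSpecializes hx ≫ f.stalkMap (genericPoint Y)).hom a ∈
          R.comap (Y.residue (genericPoint Y)).hom) ∧
        ∀ a ∈ maximalIdeal (X.presheaf.stalk x),
          (R.comap (Y.residue (genericPoint Y)).hom).valuation
            ((X.presheaf.stalkSpecializes hx ≫ f.stalkMap (genericPoint Y)).hom a) < 1) →
      ∃ y : Y, (∀ a, algebraMap (Y.presheaf.stalk y) Y.functionField a ∈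
          R.comap (Y.residue (genericPoint Y)).hom) ∧
        ∀ a ∈ maximalIdeal (Y.presheaf.stalk y),
          (R.comap (Y.residue (genericPoint Y)).hom).valuation
            (algebraMap (Y.presheaf.stalk y) Y.functionField a) < 1) :
    ∃ l : Spec (CommRingCat.of R) ⟶ Y, l ≫ f = φ ∧
      Spec.map (CommRingCat.ofHom R.subtype) ≫ l = Y.fromSpecResidueField (genericPoint Y) := by
  set r := (Y.residue (genericPoint Y)).hom
  set R₀ : ValuationSubring Y.functionField := R.comap r
  obtain ⟨hy, e⟩ := stalkClosedPointTo_generic f (𝟙 _) φ (by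
    refine w.trans ?_
    erw [Spec.map_id, Category.id_comp])
  have he : ∀ a, (((Scheme.stalkClosedPointTo φ).hom a : R) : Y.residueField (genericPoint Y)) =
      r ((X.presheaf.stalkSpecializes hy ≫ f.stalkMap (genericPoint Y)).hom a) :=
    fun a => congr($e a)
  obtain ⟨y, hy₁, hy₂⟩ := H _ hy ⟨fun a => by
      show r _ ∈ R
      exact Set.mem_of_eq_of_mem (he a).symm ((Scheme.stalkClosedPointTo φ).hom a).2,
    fun a ha => by
      have hmem : (X.presheaf.stalkSpecializes hy ≫ f.stalkMap (genericPoint Y)).hom a ∈ R₀ := by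
        show r _ ∈ R
        exact Set.mem_of_eq_of_mem (he a).symm ((Scheme.stalkClosedPointTo φ).hom a).2
      refine (R₀.valuation_lt_one_iff ⟨_, hmem⟩).mp fun hu => ha ?_
      refine (Scheme.isLocalHom_stalkClosedPointTo' φ).map_nonunit a ?_
      exact (show (Scheme.stalkClosedPointTo φ).hom a = (r.restrict R₀ R fun _ h => h) ⟨_, hmem⟩ from
        Subtype.ext (he a)).symm ▸ hu.map (r.restrict R₀ R fun _ h => h)⟩
  let θ : Y.presheaf.stalk y →+* R :=
    (r.comp (algebraMap (Y.presheaf.stalk y) Y.functionField)).codRestrict R.toSubring hy₁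
  have hθ : IsLocalHom θ := by
    refine ⟨fun a ha => ?_⟩
    by_contra hu
    have h1 := (R₀.valuation_lt_one_iff ⟨_, hy₁ a⟩).mpr (hy₂ a hu)
    refine h1 ?_
    obtain ⟨⟨b, hb⟩, hab⟩ := ha.exists_right_inv
    obtain ⟨b', rfl⟩ := Y.residue_surjective (genericPoint Y) b
    refine IsUnit.of_mul_eq_one ⟨b', hb⟩ (Subtype.ext (bijective_residue_genericPoint.1 ?_))
    show r (algebraMap (Y.presheaf.stalk y) Y.functionField a * b') = r 1
    rw [map_mul, map_one]
    exact congrArg Subtype.val hab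
  have hgenl : Spec.map (CommRingCat.ofHom R.subtype) ≫
      Spec.map (CommRingCat.ofHom θ) ≫ Y.fromSpecStalk y = Y.fromSpecResidueField (genericPoint Y) := by
    rw [Scheme.fromSpecResidueField, ← Spec.map_comp_assoc,
      ← Scheme.SpecMap_stalkSpecializes_fromSpecStalk
        (show genericPoint Y ⤳ y from (genericPoint_spec Y).specializes trivial),
      ← Spec.map_comp_assoc]
    rfl
  refine ⟨Spec.map (CommRingCat.ofHom θ) ≫ Y.fromSpecStalk y, ext_of_isSeparated _ _ ?_, hgenl⟩
  simp only [← Category.assoc] at hgenl ⊢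
  rw [hgenl, w]

end FunctionField

end Groth.L18
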