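import Groth.Agent.L18.AmpleGG
import Mathlib.AlgebraicGeometry.Morphisms.Affine

/-!
Affine non-vanishing loci containing finitely many given points.
-/

set_option autoImplicit false
set_option backward.isDefEq.respectTransparency false
universe u

open CategoryTheory AlgebraicGeometry TopologicalSpace Opposite

noncomputable section

namespace Groth.L18.Ample

open Groth.L18.Frame (rs ro rs_rs rs_self rs_smul ro_ro IsFrame)
open Groth.L18.GenLoc

variable {X : Scheme.{u}} {L N : X.Modules}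

/-- a section with coefficients in a frame -/
theorem mem_genLocus_iff (s : Coh.structureModule X ⟶ N) {W : X.Opens} {e : Γ(N, W)} (he : IsFrame N W e)
    {a : Γ(X, W)} (ha : a • e = rs N le_top (secOf s)) {x : X} (hx : x ∈ W) :
    x ∈ CohB1.genLocus N s ↔ IsUnit (X.presheaf.germ W x hx a) := by
  rw [← Scheme.mem_basicOpen X a x hx, ← genLocus_inf_eq s he ha]
  exact ⟨fun h => ⟨h, hx⟩, fun h => h.1⟩

def sumSec {ι : Type*} [Fintype ι] (t : ι → (Coh.structureModule X ⟶ N)) : Coh.structureModule X ⟶ N :=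
  Groth.L16.homOfSection N (∑ i, secOf (t i))

theorem isAffineOpen_genLocus_sum {ι : Type*} [Fintype ι] (hN : PicF.IsInvertible N)
    (t : ι → (Coh.structureModule X ⟶ N)) (ht : ∀ i, IsAffineOpen (CohB1.genLocus N (t i))) :
    IsAffineOpen (CohB1.genLocus N (sumSec t)) := by
  set G := CohB1.genLocus N (sumSec t)
  have hF := isFrame_genLocus (sumSec t)
  choose f hf using fun i => hF.exists_coeff le_rfl (rs N (le_top : G ≤ ⊤) (secOf (t i)))
  simp only [rs_self] at hf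
  have hsum : ∑ i, f i = (1 : Γ(X, G)) := by
    refine hF.inj le_rfl ?_
    rw [rs_self, one_smul, Finset.sum_smul]
    simp only [hf]
    exact ((congrArg (rs N (le_top : G ≤ ⊤)) (secOf_homOfSection _)).trans
      (map_sum (N.presheaf.map (homOfLE (le_top : G ≤ ⊤)).op).hom _ _)).symm
  have hb : ∀ i, IsAffineOpen (X.basicOpen (f i)) := fun i => by
    rw [← genLocus_inf_eq (t i) hF (hf i), inf_comm]
    exact isAffineOpen_genLocus_inf hN (sumSec t) (ht i)
  refine isAffine_of_isAffineOpen_basicOpen (X := G.toScheme) (Set.range fun i => G.topIso.inv (f i)) ?_ ?_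
  · rw [Ideal.eq_top_iff_one, ← map_one G.topIso.inv.hom, ← hsum, map_sum]
    exact Ideal.sum_mem _ fun i _ => Ideal.subset_span ⟨i, rfl⟩
  · rintro _ ⟨i, rfl⟩
    rw [← Scheme.Hom.isAffineOpen_iff_of_isOpenImmersion G.ι, Scheme.Opens.ι_image_basicOpen_topIso_inv]
    exact hb i

theorem exists_affine_genLocus_sum {ι : Type*} [Fintype ι] (hN : PicF.IsInvertible N) (z : ι → X) (U : X.Opens)
    (t : ι → (Coh.structureModule X ⟶ N)) (hzt : ∀ i, z i ∈ CohB1.genLocus N (t i))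
    (hne : ∀ i j, z i ∈ CohB1.genLocus N (t j) → j = i) (htU : ∀ i, CohB1.genLocus N (t i) ≤ U)
    (ht : ∀ i, IsAffineOpen (CohB1.genLocus N (t i))) :
    ∃ s : Coh.structureModule X ⟶ N, (∀ i, z i ∈ CohB1.genLocus N s) ∧ CohB1.genLocus N s ≤ U ∧
      IsAffineOpen (CohB1.genLocus N s) := by
  classical
  have hcoef : ∀ (W : X.Opens) (e : Γ(N, W)), IsFrame N W e → ∃ a : ι → Γ(X, W),
      (∀ i, a i • e = rs N le_top (secOf (t i))) ∧ (∑ i, a i) • e = rs N le_top (secOf (sumSec t)) := by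
    intro W e he
    choose a ha using fun i => he.exists_coeff le_rfl (rs N le_top (secOf (t i)))
    simp only [rs_self] at ha
    refine ⟨a, ha, ?_⟩
    rw [sumSec, secOf_homOfSection, Finset.sum_smul]
    simp only [ha]
    exact (map_sum (N.presheaf.map (homOfLE (le_top : W ≤ ⊤)).op).hom _ _).symm
  refine ⟨sumSec t, fun i => ?_, fun x hx => ?_, isAffineOpen_genLocus_sum hN t ht⟩
  · obtain ⟨W, e, hzW, he⟩ := Frame.exists_frame hN (z i)
    obtain ⟨a, ha, hs⟩ := hcoef W e he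
    rw [mem_genLocus_iff _ he hs hzW, map_sum, ← Finset.add_sum_erase _ _ (Finset.mem_univ i)]
    have h1 := (mem_genLocus_iff _ he (ha i) hzW).1 (hzt i)
    have h2 : ∑ j ∈ (Finset.univ.erase i), X.presheaf.germ W (z i) hzW (a j) ∈
        IsLocalRing.maximalIdeal (X.presheaf.stalk (z i)) :=
      Ideal.sum_mem _ fun j hj => (IsLocalRing.mem_maximalIdeal _).2 fun hu =>
        (Finset.mem_erase.1 hj).1 (hne i j ((mem_genLocus_iff _ he (ha j) hzW).2 hu))
    by_contra hnu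
    have h4 := Ideal.sub_mem _ ((IsLocalRing.mem_maximalIdeal _).2 hnu) h2
    rw [add_sub_cancel_right] at h4
    exact (IsLocalRing.mem_maximalIdeal _).1 h4 h1
  · by_contra hxU
    obtain ⟨W, e, hxW, he⟩ := Frame.exists_frame hN x
    obtain ⟨a, ha, hs⟩ := hcoef W e he
    have hu := (mem_genLocus_iff _ he hs hxW).1 hx
    rw [map_sum] at hu
    exact (IsLocalRing.mem_maximalIdeal _).1 (Ideal.sum_mem (IsLocalRing.maximalIdeal (X.presheaf.stalk x))
      fun i _ => (IsLocalRing.mem_maximalIdeal _).2 fun hi => hxU (htU i ((mem_genLocus_iff _ he (ha i) hxW).2 hi))) hu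

theorem exists_maximal_specializations (E : Set X) (hE : E.Finite) :
    ∃ Z : Finset X, (∀ z ∈ Z, z ∈ E) ∧ (∀ z ∈ Z, ∀ y ∈ Z, y ⤳ z → y = z) ∧ ∀ e ∈ E, ∃ z ∈ Z, e ⤳ z := by
  classical
  let n : X → ℕ := fun x => (hE.toFinset.filter (x ⤳ ·)).card
  refine ⟨hE.toFinset.filter fun z => ∀ y ∈ E, z ⤳ y → y = z, fun z hz => hE.mem_toFinset.1 (Finset.mem_filter.1 hz).1,
    fun z hz y hy h => ((Finset.mem_filter.1 hy).2 z (hE.mem_toFinset.1 (Finset.mem_filter.1 hz).1) h).symm,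
    fun e he => ?_⟩
  obtain ⟨z, hz, hmin⟩ := Finset.exists_min_image (hE.toFinset.filter (e ⤳ ·)) n
    ⟨e, Finset.mem_filter.2 ⟨hE.mem_toFinset.2 he, specializes_rfl⟩⟩
  obtain ⟨hzE, hez⟩ := Finset.mem_filter.1 hz
  refine ⟨z, Finset.mem_filter.2 ⟨hzE, fun y hy hzy => ?_⟩, hez⟩
  by_contra hne
  have hlt : n y < n z := by
    refine Finset.card_lt_card ⟨fun w hw => ?_, fun hsub => ?_⟩
    · exact Finset.mem_filter.2 ⟨(Finset.mem_filter.1 hw).1, hzy.trans (Finset.mem_filter.1 hw).2⟩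
    · have := (Finset.mem_filter.1 (hsub (Finset.mem_filter.2 ⟨hzE, specializes_rfl⟩))).2
      exact hne (this.antisymm hzy).eq
  exact hlt.not_ge (hmin y (Finset.mem_filter.2 ⟨hE.mem_toFinset.2 hy, hez.trans hzy⟩))

theorem exists_avoiding_nhds (E : Set X) (hE : E.Finite) (U : X.Opens) (hEU : E ⊆ U) :
    ∃ (Z : Finset X) (V : Z → X.Opens), (∀ z : Z, z.1 ∈ V z) ∧ (∀ z : Z, V z ≤ U) ∧
      (∀ i j : Z, i.1 ∈ V j → j = i) ∧ ∀ e ∈ E, ∃ z : Z, e ⤳ z.1 := by
  classical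
  obtain ⟨Z, hZE, hZ, hEZ⟩ := exists_maximal_specializations E hE
  let C : X → Set X := fun z => ⋃ y ∈ Z.erase z, closure {y}
  have hC : ∀ z, IsClosed (C z) := fun z => (Z.erase z).finite_toSet.isClosed_biUnion fun y _ => isClosed_closure
  refine ⟨Z, fun z => U ⊓ ⟨(C z.1)ᶜ, (hC z.1).isOpen_compl⟩, fun z => ⟨hEU (hZE z.1 z.2), fun hzC => ?_⟩,
    fun z => inf_le_left, fun i j hij => ?_, fun e he => ?_⟩
  · obtain ⟨y, hy, hyz⟩ := Set.mem_iUnion₂.1 hzC
    exact (Finset.mem_erase.1 hy).1 (hZ z.1 z.2 y (Finset.mem_erase.1 hy).2 (specializes_iff_mem_closure.2 hyz))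
  · by_contra hne
    exact hij.2 (Set.mem_iUnion₂.2 ⟨i.1, Finset.mem_erase.2 ⟨fun e => hne (Subtype.ext e.symm), i.2⟩,
      subset_closure rfl⟩)
  · obtain ⟨z, hz, hez⟩ := hEZ e he
    exact ⟨⟨z, hz⟩, hez⟩

theorem exists_pow_genLocus_of_isAmple (hL : CohB1.IsAmple L) (E : Set X) (hE : E.Finite) (U : X.Opens)
    (hEU : E ⊆ U) :
    ∃ (n : ℕ) (s : Coh.structureModule X ⟶ CohB1.tensorPow L (n + 1)),
      E ⊆ CohB1.genLocus _ s ∧ (CohB1.genLocus _ s : Set X) ⊆ U ∧ IsAffineOpen (CohB1.genLocus _ s) := by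
  obtain ⟨Z, V, hzV, hVU, hsep, hEZ⟩ := exists_avoiding_nhds E hE U hEU
  choose a t hzt htV hta using fun z : Z => exists_affine_genLocus_subset hL (V z) (hzV z)
  let d : ℕ := ∏ z : Z, (a z + 1)
  have hd : 0 < d := Finset.prod_pos fun z _ => Nat.succ_pos _
  obtain ⟨n, hn⟩ : ∃ n, d = n + 1 := Nat.exists_eq_add_one.mpr hd
  have ht' : ∀ z : Z, ∃ t' : Coh.structureModule X ⟶ CohB1.tensorPow L (n + 1),
      CohB1.genLocus _ t' = CohB1.genLocus _ (t z) := by
    intro z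
    obtain ⟨c, hc⟩ : a z + 1 ∣ d := Finset.dvd_prod_of_mem _ (Finset.mem_univ z)
    obtain ⟨c', rfl⟩ : ∃ c', c = c' + 1 := Nat.exists_eq_add_one.mpr (Nat.pos_of_mul_pos_left (hc ▸ hd))
    refine ⟨pw (t z) (c' + 1) ≫ (Groth.L00.Tensor.tensorPowMul L (a z + 1) (c' + 1) ≪≫
      eqToIso (congrArg (CohB1.tensorPow L) (hc.symm.trans hn))).hom, ?_⟩
    rw [Groth.L16.genLocus_comp_iso, genLocus_pw_succ (isInvertible_tensorPow hL.1 _)]
  choose t' ht' using ht'
  obtain ⟨s, hs, hsU, hsa⟩ := exists_affine_genLocus_sum (isInvertible_tensorPow hL.1 (n + 1)) (fun z : Z => z.1) U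
    t' (fun i => (ht' i).ge (hzt i)) (fun i j h => hsep i j (htV j ((ht' j).le h)))
    (fun i => (ht' i).le.trans ((htV i).trans (hVU i))) (fun i => ht' i ▸ hta i)
  refine ⟨n, s, fun e he => ?_, hsU, hsa⟩
  obtain ⟨z, hez⟩ := hEZ e he
  exact hez.mem_open (CohB1.genLocus _ s).2 (hs z)

theorem exists_affine_genLocus_of_isQuasiAffine [X.IsQuasiAffine] (hL : PicF.IsInvertible L) (U : X.Opens)
    {x : X} (hxU : x ∈ U) :
    ∃ t : Coh.structureModule X ⟶ L, x ∈ CohB1.genLocus L t ∧ CohB1.genLocus L t ≤ U ∧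
      IsAffineOpen (CohB1.genLocus L t) := by
  obtain ⟨W, e, hxW, he⟩ := Frame.exists_frame hL x
  obtain ⟨_, ⟨f, hf, rfl⟩, hx, hfW⟩ := Opens.isBasis_iff_nbhd.mp (Scheme.IsQuasiAffine.isBasis_basicOpen X)
    (show x ∈ W ⊓ U from ⟨hxW, hxU⟩)
  let φ : Coh.structureModule X ⟶ Coh.structureModule X :=
    Groth.L16.homOfSection _ (show Γ(Coh.structureModule X, ⊤) from f)
  have hφ : CohB1.genLocus _ φ = X.basicOpen f := genLocus_function f
  have hGW : CohB1.genLocus _ φ ≤ W := hφ.trans_le (hfW.trans inf_le_left)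
  obtain ⟨k, t, ht⟩ := exists_extend (isInvertible_structureModule X) hL φ (rs L hGW e)
  have hle : CohB1.genLocus _ φ ≤ CohB1.genLocus _ (Groth.L16.homOfSection _ t) := by
    refine le_genLocus _ ?_
    rw [secOf_homOfSection, ht, it_eq_fr]
    exact isFrame_fr (he.mono hGW) (isFrame_genLocus φ) k
  let t' := Groth.L16.homOfSection _ t ≫ (twUnit L k).hom
  refine ⟨tensHom t' φ ≫ (Groth.L00.Tensor.tensorUnitRight L).hom, ?_⟩
  rw [Groth.L16.genLocus_comp_iso, genLocus_tensHom hL (isInvertible_structureModule X),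
    Groth.L16.genLocus_comp_iso, inf_eq_right.mpr hle, hφ]
  exact ⟨hx, hfW.trans inf_le_right, hf⟩

theorem exists_genLocus_of_isQuasiAffine [X.IsQuasiAffine] (hL : PicF.IsInvertible L) (E : Set X) (hE : E.Finite)
    (W : X.Opens) (hEW : E ⊆ W) :
    ∃ s : Coh.structureModule X ⟶ L, IsAffineOpen (CohB1.genLocus L s) ∧ E ⊆ CohB1.genLocus L s ∧
      CohB1.genLocus L s ≤ W := by
  obtain ⟨Z, V, hzV, hVU, hsep, hEZ⟩ := exists_avoiding_nhds E hE W hEW
  choose t hzt htV hta using fun z : Z => exists_affine_genLocus_of_isQuasiAffine hL (V z) (hzV z)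
  obtain ⟨s, hs, hsU, hsa⟩ := exists_affine_genLocus_sum hL (fun z : Z => z.1) W t hzt
    (fun i j h => hsep i j (htV j h)) (fun i => (htV i).trans (hVU i)) hta
  refine ⟨s, hsa, fun e he => ?_, hsU⟩
  obtain ⟨z, hez⟩ := hEZ e he
  exact hez.mem_open (CohB1.genLocus _ s).2 (hs z)

end Groth.L18.Ample
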