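import Groth.Agent.L18.IdealModule
import Groth.Agent.L18.AmpleAvoid
import Groth.Agent.L16.CohKernel
import Groth.Prelude.Def_FlatMod2
import Groth.Agent.L18.KerReduced

/-!
Ampleness through twisted finite type ideals; `f^* f_* (F ⊗ L^n) → F ⊗ L^n` for relatively ample `L`.
-/

set_option autoImplicit false
set_option backward.isDefEq.respectTransparency false
universe u

open CategoryTheory CategoryTheory.Limits AlgebraicGeometry TopologicalSpace Opposite
open scoped TensorProduct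

noncomputable section

namespace Groth.L18.Ample

open Groth.L18.Frame (rs ro rs_rs rs_self rs_smul ro_ro ro_self IsFrame pull pull_rs pull_smul)
open Groth.L18.GenLoc
open Groth.L18.IdealModule
open Groth.L00.Tensor (pre PX)
open MonoidalCategory in
theorem tensorMap_tens {X : Scheme.{u}} {L L' M M' : X.Modules} (φ : L ⟶ L') (ψ : M ⟶ M') (U : X.Opens)
    (m : Γ(L, U)) (n : Γ(M, U)) :
    (Groth.L00.Tensor.tensorMap φ ψ).app U (tens L M U m n) = tens L' M' U (φ.app U m) (ψ.app U n) := by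
  let θ : (pre L ⊗ pre M : PX X) ⟶ (pre L' ⊗ pre M' : PX X) :=
    (Groth.L00.Tensor.preF X).map φ ⊗ₘ (Groth.L00.Tensor.preF X).map ψ
  have hn := (PresheafOfModules.sheafificationAdjunction (𝟙 X.ringCatSheaf.obj)).unit.naturality θ
  let p : (pre L ⊗ pre M : PX X).obj (op U) :=
    (show (pre L).obj (op U) from m) ⊗ₜ[X.sheaf.obj.obj (op U)] (show (pre M).obj (op U) from n)
  exact (congrArg (fun α => (PresheafOfModules.Hom.app α (op U)).hom p) hn).symm

variable {X Y : Scheme.{u}} {L N : X.Modules}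

theorem frame_coeff_isUnit_of_pull_ne_zero {W₀ : X.Opens} {e : Γ(N, W₀)} {x : X} (hx : x ∈ W₀)
    (he : IsFrame N W₀ e) {V : X.Opens} (m : Γ(N, V))
    (hm : pull (X.fromSpecResidueField x) N V m ≠ 0) :
    ∃ (hxV : x ∈ V) (a : Γ(X, W₀ ⊓ V)),
      a • rs N inf_le_left e = rs N (inf_le_right : W₀ ⊓ V ≤ V) m ∧ x ∈ X.basicOpen a := by
  set j := X.fromSpecResidueField x
  have hp : ∀ q, j q = x := Scheme.fromSpecResidueField_apply x
  have htop : ∀ U : X.Opens, x ∈ U → j ⁻¹ᵁ U = ⊤ := fun U hx => top_le_iff.mp fun q _ => by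
    show j q ∈ U
    rwa [hp]
  have hxV : x ∈ V := by
    by_contra h
    apply hm
    have hb : j ⁻¹ᵁ V = ⊥ := bot_unique fun q hq => absurd ((hp q) ▸ hq) h
    haveI := subsingleton_sections_bot ((Scheme.Modules.pullback j).obj N) hb
    exact Subsingleton.elim _ _
  obtain ⟨a, ha⟩ := (he.mono (inf_le_left : W₀ ⊓ V ≤ W₀)).exists_coeff le_rfl (rs N inf_le_right m)
  rw [rs_self] at ha
  refine ⟨hxV, a, ha, ?_⟩
  by_contra hxa
  apply hm
  have h1 : (Spec (X.residueField x)).basicOpen (j.app _ a) = ⊥ := by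
    rw [← Scheme.preimage_basicOpen]
    exact bot_unique fun q hq => absurd ((hp q) ▸ hq) hxa
  have h2 : j.app _ a = 0 := (basicOpen_eq_bot_iff _).mp h1
  have h3 := congrArg (pull j N (W₀ ⊓ V)) ha
  rw [pull_smul, h2, zero_smul, ← pull_rs] at h3
  exact eq_zero_of_rs_eq_zero _ _ _ ((htop _ hxV).trans (htop (W₀ ⊓ V) ⟨hx, hxV⟩).symm).le h3.symm

theorem exists_frame_tensorPow (hL : PicF.IsInvertible L) (k : ℕ) (x : X) :
    ∃ (W : X.Opens) (e : Γ(CohB1.tensorPow L k, W)), x ∈ W ∧ IsFrame (CohB1.tensorPow L k) W e :=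
  Frame.exists_frame (isInvertible_tensorPow hL k) x

/-- `μ : I ⊗ M → O ⊗ M` -/
def idealMap (I : X.IdealSheafData) (M : X.Modules) :
    CohB1.tensorMod (ClSub.idealMod I) M ⟶ CohB1.tensorMod (Coh.structureModule X) M :=
  Groth.L00.Tensor.tensorMap (ClSub.idealModι I) (𝟙 M)

theorem genLocus_idealMap_le (I : X.IdealSheafData) {M : X.Modules} (hM : PicF.IsInvertible M) {U : X.Opens}
    (t : Γ(CohB1.tensorMod (ClSub.idealMod I) M, U)) (G : X.Opens) (hG : G ≤ U)
    (hfr : IsFrame (CohB1.tensorMod (Coh.structureModule X) M) G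
      (rs _ hG ((idealMap I M).app U t))) :
    (G : Set X) ⊆ (I.support : Set X)ᶜ := by
  intro x hxG hxS
  obtain ⟨W, ε, hxW, hε⟩ := Frame.exists_frame hM x
  obtain ⟨V₁, h₁, hx₁, m, hm⟩ := exists_local_tens (L := ClSub.idealMod I) hε (inf_le_right : G ⊓ W ≤ W)
    (rs _ (inf_le_left.trans hG) t) (show x ∈ G ⊓ W from ⟨hxG, hxW⟩)
  obtain ⟨_, ⟨V, hV, rfl⟩, hxV, hVle⟩ := X.isBasis_affineOpens.exists_subset_of_mem_open hx₁ V₁.2
  let b : Γ(X, V) := (ClSub.idealModι I).app V (rs _ hVle m)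
  have hb : b ∈ I.ideal ⟨V, hV⟩ := (mem_ideal_iff I hV b).2 ⟨_, rfl⟩
  have hbx : x ∉ X.basicOpen b := by
    have h := (I.mem_support_iff_of_mem (U := ⟨V, hV⟩) hxV).1 hxS
    exact (X.mem_zeroLocus_iff _ _).1 h b hb
  let one : Γ(Coh.structureModule X, V) := (1 : Γ(X, V))
  have hone : IsFrame (Coh.structureModule X) V one := fun V' h => by
    have : (fun a : Γ(X, V') => a • rs (Coh.structureModule X) h one) = fun a : Γ(X, V') => a * 1 := by
      funext a
      show a * X.presheaf.map (homOfLE h).op (1 : Γ(X, V)) = a * 1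
      rw [map_one]
    rw [this]
    simp only [mul_one]
    exact Function.bijective_id
  have hVW : V ≤ W := hVle.trans (h₁.trans inf_le_right)
  have hF := isFrame_tens hone (hε.mono hVW)
  have hVG : V ≤ G := hVle.trans (h₁.trans inf_le_left)
  have e1 : rs _ hVG (rs _ hG ((idealMap I M).app U t)) =
      b • tens _ M V one (rs M hVW ε) := by
    have h := congrArg (fun y => (idealMap I M).app V (rs _ hVle y)) hm
    simp only [tens_rs, rs_rs] at h
    rw [rs_rs, ← hom_app_rs]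
    refine h.trans ?_
    rw [idealMap, tensorMap_tens, ← tens_smul_left]
    congr 1
    exact (mul_one b).symm
  have hfr' := hfr.mono hVG
  rw [e1] at hfr'
  exact hbx (by rw [X.basicOpen_of_isUnit (Frame.isUnit_of_isFrame hF hfr')]; exact hxV)

theorem idealMap_ne_zero (I : X.IdealSheafData) {M : X.Modules} (hM : PicF.IsInvertible M) {x : X}
    (hx : x ∉ I.support) :
    idealMap I M ≫ (Scheme.Modules.pullbackPushforwardAdjunction (X.fromSpecResidueField x)).unit.app
      (CohB1.tensorMod (Coh.structureModule X) M) ≠ 0 := by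
  intro h0
  set j := X.fromSpecResidueField x
  have hp : ∀ q, j q = x := Scheme.fromSpecResidueField_apply x
  obtain ⟨W, ε, hxW, hε⟩ := Frame.exists_frame hM x
  obtain ⟨_, ⟨V, hV, rfl⟩, hxV, -⟩ := X.isBasis_affineOpens.exists_subset_of_mem_open hxW W.2
  rw [I.mem_support_iff_of_mem (U := ⟨V, hV⟩) hxV, Scheme.mem_zeroLocus_iff] at hx
  push Not at hx
  obtain ⟨b, hb, hxb⟩ := hx
  obtain ⟨m, hm⟩ := (mem_ideal_iff I hV b).1 hb
  let U := X.basicOpen b ⊓ W
  have hxU : x ∈ U := ⟨hxb, hxW⟩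
  let one : Γ(Coh.structureModule X, U) := (1 : Γ(X, U))
  have hone : IsFrame (Coh.structureModule X) U one := fun V' h => by
    have : (fun a : Γ(X, V') => a • rs (Coh.structureModule X) h one) = fun a : Γ(X, V') => a * 1 := by
      funext a
      show a * X.presheaf.map (homOfLE h).op (1 : Γ(X, U)) = a * 1
      rw [map_one]
    rw [this]
    simp only [mul_one]
    exact Function.bijective_id
  have hF := isFrame_tens hone (hε.mono (inf_le_right : U ≤ W))
  have hle : U ≤ V := inf_le_left.trans (X.basicOpen_le b)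
  have hu : IsUnit (ro hle b) := by
    have h1 : IsUnit (ro (X.basicOpen_le b) b) := RingedSpace.isUnit_res_basicOpen _ b
    have h2 := h1.map (X.presheaf.map (homOfLE (inf_le_left : U ≤ X.basicOpen b)).op).hom
    have e : ro (inf_le_left : U ≤ X.basicOpen b) (ro (X.basicOpen_le b) b) = ro hle b := ro_ro _ _ _
    rwa [← e]
  have hF' := hF.smul_unit hu
  have e1 : (idealMap I M).app U (tens _ M U (rs _ hle m) (rs M inf_le_right ε)) =
      ro hle b • tens _ M U one (rs M inf_le_right ε) := by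
    rw [idealMap, tensorMap_tens, ← tens_smul_left]
    congr 1
    rw [hom_app_rs]
    show (show Γ(X, U) from ro hle ((ClSub.idealModι I).app V m)) = ro hle b * 1
    rw [mul_one]
    exact congrArg (ro hle) hm
  have h2 : pull j (CohB1.tensorMod (Coh.structureModule X) M) U
      (ro hle b • tens _ M U one (rs M inf_le_right ε)) = 0 := by
    rw [← e1]
    exact congr(($h0).app U (tens _ M U (rs _ hle m) (rs M inf_le_right ε)))
  haveI : Nontrivial Γ(Spec (X.residueField x), j ⁻¹ᵁ U) := by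
    rw [show j ⁻¹ᵁ U = ⊤ from top_le_iff.mp fun q _ => by show j q ∈ U; rwa [hp]]
    exact (Scheme.ΓSpecIso _).commRingCatIsoToRingEquiv.toEquiv.nontrivial
  have h3 := (hF'.pullback j _ _ le_rfl).injective
    (a₁ := (1 : Γ(Spec (X.residueField x), j ⁻¹ᵁ U))) (a₂ := 0) (by
      show (1 : Γ(Spec (X.residueField x), j ⁻¹ᵁ U)) • rs ((Scheme.Modules.pullback j).obj _) le_rfl (pull j _ U _) =
        (0 : Γ(Spec (X.residueField x), j ⁻¹ᵁ U)) • rs ((Scheme.Modules.pullback j).obj _) le_rfl (pull j _ U _)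
      rw [rs_self, h2, smul_zero, smul_zero])
  exact one_ne_zero h3

/-- a small affine neighbourhood as the complement of a finite type ideal -/
theorem exists_ideal_nhd [CompactSpace X] [QuasiSeparatedSpace X] {A : X.Opens} {x : X} (hx : x ∈ A) :
    ∃ (W : X.Opens) (I : X.IdealSheafData), IsAffineOpen W ∧ x ∈ W ∧ W ≤ A ∧
      BlowUp.IsFiniteTypeIdeal I ∧ (I.support : Set X) = (W : Set X)ᶜ := by
  obtain ⟨_, ⟨W, hW, rfl⟩, hxW, hWA⟩ := X.isBasis_affineOpens.exists_subset_of_mem_open hx A.2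
  obtain ⟨I, hI, hIs, -⟩ := exists_finiteType_of_isCompact W hW.isCompact
  exact ⟨W, I, hW, hxW, hWA, hI, hIs⟩

theorem isAmple_of_ideals_gg [CompactSpace X] [QuasiSeparatedSpace X] (hL : PicF.IsInvertible L)
    (h : ∀ I : X.IdealSheafData, BlowUp.IsFiniteTypeIdeal I →
      ∃ n : ℕ, Curv2.IsGloballyGenerated (CohB1.tensorMod (ClSub.idealMod I) (CohB1.tensorPow L (n + 1)))) :
    CohB1.IsAmple L := by
  refine ⟨hL, inferInstance, fun x => ?_⟩
  obtain ⟨W, I, hW, hxW, -, hI, hIs⟩ := exists_ideal_nhd (Opens.mem_top x)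
  obtain ⟨n, hn⟩ := h I hI
  set M := CohB1.tensorPow L (n + 1)
  have hM : PicF.IsInvertible M := isInvertible_tensorPow hL _
  have hN : PicF.IsInvertible (CohB1.tensorMod (Coh.structureModule X) M) :=
    isInvertible_tensor (isInvertible_structureModule X) hM
  have hne := idealMap_ne_zero I hM (x := x) (fun h => (hIs.le h) hxW)
  obtain ⟨t, ht⟩ : ∃ t : Γ(CohB1.tensorMod (ClSub.idealMod I) M, ⊤),
      pull (X.fromSpecResidueField x) _ ⊤ ((idealMap I M).app ⊤ t) ≠ 0 := by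
    by_contra! hall
    exact hne (eq_zero_of_killsGlobal hn _ hall)
  obtain ⟨W₀, e, hxW₀, he⟩ := Frame.exists_frame hN x
  obtain ⟨-, a, ha, hxa⟩ := frame_coeff_isUnit_of_pull_ne_zero hxW₀ he _ ht
  let s := Groth.L16.homOfSection _ ((idealMap I M).app ⊤ t)
  have hxs : x ∈ CohB1.genLocus _ s := by
    have h := genLocus_inf_eq s (he.mono (inf_le_left : W₀ ⊓ ⊤ ≤ W₀)) (a := a)
      (by rw [ha, secOf_homOfSection])
    exact (h.ge hxa).1
  have hle : CohB1.genLocus _ s ≤ W := by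
    intro y hy
    by_contra hyW
    have h := isFrame_genLocus s
    rw [secOf_homOfSection] at h
    exact genLocus_idealMap_le I hM t _ le_top h hy (hIs.ge hyW)
  refine ⟨n, s ≫ (Groth.L00.Tensor.tensorUnitLeft M).hom, ?_⟩
  rw [Groth.L16.genLocus_comp_iso]
  exact ⟨hxs, isAffineOpen_genLocus_of_le hN s hW hle⟩

theorem isGloballyGenerated_of_freeMod {M : X.Modules} {k : ℕ} (p : FlatMod.freeMod X k ⟶ M) [Epi p] :
    Curv2.IsGloballyGenerated M := by
  refine isGloballyGenerated_of_kills M fun G g hg => ?_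
  refine (cancel_epi p).mp ?_
  rw [comp_zero]
  refine Sigma.hom_ext _ _ fun i => ?_
  rw [comp_zero]
  let c := Sigma.ι (fun _ : Fin k => Coh.structureModule X) i ≫ p ≫ g
  have hc : secOf c = 0 :=
    hg ((Sigma.ι (fun _ : Fin k => Coh.structureModule X) i ≫ p).app ⊤ (1 : Γ(X, ⊤)))
  show c = 0
  rw [← homOfSection_secOf c, hc]
  ext V r
  rw [Groth.L16.homOfSection_app, map_zero]
  exact smul_zero (show Γ(X, V) from r)

theorem isQuasiAffine_of_ideals_gg [CompactSpace X] [QuasiSeparatedSpace X]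
    (h : ∀ (J : X.Modules) (i : J ⟶ Coh.structureModule X), Mono i → Coh.IsQCoh J → CohB1.IsFT J →
      Curv2.IsGloballyGenerated J) :
    X.IsQuasiAffine := by
  refine isQuasiAffine_of_isAmple_structureModule (isAmple_of_ideals_gg (isInvertible_structureModule X)
    fun I hI => ⟨0, ?_⟩)
  exact isGloballyGenerated_of_iso ((Groth.L00.Tensor.tensorUnitRight (ClSub.idealMod I)).symm ≪≫
    Groth.L00.Tensor.tensorIso (Iso.refl _) (Groth.L00.Tensor.tensorPowUnit X 1).symm)
    (h _ (ClSub.idealModι I) (inferInstanceAs (Mono (kernel.ι _))) (isQCoh_idealMod I) (isCoh_idealMod I hI).2)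

/-! ### Counits -/

theorem exists_isRelAmple_counit_epi [CompactSpace X] (f : X ⟶ Y) (hL : RelAmple.IsRelAmple f L)
    (F : X.Modules) (hF : Coh.IsCoh F) :
    ∃ n₀ : ℕ, 0 < n₀ ∧ ∀ n, n₀ ≤ n →
      Epi ((Scheme.Modules.pullbackPushforwardAdjunction f).counit.app (CohB1.tensorMod F (CohB1.tensorPow L n))) := by
  choose V hV hxV _ using fun x : X => exists_affine_le (Opens.mem_top (f x))
  obtain ⟨T, hT⟩ := isCompact_univ.elim_finite_subcover (fun x : X => (f ⁻¹ᵁ V x : Set X))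
    (fun x => (f ⁻¹ᵁ V x).2) (fun x _ => Set.mem_iUnion.2 ⟨x, hxV x⟩)
  haveI : Coh.IsQCoh F := hF.1
  have key : ∀ x : X, ∃ n₀ : ℕ, ∀ n, n₀ ≤ n →
      Curv2.IsGloballyGenerated ((CohB1.tensorMod F (CohB1.tensorPow L n)).restrict (f ⁻¹ᵁ V x).ι) := by
    intro x
    obtain ⟨n₀, hn₀⟩ := exists_forall_isGloballyGenerated (hL.2 ⟨V x, hV x⟩) (F.restrict (f ⁻¹ᵁ V x).ι)
      ⟨Scheme.Modules.isQuasicoherent_restrictFunctor _ F, Groth.L16.CohKernel.isFT_restrict _ F hF.2⟩
    refine ⟨n₀, fun n hn => isGloballyGenerated_of_iso ?_ (hn₀ n hn)⟩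
    exact Groth.L00.Tensor.tensorIso (Iso.refl _) (Groth.L00.Tensor.tensorPowRestrict _ L n) ≪≫
      Groth.L00.Tensor.tensorRestrict _ F _
  choose n₀ hn₀ using key
  refine ⟨T.sup n₀ + 1, Nat.succ_pos _, fun n hn => ?_⟩
  set M := CohB1.tensorMod F (CohB1.tensorPow L n)
  refine Preadditive.epi_of_cancel_zero _ fun {G : X.Modules} (g : M ⟶ G) hg => ?_
  have h0 : ∀ (W : Y.Opens) (m : Γ(M, f ⁻¹ᵁ W)), g.app (f ⁻¹ᵁ W) m = 0 := by
    have h1 : (Scheme.Modules.pushforward f).map g = 0 := by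
      let adj := Scheme.Modules.pullbackPushforwardAdjunction f
      have h2 : adj.homEquiv _ _ (adj.counit.app M ≫ g) = (Scheme.Modules.pushforward f).map g := by
        rw [Adjunction.homEquiv_unit, Functor.map_comp, ← Category.assoc]
        erw [adj.right_triangle_components]
        exact Category.id_comp _
      rw [← h2, hg, Adjunction.homEquiv_unit, Functor.map_zero, comp_zero]
    exact fun W m => congr(($h1).app W m)
  refine eq_zero_of_local g fun W s z hz => ?_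
  obtain ⟨x, hx, hzx⟩ := Set.mem_iUnion₂.1 (hT (Set.mem_univ z))
  set A := f ⁻¹ᵁ V x
  have hA := eq_zero_of_killsGlobal (hn₀ x n ((Finset.le_sup hx).trans (by omega)))
    ((Scheme.Modules.restrictFunctor A.ι).map g) fun t => by
      have h1 := h0 (V x) (rs M A.ι_image_top.ge t)
      rw [hom_app_rs] at h1
      exact eq_zero_of_rs_eq_zero G A.ι_image_top.ge _ A.ι_image_top.le h1
  refine ⟨A.ι ''ᵁ (A.ι ⁻¹ᵁ W), ?_, ⟨⟨z, hzx⟩, hz, rfl⟩, ?_⟩
  · rintro _ ⟨w, hw, rfl⟩
    exact hw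
  · exact congr(($hA).app (A.ι ⁻¹ᵁ W) _)

theorem isRelAmple_of_counit_gen (f : X ⟶ Y) [QuasiCompact f] [IsSeparated f] (hL : PicF.IsInvertible L)
    (h : ∀ (x : X) (A : X.Opens), x ∈ A → ∃ (W : X.Opens) (I : X.IdealSheafData) (n : ℕ), IsAffineOpen W ∧ x ∈ W ∧
      W ≤ A ∧ (I.support : Set X) = (W : Set X)ᶜ ∧ 0 < n ∧
        Epi ((Scheme.Modules.pullbackPushforwardAdjunction f).counit.app
          (CohB1.tensorMod (ClSub.idealMod I) (CohB1.tensorPow L n)))) :
    RelAmple.IsRelAmple f L := by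
  refine ⟨inferInstance, fun V => ?_⟩
  set A := f ⁻¹ᵁ V.1
  haveI : CompactSpace A.toScheme := isCompact_iff_compactSpace.mp (f.isCompact_preimage V.2.isCompact)
  haveI : IsAffine (V.1 : Scheme.{u}) := V.2
  haveI : A.toScheme.IsSeparated := ⟨by rw [← Limits.terminal.comp_from (f ∣_ V.1)]; infer_instance⟩
  have hLA := isInvertible_restrict hL A
  refine ⟨hLA, inferInstance, fun z => ?_⟩
  set x := A.ι z
  have hxA : x ∈ A := z.2
  obtain ⟨W, I, n, hW, hxW, hWA, hIs, hn, hepi⟩ := h x A hxA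
  set M := CohB1.tensorPow L n
  have hM : PicF.IsInvertible M := isInvertible_tensorPow hL _
  set N := CohB1.tensorMod (Coh.structureModule X) M with hNdef
  have hN : PicF.IsInvertible N := isInvertible_tensor (isInvertible_structureModule X) hM
  have hne := idealMap_ne_zero I hM (x := x) (fun h => (hIs.le h) hxW)
  obtain ⟨V', m, hm⟩ : ∃ (V' : Y.Opens) (m : Γ(CohB1.tensorMod (ClSub.idealMod I) M, f ⁻¹ᵁ V')),
      pull (X.fromSpecResidueField x) N (f ⁻¹ᵁ V') ((idealMap I M).app _ m) ≠ 0 := by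
    by_contra! hall
    set g := idealMap I M ≫ (Scheme.Modules.pullbackPushforwardAdjunction (X.fromSpecResidueField x)).unit.app N
    refine hne ?_
    have h0 : (Scheme.Modules.pushforward f).map g = 0 := by
      ext W t
      exact hall W t
    have := (Scheme.Modules.pullbackPushforwardAdjunction f).counit.naturality g
    simp only [Functor.comp_map, h0, Functor.map_zero, Limits.zero_comp, Functor.id_map] at this
    haveI _i := hepi
    exact (cancel_epi ((Scheme.Modules.pullbackPushforwardAdjunction f).counit.app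
      (CohB1.tensorMod (ClSub.idealMod I) M))).mp (this.symm.trans Limits.comp_zero.symm)
  obtain ⟨W₀, e, hxW₀, he⟩ := Frame.exists_frame hN x
  obtain ⟨hxV', a, ha, hxa⟩ := frame_coeff_isUnit_of_pull_ne_zero hxW₀ he _ hm
  obtain ⟨r, hr, hzr⟩ := V.2.exists_basicOpen_le (V := V') ⟨_, hxV'⟩ hxA
  let c := (f ∣_ V.1).appTop (V.1.topIso.inv r)
  let G : A.toScheme.Opens := A.toScheme.basicOpen c
  have eG : A.ι ''ᵁ G = f ⁻¹ᵁ Y.basicOpen r := by
    show A.ι ''ᵁ A.toScheme.basicOpen _ = _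
    rw [← Scheme.preimage_basicOpen_top, image_morphismRestrict_preimage,
      Scheme.Opens.ι_image_basicOpen_topIso_inv]
  have hzG : z ∈ G := by
    obtain ⟨z', hz', e⟩ := eG.ge (show x ∈ f ⁻¹ᵁ Y.basicOpen r from hzr)
    exact A.ι.isOpenEmbedding.injective e ▸ hz'
  set S := A.ι ''ᵁ (G.ι ''ᵁ ⊤)
  have hS : S = f ⁻¹ᵁ Y.basicOpen r := (congrArg (A.ι ''ᵁ ·) G.ι_image_top).trans eG
  have hSV : S ≤ f ⁻¹ᵁ V' := hS.le.trans (f.preimage_mono hr)
  let s : Coh.structureModule G.toScheme ⟶ (N.restrict A.ι).restrict G.ι :=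
    Groth.L16.homOfSection _ (show Γ(N, S) from rs N hSV ((idealMap I M).app _ m))
  have hfr : IsFrame N (X.basicOpen a) (rs N ((X.basicOpen_le a).trans inf_le_right) ((idealMap I M).app _ m)) := by
    have h := ((he.mono (inf_le_left : W₀ ⊓ f ⁻¹ᵁ V' ≤ W₀)).mono (X.basicOpen_le a)).smul_unit
      (show IsUnit (ro (X.basicOpen_le a) a) from RingedSpace.isUnit_res_basicOpen _ a)
    rwa [← rs_smul, ha, rs_rs] at h
  have key : ∀ (U : G.toScheme.Opens) (hU : A.ι ''ᵁ (G.ι ''ᵁ U) ≤ f ⁻¹ᵁ V'),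
      IsFrame _ U (rs ((N.restrict A.ι).restrict G.ι) le_top (secOf s)) ↔
        IsFrame N (A.ι ''ᵁ (G.ι ''ᵁ U)) (rs N hU ((idealMap I M).app _ m)) := by
    intro U hU
    rw [isFrame_restrict_iff, isFrame_restrict_iff, secOf_homOfSection]
    have e : rs N (A.ι.image_mono (G.ι.image_mono (le_top : U ≤ ⊤))) (rs N hSV ((idealMap I M).app _ m)) =
        rs N hU ((idealMap I M).app _ m) := rs_rs _ _ _ _
    rw [← e]
    rfl
  have hzs : (⟨z, hzG⟩ : G.toScheme) ∈ CohB1.genLocus _ s := by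
    let U : G.toScheme.Opens := G.ι ⁻¹ᵁ (A.ι ⁻¹ᵁ X.basicOpen a)
    have hU : A.ι ''ᵁ (G.ι ''ᵁ U) ≤ X.basicOpen a := by
      rintro _ ⟨_, ⟨w, hw, rfl⟩, rfl⟩
      exact hw
    refine le_genLocus s ((key U (hU.trans ((X.basicOpen_le a).trans inf_le_right))).2 ?_) (show _ ∈ U from hxa)
    have h := hfr.mono hU
    rwa [rs_rs] at h
  set S' := CohB1.genLocus _ s
  have hS'W : A.ι ''ᵁ (G.ι ''ᵁ S') ≤ W := by
    intro y hy
    by_contra hyW
    have hle : A.ι ''ᵁ (G.ι ''ᵁ S') ≤ f ⁻¹ᵁ V' := (A.ι.image_mono (G.ι.image_mono le_top)).trans hSV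
    exact genLocus_idealMap_le I hM m _ hle ((key S' hle).1 (isFrame_genLocus s)) hy (hIs.ge hyW)
  have hWG : IsAffineOpen (G.ι ⁻¹ᵁ (A.ι ⁻¹ᵁ W)) := by
    have h1 : IsAffineOpen (A.ι ⁻¹ᵁ W) := by
      rw [← Scheme.Hom.isAffineOpen_iff_of_isOpenImmersion A.ι, Scheme.Hom.image_preimage_eq_opensRange_inf,
        Scheme.Opens.opensRange_ι, inf_eq_right.mpr hWA]
      exact hW
    rw [← Scheme.Hom.isAffineOpen_iff_of_isOpenImmersion G.ι, Scheme.Hom.image_preimage_eq_opensRange_inf,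
      Scheme.Opens.opensRange_ι]
    have h2 := h1.basicOpen (ro (le_top : A.ι ⁻¹ᵁ W ≤ ⊤) c)
    rw [Scheme.basicOpen_res] at h2
    rwa [inf_comm]
  have hS'aff : IsAffineOpen S' :=
    isAffineOpen_genLocus_of_le (isInvertible_restrict (isInvertible_restrict hN A) G) s hWG
      fun y hy => hS'W ⟨_, ⟨y, hy, rfl⟩, rfl⟩
  obtain ⟨s', hs'⟩ := exists_genLocus_eq_of_restrict (isInvertible_restrict hN A) c (n := 0)
    (s ≫ (Groth.L00.Tensor.tensorPowOne ((N.restrict A.ι).restrict G.ι)).symm.hom)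
  rw [Groth.L16.genLocus_comp_iso] at hs'
  obtain ⟨k, t, ht⟩ := exists_of_iso (L := L.restrict A.ι) hn s'
    (Groth.L00.Tensor.tensorPowOne _ ≪≫
      (Scheme.Modules.restrictFunctor A.ι).mapIso (Groth.L00.Tensor.tensorUnitLeft M) ≪≫
      (Groth.L00.Tensor.tensorPowRestrict A.ι L n).symm)
  refine ⟨k, t, ?_⟩
  rw [ht, hs']
  exact ⟨⟨⟨z, hzG⟩, hzs, rfl⟩, hS'aff.image_of_isOpenImmersion _⟩

theorem isRelAmple_of_counit_ideals [CompactSpace X] [X.IsSeparated] (f : X ⟶ Y) [QuasiCompact f]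
    (hL : PicF.IsInvertible L)
    (h : ∀ (J : X.Modules) (i : J ⟶ Coh.structureModule X), Mono i → Coh.IsQCoh J → CohB1.IsFT J →
      ∃ n : ℕ, 0 < n ∧
        Epi ((Scheme.Modules.pullbackPushforwardAdjunction f).counit.app (CohB1.tensorMod J (CohB1.tensorPow L n)))) :
    RelAmple.IsRelAmple f L := by
  haveI : IsSeparated (f ≫ terminal.from Y) := by rw [terminal.comp_from]; infer_instance
  haveI : IsSeparated f := IsSeparated.of_comp f (terminal.from Y)
  refine isRelAmple_of_counit_gen f hL fun x A hxA => ?_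
  obtain ⟨W, I, hW, hxW, hWA, hI, hIs⟩ := exists_ideal_nhd hxA
  obtain ⟨n, hn, hepi⟩ := h _ (ClSub.idealModι I) (inferInstanceAs (Mono (kernel.ι _))) (isQCoh_idealMod I)
    (isCoh_idealMod I hI).2
  exact ⟨W, I, n, hW, hxW, hWA, hIs, hn, hepi⟩

theorem isRelAmple_iff_counit_twist [CompactSpace X] [X.IsSeparated] (f : X ⟶ Y) [QuasiCompact f]
    (hL : PicF.IsInvertible L) :
    RelAmple.IsRelAmple f L ↔ ∀ F : X.Modules, Coh.IsQCoh F → CohB1.IsFT F →
      ∃ n₀ : ℕ, 0 < n₀ ∧ ∀ n : ℕ, n₀ ≤ n →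
        Epi ((Scheme.Modules.pullbackPushforwardAdjunction f).counit.app (CohB1.tensorMod F (CohB1.tensorPow L n))) := by
  refine ⟨fun h F h1 h2 => exists_isRelAmple_counit_epi f h F ⟨h1, h2⟩,
    fun h => isRelAmple_of_counit_ideals f hL fun J _ _ h1 h2 => ?_⟩
  obtain ⟨n₀, hn₀, hn⟩ := h J h1 h2
  exact ⟨n₀, hn₀, hn n₀ le_rfl⟩

/-! ### Quasi-affine morphisms -/

theorem counit_epi_of_isQuasiAffine (f : X ⟶ Y) (hf : Mor2.IsQuasiAffine f) (F : X.Modules) [Coh.IsQCoh F] :
    Epi ((Scheme.Modules.pullbackPushforwardAdjunction f).counit.app F) := by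
  refine Preadditive.epi_of_cancel_zero _ fun {G : X.Modules} (g : F ⟶ G) hg => ?_
  have h1 : (Scheme.Modules.pushforward f).map g = 0 := by
    let adj := Scheme.Modules.pullbackPushforwardAdjunction f
    have h2 : adj.homEquiv _ _ (adj.counit.app F ≫ g) = (Scheme.Modules.pushforward f).map g := by
      rw [Adjunction.homEquiv_unit, Functor.map_comp, ← Category.assoc]
      erw [adj.right_triangle_components]
      exact Category.id_comp _
    rw [← h2, hg, Adjunction.homEquiv_unit, Functor.map_zero, comp_zero]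
  refine eq_zero_of_local g fun W s z hz => ?_
  obtain ⟨V, hV, hzV, -⟩ := exists_affine_le (Opens.mem_top (f z))
  set A := f ⁻¹ᵁ V
  haveI := hf.2 V hV
  haveI : Coh.IsQCoh (F.restrict A.ι) := Scheme.Modules.isQuasicoherent_restrictFunctor _ F
  have hA := eq_zero_of_killsGlobal (isGloballyGenerated_of_isQuasiAffine (F.restrict A.ι))
    ((Scheme.Modules.restrictFunctor A.ι).map g) fun t => by
      have h2 : g.app A (rs F A.ι_image_top.ge t) = 0 := congr(($h1).app V (rs F A.ι_image_top.ge t))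
      rw [hom_app_rs] at h2
      exact eq_zero_of_rs_eq_zero G A.ι_image_top.ge _ A.ι_image_top.le h2
  refine ⟨A.ι ''ᵁ (A.ι ⁻¹ᵁ W), ?_, ⟨⟨z, hzV⟩, hz, rfl⟩, ?_⟩
  · rintro _ ⟨w, hw, rfl⟩
    exact hw
  · exact congr(($hA).app (A.ι ⁻¹ᵁ W) _)

theorem isSeparated_of_isQuasiAffine (f : X ⟶ Y) (hf : Mor2.IsQuasiAffine f) : IsSeparated f := by
  refine IsZariskiLocalAtTarget.of_iSup_eq_top (P := @IsSeparated) _ (iSup_affineOpens_eq_top Y) fun W => ?_
  haveI := hf.2 W.1 W.2
  infer_instance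

theorem isQuasiAffineHom_iff_counit (f : X ⟶ Y) [QuasiCompact f] :
    Mor2.IsQuasiAffine f ↔ (IsSeparated f ∧ ∀ F : X.Modules, Coh.IsQCoh F →
      Epi ((Scheme.Modules.pullbackPushforwardAdjunction f).counit.app F)) := by
  refine ⟨fun h => ⟨isSeparated_of_isQuasiAffine f h, fun F hF => @counit_epi_of_isQuasiAffine _ _ f h F hF⟩,
    fun ⟨hs, h⟩ => ?_⟩
  rw [isQuasiAffineHom_iff]
  refine isRelAmple_of_counit_gen f (isInvertible_structureModule X) fun x A hxA => ?_
  obtain ⟨_, ⟨W, hW, rfl⟩, hxW, hWA⟩ := X.isBasis_affineOpens.exists_subset_of_mem_open hxA A.2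
  let I := Scheme.IdealSheafData.vanishingIdeal (⟨(W : Set X)ᶜ, W.2.isClosed_compl⟩ : Closeds X)
  refine ⟨W, I, 1, hW, hxW, hWA, ?_, Nat.one_pos, ?_⟩
  · rw [Groth.L18.support_vanishingIdeal]; rfl
  · have e : ClSub.idealMod I ≅ CohB1.tensorMod (ClSub.idealMod I) (CohB1.tensorPow (Coh.structureModule X) 1) :=
      (Groth.L00.Tensor.tensorUnitRight _).symm ≪≫
        Groth.L00.Tensor.tensorIso (Iso.refl _) (Groth.L00.Tensor.tensorPowUnit X 1).symm
    haveI := h _ (isQCoh_idealMod I)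
    have hn := (Scheme.Modules.pullbackPushforwardAdjunction f).counit.naturality e.hom
    haveI : Epi ((Scheme.Modules.pushforward f ⋙ Scheme.Modules.pullback f).map e.hom ≫
        (Scheme.Modules.pullbackPushforwardAdjunction f).counit.app _) := by
      rw [hn]; exact epi_comp _ _
    exact epi_of_epi ((Scheme.Modules.pushforward f ⋙ Scheme.Modules.pullback f).map e.hom) _

end Groth.L18.Ample
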