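import Groth.Agent.L18.AmpleLocal
import Groth.Agent.L18.QuasiAffine

/-!
Relative ampleness: locality on the base, quasi-affine pullback.
-/

set_option autoImplicit false
set_option backward.isDefEq.respectTransparency false
universe u

open CategoryTheory AlgebraicGeometry TopologicalSpace Opposite

noncomputable section

namespace Groth.L18.Ample

open Groth.L18.Frame (rs ro rs_rs rs_self IsFrame)
open Groth.L18.GenLoc

variable {X Y Z : Scheme.{u}} {L : X.Modules}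

/-- transport ampleness of pullbacks along an iso of sources -/
theorem isAmple_pullback_congr {A B : Scheme.{u}} (e : A ≅ B) (j : B ⟶ X) (j' : A ⟶ X) (h : e.hom ≫ j = j') :
    CohB1.IsAmple ((Scheme.Modules.pullback j').obj L) ↔ CohB1.IsAmple ((Scheme.Modules.pullback j).obj L) := by
  subst h
  refine ⟨fun h' => (isAmple_pullback_iso_iff e).1 (isAmple_of_iso ((Scheme.Modules.pullbackComp _ _).app L).symm h'),
    fun h' => isAmple_of_iso ((Scheme.Modules.pullbackComp _ _).app L) ((isAmple_pullback_iso_iff e).2 h')⟩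

/-- ampleness on an open inside an open -/
theorem isAmple_restrict_restrict_iff (A : X.Opens) (B : A.toScheme.Opens) :
    CohB1.IsAmple ((L.restrict A.ι).restrict B.ι) ↔ CohB1.IsAmple (L.restrict (A.ι ''ᵁ B).ι) := by
  have e : (Scheme.Modules.pullback B.ι).obj (L.restrict A.ι) ≅
      (Scheme.Modules.pullback (B.ι ≫ A.ι)).obj L :=
    (Scheme.Modules.pullback B.ι).mapIso ((Scheme.Modules.restrictFunctorIsoPullback A.ι).app L) ≪≫
      (Scheme.Modules.pullbackComp B.ι A.ι).app L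
  rw [isAmple_restrict_iff_pullback, isAmple_restrict_iff_pullback (L := L)]
  refine Iff.trans ⟨isAmple_of_iso e, isAmple_of_iso e.symm⟩ ?_
  exact isAmple_pullback_congr (A.ι.isoImage B) _ _ (Scheme.Hom.isoImage_hom_ι _ _)

theorem isAmple_restrict_congr {A B : X.Opens} (h : A = B) :
    CohB1.IsAmple (L.restrict A.ι) ↔ CohB1.IsAmple (L.restrict B.ι) := by subst h; rfl

theorem isInvertible_of_cover {M : X.Modules}
    (h : ∀ x : X, ∃ G : X.Opens, x ∈ G ∧ PicF.IsInvertible (M.restrict G.ι)) : PicF.IsInvertible M :=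
  isInvertible_of_frames fun x => by
    obtain ⟨G, hx, hG⟩ := h x
    obtain ⟨U, e, hxU, he⟩ := Frame.exists_frame hG ⟨x, hx⟩
    exact ⟨G.ι ''ᵁ U, _, ⟨⟨x, hx⟩, hxU, rfl⟩, (isFrame_restrict_iff M G U e).mp he⟩

theorem isRelAmple_restrict_target (f : X ⟶ Y) (h : RelAmple.IsRelAmple f L) (U : Y.Opens) :
    RelAmple.IsRelAmple (f ∣_ U) (L.restrict (f ⁻¹ᵁ U).ι) := by
  haveI := h.1
  refine ⟨inferInstance, fun V => ?_⟩
  rw [isAmple_restrict_restrict_iff, isAmple_restrict_congr (image_morphismRestrict_preimage f U V.1)]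
  exact h.2 ⟨U.ι ''ᵁ V.1, V.2.image_of_isOpenImmersion _⟩

theorem isRelAmple_of_cover (f : X ⟶ Y) [QuasiCompact f] {ι : Type u}
    (U : ι → Y.Opens) (hU : ⨆ i, U i = ⊤)
    (h : ∀ i, RelAmple.IsRelAmple (f ∣_ (U i)) (L.restrict (f ⁻¹ᵁ (U i)).ι)) : RelAmple.IsRelAmple f L := by
  refine ⟨inferInstance, fun V => ?_⟩
  set A : X.Opens := f ⁻¹ᵁ V.1
  haveI : CompactSpace A.toScheme := isCompact_iff_compactSpace.mp (f.isCompact_preimage V.2.isCompact)
  have hbasic : ∀ y ∈ V.1, ∃ g : Γ(Y, V.1), y ∈ Y.basicOpen g ∧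
      CohB1.IsAmple (L.restrict (f ⁻¹ᵁ Y.basicOpen g).ι) := by
    intro y hy
    obtain ⟨i, hi⟩ := Opens.mem_iSup.mp (hU.ge (Opens.mem_top y))
    obtain ⟨g, hg, hyg⟩ := V.2.exists_basicOpen_le (V := U i) ⟨y, hi⟩ hy
    refine ⟨g, hyg, ?_⟩
    let B : (U i).toScheme.Opens := (U i).ι ⁻¹ᵁ Y.basicOpen g
    have e : (U i).ι ''ᵁ B = Y.basicOpen g := by
      rw [Scheme.Hom.image_preimage_eq_opensRange_inf, Scheme.Opens.opensRange_ι, inf_eq_right.mpr hg]
    have hB : IsAffineOpen B := by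
      rw [← Scheme.Hom.isAffineOpen_iff_of_isOpenImmersion (U i).ι, e]
      exact V.2.basicOpen g
    have := (h i).2 ⟨B, hB⟩
    rwa [isAmple_restrict_restrict_iff, isAmple_restrict_congr (image_morphismRestrict_preimage f (U i) B),
      isAmple_restrict_congr (congrArg (f ⁻¹ᵁ ·) e)] at this
  let φ : A.toScheme ⟶ V.1.toScheme := f ∣_ V.1
  have hcov : ∀ y : V.1.toScheme, ∃ r : Γ(V.1.toScheme, ⊤), y ∈ V.1.toScheme.basicOpen r ∧
      CohB1.IsAmple ((L.restrict A.ι).restrict (φ ⁻¹ᵁ V.1.toScheme.basicOpen r).ι) := by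
    intro y
    obtain ⟨g, hg, hamp⟩ := hbasic y.1 y.2
    have e : V.1.ι ''ᵁ V.1.toScheme.basicOpen (V.1.topIso.inv g) = Y.basicOpen g :=
      Scheme.Opens.ι_image_basicOpen_topIso_inv (U := V.1) g
    refine ⟨V.1.topIso.inv g, ?_, ?_⟩
    · obtain ⟨y', hy', he⟩ := e.ge hg
      exact V.1.ι.isOpenEmbedding.injective he ▸ hy'
    · rw [isAmple_restrict_restrict_iff, isAmple_restrict_congr (image_morphismRestrict_preimage f V.1 _),
        isAmple_restrict_congr (congrArg (f ⁻¹ᵁ ·) e)]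
      exact hamp
  choose r hyr hamp using hcov
  haveI : IsAffine V.1.toScheme := V.2
  haveI : IsSeparated φ := by
    refine IsZariskiLocalAtTarget.of_iSup_eq_top (P := @IsSeparated)
      (fun y : V.1.toScheme => V.1.toScheme.basicOpen (r y))
      (top_le_iff.mp fun y _ => Opens.mem_iSup.mpr ⟨y, hyr y⟩) fun y => ?_
    haveI := isSeparated_of_isAmple (hamp y)
    infer_instance
  haveI : A.toScheme.IsSeparated := ⟨by rw [← Limits.terminal.comp_from φ]; infer_instance⟩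
  have hA : PicF.IsInvertible (L.restrict A.ι) := isInvertible_of_cover (fun x => ⟨_, hyr (φ x), (hamp (φ x)).1⟩)
  refine ⟨hA, inferInstance, fun x => ?_⟩
  have key : ∀ (G : A.toScheme.Opens) (a : Γ(A.toScheme, ⊤)), G = A.toScheme.basicOpen a → ∀ hx : x ∈ G,
      CohB1.IsAmple ((L.restrict A.ι).restrict G.ι) →
      ∃ (n : ℕ) (s : Coh.structureModule A.toScheme ⟶ CohB1.tensorPow (L.restrict A.ι) (n + 1)),
        x ∈ CohB1.genLocus _ s ∧ IsAffineOpen (CohB1.genLocus _ s) := by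
    rintro G a rfl hx hG
    obtain ⟨n, s, hxs, hs⟩ := hG.2.2 ⟨x, hx⟩
    obtain ⟨s', hs'⟩ := exists_genLocus_eq_of_restrict hA a s
    refine ⟨n, s', ?_⟩
    rw [hs']
    exact ⟨⟨⟨x, hx⟩, hxs, rfl⟩, hs.image_of_isOpenImmersion _⟩
  exact key _ (φ.appTop (r (φ x))) (Scheme.preimage_basicOpen φ (r (φ x))) (hyr (φ x)) (hamp (φ x))

theorem isRelAmple_pullback_quasiAffine (f : X ⟶ Y) [QuasiCompact f] (g : Z ⟶ X)
    (hg : Mor2.IsQuasiAffine g) (hL : RelAmple.IsRelAmple f L) :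
    RelAmple.IsRelAmple (g ≫ f) ((Scheme.Modules.pullback g).obj L) := by
  haveI := hg.1
  refine ⟨inferInstance, fun V => ?_⟩
  haveI : CompactSpace (g ⁻¹ᵁ (f ⁻¹ᵁ V.1) : Scheme.{u}) :=
    isCompact_iff_compactSpace.mp ((g ≫ f).isCompact_preimage V.2.isCompact)
  have hq : ∀ W : (f ⁻¹ᵁ V.1).toScheme.Opens, IsAffineOpen W →
      Scheme.IsQuasiAffine ((g ∣_ (f ⁻¹ᵁ V.1)) ⁻¹ᵁ W : Scheme.{u}) := fun W hW => by
    haveI := hg.2 _ (hW.image_of_isOpenImmersion (f ⁻¹ᵁ V.1).ι)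
    exact .of_isAffineHom ((g ⁻¹ᵁ (f ⁻¹ᵁ V.1)).ι.isoImage _ ≪≫
      (Z.isoOfEq (image_morphismRestrict_preimage g (f ⁻¹ᵁ V.1) W))).hom
  have h1 := isAmple_pullback_of_quasiAffine (g ∣_ (f ⁻¹ᵁ V.1)) hq ((isAmple_restrict_iff_pullback _).1 (hL.2 V))
  refine (isAmple_restrict_iff_pullback _).2 (isAmple_of_iso ?_ h1)
  exact (Scheme.Modules.pullbackComp _ _).app L ≪≫
    (Scheme.Modules.pullbackCongr (morphismRestrict_ι g (f ⁻¹ᵁ V.1))).app L ≪≫
    ((Scheme.Modules.pullbackComp _ _).app L).symm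

end Groth.L18.Ample
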