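import Groth.Agent.L18.AmpleExternal

/-!
Relative ampleness: local criterion, cancellation, base change, external tensor products.
-/

set_option autoImplicit false
set_option backward.isDefEq.respectTransparency false
universe u

open CategoryTheory CategoryTheory.Limits AlgebraicGeometry TopologicalSpace Opposite

noncomputable section

namespace Groth.L18.Ample

open Groth.L18.GenLoc

variable {X Y Z : Scheme.{u}} {L : X.Modules}

theorem exists_affine_le {Y : Scheme.{u}} {U : Y.Opens} {y : Y} (hy : y ∈ U) :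
    ∃ V : Y.Opens, IsAffineOpen V ∧ y ∈ V ∧ V ≤ U := by
  obtain ⟨_, ⟨V, hV, rfl⟩, hyV, hVU⟩ := Y.isBasis_affineOpens.exists_subset_of_mem_open (a := y) hy U.2
  exact ⟨V, hV, hyV, hVU⟩

/-- a local criterion for relative ampleness -/
theorem isRelAmple_of_local (f : X ⟶ Y) [QuasiCompact f]
    (h : ∀ y : Y, ∃ V : Y.Opens, IsAffineOpen V ∧ y ∈ V ∧ CohB1.IsAmple (L.restrict (f ⁻¹ᵁ V).ι)) :
    RelAmple.IsRelAmple f L := by
  choose V hV hy hA using h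
  refine isRelAmple_of_cover f V (top_le_iff.mp fun y _ => Opens.mem_iSup.mpr ⟨y, hy y⟩) fun y => ?_
  haveI : IsAffine (V y : Scheme.{u}) := hV y
  exact isRelAmple_of_isAmple (hA y)

theorem isAmple_restrict_of_le {A B : X.Opens} (h : A ≤ B) (hA : IsCompact (A : Set X))
    (hB : CohB1.IsAmple (L.restrict B.ι)) : CohB1.IsAmple (L.restrict A.ι) := by
  haveI : CompactSpace (A : Scheme.{u}) := isCompact_iff_compactSpace.mp hA
  have h1 := isAmple_pullback_of_isInducing (X.homOfLE h) (X.homOfLE h).isOpenEmbedding.isInducing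
    ((isAmple_restrict_iff_pullback _).1 hB)
  exact (isAmple_restrict_iff_pullback _).2 (isAmple_of_iso ((Scheme.Modules.pullbackComp _ _).app L ≪≫
    (Scheme.Modules.pullbackCongr (X.homOfLE_ι h)).app L) h1)

theorem isRelAmple_of_comp (f : X ⟶ Y) (g : Y ⟶ Z) [QuasiCompact f]
    (hL : RelAmple.IsRelAmple (f ≫ g) L) : RelAmple.IsRelAmple f L := by
  refine isRelAmple_of_local f fun y => ?_
  obtain ⟨W, hW, hyW, -⟩ := exists_affine_le (Opens.mem_top (g y))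
  obtain ⟨V, hV, hyV, hVW⟩ := exists_affine_le (show y ∈ g ⁻¹ᵁ W from hyW)
  exact ⟨V, hV, hyV, isAmple_restrict_of_le (B := (f ≫ g) ⁻¹ᵁ W) (fun x hx => hVW hx)
    (f.isCompact_preimage hV.isCompact) (hL.2 ⟨W, hW⟩)⟩

theorem isRelAmple_baseChange (f : X ⟶ Y) [QuasiCompact f] (g : Z ⟶ Y) (hL : RelAmple.IsRelAmple f L) :
    RelAmple.IsRelAmple (pullback.snd f g) ((Scheme.Modules.pullback (pullback.fst f g)).obj L) := by
  refine isRelAmple_of_local _ fun z => ?_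
  obtain ⟨W, hW, hzW, -⟩ := exists_affine_le (Opens.mem_top (g z))
  obtain ⟨V, hV, hzV, hVW⟩ := exists_affine_le (show z ∈ g ⁻¹ᵁ W from hzW)
  refine ⟨V, hV, hzV, ?_⟩
  haveI : IsAffine (W : Scheme.{u}) := hW
  haveI : IsAffine (V : Scheme.{u}) := hV
  let r : (V : Scheme.{u}) ⟶ W := g.resLE W V hVW
  haveI : IsAffineHom (pullback.fst (f ∣_ W) r) :=
    MorphismProperty.pullback_fst (P := @IsAffineHom) _ _ (isAffineHom_of_isAffine r)
  have sq1 : IsPullback (pullback.fst (f ∣_ W) r ≫ (f ⁻¹ᵁ W).ι) (pullback.snd (f ∣_ W) r) f (V.ι ≫ g) := by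
    rw [← g.resLE_comp_ι hVW]
    exact (IsPullback.of_hasPullback (f ∣_ W) r).paste_horiz (isPullback_morphismRestrict f W).flip
  have sq2 : IsPullback ((pullback.snd f g ⁻¹ᵁ V).ι ≫ pullback.fst f g) (pullback.snd f g ∣_ V) f (V.ι ≫ g) :=
    (isPullback_morphismRestrict (pullback.snd f g) V).flip.paste_horiz (IsPullback.of_hasPullback f g)
  let e := sq2.isoIsPullback _ _ sq1
  have he : e.hom ≫ pullback.fst (f ∣_ W) r ≫ (f ⁻¹ᵁ W).ι = (pullback.snd f g ⁻¹ᵁ V).ι ≫ pullback.fst f g :=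
    IsPullback.isoIsPullback_hom_fst _ _ _ _
  have h1 := isAmple_pullback_of_isAffineHom (e.hom ≫ pullback.fst (f ∣_ W) r)
    ((isAmple_restrict_iff_pullback _).1 (hL.2 ⟨W, hW⟩))
  exact (isAmple_restrict_iff_pullback _).2 (isAmple_of_iso ((Scheme.Modules.pullbackComp _ _).app L ≪≫
    (Scheme.Modules.pullbackCongr ((Category.assoc _ _ _).trans he)).app L ≪≫
    ((Scheme.Modules.pullbackComp _ _).app L).symm) h1)

theorem isRelAmple_external {X₁ X₂ Y₁ Y₂ S : Scheme.{u}} (a₁ : Y₁ ⟶ S) (a₂ : Y₂ ⟶ S)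
    (f₁ : X₁ ⟶ Y₁) (f₂ : X₂ ⟶ Y₂) [QuasiCompact f₁] [QuasiCompact f₂] {L₁ : X₁.Modules} {L₂ : X₂.Modules}
    (hL₁ : RelAmple.IsRelAmple f₁ L₁) (hL₂ : RelAmple.IsRelAmple f₂ L₂) :
    RelAmple.IsRelAmple
      (pullback.map (f₁ ≫ a₁) (f₂ ≫ a₂) a₁ a₂ f₁ f₂ (𝟙 S) (Category.comp_id (f₁ ≫ a₁)) (Category.comp_id (f₂ ≫ a₂)))
      (CohB1.tensorMod ((Scheme.Modules.pullback (pullback.fst (f₁ ≫ a₁) (f₂ ≫ a₂))).obj L₁)
        ((Scheme.Modules.pullback (pullback.snd (f₁ ≫ a₁) (f₂ ≫ a₂))).obj L₂)) := by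
  set F₁ := f₁ ≫ a₁
  set F₂ := f₂ ≫ a₂
  set m := pullback.map F₁ F₂ a₁ a₂ f₁ f₂ (𝟙 S) (Category.comp_id _) (Category.comp_id _)
  haveI : QuasiCompact m :=
    MorphismProperty.pullbackMap (P := @QuasiCompact) ‹QuasiCompact f₁› ‹QuasiCompact f₂› rfl rfl
  refine isRelAmple_of_local m fun q => ?_
  obtain ⟨T, hT, hqT, -⟩ := exists_affine_le (Opens.mem_top (a₁ (pullback.fst a₁ a₂ q)))
  have hqT2 : a₂ (pullback.snd a₁ a₂ q) ∈ T := by
    have := congr($(pullback.condition (f := a₁) (g := a₂)) q)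
    simp only [Scheme.Hom.comp_apply] at this
    rwa [← this]
  obtain ⟨W₁, hW₁, hq₁, hW₁T⟩ := exists_affine_le (show pullback.fst a₁ a₂ q ∈ a₁ ⁻¹ᵁ T from hqT)
  obtain ⟨W₂, hW₂, hq₂, hW₂T⟩ := exists_affine_le (show pullback.snd a₁ a₂ q ∈ a₂ ⁻¹ᵁ T from hqT2)
  obtain ⟨V, hV, hqV, hVle⟩ := exists_affine_le
    (show q ∈ pullback.fst a₁ a₂ ⁻¹ᵁ W₁ ⊓ pullback.snd a₁ a₂ ⁻¹ᵁ W₂ from ⟨hq₁, hq₂⟩)
  refine ⟨V, hV, hqV, ?_⟩
  set A₁ := f₁ ⁻¹ᵁ W₁
  set A₂ := f₂ ⁻¹ᵁ W₂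
  let h₁ : (A₁ : Scheme.{u}) ⟶ T := (f₁ ∣_ W₁) ≫ a₁.resLE T W₁ hW₁T
  let h₂ : (A₂ : Scheme.{u}) ⟶ T := (f₂ ∣_ W₂) ≫ a₂.resLE T W₂ hW₂T
  have e₁ : h₁ ≫ T.ι = A₁.ι ≫ F₁ := by simp [h₁, F₁, A₁]
  have e₂ : h₂ ≫ T.ι = A₂.ι ≫ F₂ := by simp [h₂, F₂, A₂]
  let n := pullback.map h₁ h₂ F₁ F₂ A₁.ι A₂.ι T.ι e₁ e₂
  let R : (pullback F₁ F₂).Opens := pullback.fst F₁ F₂ ⁻¹ᵁ A₁ ⊓ pullback.snd F₁ F₂ ⁻¹ᵁ A₂
  have hn : Set.range n = Set.range R.ι := by
    rw [Scheme.Pullback.range_map, Scheme.Opens.range_ι, Scheme.Opens.range_ι, Scheme.Opens.range_ι]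
    rfl
  have hR : CohB1.IsAmple ((CohB1.tensorMod ((Scheme.Modules.pullback (pullback.fst F₁ F₂)).obj L₁)
      ((Scheme.Modules.pullback (pullback.snd F₁ F₂)).obj L₂)).restrict R.ι) := by
    haveI : IsAffine (T : Scheme.{u}) := hT
    have h := isAmple_external h₁ h₂ ((isAmple_restrict_iff_pullback _).1 (hL₁.2 ⟨W₁, hW₁⟩))
      ((isAmple_restrict_iff_pullback _).1 (hL₂.2 ⟨W₂, hW₂⟩))
    let i₁ : (Scheme.Modules.pullback (pullback.fst h₁ h₂)).obj ((Scheme.Modules.pullback A₁.ι).obj L₁) ≅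
        (Scheme.Modules.pullback n).obj ((Scheme.Modules.pullback (pullback.fst F₁ F₂)).obj L₁) :=
      (Scheme.Modules.pullbackComp _ _).app L₁ ≪≫
        (Scheme.Modules.pullbackCongr (by simp [n])).app L₁ ≪≫ ((Scheme.Modules.pullbackComp _ _).app L₁).symm
    let i₂ : (Scheme.Modules.pullback (pullback.snd h₁ h₂)).obj ((Scheme.Modules.pullback A₂.ι).obj L₂) ≅
        (Scheme.Modules.pullback n).obj ((Scheme.Modules.pullback (pullback.snd F₁ F₂)).obj L₂) :=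
      (Scheme.Modules.pullbackComp _ _).app L₂ ≪≫
        (Scheme.Modules.pullbackCongr (by simp [n])).app L₂ ≪≫ ((Scheme.Modules.pullbackComp _ _).app L₂).symm
    have h' := isAmple_of_iso (Groth.L00.Tensor.tensorIso i₁ i₂ ≪≫ Groth.L29.DC.PullTensor.pullTensor n _ _) h
    exact (isAmple_restrict_iff_pullback _).2
      ((isAmple_pullback_congr (IsOpenImmersion.isoOfRangeEq n R.ι hn) R.ι n
        (IsOpenImmersion.isoOfRangeEq_hom_fac _ _ _)).1 h')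
  refine isAmple_restrict_of_le (B := R) (fun x hx => ?_) (m.isCompact_preimage hV.isCompact) hR
  have hx' := hVle hx
  refine ⟨?_, ?_⟩
  · have := congr($(show m ≫ pullback.fst a₁ a₂ = pullback.fst F₁ F₂ ≫ f₁ from pullback.lift_fst _ _ _) x)
    show f₁ _ ∈ W₁
    simp only [Scheme.Hom.comp_apply] at this
    exact this ▸ hx'.1
  · have := congr($(show m ≫ pullback.snd a₁ a₂ = pullback.snd F₁ F₂ ≫ f₂ from pullback.lift_snd _ _ _) x)
    show f₂ _ ∈ W₂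
    simp only [Scheme.Hom.comp_apply] at this
    exact this ▸ hx'.2

end Groth.L18.Ample
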