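import Groth.Agent.L22.VeryAmple.Over
import Groth.Agent.L18.AmpleGG
import Groth.Agent.L18.RelAmpleOps
import Groth.Agent.L18.RelAmpleLocal

/-!
An immersion into projective space over an arbitrary base, from an ample module on the source.
-/

set_option autoImplicit false
set_option backward.isDefEq.respectTransparency false
set_option linter.style.haveILetI false
universe u

open CategoryTheory CategoryTheory.Limits AlgebraicGeometry TopologicalSpace

noncomputable section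

namespace Groth.L18.VeryAmpleOver

open Groth.L18.Frame (rs ro rs_rs rs_self rs_smul ro_ro ro_self ro_mul IsFrame)
open Groth.L18.GenLoc Groth.L18.Ample Groth.L22.VeryAmple

variable {X Y : Scheme.{u}}

theorem isAffineOpen_chart_inf {n : ℕ} (j : Fin (n + 1)) {V : Y.Opens} (hV : IsAffineOpen V) :
    IsAffineOpen (pullback.fst (CohB1.ProjSpace.toSpec n (ULift.{u} ℤ)) (specULiftZIsTerminal.from Y) ⁻¹ᵁ
        Groth.L18.PUP.D j ⊓
      pullback.snd (CohB1.ProjSpace.toSpec n (ULift.{u} ℤ)) (specULiftZIsTerminal.from Y) ⁻¹ᵁ V) := by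
  set a := CohB1.ProjSpace.toSpec n (ULift.{u} ℤ)
  set b := specULiftZIsTerminal.from Y
  set D := Groth.L18.PUP.D (R := ULift.{u} ℤ) j
  haveI : IsAffine D.toScheme := Proj.isAffineOpen_basicOpen _ _ (Groth.L18.PS.X_mem n j) one_pos
  haveI : IsAffine V.toScheme := hV
  let m := pullback.map (D.ι ≫ a) (V.ι ≫ b) a b D.ι V.ι (𝟙 _) (Category.comp_id _) (Category.comp_id _)
  have h := isAffineOpen_opensRange m
  convert h using 1
  refine Opens.ext ?_
  rw [Scheme.Hom.coe_opensRange, Scheme.Pullback.range_map]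
  simp [Scheme.Opens.range_ι]

theorem appLE_congr_hom {f g : X ⟶ Y} (h : f = g) {U : Y.Opens} {W : X.Opens} (e : W ≤ f ⁻¹ᵁ U) (e' : W ≤ g ⁻¹ᵁ U) :
    f.appLE U W e = g.appLE U W e' := by
  subst h; rfl

theorem exists_generators_affine (f : X ⟶ Y) [LocallyOfFiniteType f] {V : Y.Opens} (hV : IsAffineOpen V)
    {G : X.Opens} (hG : IsAffineOpen G) (hle : G ≤ f ⁻¹ᵁ V) :
    ∃ (γ : Type u) (_ : Finite γ) (g : γ → Γ(X, G)), ∀ A : Subring Γ(X, G),
      (∀ c, f.appLE V G hle c ∈ A) → (∀ j, g j ∈ A) → A = ⊤ := by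
  have hft := HasRingHomProperty.appLE @LocallyOfFiniteType f inferInstance ⟨V, hV⟩ ⟨G, hG⟩ hle
  letI := (f.appLE V G hle).hom.toAlgebra
  obtain ⟨S, hS⟩ := (hft : Algebra.FiniteType Γ(Y, V) Γ(X, G)).out
  refine ⟨S, inferInstance, fun j => j.1, fun A hc hf => ?_⟩
  let A' : Subalgebra Γ(Y, V) Γ(X, G) := { A.toSubsemiring with algebraMap_mem' := hc }
  have h : Algebra.adjoin Γ(Y, V) (S : Set Γ(X, G)) ≤ A' := Algebra.adjoin_le fun a ha => hf ⟨a, ha⟩
  rw [hS] at h
  exact eq_top_iff.2 fun a _ => h trivial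

/-- Sections with affine loci over affine opens of the base and enough coefficients give an immersion. -/
theorem exists_immersion_over (f : X ⟶ Y) {N : X.Modules} (hN : PicF.IsInvertible N)
    {κ : Type u} [Finite κ] (S₀ : κ → Γ(N, ⊤)) {ι : Type u} (c₀ : ι → κ) (G : ι → X.Opens) (V : ι → Y.Opens)
    (hcov : ∀ x, ∃ i, x ∈ G i) (haff : ∀ i, IsAffineOpen (G i)) (hV : ∀ i, IsAffineOpen (V i))
    (hle : ∀ i, G i ≤ f ⁻¹ᵁ V i)
    (hfr : ∀ i, IsFrame N (G i) (rs N le_top (S₀ (c₀ i))))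
    (hmax : ∀ i (W : X.Opens), IsFrame N W (rs N le_top (S₀ (c₀ i))) → W ≤ G i)
    (hgen : ∀ (i : ι) (A : Subring Γ(X, G i)),
      (∀ c, f.appLE (V i) (G i) (hle i) c ∈ A) →
      (∀ (j : κ) (a : Γ(X, G i)), a • rs N (le_top : G i ≤ ⊤) (S₀ (c₀ i)) = rs N (le_top : G i ≤ ⊤) (S₀ j) → a ∈ A) → A = ⊤) :
    RelAmple.IsRelVeryAmplePn f N := by
  classical
  haveI := Fintype.ofFinite κ
  let n : ℕ := Fintype.card κ
  let e : Option κ ≃ Fin (n + 1) := Fintype.equivFinOfCardEq (Fintype.card_option (α := κ))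
  let S : Fin (n + 1) → Γ(N, ⊤) := fun j => (e.symm j).elim 0 S₀
  have hSe : ∀ k, S (e (some k)) = S₀ k := fun k => by simp [S]
  let j₀ : ι → Fin (n + 1) := fun i => e (some (c₀ i))
  have hfrS : ∀ i, IsFrame N (G i) (rs N le_top (S (j₀ i))) := fun i => by
    rw [hSe]; exact hfr i
  obtain ⟨r, hr, τ, hτ⟩ := Groth.L18.PUP.exists_hom (specULiftZIsTerminal.from X) N hN S
    (Groth.L18.SpecLine.generatedBy_of_frames (ι := Fin (n + 1)) S fun x => by
      obtain ⟨i, hi⟩ := hcov x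
      exact ⟨_, j₀ i, hi, hfrS i⟩)
  have hτrs : ∀ (W : X.Opens) (j : Fin (n + 1)),
      τ.hom.app W (rs _ le_top (Groth.L18.PUP.rT r j)) = rs N le_top (S j) := fun W j => by
    rw [← hτ j]
    exact congr($(τ.hom.mapPresheaf.naturality (homOfLE (le_top : W ≤ ⊤)).op) (Groth.L18.PUP.rT r j))
  have hframe : ∀ (W : X.Opens) (j : Fin (n + 1)),
      IsFrame ((Scheme.Modules.pullback r).obj (Groth.L18.PUP.O1 n (ULift.{u} ℤ))) W (rs _ le_top (Groth.L18.PUP.rT r j)) ↔
        IsFrame N W (rs N le_top (S j)) := fun W j => by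
    refine forall_congr' fun U => forall_congr' fun hU => ?_
    have e1 : (fun b : Γ(X, U) => b • rs N hU (rs N le_top (S j))) =
        τ.hom.app U ∘ fun b => b • rs ((Scheme.Modules.pullback r).obj (Groth.L18.PUP.O1 n (ULift.{u} ℤ))) hU
          (rs _ le_top (Groth.L18.PUP.rT r j)) := by
      funext b
      simp only [rs_rs, Function.comp_apply, Scheme.Modules.Hom.app_smul, hτrs]
    rw [e1]
    exact (Function.Bijective.of_comp_iff' (ConcreteCategory.bijective_of_isIso (τ.hom.app U)) _).symm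
  have hpre : ∀ i, r ⁻¹ᵁ Groth.L18.PUP.D (j₀ i) = G i := fun i => by
    refine le_antisymm (hmax i _ ?_)
      (Groth.L18.PUP.le_preimage_of_frame r ((hframe _ _).2 (hfrS i)))
    have h := (hframe _ _).1 (Groth.L18.PUP.rT_frame r (j₀ i))
    rwa [hSe] at h
  let r' : X ⟶ CohB1.ProjSpaceOver n Y := pullback.lift r f (specULiftZIsTerminal.hom_ext _ _)
  have hr1 : r' ≫ pullback.fst _ _ = r := pullback.lift_fst _ _ _
  have hr2 : r' ≫ pullback.snd _ _ = f := pullback.lift_snd _ _ _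
  let E : ι → (CohB1.ProjSpaceOver n Y).Opens := fun i =>
    pullback.fst (CohB1.ProjSpace.toSpec n (ULift.{u} ℤ)) (specULiftZIsTerminal.from Y) ⁻¹ᵁ Groth.L18.PUP.D (j₀ i) ⊓
      pullback.snd (CohB1.ProjSpace.toSpec n (ULift.{u} ℤ)) (specULiftZIsTerminal.from Y) ⁻¹ᵁ V i
  have hpreE : ∀ i, r' ⁻¹ᵁ E i = G i := fun i => by
    show (r' ≫ pullback.fst _ _) ⁻¹ᵁ _ ⊓ (r' ≫ pullback.snd _ _) ⁻¹ᵁ _ = _
    rw [hr1, hr2, hpre i, inf_eq_left.2 (hle i)]
  have hci : ∀ i, IsClosedImmersion (r' ∣_ E i) := fun i => by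
    have hEa : IsAffineOpen (E i) := isAffineOpen_chart_inf (j₀ i) (hV i)
    have hGa : IsAffineOpen (r' ⁻¹ᵁ E i) := by rw [hpreE i]; exact haff i
    haveI : IsAffine (E i).toScheme := hEa
    haveI : IsAffine (r' ⁻¹ᵁ E i).toScheme := hGa
    have hle' : G i ≤ r' ⁻¹ᵁ E i := (hpreE i).ge
    have hsurj : Function.Surjective (r'.appLE (E i) (G i) hle').hom := by
      rw [← RingHom.range_eq_top]
      refine hgen i _ (fun c => ?_) fun j a ha => ?_
      · refine ⟨(pullback.snd (CohB1.ProjSpace.toSpec n (ULift.{u} ℤ)) (specULiftZIsTerminal.from Y)).appLE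
          (V i) (E i) inf_le_right c, ?_⟩
        show ((pullback.snd (CohB1.ProjSpace.toSpec n (ULift.{u} ℤ)) (specULiftZIsTerminal.from Y)).appLE (V i) (E i) _ ≫ r'.appLE _ _ hle') c = _
        rw [Scheme.Hom.appLE_comp_appLE]
        exact congr($(appLE_congr_hom hr2 _ _) c)
      · refine ⟨(pullback.fst (CohB1.ProjSpace.toSpec n (ULift.{u} ℤ)) (specULiftZIsTerminal.from Y)).appLE
          (Groth.L18.PUP.D (j₀ i)) (E i) inf_le_left (Groth.L18.PUP.cc (j₀ i) (e (some j))), (hfr i).inj le_rfl ?_⟩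
        have hle'' : G i ≤ r ⁻¹ᵁ Groth.L18.PUP.D (j₀ i) := (hpre i).ge
        have h0 : r'.appLE (E i) (G i) hle' ((pullback.fst (CohB1.ProjSpace.toSpec n (ULift.{u} ℤ))
            (specULiftZIsTerminal.from Y)).appLE (Groth.L18.PUP.D (j₀ i)) (E i) inf_le_left
            (Groth.L18.PUP.cc (j₀ i) (e (some j)))) =
            r.appLE _ _ hle'' (Groth.L18.PUP.cc (j₀ i) (e (some j))) := by
          show ((pullback.fst (CohB1.ProjSpace.toSpec n (ULift.{u} ℤ)) (specULiftZIsTerminal.from Y)).appLE (Groth.L18.PUP.D (j₀ i)) (E i) inf_le_left ≫ r'.appLE _ _ hle') _ = _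
          rw [Scheme.Hom.appLE_comp_appLE]
          exact congr($(appLE_congr_hom hr1 _ _) (Groth.L18.PUP.cc (j₀ i) (e (some j))))
        have h1 := congrArg (τ.hom.app (G i)) (Groth.L18.PUP.rT_smul_le r hle'' (e (some j)))
        rw [Scheme.Modules.Hom.app_smul, hτrs, hτrs, hSe, hSe] at h1
        rw [rs_self]
        exact (congrArg (· • _) h0).trans (h1.trans ha.symm)
    have hsurj' : Function.Surjective (r'.app (E i)).hom := by
      intro y
      obtain ⟨a, ha⟩ := hsurj (X.presheaf.map (homOfLE hle').op y)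
      refine ⟨a, ?_⟩
      haveI : IsIso (X.presheaf.map (homOfLE hle').op) := by
        rw [show homOfLE hle' = eqToHom (hpreE i).symm from rfl]; infer_instance
      exact (ConcreteCategory.bijective_of_isIso (X.presheaf.map (homOfLE hle').op)).1 ha
    refine IsClosedImmersion.of_surjective_of_isAffine _ ?_
    rw [Scheme.Hom.appTop, morphismRestrict_app]
    intro y
    haveI : IsIso (X.presheaf.map (eqToHom (image_morphismRestrict_preimage r' (E i) ⊤)).op) :=
      inferInstance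
    obtain ⟨z, rfl⟩ := (ConcreteCategory.bijective_of_isIso
      (X.presheaf.map (eqToHom (image_morphismRestrict_preimage r' (E i) ⊤)).op)).2 y
    have hs2 : Function.Surjective (r'.app ((E i).ι ''ᵁ ⊤)).hom := by
      rw [(E i).ι_image_top]; exact hsurj'
    obtain ⟨a, ha⟩ := hs2 z
    exact ⟨a, congrArg _ ha⟩
  haveI := isClosedImmersion_restrict_iSup r' _ hci
  have himm : IsImmersion r' := by
    have htop : r' ⁻¹ᵁ (⨆ i, E i) = ⊤ := eq_top_iff.2 fun x _ => by
      obtain ⟨i, hi⟩ := hcov x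
      have : x ∈ r' ⁻¹ᵁ E i := (hpreE i).ge hi
      exact Opens.mem_iSup.2 ⟨i, this⟩
    have hfac : r' = (X.topIso.inv ≫ (X.isoOfEq htop.symm).hom ≫ (r' ∣_ ⨆ i, E i)) ≫ (⨆ i, E i).ι := by
      simp
    rw [hfac]
    infer_instance
  refine ⟨n, r', himm, hr2, ⟨?_⟩⟩
  exact τ.symm ≪≫ ((Scheme.Modules.pullbackComp r' _).app _ ≪≫ (Scheme.Modules.pullbackCongr hr1).app _).symm

/-- A finite type morphism out of a scheme with an ample module embeds into a projective space over any base. -/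
theorem exists_isRelVeryAmplePn_of_isAmple (f : X ⟶ Y) [LocallyOfFiniteType f]
    [QuasiSeparatedSpace X] {L : X.Modules} (hL : CohB1.IsAmple L) :
    ∃ N : X.Modules, RelAmple.IsRelVeryAmplePn f N := by
  classical
  haveI := hL.2.1
  choose V hV hxV _ using fun x : X => exists_affine_le (Opens.mem_top (f x))
  choose m s hx hle hs using fun x : X => exists_affine_genLocus_subset hL (f ⁻¹ᵁ V x) (x := x) (hxV x)
  obtain ⟨T, hT⟩ := isCompact_univ.elim_finite_subcover
    (fun x : X => (CohB1.genLocus _ (s x) : Set X)) (fun x => (CohB1.genLocus _ (s x)).2)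
    (fun x _ => Set.mem_iUnion.2 ⟨x, hx x⟩)
  have hd : 0 < ∏ x ∈ T, (m x + 1) := Finset.prod_pos fun x _ => Nat.succ_pos _
  have hex : ∀ x : T, ∃ c, ∏ y ∈ T, (m y + 1) = (m x.1 + 1) * (c + 1) := fun x => by
    obtain ⟨c, hc⟩ := Finset.dvd_prod_of_mem (fun y => m y + 1) x.2
    refine ⟨c - 1, ?_⟩
    rcases c with _ | c
    · simp [hc] at hd
    · simpa using hc
  choose c hc using hex
  have hloc : ∀ x : T, ∃ s' : Coh.structureModule X ⟶ CohB1.tensorPow L (∏ y ∈ T, (m y + 1)),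
      CohB1.genLocus _ s' = CohB1.genLocus _ (s x.1) := fun x => by
    rw [hc x]
    refine ⟨pw (s x.1) (c x + 1) ≫ (Groth.L00.Tensor.tensorPowMul L (m x.1 + 1) (c x + 1)).hom, ?_⟩
    rw [Groth.L16.genLocus_comp_iso, genLocus_pw_succ (isInvertible_tensorPow hL.1 _)]
  choose s₀ hs₀ using hloc
  obtain ⟨M, hM, s', hs'⟩ : ∃ (M : X.Modules) (_ : PicF.IsInvertible M) (s' : T → (Coh.structureModule X ⟶ M)),
      ∀ x : T, CohB1.genLocus M (s' x) = CohB1.genLocus _ (s x.1) :=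
    ⟨_, isInvertible_tensorPow hL.1 (∏ y ∈ T, (m y + 1)), s₀, hs₀⟩
  have haff : ∀ i : T, IsAffineOpen (CohB1.genLocus M (s' i)) := fun i => by rw [hs' i]; exact hs i.1
  have hle' : ∀ i : T, CohB1.genLocus M (s' i) ≤ f ⁻¹ᵁ V i.1 := fun i => by rw [hs' i]; exact hle i.1
  choose γ hγ g hg using fun i : T => exists_generators_affine f (hV i.1) (haff i) (hle' i)
  have hO := isInvertible_structureModule X
  obtain ⟨k, hk⟩ := exists_sections hM hO s' (σ := PUnit) (fun _ => 𝟙 _) γ g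
  obtain ⟨K, hK1, hK⟩ : ∃ K, 1 ≤ K ∧ k ≤ K := ⟨k + 1, Nat.succ_pos _, Nat.le_succ _⟩
  choose t ht using hk K hK
  have hfr : ∀ i : T, IsFrame (tw (Coh.structureModule X) M K) (CohB1.genLocus M (s' i))
      (rs _ le_top (powSec (s' i) (secOf (𝟙 (Coh.structureModule X))) K)) := fun i => by
    rw [rs_powSec]
    refine isFrame_powFrame le_rfl ?_
    have := (isFrame_genLocus (𝟙 (Coh.structureModule X))).mono
      (le_top.trans (genLocus_id (X := X)).ge : CohB1.genLocus M (s' i) ≤ _)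
    rwa [rs_rs] at this
  refine ⟨_, exists_immersion_over f (isInvertible_tw hO hM K)
    (κ := T ⊕ ((Σ i, γ i) × PUnit)) (Sum.elim (fun i => powSec (s' i) (secOf (𝟙 _)) K) t) Sum.inl
    (fun i => CohB1.genLocus M (s' i)) (fun i => V i.1) (fun x => ?_) haff (fun i => hV _) hle' hfr
    (fun i W hW => (le_genLocus_of_isFrame_powSec hM hO (s' i) (𝟙 _) hK1 hW).trans inf_le_left)
    fun i A hc hj => ?_⟩
  · obtain ⟨y, hy, hxy⟩ := Set.mem_iUnion₂.1 (hT (Set.mem_univ x))
    exact ⟨⟨y, hy⟩, by rw [hs']; exact hxy⟩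
  · refine hg i A hc fun j => hj (Sum.inr (⟨i, j⟩, PUnit.unit)) _ ?_
    show _ • rs _ le_top (powSec (s' i) (secOf (𝟙 (Coh.structureModule X))) K) = rs _ le_top (t (⟨i, j⟩, PUnit.unit))
    rw [rs_powSec]
    exact (ht (⟨i, j⟩, PUnit.unit)).symm

theorem isRelAmple_twistOver (n : ℕ) (Y : Scheme.{u}) :
    RelAmple.IsRelAmple (CohB1.ProjSpaceOver.toBase n Y) (Twist.twistOver n Y 1) := by
  haveI : QuasiCompact (CohB1.ProjSpace.toSpec n (ULift.{u} ℤ)) := inferInstance
  exact isRelAmple_baseChange (CohB1.ProjSpace.toSpec n (ULift.{u} ℤ)) (specULiftZIsTerminal.from Y)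
    (isRelAmple_of_isAmple (isAmple_O1 n (ULift.{u} ℤ)))

theorem exists_isRelAmple_of_isRelVeryAmplePn (f : X ⟶ Y) [QuasiCompact f] {N : X.Modules}
    (h : RelAmple.IsRelVeryAmplePn f N) : ∃ M : X.Modules, RelAmple.IsRelAmple f M := by
  obtain ⟨n, i, hi, hf, -⟩ := h
  haveI : IsSeparated (CohB1.ProjSpaceOver.toBase n Y) := by
    show IsSeparated (pullback.snd _ _)
    infer_instance
  haveI : QuasiCompact (CohB1.ProjSpaceOver.toBase n Y) := (isRelAmple_twistOver n Y).1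
  haveI : QuasiCompact (i ≫ CohB1.ProjSpaceOver.toBase n Y) := by
    rw [show i ≫ CohB1.ProjSpaceOver.toBase n Y = f from hf]; infer_instance
  haveI : QuasiCompact i := QuasiCompact.of_comp i (CohB1.ProjSpaceOver.toBase n Y)
  have hqa : Mor2.IsQuasiAffine i := ⟨inferInstance, fun W hW => by
    haveI : IsAffine W.toScheme := hW
    haveI : CompactSpace (i ⁻¹ᵁ W : Scheme.{u}) := isCompact_iff_compactSpace.1 (i.isCompact_preimage hW.isCompact)
    exact Scheme.IsQuasiAffine.of_isImmersion (i ∣_ W)⟩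
  have := isRelAmple_pullback_quasiAffine _ i hqa (isRelAmple_twistOver n Y)
  exact ⟨_, by rwa [show i ≫ CohB1.ProjSpaceOver.toBase n Y = f from hf] at this⟩

end Groth.L18.VeryAmpleOver
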