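import Groth.Agent.L18.Frame
import Groth.Agent.L18.ProjSpace
import Groth.Prelude.Def_ProjUP

/-!
# The universal property of projective space over an affine base
-/

set_option autoImplicit false
universe u

open CategoryTheory CategoryTheory.Limits AlgebraicGeometry TopologicalSpace Opposite

noncomputable section

namespace Groth.L18.PUP

open Groth.L18.Frame Groth.L18.PS MvPolynomial HomogeneousLocalization

variable {n : ℕ} {R : Type u} [CommRing R]

/-- `ℙⁿ` as `Proj`. -/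
abbrev P (n : ℕ) (R : Type u) [CommRing R] : Scheme.{u} := Proj (CohB1.polyGrading n R)

/-- The chart, landing in `Proj`. -/
abbrev ch (n : ℕ) (R : Type u) [CommRing R] (i : Fin (n + 1)) :
    Spec (.of (Away (CohB1.polyGrading n R) (X i : MvPolynomial (Fin (n + 1)) R))) ⟶ P n R :=
  Proj.awayι (CohB1.polyGrading n R) (X i) (Groth.L18.PS.X_mem n i) one_pos

/-- The structure morphism. -/
abbrev pr (n : ℕ) (R : Type u) [CommRing R] : P n R ⟶ Spec (CommRingCat.of R) := CohB1.ProjSpace.toSpec n R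

/-- `O(1)`. -/
abbrev O1 (n : ℕ) (R : Type u) [CommRing R] : (P n R).Modules := Twist.twist (CohB1.polyGrading n R) 1

/-- `D₊(T_i)`. -/
abbrev D (i : Fin (n + 1)) : (P n R).Opens :=
  Proj.basicOpen (CohB1.polyGrading n R) (X i : MvPolynomial (Fin (n + 1)) R)

/-- The coordinate section. -/
abbrev T (i : Fin (n + 1)) : Γ(O1 n R, ⊤) :=
  Twist.globalOf (CohB1.polyGrading n R) ⟨X i, MvPolynomial.isHomogeneous_X R i⟩

theorem T_frame (i : Fin (n + 1)) : IsFrame (O1 n R) (D i) (rs (O1 n R) le_top (T i)) := by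
  intro V h
  rw [rs_rs]
  let one' : CohB1.polyGrading n R 0 := ⟨1, SetLike.GradedOne.one_mem⟩
  let a : CohB1.polyGrading n R 1 := ⟨X i, Groth.L18.PS.X_mem n i⟩
  have hN : (((1 : ℕ) : ℤ)) = ((0 : ℕ) : ℤ) + (1 : ℤ) := by norm_num
  have ha : ∀ x : (V : Opens (ProjectiveSpectrum.top (CohB1.polyGrading n R))), a.1 ∉ x.1.asHomogeneousIdeal :=
    fun x => (Proj.mem_basicOpen _ _ _).1 (h x.2)
  have hb : ∀ x : (V : Opens (ProjectiveSpectrum.top (CohB1.polyGrading n R))), one'.1 ∉ x.1.asHomogeneousIdeal :=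
    fun x hx => x.1.isPrime.ne_top ((Ideal.eq_top_iff_one _).mpr hx)
  exact ⟨Groth.L16.ProjTwist.smul_gen_injective a one' hN V hb ha,
    Groth.L16.ProjTwist.smul_gen_surjective a one' hN V ha hb⟩

/-- The function `T_k / T_i` on `D₊(T_i)`. -/
def cc (i k : Fin (n + 1)) : Γ(P n R, D i) :=
  Proj.awayToSection (CohB1.polyGrading n R) (X i) (Groth.L18.PS.coord i k)

theorem cc_smul (i k : Fin (n + 1)) :
    cc (R := R) i k • rs (O1 n R) (le_top : D i ≤ ⊤) (T i) = rs (O1 n R) le_top (T k) := by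
  refine Subtype.ext (funext fun x => Subtype.ext ?_)
  erw [Twist.coe_smul_val]
  show HomogeneousLocalization.val ((Proj.awayToSection (CohB1.polyGrading n R) (X i) (Groth.L18.PS.coord i k)).1 x) *
    Localization.mk _ _ = Localization.mk _ _
  erw [ProjectiveSpectrum.Proj.awayToSection_apply]
  rw [Groth.L18.PS.coord, Away.val_mk, Localization.mk_eq_mk', IsLocalization.map_mk', ← Localization.mk_eq_mk',
    Localization.mk_mul, Localization.mk_eq_mk_iff, Localization.r_iff_exists]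
  refine ⟨1, ?_⟩
  simp only [OneMemClass.coe_one, one_mul, RingHom.id_apply, Submonoid.coe_mul, pow_one, mul_one]
  exact mul_comm _ _

theorem fromSpec_D (i : Fin (n + 1)) :
    (Proj.isAffineOpen_basicOpen (CohB1.polyGrading n R) (X i) (Groth.L18.PS.X_mem n i) one_pos).fromSpec =
      Spec.map (Proj.awayToSection (CohB1.polyGrading n R) (X i)) ≫ ch n R i := by
  set hD := Proj.isAffineOpen_basicOpen (CohB1.polyGrading n R) (X i) (Groth.L18.PS.X_mem n i) one_pos
  have h1 : (Proj.basicOpenIsoSpec (CohB1.polyGrading n R) (X i) (Groth.L18.PS.X_mem n i) one_pos).hom =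
      hD.isoSpec.hom ≫ Spec.map (Proj.awayToSection (CohB1.polyGrading n R) (X i)) := by
    rw [Proj.basicOpenIsoSpec_hom]; rfl
  rw [ch, ← Proj.basicOpenIsoSpec_inv_ι, ← hD.isoSpec_inv_ι]
  rw [← cancel_epi hD.isoSpec.hom, ← Category.assoc hD.isoSpec.hom, ← Category.assoc hD.isoSpec.hom (Spec.map _), ← h1,
    Iso.hom_inv_id, Category.id_comp, Iso.hom_inv_id_assoc]

theorem basicOpen_cc (i k : Fin (n + 1)) : (P n R).basicOpen (cc i k) ≤ D k := by
  set hD := Proj.isAffineOpen_basicOpen (CohB1.polyGrading n R) (X i) (Groth.L18.PS.X_mem n i) one_pos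
  intro y hy
  obtain ⟨q, rfl⟩ : y ∈ Set.range hD.fromSpec := by
    rw [hD.range_fromSpec]; exact Scheme.basicOpen_le _ (cc i k) hy
  have hq : q ∈ hD.fromSpec ⁻¹ᵁ (P n R).basicOpen (cc i k) := hy
  rw [hD.fromSpec_preimage_basicOpen] at hq
  show q ∈ hD.fromSpec ⁻¹ᵁ D k
  rw [fromSpec_D, Scheme.Hom.comp_preimage, ch,
    Proj.awayι_preimage_basicOpen _ (Groth.L18.PS.X_mem n i) one_pos (Groth.L18.PS.X_mem n k) one_pos]
  have : Away.isLocalizationElem (Groth.L18.PS.X_mem (R := R) n i) (Groth.L18.PS.X_mem (R := R) n k) =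
      Groth.L18.PS.coord i k := by
    apply HomogeneousLocalization.val_injective
    rw [Away.isLocalizationElem, Groth.L18.PS.coord, Away.val_mk, Away.val_mk]
    simp
  rw [this]
  exact hq

section Hom

variable {Z : Scheme.{u}} (r : Z ⟶ P n R)

/-- `r^* T_i`. -/
abbrev rT (i : Fin (n + 1)) : Γ((Scheme.Modules.pullback r).obj (O1 n R), ⊤) :=
  ProjUP.pullSec r (O1 n R) (T i)

theorem rs_rT (i : Fin (n + 1)) (V : (P n R).Opens) :
    rs ((Scheme.Modules.pullback r).obj (O1 n R)) (le_top : r ⁻¹ᵁ V ≤ ⊤) (rT r i) =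
      pull r (O1 n R) V (rs (O1 n R) le_top (T i)) :=
  pull_rs r (O1 n R) (le_top : V ≤ ⊤) (T i)

theorem rT_frame (i : Fin (n + 1)) :
    IsFrame ((Scheme.Modules.pullback r).obj (O1 n R)) (r ⁻¹ᵁ D i) (rs _ le_top (rT r i)) := by
  rw [rs_rT]
  exact IsFrame.pullback r (O1 n R) (T_frame i)

theorem rT_smul (i k : Fin (n + 1)) :
    r.app (D i) (cc i k) • rs ((Scheme.Modules.pullback r).obj (O1 n R)) (le_top : r ⁻¹ᵁ D i ≤ ⊤) (rT r i) =
      rs _ le_top (rT r k) := by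
  rw [rs_rT, rs_rT, ← pull_smul, cc_smul]

theorem rT_smul_le {W : Z.Opens} {i : Fin (n + 1)} (h : W ≤ r ⁻¹ᵁ D i) (k : Fin (n + 1)) :
    r.appLE (D i) W h (cc i k) • rs ((Scheme.Modules.pullback r).obj (O1 n R)) (le_top : W ≤ ⊤) (rT r i) =
      rs _ le_top (rT r k) := by
  have := congrArg (rs ((Scheme.Modules.pullback r).obj (O1 n R)) h) (rT_smul r i k)
  rw [rs_smul, rs_rs, rs_rs] at this
  exact this

theorem rT_frame_le {W : Z.Opens} {i : Fin (n + 1)} (h : W ≤ r ⁻¹ᵁ D i) :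
    IsFrame ((Scheme.Modules.pullback r).obj (O1 n R)) W (rs _ le_top (rT r i)) := by
  have := (rT_frame r i).mono h
  rwa [rs_rs] at this

theorem le_preimage_of_frame {W : Z.Opens} {i : Fin (n + 1)}
    (h : IsFrame ((Scheme.Modules.pullback r).obj (O1 n R)) W (rs _ le_top (rT r i))) : W ≤ r ⁻¹ᵁ D i := by
  intro z hz
  obtain ⟨j, hj⟩ := Opens.mem_iSup.mp ((iSup_chart (n := n) (R := R)).ge (trivial : r.base z ∈ ⊤))
  have hO : W ⊓ r ⁻¹ᵁ D j ≤ r ⁻¹ᵁ D j := inf_le_right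
  have h1 := h.mono (inf_le_left : W ⊓ r ⁻¹ᵁ D j ≤ W)
  rw [rs_rs] at h1
  rw [← rT_smul_le r hO i] at h1
  have hu := isUnit_of_isFrame (rT_frame_le r hO) h1
  have h2 := Z.basicOpen_of_isUnit hu
  rw [Scheme.basicOpen_appLE] at h2
  exact basicOpen_cc j i (h2.ge (x := z) ⟨hz, hj⟩).2

theorem fromSpec_comp {W : Z.Opens} (hW : IsAffineOpen W) {i : Fin (n + 1)} (h : W ≤ r ⁻¹ᵁ D i) :
    hW.fromSpec ≫ r =
      Spec.map (Proj.awayToSection (CohB1.polyGrading n R) (X i) ≫ r.appLE (D i) W h) ≫ ch n R i := by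
  rw [Spec.map_comp, Category.assoc, ← fromSpec_D]
  exact ((Proj.isAffineOpen_basicOpen (CohB1.polyGrading n R) (X i) (Groth.L18.PS.X_mem n i) one_pos).SpecMap_appLE_fromSpec r hW h).symm

end Hom

section Iso

variable {Z : Scheme.{u}} {M N : Z.Modules} {ι κ : Type*} (m : ι → Γ(M, ⊤)) (s : ι → Γ(N, ⊤))
  (W : κ → Z.Opens) (ix : κ → ι)

/-- `w` has the same coefficients as `u`. -/
def Rel (V : Z.Opens) (u : Γ(M, V)) (w : Γ(N, V)) : Prop :=
  ∀ (k : κ) (V' : Z.Opens) (h1 : V' ≤ V) (_ : V' ≤ W k) (a : Γ(Z, V')),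
    a • rs M le_top (m (ix k)) = rs M h1 u → a • rs N le_top (s (ix k)) = rs N h1 w

variable {m s W ix} (hcov : ∀ z, ∃ k, z ∈ W k) (hm : ∀ k, IsFrame M (W k) (rs M (le_top : W k ≤ ⊤) (m (ix k))))
  (hs : ∀ k, IsFrame N (W k) (rs N (le_top : W k ≤ ⊤) (s (ix k))))
  (hc : ∀ k j, ∃ a : Γ(Z, W k), a • rs M (le_top : W k ≤ ⊤) (m (ix k)) = rs M (le_top : W k ≤ ⊤) (m j) ∧
    a • rs N (le_top : W k ≤ ⊤) (s (ix k)) = rs N (le_top : W k ≤ ⊤) (s j))

include hm in
lemma exists_coeff' (k : κ) {V : Z.Opens} (h : V ≤ W k) (u : Γ(M, V)) :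
    ∃ a : Γ(Z, V), a • rs M le_top (m (ix k)) = u := by
  obtain ⟨a, ha⟩ := (hm k).exists_coeff h u
  rw [rs_rs] at ha
  exact ⟨a, ha⟩

include hm in
lemma inj' (k : κ) {V : Z.Opens} (h : V ≤ W k) {a b : Γ(Z, V)}
    (hab : a • rs M (le_top : V ≤ ⊤) (m (ix k)) = b • rs M (le_top : V ≤ ⊤) (m (ix k))) : a = b :=
  (hm k).inj h (by rwa [rs_rs])

include hcov hm in
lemma Rel.unique {V : Z.Opens} {u : Γ(M, V)} {w w' : Γ(N, V)} (h : Rel m s W ix V u w) (h' : Rel m s W ix V u w') :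
    w = w' := by
  let ON : TopCat.Sheaf Ab.{u} Z.toTopCat := ⟨N.presheaf, N.isSheaf⟩
  refine ON.eq_of_locally_eq' (fun k => V ⊓ W k) V (fun k => homOfLE inf_le_left) (fun z hz => ?_) w w' fun k => ?_
  · obtain ⟨k, hk⟩ := hcov z
    exact Opens.mem_iSup.mpr ⟨k, hz, hk⟩
  · obtain ⟨a, ha⟩ := exists_coeff' hm k (inf_le_right : V ⊓ W k ≤ W k) (rs M inf_le_left u)
    exact (h k _ inf_le_left inf_le_right a ha).symm.trans (h' k _ inf_le_left inf_le_right a ha)

include hcov hm hc in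
lemma Rel.exists_rel (V : Z.Opens) (u : Γ(M, V)) : ∃ w, Rel m s W ix V u w := by
  choose a ha using fun k => exists_coeff' hm k (inf_le_right : V ⊓ W k ≤ W k) (rs M inf_le_left u)
  let ON : TopCat.Sheaf Ab.{u} Z.toTopCat := ⟨N.presheaf, N.isSheaf⟩
  obtain ⟨w, hw, -⟩ := ON.existsUnique_gluing' (fun k => V ⊓ W k) V (fun k => homOfLE inf_le_left)
    (fun z hz => by obtain ⟨k, hk⟩ := hcov z; exact Opens.mem_iSup.mpr ⟨k, hz, hk⟩)
    (fun k => a k • rs N le_top (s (ix k))) fun k l => by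
      show rs N inf_le_left (a k • rs N le_top (s (ix k))) = rs N inf_le_right (a l • rs N le_top (s (ix l)))
      obtain ⟨c, hc1, hc2⟩ := hc k (ix l)
      have hO : (V ⊓ W k) ⊓ (V ⊓ W l) ≤ W k := inf_le_left.trans inf_le_right
      have hc1' := congrArg (rs M hO) hc1
      have hc2' := congrArg (rs N hO) hc2
      have hk := congrArg (rs M (inf_le_left : (V ⊓ W k) ⊓ (V ⊓ W l) ≤ _)) (ha k)
      have hl := congrArg (rs M (inf_le_right : (V ⊓ W k) ⊓ (V ⊓ W l) ≤ _)) (ha l)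
      simp only [rs_smul, rs_rs] at hc1' hc2' hk hl ⊢
      rw [← hc2', ← mul_smul]
      congr 1
      refine inj' hm k hO ?_
      rw [mul_smul, hc1', hk, hl]
  refine ⟨w, fun k V' h1 h2 b hb => ?_⟩
  have h12 : V' ≤ V ⊓ W k := le_inf h1 h2
  have hw' := congrArg (rs N h12) (show rs N inf_le_left w = a k • rs N le_top (s (ix k)) from hw k)
  have ha' := congrArg (rs M h12) (ha k)
  simp only [rs_smul, rs_rs] at hw' ha'
  rw [hw', inj' hm k h2 (hb.trans ha'.symm)]

include hm in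
lemma Rel.add {V : Z.Opens} {u u' : Γ(M, V)} {w w' : Γ(N, V)} (h : Rel m s W ix V u w) (h' : Rel m s W ix V u' w') :
    Rel m s W ix V (u + u') (w + w') := by
  intro k V' h1 h2 a ha
  obtain ⟨b, hb⟩ := exists_coeff' hm k h2 (rs M h1 u)
  obtain ⟨b', hb'⟩ := exists_coeff' hm k h2 (rs M h1 u')
  have : a = b + b' := inj' hm k h2 (by rw [ha, add_smul, hb, hb']; exact map_add _ _ _)
  rw [this, add_smul, h k V' h1 h2 b hb, h' k V' h1 h2 b' hb']
  exact (map_add _ _ _).symm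

include hm in
lemma Rel.smul {V : Z.Opens} (r : Γ(Z, V)) {u : Γ(M, V)} {w : Γ(N, V)} (h : Rel m s W ix V u w) :
    Rel m s W ix V (r • u) (r • w) := by
  intro k V' h1 h2 a ha
  obtain ⟨b, hb⟩ := exists_coeff' hm k h2 (rs M h1 u)
  have : a = ro h1 r * b := inj' hm k h2 (by rw [ha, mul_smul, hb, rs_smul])
  rw [this, mul_smul, h k V' h1 h2 b hb, rs_smul]

lemma Rel.res {V V₂ : Z.Opens} (hV : V₂ ≤ V) {u : Γ(M, V)} {w : Γ(N, V)} (h : Rel m s W ix V u w) :
    Rel m s W ix V₂ (rs M hV u) (rs N hV w) := by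
  intro k V' h1 h2 a ha
  rw [rs_rs] at ha ⊢
  exact h k V' (h1.trans hV) h2 a ha

include hm hc in
lemma Rel.gen (j : ι) : Rel m s W ix ⊤ (m j) (s j) := by
  intro k V' h1 h2 a ha
  obtain ⟨c, hc1, hc2⟩ := hc k j
  have hc1' := congrArg (rs M h2) hc1
  have hc2' := congrArg (rs N h2) hc2
  simp only [rs_smul, rs_rs] at hc1' hc2'
  rw [inj' hm k h2 (ha.trans hc1'.symm)]
  exact hc2'

include hcov hm hs hc in
theorem exists_iso : ∃ τ : M ≅ N, ∀ j, τ.hom.app ⊤ (m j) = s j := by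
  choose F hF using fun V u => Rel.exists_rel (m := m) (s := s) (W := W) (ix := ix) hcov hm hc V u
  have hu : ∀ V u w, Rel m s W ix V u w → F V u = w := fun V u w h => Rel.unique hcov hm (hF V u) h
  have hc' : ∀ k j, ∃ a : Γ(Z, W k), a • rs N le_top (s (ix k)) = rs N le_top (s j) ∧
      a • rs M le_top (m (ix k)) = rs M le_top (m j) := fun k j => by
    obtain ⟨a, h1, h2⟩ := hc k j; exact ⟨a, h2, h1⟩
  choose G hG using fun V w => Rel.exists_rel (m := s) (s := m) (W := W) (ix := ix) hcov hs hc' V w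
  have hadd : ∀ V u u', F V (u + u') = F V u + F V u' := fun V u u' => hu _ _ _ ((hF V u).add hm (hF V u'))
  let φ : M ⟶ N := ⟨PresheafOfModules.homMk
    { app := fun V => AddCommGrpCat.ofHom (AddMonoidHom.mk' (fun (u : Γ(M, V.unop)) => F V.unop u) (hadd V.unop))
      naturality := fun {V₁ V₂} i => by
        ext u
        exact hu _ _ _ ((hF V₁.unop u).res i.unop.le) }
    (fun V r u => hu _ _ _ ((hF V.unop u).smul hm r))⟩
  have hφ : ∀ V u, φ.app V u = F V u := fun V u => rfl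
  have hFG : ∀ V, Function.Bijective (φ.app V) := fun V => by
    refine ⟨fun u u' h => ?_, fun w => ⟨G V w, ?_⟩⟩
    · rw [hφ, hφ] at h
      have key : ∀ u, Rel s m W ix V (F V u) u := fun u k V' h1 h2 a ha => by
        obtain ⟨b, hb⟩ := exists_coeff' hm k h2 (rs M h1 u)
        have := inj' (m := s) hs k h2 (ha.trans (hF V u k V' h1 h2 b hb).symm)
        rw [this, hb]
      exact Rel.unique (m := s) (s := m) hcov hs (h ▸ key u) (key u')
    · rw [hφ]
      refine hu _ _ _ fun k V' h1 h2 a ha => ?_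
      obtain ⟨b, hb⟩ := exists_coeff' (m := s) hs k h2 (rs N h1 w)
      have := inj' hm k h2 (ha.trans (hG V w k V' h1 h2 b hb).symm)
      rw [this, hb]
  haveI : IsIso φ := Scheme.Modules.Hom.isIso_iff_isIso_app.2 fun V => (ConcreteCategory.isIso_iff_bijective _).2 (hFG V)
  exact ⟨asIso φ, fun j => hu _ _ _ (Rel.gen hm hc j)⟩

end Iso

section Main

lemma toGlobal_fromSpec {Z : Scheme.{u}} {A : Type u} [CommRing A] (q : Z ⟶ Spec (CommRingCat.of A))
    {W : Z.Opens} (hW : IsAffineOpen W) :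
    hW.fromSpec ≫ q =
      Spec.map (CommRingCat.ofHom ((Z.presheaf.map (homOfLE (le_top : W ≤ ⊤)).op).hom.comp (ProjUP.toGlobal q))) := by
  have e : CommRingCat.ofHom ((Z.presheaf.map (homOfLE (le_top : W ≤ ⊤)).op).hom.comp (ProjUP.toGlobal q)) =
      ((Scheme.ΓSpecIso (CommRingCat.of A)).inv ≫ q.appTop) ≫ Z.presheaf.map (homOfLE (le_top : W ≤ ⊤)).op := rfl
  rw [e, Spec.map_comp, Spec.map_comp, ← hW.fromSpec_toSpecΓ, Category.assoc, ← Scheme.toSpecΓ_naturality_assoc]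
  congr 1
  rw [← SpecMap_ΓSpecIso_hom, ← Spec.map_comp, Iso.inv_hom_id, Spec.map_id, Category.comp_id]

lemma hom_eq_appLE {Z : Scheme.{u}} {C : CommRingCat.{u}} {W : Z.Opens} (hW : IsAffineOpen W)
    (g : Γ(Z, W) ⟶ C) (p : Spec C ⟶ Z) (h : Spec.map g ≫ hW.fromSpec = p) (e : ⊤ ≤ p ⁻¹ᵁ W) :
    g = p.appLE W ⊤ e ≫ (Scheme.ΓSpecIso C).hom := by
  apply Spec.map_injective
  rw [← cancel_mono hW.fromSpec, h, Spec.map_comp, Category.assoc, hW.SpecMap_appLE_fromSpec p (isAffineOpen_top _) e,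
    IsAffineOpen.fromSpec_top, ← Category.assoc]
  conv_lhs => rw [← Category.id_comp p]
  congr 1
  rw [SpecMap_ΓSpecIso_hom, Scheme.toSpecΓ_isoSpec_inv]

theorem exists_hom {Z : Scheme.{u}} (q : Z ⟶ Spec (CommRingCat.of R)) (L : Z.Modules) (hL : PicF.IsInvertible L)
    (s : Fin (n + 1) → Γ(L, ⊤)) (hs : ProjUP.GeneratedBy L s) :
    ∃ (r : Z ⟶ P n R) (_ : r ≫ pr n R = q)
      (τ : (Scheme.Modules.pullback r).obj (O1 n R) ≅ L),
      ∀ i, τ.hom.app ⊤ (rT r i) = s i := by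
  choose W ix hW hzW hfr using exists_frame_of_generated hL s hs
  let 𝒰 : Z.AffineOpenCover :=
    { I₀ := Z
      X := fun z => Γ(Z, W z)
      f := fun z => (hW z).fromSpec
      idx := fun z => z
      covers := fun z => by rw [(hW z).range_fromSpec]; exact hzW z }
  choose a ha using fun z k => (hfr z).exists_coeff le_rfl (rs L (le_top : W z ≤ ⊤) (s k))
  simp only [rs_self] at ha
  have hone : ∀ z, a z (ix z) = 1 := fun z => (hfr z).inj le_rfl (by rw [rs_self, one_smul]; exact ha z (ix z))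
  obtain ⟨(r : Z ⟶ P n R), hr⟩ := exists_hom_of_tuples 𝒰
    (fun z => (Z.presheaf.map (homOfLE (le_top : W z ≤ ⊤)).op).hom.comp (ProjUP.toGlobal q)) a ix
    (fun z => by rw [hone]; exact isUnit_one) (fun k l C f g hfg => by
      refine ⟨?_, g.hom (a l (ix k)), fun m => ?_⟩
      · have h1 := congrArg (· ≫ q) hfg
        simp only [Category.assoc] at h1
        rw [show 𝒰.f k = (hW k).fromSpec from rfl, show 𝒰.f l = (hW l).fromSpec from rfl,
          toGlobal_fromSpec q (hW k), toGlobal_fromSpec q (hW l), ← Spec.map_comp, ← Spec.map_comp] at h1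
        exact congrArg CommRingCat.Hom.hom (Spec.map_injective h1)
      · set p := Spec.map f ≫ 𝒰.f k with hp
        have ek : ⊤ ≤ p ⁻¹ᵁ W k := fun x _ => by
          show (hW k).fromSpec _ ∈ W k
          rw [← SetLike.mem_coe, ← (hW k).range_fromSpec]; exact ⟨_, rfl⟩
        have el : ⊤ ≤ p ⁻¹ᵁ W l := fun x _ => by
          rw [hfg]
          show (hW l).fromSpec _ ∈ W l
          rw [← SetLike.mem_coe, ← (hW l).range_fromSpec]; exact ⟨_, rfl⟩
        have eO : ⊤ ≤ p ⁻¹ᵁ (W k ⊓ W l) := fun x hx => ⟨ek hx, el hx⟩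
        let E : Γ(Z, W k ⊓ W l) ⟶ C := p.appLE (W k ⊓ W l) ⊤ eO ≫ (Scheme.ΓSpecIso C).hom
        have hf : ∀ b, f.hom b = E.hom (ro inf_le_left b) := fun b => by
          conv_lhs => rw [hom_eq_appLE (hW k) f p hp.symm ek]
          show _ = (Z.presheaf.map (homOfLE inf_le_left).op ≫ p.appLE (W k ⊓ W l) ⊤ eO ≫ _).hom b
          rw [Scheme.Hom.map_appLE_assoc]
        have hg : ∀ b, g.hom b = E.hom (ro inf_le_right b) := fun b => by
          conv_lhs => rw [hom_eq_appLE (hW l) g p hfg.symm el]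
          show _ = (Z.presheaf.map (homOfLE inf_le_right).op ≫ p.appLE (W k ⊓ W l) ⊤ eO ≫ _).hom b
          rw [Scheme.Hom.map_appLE_assoc]
        rw [hf, hg, hg, ← map_mul]
        congr 1
        refine (hfr l).inj inf_le_right ?_
        have h1 := congrArg (rs L (inf_le_left : W k ⊓ W l ≤ W k)) (ha k m)
        have h2 := congrArg (rs L (inf_le_right : W k ⊓ W l ≤ W l)) (ha l m)
        have h3 := congrArg (rs L (inf_le_right : W k ⊓ W l ≤ W l)) (ha l (ix k))
        simp only [rs_smul, rs_rs] at h1 h2 h3 ⊢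
        rw [h2, mul_comm, mul_smul, h3, h1])
  have hr' : ∀ z, (hW z).fromSpec ≫ r = Spec.map (CommRingCat.ofHom (chartHom
      ((Z.presheaf.map (homOfLE (le_top : W z ≤ ⊤)).op).hom.comp (ProjUP.toGlobal q)) (a z) (ix z)
      (by rw [hone]; exact isUnit_one))) ≫ ch n R (ix z) := hr
  have hpre : ∀ z, W z ≤ r ⁻¹ᵁ D (ix z) := fun z x hx => by
    obtain ⟨x', rfl⟩ : x ∈ Set.range (hW z).fromSpec := by rw [(hW z).range_fromSpec]; exact hx
    have h1 : ((hW z).fromSpec ≫ r) ⁻¹ᵁ D (ix z) = ⊤ := by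
      refine (congrArg (fun f : Spec Γ(Z, W z) ⟶ P n R => f ⁻¹ᵁ D (ix z)) (hr z)).trans ?_
      refine (tuplePt_preimage_X _ (a z) (ix z) (by rw [hone]; exact isUnit_one) (ix z)).trans ?_
      exact basicOpen_eq_top_of_isUnit (by rw [hone]; exact isUnit_one)
    exact h1.ge (x := x') trivial
  have hval : ∀ z m, r.appLE (D (ix z)) (W z) (hpre z) (cc (ix z) m) = a z m := fun z m => by
    have h1 := (fromSpec_comp r (hW z) (hpre z)).symm.trans (hr' z)
    rw [cancel_mono] at h1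
    have h2 := congr($(Spec.map_injective h1) (Groth.L18.PS.coord (ix z) m))
    have h3 := chartHom_coord ((Z.presheaf.map (homOfLE (le_top : W z ≤ ⊤)).op).hom.comp (ProjUP.toGlobal q)) (a z)
      (ix z) (by rw [hone]; exact isUnit_one) m
    exact h2.trans ((mul_one _).symm.trans ((congrArg _ (hone z).symm).trans h3))
  refine ⟨r, ?_, ?_⟩
  · refine 𝒰.openCover.hom_ext _ _ fun z => ?_
    show (hW z).fromSpec ≫ r ≫ _ = (hW z).fromSpec ≫ q
    rw [← Category.assoc, toGlobal_fromSpec q (hW z)]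
    exact (congrArg (fun f : Spec Γ(Z, W z) ⟶ P n R => f ≫ pr n R) (hr z)).trans
      (tuplePt_toSpec _ (a z) (ix z) ((hone z).symm ▸ isUnit_one))
  · exact exists_iso (W := W) (ix := ix) (fun z => ⟨z, hzW z⟩) (fun z => rT_frame_le r (hpre z)) hfr
      (fun z j => ⟨a z j, by rw [← hval z j]; exact rT_smul_le r (hpre z) j, ha z j⟩)

theorem hom_ext {Z : Scheme.{u}} (r r' : Z ⟶ P n R)
    (hrr' : r ≫ pr n R = r' ≫ pr n R)
    (τ : (Scheme.Modules.pullback r).obj (O1 n R) ≅ (Scheme.Modules.pullback r').obj (O1 n R))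
    (hτ : ∀ i, τ.hom.app ⊤ (rT r i) = rT r' i) : r = r' := by
  have hmap : ∀ (W : Z.Opens) (i : Fin (n + 1)), τ.hom.app W (rs _ le_top (rT r i)) = rs _ le_top (rT r' i) :=
    fun W i => by
      rw [← hτ i]
      exact congr($(τ.hom.mapPresheaf.naturality (homOfLE (le_top : W ≤ ⊤)).op) (rT r i))
  have hframe : ∀ (W : Z.Opens) (i : Fin (n + 1)), W ≤ r ⁻¹ᵁ D i →
      IsFrame ((Scheme.Modules.pullback r').obj (O1 n R)) W (rs _ le_top (rT r' i)) := fun W i h V hV => by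
    have e : (fun b : Γ(Z, V) => b • rs ((Scheme.Modules.pullback r').obj (O1 n R)) hV (rs _ le_top (rT r' i))) =
        τ.hom.app V ∘ fun b => b • rs ((Scheme.Modules.pullback r).obj (O1 n R)) hV (rs _ le_top (rT r i)) := by
      funext b
      simp only [rs_rs, Function.comp_apply, Scheme.Modules.Hom.app_smul, hmap]
    rw [e]
    exact (ConcreteCategory.bijective_of_isIso (τ.hom.app V)).comp (rT_frame_le r h V hV)
  have loc : ∀ z : Z, ∃ (W : Z.Opens) (i : Fin (n + 1)), IsAffineOpen W ∧ z ∈ W ∧ W ≤ r ⁻¹ᵁ D i := fun z => by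
    obtain ⟨i, hi⟩ := Opens.mem_iSup.mp ((iSup_chart (n := n) (R := R)).ge (trivial : r.base z ∈ ⊤))
    obtain ⟨_, ⟨W, hW, rfl⟩, hzW, hWr⟩ := Z.isBasis_affineOpens.exists_subset_of_mem_open
      (show z ∈ r ⁻¹ᵁ D i from hi) (r ⁻¹ᵁ D i).2
    exact ⟨W, i, hW, hzW, hWr⟩
  choose W ix hW hzW hle using loc
  let 𝒰 : Z.AffineOpenCover :=
    { I₀ := Z
      X := fun z => Γ(Z, W z)
      f := fun z => (hW z).fromSpec
      idx := fun z => z
      covers := fun z => by rw [(hW z).range_fromSpec]; exact hzW z }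
  refine 𝒰.openCover.hom_ext _ _ fun z => ?_
  show (hW z).fromSpec ≫ r = (hW z).fromSpec ≫ r'
  have hle' := le_preimage_of_frame r' (hframe _ _ (hle z))
  rw [fromSpec_comp r (hW z) (hle z), fromSpec_comp r' (hW z) hle']
  congr 2
  ext : 1
  refine chart_ringHom_ext (ix z) ?_ fun j => ?_
  · have h1 := congrArg ((hW z).fromSpec ≫ ·) hrr'
    simp only [← Category.assoc] at h1
    rw [fromSpec_comp r (hW z) (hle z), fromSpec_comp r' (hW z) hle', Category.assoc, Category.assoc,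
      show ch n R (ix z) ≫ pr n R = _ from chart_toSpec _, ← Spec.map_comp, ← Spec.map_comp] at h1
    exact congrArg CommRingCat.Hom.hom (Spec.map_injective h1)
  · refine (rT_frame_le r' hle').inj le_rfl ?_
    rw [rs_self]
    refine Eq.trans ?_ (rT_smul_le r' hle' j).symm
    rw [← hmap (W z) (ix z), ← Scheme.Modules.Hom.app_smul]
    exact (congrArg _ (rT_smul_le r (hle z) j)).trans (hmap _ _)

end Main

end Groth.L18.PUP
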