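import Groth.Agent.L22.SchemeDim
import Groth.Agent.L16.RatMapExt
import Mathlib.RingTheory.KrullDimension.NonZeroDivisors
import Mathlib.RingTheory.Ideal.KrullsHeightTheorem
import Mathlib.AlgebraicGeometry.Stalk

/-!
One-dimensional schemes of finite type over a field.
-/

set_option autoImplicit false
universe u

open CategoryTheory AlgebraicGeometry TopologicalSpace

namespace Groth.L18.CurveDim

variable {X : Scheme.{u}}

theorem eq_of_specializes_of_isClosed {y z : X} (hy : IsClosed ({y} : Set X)) (h : y ⤳ z) : z = y :=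
  h.mem_closed hy rfl

theorem exists_closed_specialization [CompactSpace X] (x : X) :
    ∃ y : X, x ⤳ y ∧ IsClosed ({y} : Set X) := by
  obtain ⟨y, hy, hyc⟩ := (isClosed_closure (s := ({x} : Set X))).exists_closed_singleton ⟨x, subset_closure rfl⟩
  exact ⟨y, specializes_iff_mem_closure.mpr hy, hyc⟩

theorem exists_generic_generization (x : X) :
    ∃ η : X, η ⤳ x ∧ closure ({η} : Set X) ∈ irreducibleComponents (X : Type u) := by
  obtain ⟨η, hη⟩ := QuasiSober.sober (isIrreducible_irreducibleComponent (x := x)) isClosed_irreducibleComponent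
  exact ⟨η, hη.specializes mem_irreducibleComponent,
    hη.def ▸ irreducibleComponent_mem_irreducibleComponents x⟩

theorem dim_stalk_le_one_iff (y : X) : ringKrullDim (X.presheaf.stalk y) ≤ 1 ↔
    ∀ a b : X, a ⤳ b → b ⤳ y → a = b ∨ b = y := by
  have he := (X.fromSpecStalk y).isEmbedding
  have hcl : X.fromSpecStalk y (IsLocalRing.closedPoint (X.presheaf.stalk y)) = y :=
    Scheme.fromSpecStalk_closedPoint
  have hle : ∀ P Q : PrimeSpectrum (X.presheaf.stalk y),
      X.fromSpecStalk y P ⤳ X.fromSpecStalk y Q ↔ P.asIdeal ≤ Q.asIdeal := fun P Q =>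
    he.isInducing.specializes_iff.trans (PrimeSpectrum.le_iff_specializes P Q).symm
  have hdim : ringKrullDim (X.presheaf.stalk y) ≤ 1 ↔
      (IsLocalRing.maximalIdeal (X.presheaf.stalk y)).height ≤ ((1 : ℕ) : ℕ∞) := by
    rw [← IsLocalRing.maximalIdeal_height_eq_ringKrullDim]
    exact ⟨fun h => by exact_mod_cast h, fun h => by exact_mod_cast h⟩
  rw [hdim, Ideal.height_le_iff]
  constructor
  · intro h a b hab hby
    obtain ⟨B, rfl⟩ : b ∈ Set.range (X.fromSpecStalk y) := by rw [Scheme.range_fromSpecStalk]; exact hby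
    obtain ⟨A, rfl⟩ : a ∈ Set.range (X.fromSpecStalk y) := by
      rw [Scheme.range_fromSpecStalk]; exact hab.trans hby
    by_cases hB : B.asIdeal = IsLocalRing.maximalIdeal (X.presheaf.stalk y)
    · right
      rw [show B = IsLocalRing.closedPoint (X.presheaf.stalk y) from PrimeSpectrum.ext hB, hcl]
    · left
      have h0 := h B.asIdeal B.isPrime (lt_of_le_of_ne (IsLocalRing.le_maximalIdeal B.isPrime.ne_top) hB)
      haveI := B.isPrime
      rw [Nat.cast_one, Order.lt_one_iff, Ideal.height_eq_zero_iff] at h0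
      have h1 : A.asIdeal ≤ B.asIdeal := (hle A B).mp hab
      exact congrArg _ (PrimeSpectrum.ext (le_antisymm h1 (h0.2 ⟨A.isPrime, bot_le⟩ h1)))
  · intro h q hq hqm
    haveI := hq
    rw [Nat.cast_one, Order.lt_one_iff, Ideal.height_eq_zero_iff]
    refine ⟨⟨hq, bot_le⟩, fun p hp hpq => ?_⟩
    let P : PrimeSpectrum (X.presheaf.stalk y) := ⟨p, hp.1⟩
    let Q : PrimeSpectrum (X.presheaf.stalk y) := ⟨q, hq⟩
    rcases h (X.fromSpecStalk y P) (X.fromSpecStalk y Q) ((hle P Q).mpr hpq)
      ((Scheme.range_fromSpecStalk (X := X) (x := y)).le ⟨Q, rfl⟩) with h' | h'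
    · exact (congrArg PrimeSpectrum.asIdeal (he.injective h')).ge
    · exact absurd (congrArg PrimeSpectrum.asIdeal (he.injective (h'.trans hcl.symm))) hqm.ne

theorem one_le_dim_stalk_iff (y : X) : 1 ≤ ringKrullDim (X.presheaf.stalk y) ↔ ∃ a : X, a ⤳ y ∧ a ≠ y := by
  have he := (X.fromSpecStalk y).isEmbedding
  have hcl : X.fromSpecStalk y (IsLocalRing.closedPoint (X.presheaf.stalk y)) = y :=
    Scheme.fromSpecStalk_closedPoint
  have hdim : 1 ≤ ringKrullDim (X.presheaf.stalk y) ↔
      (IsLocalRing.maximalIdeal (X.presheaf.stalk y)).height ≠ 0 := by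
    rw [← IsLocalRing.maximalIdeal_height_eq_ringKrullDim, ← Order.one_le_iff_ne_zero]
    exact ⟨fun h => by exact_mod_cast h, fun h => by exact_mod_cast h⟩
  rw [hdim, Ne, Ideal.height_eq_zero_iff]
  constructor
  · intro h
    by_contra hne
    push Not at hne
    refine h ⟨⟨inferInstance, bot_le⟩, fun p hp hpm => ?_⟩
    let P : PrimeSpectrum (X.presheaf.stalk y) := ⟨p, hp.1⟩
    have h1 := hne (X.fromSpecStalk y P) ((Scheme.range_fromSpecStalk (X := X) (x := y)).le ⟨P, rfl⟩)
    exact (congrArg PrimeSpectrum.asIdeal (he.injective (h1.trans hcl.symm))).ge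
  · rintro ⟨a, ha, hay⟩ hmin
    obtain ⟨A, rfl⟩ : a ∈ Set.range (X.fromSpecStalk y) := by rw [Scheme.range_fromSpecStalk]; exact ha
    refine hay ?_
    rw [show A = IsLocalRing.closedPoint (X.presheaf.stalk y) from PrimeSpectrum.ext
      (le_antisymm (IsLocalRing.le_maximalIdeal A.isPrime.ne_top)
        (hmin.2 ⟨A.isPrime, bot_le⟩ (IsLocalRing.le_maximalIdeal A.isPrime.ne_top))), hcl]

theorem forall_dim_eq_one_iff [CompactSpace X] :
    (∀ x : X, IsClosed ({x} : Set X) → ringKrullDim (X.presheaf.stalk x) = 1) ↔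
      ((∀ F : Set X, IsClosed F → IsIrreducible F → F ∉ irreducibleComponents (X : Type u) →
          ∃ x : X, IsClosed ({x} : Set X) ∧ F = {x}) ∧
        ∀ x : X, IsClosed ({x} : Set X) → ({x} : Set X) ∉ irreducibleComponents (X : Type u)) := by
  constructor
  · intro h
    refine ⟨fun F hF hFi hFc => ?_, fun x hx hxc => ?_⟩
    · obtain ⟨w, hw⟩ := QuasiSober.sober hFi hF
      obtain ⟨η, hηw, hη⟩ := exists_generic_generization w
      obtain ⟨y, hwy, hy⟩ := exists_closed_specialization w
      rcases (dim_stalk_le_one_iff y).mp (h y hy).le η w hηw hwy with rfl | rfl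
      · exact absurd (hw.def ▸ hη) hFc
      · exact ⟨w, hy, hw.def.symm.trans hy.closure_eq⟩
    · obtain ⟨a, hax, hane⟩ := (one_le_dim_stalk_iff x).mp (h x hx).ge
      rw [← hx.closure_eq] at hxc
      exact hane (eq_of_specializes_of_isClosed hx
        ((Groth.L16.closure_singleton_mem_irreducibleComponents_iff x).mp hxc a hax))
  · rintro ⟨h1, h2⟩ y hy
    refine le_antisymm ((dim_stalk_le_one_iff y).mpr fun a b hab hby => ?_) ((one_le_dim_stalk_iff y).mpr ?_)
    · by_contra hne
      push Not at hne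
      obtain ⟨z, hz, hzF⟩ := h1 (closure {b}) isClosed_closure isIrreducible_singleton.closure (fun hc =>
        hne.1 (hab.antisymm ((Groth.L16.closure_singleton_mem_irreducibleComponents_iff b).mp hc a hab)).eq)
      have hb : b ∈ ({z} : Set X) := hzF ▸ subset_closure rfl
      have hy' : y ∈ ({z} : Set X) := hzF ▸ specializes_iff_mem_closure.mp hby
      exact hne.2 (hb.trans hy'.symm)
    · by_contra hne
      push Not at hne
      refine h2 y hy ?_
      rw [← hy.closure_eq]
      exact (Groth.L16.closure_singleton_mem_irreducibleComponents_iff y).mpr fun w hw => hne w hw ▸ hw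

section Field

attribute [local instance] Curv2.resAlgebra

variable {k : Type u} [Field k] [X.Over (Spec (CommRingCat.of k))]
  [LocallyOfFiniteType (X ↘ Spec (CommRingCat.of k))]

theorem trdeg_lt_of_specializes {a b : X} (h : a ⤳ b) (hne : a ≠ b) :
    ∃ n m : ℕ, Algebra.trdeg k (X.residueField b) = n ∧ Algebra.trdeg k (X.residueField a) = m ∧ n < m := by
  obtain ⟨_, ⟨U, hU, rfl⟩, hbU, -⟩ :=
    X.isBasis_affineOpens.exists_subset_of_mem_open (Set.mem_univ b) isOpen_univ
  change X.Opens at U
  have haU : a ∈ U := h.mem_open U.2 hbU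
  obtain ⟨n, hn, htr⟩ := Groth.L22.SchemeDim.exists_dim_quotient_eq_trdeg k X hU hbU
  obtain ⟨m, hm, htr'⟩ := Groth.L22.SchemeDim.exists_dim_quotient_eq_trdeg k X hU haU
  refine ⟨n, m, htr, htr', ?_⟩
  set p := hU.primeIdealOf ⟨a, haU⟩ with hp
  set q := hU.primeIdealOf ⟨b, hbU⟩ with hq
  have hle : p.asIdeal ≤ q.asIdeal := by
    refine (PrimeSpectrum.le_iff_specializes p q).mpr (hU.fromSpec.isOpenEmbedding.isInducing.specializes_iff.mp ?_)
    rw [hp, hq, hU.fromSpec_primeIdealOf, hU.fromSpec_primeIdealOf]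
    exact h
  have hlt : p.asIdeal ≠ q.asIdeal := fun e => hne (by
    have h1 := congrArg hU.fromSpec (PrimeSpectrum.ext e : p = q)
    rwa [hp, hq, hU.fromSpec_primeIdealOf, hU.fromSpec_primeIdealOf] at h1)
  obtain ⟨r, hrq, hrp⟩ := Set.exists_of_ssubset (lt_of_le_of_ne hle hlt : p.asIdeal < q.asIdeal)
  haveI := p.isPrime
  have h2 : ringKrullDim (Γ(X, U) ⧸ q.asIdeal) + 1 ≤ ringKrullDim (Γ(X, U) ⧸ p.asIdeal) := by
    refine ringKrullDim_succ_le_of_surjective (Ideal.Quotient.factor hle) (Ideal.Quotient.factor_surjective hle)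
      (r := Ideal.Quotient.mk p.asIdeal r)
      (mem_nonZeroDivisors_of_ne_zero fun h0 => hrp (Ideal.Quotient.eq_zero_iff_mem.mp h0)) ?_
    rw [Ideal.Quotient.factor_mk]
    exact Ideal.Quotient.eq_zero_iff_mem.mpr hrq
  rw [hn, hm] at h2
  exact Nat.lt_of_succ_le (by exact_mod_cast h2)

theorem trdeg_eq_zero_of_isClosed {y : X} (hy : IsClosed ({y} : Set X)) :
    Algebra.trdeg k (X.residueField y) = 0 := by
  obtain ⟨n, hn, htr⟩ := Groth.L22.SchemeDim.exists_dim_closure_eq_trdeg k X y
  rw [hy.closure_eq] at hn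
  haveI : Subsingleton (IrreducibleCloseds ({y} : Set X)) := ⟨fun A B => SetLike.coe_injective
    ((Subsingleton.eq_univ_of_nonempty A.isIrreducible.nonempty).trans
      (Subsingleton.eq_univ_of_nonempty B.isIrreducible.nonempty).symm)⟩
  have h0 : topologicalKrullDim ({y} : Set X) ≤ 0 := Order.krullDim_nonpos_of_subsingleton
  rw [hn] at h0
  have : n = 0 := Nat.le_zero.mp (by exact_mod_cast h0)
  rw [htr, this, Nat.cast_zero]

theorem trdeg_generic_eq_one_iff [CompactSpace X] :
    (∀ x : X, closure ({x} : Set X) ∈ irreducibleComponents (X : Type u) →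
        Algebra.trdeg k (X.residueField x) = 1) ↔
      ∀ x : X, IsClosed ({x} : Set X) → ringKrullDim (X.presheaf.stalk x) = 1 := by
  constructor
  · intro h y hy
    obtain ⟨η, hηy, hη⟩ := exists_generic_generization y
    refine le_antisymm ((dim_stalk_le_one_iff y).mpr fun a b hab hby => ?_) ((one_le_dim_stalk_iff y).mpr ?_)
    · by_contra hne
      push Not at hne
      obtain ⟨η', hη'a, hη'⟩ := exists_generic_generization a
      obtain ⟨n, m, hn, hm, hnm⟩ := trdeg_lt_of_specializes (k := k) hby hne.2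
      have hne' : η' ≠ b := fun e => hne.1 (hab.antisymm (e ▸ hη'a)).eq
      obtain ⟨n', m', hn', hm', hnm'⟩ := trdeg_lt_of_specializes (k := k) (hη'a.trans hab) hne'
      have e1 : m' = 1 := by exact_mod_cast hm'.symm.trans (h η' hη')
      have e2 : n' = m := by exact_mod_cast hn'.symm.trans hm
      omega
    · refine ⟨η, hηy, fun e => ?_⟩
      have h1 := h η hη
      rw [e, trdeg_eq_zero_of_isClosed hy] at h1
      exact zero_ne_one h1
  · intro h x hx
    obtain ⟨y, hxy, hy⟩ := exists_closed_specialization x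
    have hne : x ≠ y := by
      intro e
      subst e
      obtain ⟨a, ha, hane⟩ := (one_le_dim_stalk_iff x).mp (h x hy).ge
      exact hane (eq_of_specializes_of_isClosed hy
        ((Groth.L16.closure_singleton_mem_irreducibleComponents_iff x).mp hx a ha))
    obtain ⟨n, hn, hn1⟩ := Groth.L22.SchemeDim.trdeg_covBy k X hne hxy fun w hxw hwy => by
      rcases (dim_stalk_le_one_iff y).mp (h y hy).le x w hxw hwy with h' | h'
      exacts [Or.inl h'.symm, Or.inr h']
    rw [trdeg_eq_zero_of_isClosed hy] at hn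
    have : n = 0 := by exact_mod_cast hn.symm
    rw [hn1, this]
    simp

end Field

end Groth.L18.CurveDim
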