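import Groth.Agent.L18.NormDescent
import Groth.Agent.L18.AmpleLocal
import Groth.Agent.L18.AmpleOps
import Groth.Agent.L22.PicGlue.Cocycle

/-!
The norm of an invertible module and descent of the existence of an ample module.
-/

set_option autoImplicit false
set_option backward.isDefEq.respectTransparency false
set_option linter.style.haveILetI false
universe u

open CategoryTheory CategoryTheory.Limits AlgebraicGeometry TopologicalSpace Opposite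

noncomputable section

namespace Groth.L18.NormDesc

open Groth.L18.Frame (rs ro rs_rs rs_self rs_smul ro_ro ro_self ro_mul IsFrame)
open Groth.L18.GenLoc Groth.L18.Ample

variable {X Y : Scheme.{u}} {π : X ⟶ Y} {d : ℕ}

/-- An invertible module is trivial near every fibre of a finite morphism. -/
theorem exists_frame_near_fibre [IsFinite π] {L : X.Modules} (hL : PicF.IsInvertible L) (y : Y) :
    ∃ (V : Y.Opens) (e : Γ(L, π ⁻¹ᵁ V)), y ∈ V ∧ IsFrame L (π ⁻¹ᵁ V) e := by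
  obtain ⟨U, hU, hyU, -⟩ := exists_affine_le (Opens.mem_top y)
  let A := π ⁻¹ᵁ U
  haveI : IsAffine A.toScheme := hU.preimage π
  obtain ⟨s, -, hs, -⟩ := exists_genLocus_of_isQuasiAffine (isInvertible_restrict hL A)
    (A.ι ⁻¹' (π ⁻¹' {y})) ((π.finite_preimage_singleton y).preimage A.ι.isOpenEmbedding.injective.injOn) ⊤
    (fun _ _ => trivial)
  let G : X.Opens := A.ι ''ᵁ CohB1.genLocus _ s
  let V : Y.Opens := U ⊓ ⟨(π '' (G : Set X)ᶜ)ᶜ, (π.isClosedMap _ G.2.isClosed_compl).isOpen_compl⟩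
  have hle : π ⁻¹ᵁ V ≤ G := fun x hx => by
    by_contra h
    exact hx.2 ⟨x, h, rfl⟩
  have hyV : y ∈ V := ⟨hyU, fun ⟨x, hx, hxy⟩ => hx (by
    have hxA : x ∈ A := by show π x ∈ U; rw [hxy]; exact hyU
    exact ⟨⟨x, hxA⟩, hs (show π (A.ι ⟨x, hxA⟩) ∈ ({y} : Set Y) from hxy), rfl⟩)⟩
  have h1 := (isFrame_restrict_iff L A _ _).1 (isFrame_genLocus s)
  exact ⟨V, _, hyV, h1.mono hle⟩

variable (N : PreNorm π) {L : X.Modules} {ι : Type u} (V : ι → Y.Opens)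
  (e : ∀ i, Γ(L, π ⁻¹ᵁ V i))

/-- The transition coefficients. -/
theorem exists_transition (he : ∀ i, IsFrame L (π ⁻¹ᵁ V i) (e i)) : ∃ u : ∀ i j, Γ(X, π ⁻¹ᵁ (V i ⊓ V j)),
    ∀ i j, u i j • rs L (fun _ hx => hx.1 : π ⁻¹ᵁ (V i ⊓ V j) ≤ π ⁻¹ᵁ V i) (e i) =
      rs L (fun _ hx => hx.2 : π ⁻¹ᵁ (V i ⊓ V j) ≤ π ⁻¹ᵁ V j) (e j) := by
  choose u hu using fun i j => ((he i).mono (fun _ hx => hx.1 : π ⁻¹ᵁ (V i ⊓ V j) ≤ π ⁻¹ᵁ V i)).exists_coeff le_rfl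
    (rs L (fun _ hx => hx.2 : π ⁻¹ᵁ (V i ⊓ V j) ≤ π ⁻¹ᵁ V j) (e j))
  refine ⟨u, fun i j => ?_⟩
  have := hu i j
  rwa [rs_self] at this

/-- The norm of an invertible module trivialised on preimages. -/
theorem exists_normModule (hcov : ∀ y, ∃ i, y ∈ V i) (he : ∀ i, IsFrame L (π ⁻¹ᵁ V i) (e i)) :
    ∃ (M : Y.Modules) (_ : PicF.IsInvertible M) (f : ∀ i, Γ(M, V i)), (∀ i, IsFrame M (V i) (f i)) ∧
      ∀ (i j : ι) (W : Y.Opens) (hi : W ≤ V i) (hj : W ≤ V j) (a : Γ(X, π ⁻¹ᵁ W)),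
        a • rs L (fun _ hx => hi hx : π ⁻¹ᵁ W ≤ π ⁻¹ᵁ V i) (e i) =
            rs L (fun _ hx => hj hx : π ⁻¹ᵁ W ≤ π ⁻¹ᵁ V j) (e j) →
          N.norm W a • rs M hi (f i) = rs M hj (f j) := by
  obtain ⟨u, hu⟩ := exists_transition V e he
  have hures : ∀ (i j : ι) (W : Y.Opens) (h : W ≤ V i ⊓ V j),
      ro (fun _ hx => h hx : π ⁻¹ᵁ W ≤ π ⁻¹ᵁ (V i ⊓ V j)) (u i j) •
          rs L (fun _ hx => (h hx).1 : π ⁻¹ᵁ W ≤ π ⁻¹ᵁ V i) (e i) =
        rs L (fun _ hx => (h hx).2 : π ⁻¹ᵁ W ≤ π ⁻¹ᵁ V j) (e j) := by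
    intro i j W h
    have := congrArg (rs L (fun _ hx => h hx : π ⁻¹ᵁ W ≤ π ⁻¹ᵁ (V i ⊓ V j))) (hu i j)
    rwa [rs_smul, rs_rs, rs_rs] at this
  have inj : ∀ (i : ι) (W : Y.Opens) (h : W ≤ V i) (a b : Γ(X, π ⁻¹ᵁ W)),
      a • rs L (fun _ hx => h hx : π ⁻¹ᵁ W ≤ π ⁻¹ᵁ V i) (e i) = b • rs L (fun _ hx => h hx : π ⁻¹ᵁ W ≤ π ⁻¹ᵁ V i) (e i) → a = b :=
    fun i W h a b hab => (he i _ (fun _ hx => h hx : π ⁻¹ᵁ W ≤ π ⁻¹ᵁ V i)).1 hab
  let C : Groth.L22.PicGlue.Cocycle Y :=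
    { ι := ι
      N := V
      g := fun i j => N.norm _ (u i j)
      one := fun i => by
        rw [show u i i = 1 from inj i _ inf_le_left _ _ (by rw [one_smul]; exact hu i i), map_one]
      comp := fun i j k => by
        show ro _ (N.norm _ (u i j)) * ro _ (N.norm _ (u j k)) = ro _ (N.norm _ (u i k))
        rw [norm_ro, norm_ro, norm_ro, ← map_mul]
        refine congrArg _ (inj i _ (inf_le_left.trans inf_le_left) _ _ ?_)
        rw [mul_comm, mul_smul, hures i j (V i ⊓ V j ⊓ V k) inf_le_left,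
          hures j k (V i ⊓ V j ⊓ V k) (inf_le_inf_right _ inf_le_right),
          hures i k (V i ⊓ V j ⊓ V k) (inf_le_inf_right _ inf_le_left)] }
  refine ⟨Groth.L22.PicGlue.glueMod C, Groth.L22.PicGlue.isInvertible_glueMod C hcov,
    fun i => Groth.L22.PicGlue.gen C i, fun i => Groth.L22.PicGlue.isGen_gen C i, fun i j W hi hj a ha => ?_⟩
  have h1 := congrArg (rs (Groth.L22.PicGlue.glueMod C) (le_inf hi hj : W ≤ V i ⊓ V j))
    (Groth.L22.PicGlue.gen_trans C i j)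
  change rs _ _ (rs (Groth.L22.PicGlue.glueMod C) (inf_le_right : V i ⊓ V j ≤ V j) (Groth.L22.PicGlue.gen C j)) =
    rs _ _ ((N.norm _ (u i j)) •
      rs (Groth.L22.PicGlue.glueMod C) (inf_le_left : V i ⊓ V j ≤ V i) (Groth.L22.PicGlue.gen C i)) at h1
  rw [rs_smul, rs_rs, rs_rs, norm_ro] at h1
  rw [h1]
  refine congrArg (fun b => N.norm W b • _) (inj i W hi _ _ ?_)
  rw [ha, hures i j W (le_inf hi hj)]

/-- Norms of sections of powers. -/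
theorem exists_normSec_module [IsFinite π] {M : Y.Modules} (f : ∀ i, Γ(M, V i)) (hcov : ∀ y, ∃ i, y ∈ V i)
    (he : ∀ i, IsFrame L (π ⁻¹ᵁ V i) (e i)) (hf : ∀ i, IsFrame M (V i) (f i))
    (hef : ∀ (i j : ι) (W : Y.Opens) (hi : W ≤ V i) (hj : W ≤ V j) (a : Γ(X, π ⁻¹ᵁ W)),
      a • rs L (fun _ hx => hi hx : π ⁻¹ᵁ W ≤ π ⁻¹ᵁ V i) (e i) =
          rs L (fun _ hx => hj hx : π ⁻¹ᵁ W ≤ π ⁻¹ᵁ V j) (e j) →
        N.norm W a • rs M hi (f i) = rs M hj (f j))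
    {m : ℕ} (s : Coh.structureModule X ⟶ CohB1.tensorPow L m) :
    ∃ σ : Coh.structureModule Y ⟶ CohB1.tensorPow M m,
      ∀ y : Y, y ∈ CohB1.genLocus _ σ ↔ ∀ x, π x = y → x ∈ CohB1.genLocus _ s := by
  choose b hb using fun i => (isFrame_pf (he i) m).exists_coeff le_rfl (rs (CohB1.tensorPow L m) le_top (secOf s))
  simp only [rs_self] at hb
  let τ : ∀ i, Γ(CohB1.tensorPow M m, V i) := fun i => N.norm (V i) (b i) • pf (f i) m
  obtain ⟨u, hu⟩ := exists_transition V e he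
  obtain ⟨σ, hσ, -⟩ := TopCat.Sheaf.existsUnique_gluing'
    (⟨(CohB1.tensorPow M m).presheaf, (CohB1.tensorPow M m).isSheaf⟩ : TopCat.Sheaf Ab Y.toTopCat) V ⊤
    (fun _ => homOfLE le_top) (fun y _ => Opens.mem_iSup.2 (hcov y)) τ fun i j => by
      show rs _ (inf_le_left : V i ⊓ V j ≤ V i) (τ i) = rs _ (inf_le_right : V i ⊓ V j ≤ V j) (τ j)
      set W := V i ⊓ V j
      have hl : W ≤ V i := inf_le_left
      have hr : W ≤ V j := inf_le_right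
      have ha := hu i j
      simp only [τ, rs_smul, pf_rs, norm_ro N hl, norm_ro N hr]
      rw [← hef i j W hl hr (u i j) ha, pf_smul, ← mul_smul, ← map_pow, ← map_mul]
      refine congrArg (fun b => N.norm W b • pf (rs M hl (f i)) m) ?_
      have h1 := congrArg (rs (CohB1.tensorPow L m) (fun _ hx => hl hx : π ⁻¹ᵁ W ≤ π ⁻¹ᵁ V i)) (hb i)
      have h2 := congrArg (rs (CohB1.tensorPow L m) (fun _ hx => hr hx : π ⁻¹ᵁ W ≤ π ⁻¹ᵁ V j)) (hb j)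
      rw [rs_smul, rs_rs, pf_rs] at h1 h2
      rw [← ha, pf_smul, ← mul_smul, ← h1] at h2
      exact ((isFrame_pf ((he i).mono (fun _ hx => hl hx : π ⁻¹ᵁ W ≤ π ⁻¹ᵁ V i)) m) _ le_rfl).1
        (by simp only [rs_self]; exact h2.symm)
  refine ⟨Groth.L16.homOfSection _ σ, fun y => ?_⟩
  obtain ⟨i, hyi⟩ := hcov y
  have hloc := genLocus_inf_eq (Groth.L16.homOfSection _ σ) (isFrame_pf (hf i) m)
    (a := N.norm (V i) (b i)) (by rw [secOf_homOfSection]; exact (hσ i).symm)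
  have hs := genLocus_inf_eq s (isFrame_pf (he i) m) (hb i)
  have e1 : y ∈ CohB1.genLocus _ (Groth.L16.homOfSection _ σ) ↔ y ∈ Y.basicOpen (N.norm (V i) (b i)) :=
    ⟨fun h => hloc.le ⟨h, hyi⟩, fun h => (hloc.ge h).1⟩
  rw [e1, mem_basicOpen_norm_iff]
  refine ⟨fun h x hx => (hs.ge (h.2 x hx)).1, fun h => ⟨hyi, fun x hx => hs.le ⟨h x hx, ?_⟩⟩⟩
  show π x ∈ V i
  rw [hx]; exact hyi

/-- A coefficient in a frame detects where a section is a frame. -/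
theorem frame_nhd_iff {Z : Scheme.{u}} {K : Z.Modules} {U W : Z.Opens} (σ : Γ(K, U)) {e : Γ(K, W)}
    (he : IsFrame K W e) (hWU : W ≤ U) {a : Γ(Z, W)} (ha : a • e = rs K hWU σ) {z : Z} (hz : z ∈ W) :
    (∃ (O : Z.Opens) (hO : O ≤ U), z ∈ O ∧ IsFrame K O (rs K hO σ)) ↔ z ∈ Z.basicOpen a := by
  constructor
  · rintro ⟨O, hO, hzO, hfr⟩
    have h1 := hfr.mono (inf_le_left : O ⊓ W ≤ O)
    rw [rs_rs] at h1
    have h2 : rs K (inf_le_left.trans hO : O ⊓ W ≤ U) σ =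
        ro (inf_le_right : O ⊓ W ≤ W) a • rs K (inf_le_right : O ⊓ W ≤ W) e := by
      rw [← rs_smul, ha, rs_rs]
    rw [h2] at h1
    have hu := Z.basicOpen_of_isUnit (Frame.isUnit_of_isFrame (he.mono inf_le_right) h1)
    rw [Scheme.basicOpen_res] at hu
    exact (hu.ge (show z ∈ O ⊓ W from ⟨hzO, hz⟩)).2
  · intro hz'
    refine ⟨Z.basicOpen a, (Z.basicOpen_le a).trans hWU, hz', ?_⟩
    have hu : IsUnit (ro (Z.basicOpen_le a) a) := RingedSpace.isUnit_res_basicOpen Z.toRingedSpace a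
    have := (he.mono (Z.basicOpen_le a)).smul_unit hu
    rwa [← rs_smul, ha, rs_rs] at this

/-- Norms of sections of powers over an open. -/
theorem exists_normSec_on [IsFinite π] {M : Y.Modules} (f : ∀ i, Γ(M, V i)) (hcov : ∀ y, ∃ i, y ∈ V i)
    (he : ∀ i, IsFrame L (π ⁻¹ᵁ V i) (e i)) (hf : ∀ i, IsFrame M (V i) (f i))
    (hef : ∀ (i j : ι) (W : Y.Opens) (hi : W ≤ V i) (hj : W ≤ V j) (a : Γ(X, π ⁻¹ᵁ W)),
      a • rs L (fun _ hx => hi hx : π ⁻¹ᵁ W ≤ π ⁻¹ᵁ V i) (e i) =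
          rs L (fun _ hx => hj hx : π ⁻¹ᵁ W ≤ π ⁻¹ᵁ V j) (e j) →
        N.norm W a • rs M hi (f i) = rs M hj (f j))
    {m : ℕ} (A : Y.Opens) (s : Γ(CohB1.tensorPow L m, π ⁻¹ᵁ A)) :
    ∃ σ : Γ(CohB1.tensorPow M m, A), ∀ y ∈ A,
      (∃ (O : Y.Opens) (hO : O ≤ A), y ∈ O ∧ IsFrame (CohB1.tensorPow M m) O (rs _ hO σ)) ↔
        ∀ x, π x = y → ∃ (O : X.Opens) (hO : O ≤ π ⁻¹ᵁ A), x ∈ O ∧ IsFrame (CohB1.tensorPow L m) O (rs _ hO s) := by
  let W₀ : ι → Y.Opens := fun i => V i ⊓ A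
  have hWA : ∀ i, W₀ i ≤ A := fun i => inf_le_right
  have hWV : ∀ i, W₀ i ≤ V i := fun i => inf_le_left
  have hfe : ∀ i, IsFrame (CohB1.tensorPow L m) (π ⁻¹ᵁ W₀ i)
      (pf (rs L (fun _ hx => hWV i hx : π ⁻¹ᵁ W₀ i ≤ π ⁻¹ᵁ V i) (e i)) m) :=
    fun i => isFrame_pf ((he i).mono (fun _ hx => hWV i hx : π ⁻¹ᵁ W₀ i ≤ π ⁻¹ᵁ V i)) m
  choose b hb using fun i => (hfe i).exists_coeff le_rfl
    (rs (CohB1.tensorPow L m) (fun _ hx => hWA i hx : π ⁻¹ᵁ W₀ i ≤ π ⁻¹ᵁ A) s)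
  simp only [rs_self] at hb
  let τ : ∀ i, Γ(CohB1.tensorPow M m, W₀ i) := fun i => N.norm (W₀ i) (b i) • pf (rs M (hWV i) (f i)) m
  obtain ⟨u, hu⟩ := exists_transition V e he
  obtain ⟨σ, hσ, -⟩ := TopCat.Sheaf.existsUnique_gluing'
    (⟨(CohB1.tensorPow M m).presheaf, (CohB1.tensorPow M m).isSheaf⟩ : TopCat.Sheaf Ab Y.toTopCat) W₀ A
    (fun i => homOfLE (hWA i))
    (fun y hy => by obtain ⟨i, hi⟩ := hcov y; exact Opens.mem_iSup.2 ⟨i, hi, hy⟩) τ fun i j => by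
      show rs _ (inf_le_left : W₀ i ⊓ W₀ j ≤ W₀ i) (τ i) = rs _ (inf_le_right : W₀ i ⊓ W₀ j ≤ W₀ j) (τ j)
      set W := W₀ i ⊓ W₀ j
      have hl : W ≤ W₀ i := inf_le_left
      have hr : W ≤ W₀ j := inf_le_right
      have hlV : W ≤ V i := hl.trans (hWV i)
      have hrV : W ≤ V j := hr.trans (hWV j)
      have ha := congrArg (rs L (fun _ hx => le_inf hlV hrV hx : π ⁻¹ᵁ W ≤ π ⁻¹ᵁ (V i ⊓ V j))) (hu i j)
      rw [rs_smul, rs_rs, rs_rs] at ha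
      simp only [τ, rs_smul, pf_rs, rs_rs, norm_ro N hl, norm_ro N hr]
      rw [← hef i j W hlV hrV _ ha, pf_smul, ← mul_smul, ← map_pow, ← map_mul]
      refine congrArg (fun b => N.norm W b • pf (rs M hlV (f i)) m) ?_
      have h1 := congrArg (rs (CohB1.tensorPow L m) (fun _ hx => hl hx : π ⁻¹ᵁ W ≤ π ⁻¹ᵁ W₀ i)) (hb i)
      have h2 := congrArg (rs (CohB1.tensorPow L m) (fun _ hx => hr hx : π ⁻¹ᵁ W ≤ π ⁻¹ᵁ W₀ j)) (hb j)
      rw [rs_smul, rs_rs, pf_rs, rs_rs] at h1 h2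
      rw [← ha, pf_smul, ← mul_smul, ← h1] at h2
      exact ((isFrame_pf ((he i).mono (fun _ hx => hlV hx : π ⁻¹ᵁ W ≤ π ⁻¹ᵁ V i)) m) _ le_rfl).1
        (by simp only [rs_self]; exact h2.symm)
  refine ⟨σ, fun y hyA => ?_⟩
  obtain ⟨i, hyi⟩ := hcov y
  have hy₀ : y ∈ W₀ i := ⟨hyi, hyA⟩
  rw [frame_nhd_iff σ (isFrame_pf ((hf i).mono (hWV i)) m) (hWA i) (a := N.norm (W₀ i) (b i)) (hσ i).symm hy₀,
    mem_basicOpen_norm_iff N]
  have hx₀ : ∀ x, π x = y → x ∈ π ⁻¹ᵁ W₀ i := fun x hx => by show π x ∈ W₀ i; rw [hx]; exact hy₀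
  refine ⟨fun h x hx => (frame_nhd_iff s (hfe i) _ (hb i) (hx₀ x hx)).2 (h.2 x hx),
    fun h => ⟨hy₀, fun x hx => (frame_nhd_iff s (hfe i) _ (hb i) (hx₀ x hx)).1 (h x hx)⟩⟩

/-- The locus of a section of a restricted module. -/
theorem mem_genLocus_restrict_iff {Z : Scheme.{u}} (K : Z.Modules) (A : Z.Opens) (τ : Γ(K, A)) (z : A.toScheme) :
    z ∈ CohB1.genLocus (K.restrict A.ι)
        (Groth.L16.homOfSection _ (show Γ(K.restrict A.ι, ⊤) from rs K (A.ι_image_top).le τ)) ↔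
      ∃ (O : Z.Opens) (hO : O ≤ A), A.ι z ∈ O ∧ IsFrame K O (rs K hO τ) := by
  constructor
  · intro hz
    have h1 := (isFrame_restrict_iff K A _ _).1 (isFrame_genLocus
      (Groth.L16.homOfSection (K.restrict A.ι) (show Γ(K.restrict A.ι, ⊤) from rs K (A.ι_image_top).le τ)))
    rw [secOf_homOfSection] at h1
    refine ⟨_, (Scheme.Hom.image_le_opensRange _ _).trans_eq A.opensRange_ι, ⟨z, hz, rfl⟩, ?_⟩
    convert h1 using 1
    show _ = rs K _ (rs K _ τ)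
    rw [rs_rs]
  · rintro ⟨O, hO, hzO, hfr⟩
    have he : A.ι ''ᵁ (A.ι ⁻¹ᵁ O) = O := by
      rw [Scheme.Hom.image_preimage_eq_opensRange_inf, Scheme.Opens.opensRange_ι, inf_eq_right.mpr hO]
    refine le_genLocus _ ?_ (show z ∈ A.ι ⁻¹ᵁ O from hzO)
    refine (isFrame_restrict_iff K A _ _).2 ?_
    rw [secOf_homOfSection]
    have h1 := hfr.mono he.le
    rw [rs_rs] at h1
    show IsFrame K _ (rs K _ (rs K _ τ))
    rw [rs_rs]
    exact h1

/-- Relatively ample modules descend along finite morphisms with a norm, in existence form. -/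
theorem exists_isRelAmple_of_preNorm {S : Scheme.{u}} (q : Y ⟶ S) [QuasiCompact q] (N : PreNorm π) [IsFinite π]
    [Surjective π] (hL : RelAmple.IsRelAmple (π ≫ q) L) (hLi : PicF.IsInvertible L) :
    ∃ M : Y.Modules, PicF.IsInvertible M ∧ RelAmple.IsRelAmple q M := by
  choose V e hyV he using exists_frame_near_fibre (π := π) hLi
  obtain ⟨M, hM, f, hf, hef⟩ := exists_normModule N V e (fun y => ⟨y, hyV y⟩) he
  refine ⟨M, hM, inferInstance, fun W => ?_⟩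
  set A := q ⁻¹ᵁ W.1
  haveI : CompactSpace A.toScheme := isCompact_iff_compactSpace.1 (q.isCompact_preimage W.2.isCompact)
  refine ⟨isInvertible_restrict hM A, inferInstance, fun z => ?_⟩
  obtain ⟨U, hU, hzU, -⟩ := exists_affine_le (Opens.mem_top z)
  let B := π ⁻¹ᵁ A
  let y : Y := A.ι z
  obtain ⟨n, s, hEs, hsU, -⟩ := exists_pow_genLocus_of_isAmple (hL.2 W) (B.ι ⁻¹' (π ⁻¹' {y}))
    ((π.finite_preimage_singleton y).preimage B.ι.isOpenEmbedding.injective.injOn)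
    (B.ι ⁻¹ᵁ (π ⁻¹ᵁ (A.ι ''ᵁ U))) (fun x hx => by
      show π (B.ι x) ∈ A.ι ''ᵁ U
      rw [show π (B.ι x) = y from hx]; exact ⟨z, hzU, rfl⟩)
  let s₁ := s ≫ (Groth.L00.Tensor.tensorPowRestrict B.ι L (n + 1)).hom
  have hs₁ : CohB1.genLocus _ s₁ = CohB1.genLocus _ s := Groth.L16.genLocus_comp_iso s _
  let s₀ : Γ(CohB1.tensorPow L (n + 1), B) := rs (CohB1.tensorPow L (n + 1)) B.ι_image_top.ge (secOf s₁)
  have hs₀ : ∀ x, x ∈ CohB1.genLocus _ s ↔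
      ∃ (O : X.Opens) (hO : O ≤ B), B.ι x ∈ O ∧ IsFrame (CohB1.tensorPow L (n + 1)) O (rs _ hO s₀) := by
    intro x
    rw [← hs₁, ← mem_genLocus_restrict_iff]
    conv_lhs => rw [← homOfSection_secOf s₁]
    have e0 : rs (CohB1.tensorPow L (n + 1)) B.ι_image_top.le s₀ = secOf s₁ := (rs_rs _ _ _ _).trans (rs_self _ _ _)
    exact (Iff.of_eq (congrArg (fun t : Γ((CohB1.tensorPow L (n + 1)).restrict B.ι, ⊤) =>
      x ∈ CohB1.genLocus _ (Groth.L16.homOfSection ((CohB1.tensorPow L (n + 1)).restrict B.ι) t)) e0)).symm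
  obtain ⟨σ, hσ⟩ := exists_normSec_on N V e f (fun y => ⟨y, hyV y⟩) he hf hef A s₀
  let σ₁ : Coh.structureModule A.toScheme ⟶ (CohB1.tensorPow M (n + 1)).restrict A.ι :=
    Groth.L16.homOfSection _ (show Γ((CohB1.tensorPow M (n + 1)).restrict A.ι, ⊤) from rs (CohB1.tensorPow M (n + 1)) A.ι_image_top.le σ)
  refine ⟨n, σ₁ ≫ (Groth.L00.Tensor.tensorPowRestrict A.ι M (n + 1)).inv, ?_⟩
  rw [show CohB1.genLocus _ (σ₁ ≫ (Groth.L00.Tensor.tensorPowRestrict A.ι M (n + 1)).inv) = CohB1.genLocus _ σ₁ from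
    Groth.L16.genLocus_comp_iso σ₁ (Groth.L00.Tensor.tensorPowRestrict A.ι M (n + 1)).symm]
  have hmem : ∀ w : A.toScheme, w ∈ CohB1.genLocus _ σ₁ ↔ ∀ x : B.toScheme, π (B.ι x) = A.ι w → x ∈ CohB1.genLocus _ s := by
    intro w
    rw [mem_genLocus_restrict_iff]
    refine (hσ (A.ι w) w.2).trans ?_
    refine ⟨fun h x hx => (hs₀ x).2 (h _ hx), fun h x hx => ?_⟩
    have hxB : x ∈ B := by show π x ∈ A; rw [hx]; exact w.2
    exact (hs₀ ⟨x, hxB⟩).1 (h ⟨x, hxB⟩ hx)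
  have hle : CohB1.genLocus _ σ₁ ≤ U := fun w hw => by
    obtain ⟨x, hx⟩ := π.surjective (A.ι w)
    have hxB : x ∈ B := by show π x ∈ A; rw [hx]; exact w.2
    have h1 : π x ∈ A.ι ''ᵁ U := hsU ((hmem w).1 hw ⟨x, hxB⟩ hx)
    rw [hx] at h1
    obtain ⟨w', hw', hww⟩ := h1
    exact A.ι.isOpenEmbedding.injective hww ▸ hw'
  refine ⟨(hmem z).2 fun x hx => hEs hx, ?_⟩
  have := isAffineOpen_genLocus_inf (isInvertible_restrict (isInvertible_tensorPow hM (n + 1)) A) σ₁ hU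
  rwa [show CohB1.genLocus _ σ₁ ⊓ U = CohB1.genLocus _ σ₁ from inf_eq_left.2 hle] at this

/-- The target of a finite morphism with a norm has an ample module if the source has one. -/
theorem exists_isAmple_of_norm (N : PreNorm π) [IsFinite π] [Surjective π] (hL : CohB1.IsAmple L) : ∃ M : Y.Modules, CohB1.IsAmple M := by
  choose V e hyV he using exists_frame_near_fibre (π := π) hL.1
  obtain ⟨M, hM, f, hf, hef⟩ := exists_normModule N V e (fun y => ⟨y, hyV y⟩) he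
  haveI := hL.2.1
  haveI : CompactSpace Y := π.surjective.compactSpace π.continuous
  refine ⟨M, hM, inferInstance, fun y => ?_⟩
  obtain ⟨U, hU, hyU, -⟩ := exists_affine_le (Opens.mem_top y)
  obtain ⟨n, s, hEs, hsU, -⟩ := exists_pow_genLocus_of_isAmple hL (π ⁻¹' {y}) (π.finite_preimage_singleton y) (π ⁻¹ᵁ U)
    (fun x hx => by show π x ∈ U; rw [show π x = y from hx]; exact hyU)
  obtain ⟨σ, hσ⟩ := exists_normSec_module N V e f (fun y => ⟨y, hyV y⟩) he hf hef s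
  refine ⟨n, σ, (hσ y).2 fun x hx => hEs hx, ?_⟩
  have hle : CohB1.genLocus _ σ ≤ U := fun z hz => by
    obtain ⟨x, rfl⟩ := π.surjective z
    exact hsU ((hσ _).1 hz x rfl)
  have := isAffineOpen_genLocus_inf (isInvertible_tensorPow hM (n + 1)) σ hU
  rwa [show CohB1.genLocus _ σ ⊓ U = CohB1.genLocus _ σ from inf_eq_left.2 hle] at this

end Groth.L18.NormDesc
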