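import Groth.Agent.L18.RelAmpleLocal
import Mathlib.AlgebraicGeometry.Morphisms.Immersion

/-!
Ampleness from quasi-affine loci; external tensor products; quasi-affine morphisms.
-/

set_option autoImplicit false
set_option backward.isDefEq.respectTransparency false
universe u

open CategoryTheory CategoryTheory.Limits AlgebraicGeometry TopologicalSpace Opposite

noncomputable section

namespace Groth.L18.Ample

open Groth.L18.GenLoc

variable {X Y Z S : Scheme.{u}} {L : X.Modules}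

theorem isAffineOpen_inf_of_le [X.IsSeparated] {U V : X.Opens} (hU : IsAffineOpen U) (hV : IsAffineOpen V) :
    IsAffineOpen (U ⊓ V) := hU.inf hV

theorem exists_basicOpen_affine (H : X.Opens) (hH : Scheme.IsQuasiAffine (H : Scheme.{u})) {z : X} (hz : z ∈ H) :
    ∃ f : Γ(X, H), z ∈ X.basicOpen f ∧ IsAffineOpen (X.basicOpen f) := by
  obtain ⟨_, ⟨r, hr, rfl⟩, hzr, -⟩ := Opens.isBasis_iff_nbhd.mp (Scheme.IsQuasiAffine.isBasis_basicOpen H.toScheme)
    (Opens.mem_top (⟨z, hz⟩ : H.toScheme))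
  have e : H.ι ''ᵁ H.toScheme.basicOpen r = X.basicOpen (H.topIso.hom r) :=
    (congrArg (fun a => H.ι ''ᵁ H.toScheme.basicOpen a) (Iso.hom_inv_id_apply H.topIso r).symm).trans
      (Scheme.Opens.ι_image_basicOpen_topIso_inv (U := H) (H.topIso.hom r))
  exact ⟨H.topIso.hom r, e.le ⟨⟨z, hz⟩, hzr, rfl⟩,
    e ▸ (Scheme.Hom.isAffineOpen_iff_of_isOpenImmersion H.ι).mpr hr⟩

/-- ampleness from quasi-affine non-vanishing loci -/
theorem isAmple_of_quasiAffine_loci [CompactSpace X] (hL : PicF.IsInvertible L)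
    (h : ∀ x : X, ∃ (n : ℕ) (s : Coh.structureModule X ⟶ CohB1.tensorPow L (n + 1)),
      x ∈ CohB1.genLocus _ s ∧ Scheme.IsQuasiAffine (CohB1.genLocus _ s : Scheme.{u})) : CohB1.IsAmple L := by
  choose n s hx hH using h
  have hinf : ∀ (A V : X.Opens) (x : X), IsAffineOpen A → IsAffineOpen V → A ≤ CohB1.genLocus _ (s x) →
      IsAffineOpen (A ⊓ V) := by
    intro A V x hA hV hle
    haveI := hH x
    set H := CohB1.genLocus _ (s x)
    have h1 : IsAffineOpen (H ⊓ V) := isAffineOpen_genLocus_inf (isInvertible_tensorPow hL _) (s x) hV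
    have key : ∀ U : X.Opens, IsAffineOpen U → U ≤ H → IsAffineOpen (H.ι ⁻¹ᵁ U) := fun U hU hUH => by
      rw [← Scheme.Hom.isAffineOpen_iff_of_isOpenImmersion H.ι, Scheme.Hom.image_preimage_eq_opensRange_inf,
        Scheme.Opens.opensRange_ι, inf_eq_right.mpr hUH]
      exact hU
    have h2 := ((key A hA hle).inf (key _ h1 inf_le_left)).image_of_isOpenImmersion H.ι
    rwa [← Scheme.Hom.preimage_inf, Scheme.Hom.image_preimage_eq_opensRange_inf, Scheme.Opens.opensRange_ι,
      inf_eq_right.mpr (inf_le_left.trans hle), ← inf_assoc, inf_eq_left.mpr hle] at h2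
  choose f hf hfa using fun x : X => exists_basicOpen_affine _ (hH x) (hx x)
  haveI : QuasiSeparatedSpace X := by
    refine Scheme.quasiSeparatedSpace_of_isOpenCover (fun x => X.basicOpen (f x))
      (top_le_iff.mp fun x _ => Opens.mem_iSup.2 ⟨x, hf x⟩) hfa fun x y => ?_
    exact (hinf _ _ x (hfa x) (hfa y) (X.basicOpen_le _)).isCompact
  refine ⟨hL, inferInstance, fun x => ?_⟩
  have hP := isInvertible_tensorPow hL (n x + 1)
  obtain ⟨k, t, ht⟩ := exists_extend_function hP (s x) (f x)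
  have h' := genLocus_tensHom (isInvertible_tensorPow hP k) hP t (s x)
  rw [ht] at h'
  obtain ⟨n', s'', hs''⟩ := exists_of_iso (L := L) (j := (n x + 1) * (k + 1))
    (by positivity) (tensHom t (s x)) (Groth.L00.Tensor.tensorPowMul _ (n x + 1) (k + 1))
  exact ⟨n', s'', by rw [hs'', h']; exact ⟨hf x, hfa x⟩⟩

theorem isQuasiAffine_of_pullback_opens [QuasiSeparatedSpace S] (f : X ⟶ S) (g : Y ⟶ S) {U : X.Opens}
    {V : Y.Opens} (hU : IsAffineOpen U) (hV : IsAffineOpen V) :
    Scheme.IsQuasiAffine (((pullback.fst f g) ⁻¹ᵁ U ⊓ (pullback.snd f g) ⁻¹ᵁ V : (pullback f g).Opens) : Scheme.{u}) := by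
  haveI : IsAffine (U : Scheme.{u}) := hU
  haveI : IsAffine (V : Scheme.{u}) := hV
  set A := pullback (U.ι ≫ f) (V.ι ≫ g)
  haveI : QuasiCompact (U.ι ≫ f) := quasiCompact_of_compactSpace _
  haveI : CompactSpace A := QuasiCompact.compactSpace_of_compactSpace (pullback.snd (U.ι ≫ f) (V.ι ≫ g))
  haveI : A.IsQuasiAffine :=
    Scheme.IsQuasiAffine.of_isImmersion (pullback.mapDesc (U.ι ≫ f) (V.ι ≫ g) (terminal.from S))
  let m : A ⟶ pullback f g := pullback.map (U.ι ≫ f) (V.ι ≫ g) f g U.ι V.ι (𝟙 S)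
    (Category.comp_id _) (Category.comp_id _)
  have hr : Set.range m = ((pullback.fst f g) ⁻¹ᵁ U ⊓ (pullback.snd f g) ⁻¹ᵁ V : (pullback f g).Opens) := by
    rw [Scheme.Pullback.range_map]
    simp
  exact .of_isAffineHom (IsOpenImmersion.isoOfRangeEq m
    ((pullback.fst f g) ⁻¹ᵁ U ⊓ (pullback.snd f g) ⁻¹ᵁ V).ι (by rw [hr, Scheme.Opens.range_ι])).inv

/-- external tensor product of ample modules -/
theorem isAmple_external [QuasiSeparatedSpace S] (f : X ⟶ S) (g : Y ⟶ S) {N : Y.Modules}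
    (hL : CohB1.IsAmple L) (hN : CohB1.IsAmple N) :
    CohB1.IsAmple (CohB1.tensorMod ((Scheme.Modules.pullback (pullback.fst f g)).obj L)
      ((Scheme.Modules.pullback (pullback.snd f g)).obj N)) := by
  haveI := hL.2.1
  haveI := hN.2.1
  haveI : QuasiCompact f := quasiCompact_of_compactSpace _
  haveI : CompactSpace (pullback f g : Scheme.{u}) := QuasiCompact.compactSpace_of_compactSpace (pullback.snd f g)
  set p := pullback.fst f g
  set q := pullback.snd f g
  set L' := (Scheme.Modules.pullback p).obj L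
  set N' := (Scheme.Modules.pullback q).obj N
  have hL' : PicF.IsInvertible L' := isInvertible_pullback p hL.1
  have hN' : PicF.IsInvertible N' := isInvertible_pullback q hN.1
  refine isAmple_of_quasiAffine_loci (isInvertible_tensor hL' hN') fun z => ?_
  obtain ⟨a, s, hxs, hs⟩ := hL.2.2 (p z)
  obtain ⟨b, t, hyt, ht⟩ := hN.2.2 (q z)
  obtain ⟨s', hs'⟩ := exists_pull_pow p hL.1 s
  obtain ⟨t', ht'⟩ := exists_pull_pow q hN.1 t
  let j := (a + 1) * (b + 1)
  let e : CohB1.tensorMod (CohB1.tensorPow (CohB1.tensorPow L' (a + 1)) (b + 1))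
      (CohB1.tensorPow (CohB1.tensorPow N' (b + 1)) (a + 1)) ≅ CohB1.tensorPow (CohB1.tensorMod L' N') j :=
    Groth.L00.Tensor.tensorIso (Groth.L00.Tensor.tensorPowMul L' (a + 1) (b + 1))
      (Groth.L00.Tensor.tensorPowMul N' (b + 1) (a + 1) ≪≫
        eqToIso (congrArg (CohB1.tensorPow N') (mul_comm _ _))) ≪≫ (Groth.L00.Tensor.tensorPowTensor L' N' j).symm
  obtain ⟨n, u, hu⟩ := exists_of_iso (by positivity) (tensHom (pw s' (b + 1)) (pw t' (a + 1))) e
  have i1 := isInvertible_tensorPow hL' (a + 1)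
  have i2 := isInvertible_tensorPow hN' (b + 1)
  refine ⟨n, u, ?_⟩
  rw [hu, genLocus_tensHom (isInvertible_tensorPow i1 _) (isInvertible_tensorPow i2 _), genLocus_pw_succ i1,
    genLocus_pw_succ i2, hs', ht']
  exact ⟨⟨hxs, hyt⟩, isQuasiAffine_of_pullback_opens f g hs ht⟩

theorem isAmple_structureModule_restrict_iff (U : X.Opens) :
    CohB1.IsAmple ((Coh.structureModule X).restrict U.ι) ↔ Scheme.IsQuasiAffine (U : Scheme.{u}) :=
  ⟨fun h => isQuasiAffine_of_isAmple_structureModule (isAmple_of_iso (Scheme.Modules.restrictUnitIso U.ι) h),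
    fun _ => isAmple_of_iso (Scheme.Modules.restrictUnitIso U.ι).symm isAmple_structureModule⟩

theorem isQuasiAffineHom_iff (f : X ⟶ Y) [QuasiCompact f] :
    Mor2.IsQuasiAffine f ↔ RelAmple.IsRelAmple f (Coh.structureModule X) :=
  ⟨fun h => ⟨inferInstance, fun V => (isAmple_structureModule_restrict_iff _).2 (h.2 V.1 V.2)⟩,
    fun h => ⟨inferInstance, fun V hV => (isAmple_structureModule_restrict_iff _).1 (h.2 ⟨V, hV⟩)⟩⟩

end Groth.L18.Ample
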