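import Groth.Agent.L18.AmpleAvoid
import Groth.Agent.L18.AmplePull
import Groth.Agent.L18.AmpleExternal
import Groth.Prelude.Def_Fitting

/-!
Norms of sections along a finite morphism carrying a norm, and descent of ampleness.
-/

set_option autoImplicit false
set_option backward.isDefEq.respectTransparency false
set_option linter.style.haveILetI false
universe u

open CategoryTheory CategoryTheory.Limits AlgebraicGeometry TopologicalSpace Opposite

noncomputable section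

namespace Groth.L18.NormDesc

open Groth.L18.Frame (rs ro rs_rs rs_self rs_smul ro_ro ro_self ro_mul IsFrame pull pull_rs pull_smul)
open Groth.L18.GenLoc Groth.L18.Ample

variable {X Y : Scheme.{u}} {π : X ⟶ Y} {d : ℕ} {M : Y.Modules}

/-- Powers of a section over an open. -/
def pf {W : Y.Opens} (e : Γ(M, W)) : ∀ n : ℕ, Γ(CohB1.tensorPow M n, W)
  | 0 => rs (Coh.structureModule Y) le_top (secOf (𝟙 (Coh.structureModule Y)))
  | n + 1 => tens _ M W (pf e n) e

theorem pf_rs {W V : Y.Opens} (h : V ≤ W) (e : Γ(M, W)) :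
    ∀ n, rs (CohB1.tensorPow M n) h (pf e n) = pf (rs M h e) n
  | 0 => rs_rs _ _ _ _
  | n + 1 => by
    show rs (CohB1.tensorMod (CohB1.tensorPow M n) M) h (tens _ M W _ e) = tens _ M V _ _
    rw [tens_rs, pf_rs h e n]

theorem pf_smul {W : Y.Opens} (a : Γ(Y, W)) (e : Γ(M, W)) : ∀ n, pf (a • e) n = a ^ n • pf e n
  | 0 => by rw [pow_zero, one_smul]; rfl
  | n + 1 => by
    show tens _ M W (pf (a • e) n) (a • e) = _ • tens _ M W _ e
    rw [pf_smul a e n, tens_smul_left, tens_smul_right, ← mul_smul, pow_succ]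

theorem isFrame_pf {W : Y.Opens} {e : Γ(M, W)} (he : IsFrame M W e) :
    ∀ n, IsFrame (CohB1.tensorPow M n) W (pf e n)
  | 0 => (isFrame_genLocus (𝟙 (Coh.structureModule Y))).mono (le_top.trans (genLocus_id (X := Y)).ge) |> fun h => by
      rwa [rs_rs] at h
  | n + 1 => isFrame_tens (isFrame_pf he n) he

/-- A norm without prescribed degree. -/
structure PreNorm (π : X ⟶ Y) where
  /-- the norm maps on sections -/
  norm : ∀ U : Y.Opens, Γ(X, π ⁻¹ᵁ U) →* Γ(Y, U)
  /-- compatibility with restriction -/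
  norm_res : ∀ {U V : Y.Opens} (i : V ⟶ U) (s : Γ(X, π ⁻¹ᵁ U)),
    Y.presheaf.map i.op (norm U s) = norm V (X.presheaf.map ((Opens.map π.base).map i).op s)
  /-- functions vanishing at `x` have norm vanishing at `π x` -/
  norm_mem : ∀ (U : Y.Opens) (s : Γ(X, π ⁻¹ᵁ U)) (x : X) (hx : π.base x ∈ U),
    X.presheaf.germ (π ⁻¹ᵁ U) x hx s ∈ IsLocalRing.maximalIdeal (X.presheaf.stalk x) →
      Y.presheaf.germ U (π.base x) hx (norm U s) ∈ IsLocalRing.maximalIdeal (Y.presheaf.stalk (π.base x))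

/-- A norm of degree `d` as a norm. -/
abbrev toPre (N : Nrm.NormOfDegree π d) : PreNorm π := ⟨N.norm, N.norm_res, N.norm_mem⟩

theorem norm_ro (N : PreNorm π) {U V : Y.Opens} (h : V ≤ U) (b : Γ(X, π ⁻¹ᵁ U)) :
    ro h (N.norm U b) = N.norm V (ro (fun _ hx => h hx : π ⁻¹ᵁ V ≤ π ⁻¹ᵁ U) b) :=
  N.norm_res (homOfLE h) b

theorem norm_smul_app (N : Nrm.NormOfDegree π d) (U : Y.Opens) (a : Γ(Y, U)) (b : Γ(X, π ⁻¹ᵁ U)) :
    N.norm U (b * π.app U a) = N.norm U b * a ^ d := by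
  rw [map_mul, N.norm_app]

theorem norm_zero_of (N : Nrm.NormOfDegree π d) (U : Y.Opens) : N.norm U 0 = 0 := by
  rw [← map_zero (π.app U).hom]
  exact (N.norm_app U 0).trans (zero_pow (by have := N.one_le; omega))

theorem surjective_of_norm [IsFinite π] (N : Nrm.NormOfDegree π d) : Surjective π := by
  refine ⟨fun y => ?_⟩
  by_contra hy
  let V : Y.Opens := ⟨(Set.range π)ᶜ, π.isClosedMap.isClosed_range.isOpen_compl⟩
  have hbot : π ⁻¹ᵁ V = ⊥ := le_bot_iff.1 fun x hx => (hx ⟨x, rfl⟩ : False).elim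
  haveI : Subsingleton Γ(X, π ⁻¹ᵁ V) := by rw [hbot]; infer_instance
  have h01 : (0 : Γ(Y, V)) = 1 := by
    rw [← norm_zero_of N V, ← map_one (N.norm V), Subsingleton.elim (0 : Γ(X, π ⁻¹ᵁ V)) 1]
  have hyV : y ∈ V := hy
  have h2 := congrArg (Y.presheaf.germ V y hyV) h01
  rw [map_zero, map_one] at h2
  exact zero_ne_one h2

theorem mem_basicOpen_norm_iff [IsFinite π] (N : PreNorm π) {W : Y.Opens} (b : Γ(X, π ⁻¹ᵁ W)) (y : Y) :
    y ∈ Y.basicOpen (N.norm W b) ↔ y ∈ W ∧ ∀ x, π x = y → x ∈ X.basicOpen b := by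
  constructor
  · intro hy
    have hyW : y ∈ W := Y.basicOpen_le _ hy
    refine ⟨hyW, fun x hx => ?_⟩
    subst hx
    have hxW : x ∈ π ⁻¹ᵁ W := hyW
    rw [X.mem_basicOpen b x hxW]
    rw [Y.mem_basicOpen _ (π x) hyW] at hy
    by_contra hu
    exact (IsLocalRing.mem_maximalIdeal _).1 (N.norm_mem W b x hxW ((IsLocalRing.mem_maximalIdeal _).2 hu)) hy
  · rintro ⟨hyW, hfib⟩
    let V : Y.Opens := W ⊓ ⟨(π '' (X.basicOpen b : Set X)ᶜ)ᶜ,
      (π.isClosedMap _ (X.basicOpen b).2.isClosed_compl).isOpen_compl⟩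
    have hyV : y ∈ V := ⟨hyW, fun ⟨x, hx, hxy⟩ => hx (hfib x hxy)⟩
    have hVW : V ≤ W := inf_le_left
    have hsub : π ⁻¹ᵁ V ≤ X.basicOpen b := fun x hx => by
      by_contra hxb
      exact hx.2 ⟨x, hxb, rfl⟩
    have hu : IsUnit (ro (fun _ hx => hVW hx : π ⁻¹ᵁ V ≤ π ⁻¹ᵁ W) b) := by
      have h0 : IsUnit (ro (X.basicOpen_le b) b) := RingedSpace.isUnit_res_basicOpen X.toRingedSpace b
      have h1 : IsUnit (ro hsub (ro (X.basicOpen_le b) b)) := h0.map (X.presheaf.map (homOfLE hsub).op).hom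
      rwa [ro_ro] at h1
    have h2 := hu.map (N.norm V)
    rw [← norm_ro N hVW] at h2
    have h3 := Y.basicOpen_of_isUnit h2
    rw [Scheme.basicOpen_res] at h3
    exact (h3.ge hyV).2

/-- The norm of a section of a pulled back invertible module. -/
theorem exists_normSec [IsFinite π] (N : Nrm.NormOfDegree π d) (hM : PicF.IsInvertible M)
    (s : Coh.structureModule X ⟶ (Scheme.Modules.pullback π).obj M) :
    ∃ σ : Coh.structureModule Y ⟶ CohB1.tensorPow M d,
      ∀ y : Y, y ∈ CohB1.genLocus _ σ ↔ ∀ x, π x = y → x ∈ CohB1.genLocus _ s := by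
  choose W e hyW he using fun y : Y => Frame.exists_frame hM y
  choose b hb using fun y => ((he y).pullback π M).exists_coeff le_rfl (rs ((Scheme.Modules.pullback π).obj M) le_top (secOf s))
  simp only [rs_self] at hb
  let τ : ∀ y, Γ(CohB1.tensorPow M d, W y) := fun y => (toPre N).norm (W y) (b y) • pf (e y) d
  obtain ⟨σ, hσ, -⟩ := TopCat.Sheaf.existsUnique_gluing'
    (⟨(CohB1.tensorPow M d).presheaf, (CohB1.tensorPow M d).isSheaf⟩ : TopCat.Sheaf Ab Y.toTopCat) W ⊤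
    (fun y => homOfLE le_top) (fun y _ => Opens.mem_iSup.2 ⟨y, hyW y⟩) τ fun y z => by
      show rs _ (inf_le_left : W y ⊓ W z ≤ W y) (τ y) = rs _ (inf_le_right : W y ⊓ W z ≤ W z) (τ z)
      set V := W y ⊓ W z
      have hl : V ≤ W y := inf_le_left
      have hr : V ≤ W z := inf_le_right
      simp only [τ, rs_smul, pf_rs, norm_ro (toPre N) hl, norm_ro (toPre N) hr]
      obtain ⟨a, ha⟩ := ((he y).mono hl).exists_coeff le_rfl (rs M hr (e z))
      rw [rs_self] at ha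
      have h1 := congrArg (rs ((Scheme.Modules.pullback π).obj M) (fun _ hx => hl hx : π ⁻¹ᵁ V ≤ π ⁻¹ᵁ W y)) (hb y)
      have h2 := congrArg (rs ((Scheme.Modules.pullback π).obj M) (fun _ hx => hr hx : π ⁻¹ᵁ V ≤ π ⁻¹ᵁ W z)) (hb z)
      rw [rs_smul, rs_rs, pull_rs π M hl] at h1
      rw [rs_smul, rs_rs, pull_rs π M hr, ← ha, pull_smul, ← mul_smul, ← h1] at h2
      have h3 := (((he y).mono hl).pullback π M).inj le_rfl
        (a := ro (fun _ hx => hr hx : π ⁻¹ᵁ V ≤ π ⁻¹ᵁ W z) (b z) * π.app V a)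
        (b := ro (fun _ hx => hl hx : π ⁻¹ᵁ V ≤ π ⁻¹ᵁ W y) (b y)) (by rw [rs_self]; exact h2)
      rw [← ha, pf_smul, ← mul_smul, ← h3]
      exact congrArg (· • _) (norm_smul_app N V a _)
  refine ⟨Groth.L16.homOfSection _ σ, fun y => ?_⟩
  have hloc := genLocus_inf_eq (Groth.L16.homOfSection _ σ) (isFrame_pf (he y) d)
    (a := (toPre N).norm (W y) (b y)) (by rw [secOf_homOfSection]; exact (hσ y).symm)
  have hs := genLocus_inf_eq s ((he y).pullback π M) (hb y)
  have e1 : y ∈ CohB1.genLocus _ (Groth.L16.homOfSection _ σ) ↔ y ∈ Y.basicOpen ((toPre N).norm (W y) (b y)) :=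
    ⟨fun h => hloc.le ⟨h, hyW y⟩, fun h => (hloc.ge h).1⟩
  rw [e1, mem_basicOpen_norm_iff (toPre N)]
  refine ⟨fun h x hx => (hs.ge (h.2 x hx)).1, fun h => ⟨hyW y, fun x hx => hs.le ⟨h x hx, ?_⟩⟩⟩
  show π x ∈ W y
  rw [hx]; exact hyW y

/-- Ampleness descends along a finite morphism carrying a norm. -/
theorem isAmple_of_norm [IsFinite π] (N : Nrm.NormOfDegree π d) (hM : PicF.IsInvertible M)
    (h : CohB1.IsAmple ((Scheme.Modules.pullback π).obj M)) : CohB1.IsAmple M := by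
  haveI := surjective_of_norm N
  haveI := h.2.1
  haveI : CompactSpace Y := π.surjective.compactSpace π.continuous
  refine ⟨hM, inferInstance, fun y => ?_⟩
  obtain ⟨U, hU, hyU, -⟩ := exists_affine_le (Opens.mem_top y)
  obtain ⟨n, s, hEs, hsU, -⟩ := exists_pow_genLocus_of_isAmple h (π ⁻¹' {y}) (π.finite_preimage_singleton y) (π ⁻¹ᵁ U)
    (fun x hx => by show π x ∈ U; rw [show π x = y from hx]; exact hyU)
  have hinv := isInvertible_tensorPow hM (n + 1)
  obtain ⟨σ, hσ⟩ := exists_normSec N hinv (s ≫ (pullPow π M (n + 1)).inv)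
  have hgl : CohB1.genLocus _ (s ≫ (pullPow π M (n + 1)).inv) = CohB1.genLocus _ s :=
    Groth.L16.genLocus_comp_iso s (pullPow π M (n + 1)).symm
  rw [hgl] at hσ
  have hd : 0 < (n + 1) * d := Nat.mul_pos n.succ_pos N.one_le
  obtain ⟨m, σ', hσ'⟩ := exists_of_iso hd σ (Groth.L00.Tensor.tensorPowMul M (n + 1) d)
  refine ⟨m, σ', ?_⟩
  rw [hσ']
  have hle : CohB1.genLocus _ σ ≤ U := fun z hz => by
    obtain ⟨x, rfl⟩ := π.surjective z
    exact hsU ((hσ _).1 hz x rfl)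
  refine ⟨(hσ y).2 fun x hx => hEs hx, ?_⟩
  have := isAffineOpen_genLocus_inf (isInvertible_tensorPow hinv d) σ hU
  rwa [show CohB1.genLocus _ σ ⊓ U = CohB1.genLocus _ σ from inf_eq_left.2 hle] at this

end Groth.L18.NormDesc
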