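import Groth.Agent.L18.NormFree
import Groth.Agent.L18.NormDescent

/-!
The norm of a morphism whose direct image of the structure sheaf has local bases, without bound on the ranks.
-/

set_option autoImplicit false
set_option backward.isDefEq.respectTransparency false
set_option linter.style.haveILetI false
universe u

open CategoryTheory AlgebraicGeometry TopologicalSpace Opposite

noncomputable section

namespace Groth.L18.NormFree

open Groth.L18.Frame (rs ro ro_ro ro_self ro_mul)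

variable {X Y : Scheme.{u}} {π : X ⟶ Y}

theorem exists_preNorm_of_goodBases (H : ∀ y : Y, ∃ (W : Y.Opens) (n : ℕ) (c : Fin n → Γ(X, π ⁻¹ᵁ W)),
    y ∈ W ∧ IsGoodBasis π c) : Nonempty (Groth.L18.NormDesc.PreNorm π) := by
  choose W n c hyW hc using H
  let v : ∀ (U : Y.Opens) (y : Y), Γ(X, π ⁻¹ᵁ U) →* Γ(Y, W y ⊓ U) := fun U y =>
    (nrmHom π (W y ⊓ U)).comp
      (X.presheaf.map (homOfLE (fun _ hx => hx.2 : π ⁻¹ᵁ (W y ⊓ U) ≤ π ⁻¹ᵁ U)).op).hom.toMonoidHom
  have hcov : ∀ U : Y.Opens, U ≤ ⨆ y, W y ⊓ U := fun U y hy => Opens.mem_iSup.2 ⟨y, hyW y, hy⟩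
  have key : ∀ (U : Y.Opens) (y : Y) (V : Y.Opens) (h : V ≤ W y ⊓ U) (s : Γ(X, π ⁻¹ᵁ U)),
      ro h (v U y s) = nrmHom π V (ro (fun _ hx => (h hx).2 : π ⁻¹ᵁ V ≤ π ⁻¹ᵁ U) s) := by
    intro U y V h s
    show ro h (nrmHom π (W y ⊓ U) (ro (fun _ hx => hx.2 : π ⁻¹ᵁ (W y ⊓ U) ≤ π ⁻¹ᵁ U) s)) = _
    rw [nrmHom_ro (hc y) inf_le_left h, ro_ro]
  have ext : ∀ (U : Y.Opens) (a b : Γ(Y, U)),
      (∀ y, ro (inf_le_right : W y ⊓ U ≤ U) a = ro inf_le_right b) → a = b := fun U a b h =>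
    Y.sheaf.eq_of_locally_eq' (fun y => W y ⊓ U) U (fun y => homOfLE inf_le_right) (hcov U) a b h
  have glue : ∀ (U : Y.Opens) (s : Γ(X, π ⁻¹ᵁ U)), ∃ a : Γ(Y, U), ∀ y, ro (inf_le_right : W y ⊓ U ≤ U) a = v U y s :=
    fun U s => by
      obtain ⟨a, ha, -⟩ := Y.sheaf.existsUnique_gluing' (fun y => W y ⊓ U) U (fun y => homOfLE inf_le_right)
        (hcov U) (fun y => v U y s) (fun y z => by
          show ro (inf_le_left : (W y ⊓ U) ⊓ (W z ⊓ U) ≤ W y ⊓ U) (v U y s) = ro inf_le_right (v U z s)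
          rw [key, key])
      exact ⟨a, ha⟩
  choose N hN using glue
  refine ⟨{
    norm := fun U =>
      { toFun := N U
        map_one' := ext U _ _ fun y => by rw [hN, map_one, show ro _ (1 : Γ(Y, U)) = 1 from map_one _]
        map_mul' := fun a b => ext U _ _ fun y => by rw [hN, map_mul, ro_mul, hN, hN] }
    norm_res := fun {U V} i s => ext V _ _ fun y => ?_
    norm_mem := fun U s x hx hs => ?_ }⟩
  · show ro _ (ro i.le (N U s)) = ro _ (N V _)
    rw [hN V, ro_ro, ← ro_ro (inf_le_right : W y ⊓ U ≤ U) (inf_le_inf_left (W y) i.le), hN U, key]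
    show nrmHom π (W y ⊓ V) (ro _ s) =
      nrmHom π (W y ⊓ V) (ro _ (ro (fun _ hx => i.le hx : π ⁻¹ᵁ V ≤ π ⁻¹ᵁ U) s))
    rw [ro_ro]
  · refine (IsLocalRing.mem_maximalIdeal _).2 fun hu => ?_
    have hxV : π x ∈ Y.basicOpen (N U s) := (Y.mem_basicOpen _ (π x) hx).2 hu
    have hVU := Y.basicOpen_le (N U s)
    let V : Y.Opens := W (π x) ⊓ Y.basicOpen (N U s)
    have hVU' : V ≤ W (π x) ⊓ U := inf_le_inf_left _ hVU
    have h1 : IsUnit (ro (hVU'.trans inf_le_right) (N U s)) := by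
      have h0 : IsUnit (ro hVU (N U s)) := RingedSpace.isUnit_res_basicOpen Y.toRingedSpace (N U s)
      have h2 : IsUnit (ro (inf_le_right : V ≤ Y.basicOpen (N U s)) (ro hVU (N U s))) :=
        h0.map (Y.presheaf.map (homOfLE inf_le_right).op).hom
      rwa [ro_ro] at h2
    rw [← ro_ro (inf_le_right : W (π x) ⊓ U ≤ U) hVU', hN, key] at h1
    have h3 := isUnit_of_nrmHom (hc (π x)) inf_le_left _ h1
    have hxV' : x ∈ π ⁻¹ᵁ V := ⟨hyW _, hxV⟩
    have h4 := h3.map (X.presheaf.germ (π ⁻¹ᵁ V) x hxV').hom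
    rw [X.presheaf.germ_res_apply] at h4
    exact (IsLocalRing.mem_maximalIdeal _).1 hs h4

end Groth.L18.NormFree
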