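import Groth.Agent.L18.Segre

/-!
# Base change of products of projective spaces
-/

set_option autoImplicit false
universe u v

open CategoryTheory CategoryTheory.Limits AlgebraicGeometry

namespace Groth.L18.PS

section
variable {C : Type u} [Category.{v} C] [HasPullbacks C] {X Y Z S : C} (f : X ⟶ Z) (g : Y ⟶ Z) (h : S ⟶ Z)

/-- The projection from the product of base changes to the product. -/
noncomputable def toProd : pullback (pullback.snd f h) (pullback.snd g h) ⟶ pullback f g :=
  pullback.lift (pullback.fst _ _ ≫ pullback.fst f h) (pullback.snd _ _ ≫ pullback.fst g h) (by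
    rw [Category.assoc, Category.assoc, pullback.condition, pullback.condition,
      ← Category.assoc, ← Category.assoc, pullback.condition])

/-- The product of base changes is the base change of the product. -/
lemma isPullback_toProd :
    IsPullback (toProd f g h) (pullback.fst (pullback.snd f h) (pullback.snd g h) ≫ pullback.snd f h)
      (pullback.fst f g ≫ f) h := by
  have hw : toProd f g h ≫ pullback.fst f g ≫ f =
      (pullback.fst (pullback.snd f h) (pullback.snd g h) ≫ pullback.snd f h) ≫ h := by
    rw [toProd, pullback.lift_fst_assoc, Category.assoc, Category.assoc, pullback.condition]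
  have hex : ∀ (s : PullbackCone (pullback.fst f g ≫ f) h),
      ∃ (x : s.pt ⟶ pullback f h) (y : s.pt ⟶ pullback g h)
        (l : s.pt ⟶ pullback (pullback.snd f h) (pullback.snd g h)),
        x ≫ pullback.fst f h = s.fst ≫ pullback.fst f g ∧ x ≫ pullback.snd f h = s.snd ∧
        y ≫ pullback.fst g h = s.fst ≫ pullback.snd f g ∧ y ≫ pullback.snd g h = s.snd ∧
        l ≫ pullback.fst _ _ = x ∧ l ≫ pullback.snd _ _ = y := by
    intro s
    obtain ⟨x, hx1, hx2⟩ := pullback.lift' (s.fst ≫ pullback.fst f g) s.snd
      (by rw [Category.assoc]; exact s.condition)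
    obtain ⟨y, hy1, hy2⟩ := pullback.lift' (s.fst ≫ pullback.snd f g) s.snd
      (by rw [Category.assoc, ← pullback.condition]; exact s.condition)
    obtain ⟨l, hl1, hl2⟩ := pullback.lift' (f := pullback.snd f h) (g := pullback.snd g h) x y
      (hx2.trans hy2.symm)
    exact ⟨x, y, l, hx1, hx2, hy1, hy2, hl1, hl2⟩
  choose x y l hx1 hx2 hy1 hy2 hl1 hl2 using hex
  refine ⟨⟨hw⟩, ⟨PullbackCone.IsLimit.mk hw l (fun s => ?_) (fun s => ?_) (fun s t h1 h2 => ?_)⟩⟩
  · apply pullback.hom_ext
    · rw [Category.assoc, toProd, pullback.lift_fst, reassoc_of% (hl1 s), hx1]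
    · rw [Category.assoc, toProd, pullback.lift_snd, reassoc_of% (hl2 s), hy1]
  · rw [reassoc_of% (hl1 s), hx2]
  · have e1 := congrArg (fun a => a ≫ pullback.fst f g) h1
    have e2 := congrArg (fun a => a ≫ pullback.snd f g) h1
    simp only [toProd, Category.assoc, pullback.lift_fst, pullback.lift_snd] at e1 e2
    apply pullback.hom_ext
    · rw [hl1]
      apply pullback.hom_ext
      · rw [Category.assoc, hx1]; exact e1
      · rw [Category.assoc, hx2]; exact h2
    · rw [hl2]
      apply pullback.hom_ext
      · rw [Category.assoc, hy1]; exact e2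
      · rw [Category.assoc, ← pullback.condition, hy2]; exact h2

/-- Base change of a morphism defined over `Z`. -/
lemma exists_baseChange {W : C} (w : W ⟶ Z) (φ₀ : pullback f g ⟶ W)
    (hφ : φ₀ ≫ w = pullback.fst f g ≫ f) :
    ∃ φ : pullback (pullback.snd f h) (pullback.snd g h) ⟶ pullback w h,
      φ ≫ pullback.snd w h = pullback.fst _ _ ≫ pullback.snd f h ∧
      IsPullback φ (toProd f g h) (pullback.fst w h) φ₀ := by
  have hP := isPullback_toProd f g h
  let φ : pullback (pullback.snd f h) (pullback.snd g h) ⟶ pullback w h :=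
    pullback.lift (toProd f g h ≫ φ₀) (pullback.fst _ _ ≫ pullback.snd f h) (by
      rw [Category.assoc, hφ]; exact hP.w)
  refine ⟨φ, pullback.lift_snd _ _ _, ?_⟩
  have hs : IsPullback (φ ≫ pullback.snd w h) (toProd f g h) h (φ₀ ≫ w) := by
    rw [show φ ≫ pullback.snd w h = _ from pullback.lift_snd _ _ _, hφ]
    exact hP.flip
  exact IsPullback.of_right hs (pullback.lift_fst _ _ _) (IsPullback.of_hasPullback w h).flip

end

theorem segre_over (S : Scheme.{u}) (n m : ℕ) :
    ∃ φ : pullback (CohB1.ProjSpaceOver.toBase n S) (CohB1.ProjSpaceOver.toBase m S) ⟶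
        CohB1.ProjSpaceOver (n * m + n + m) S,
      IsClosedImmersion φ ∧ φ ≫ CohB1.ProjSpaceOver.toBase (n * m + n + m) S =
        pullback.fst (CohB1.ProjSpaceOver.toBase n S) (CohB1.ProjSpaceOver.toBase m S) ≫
          CohB1.ProjSpaceOver.toBase n S := by
  let e : Fin (n + 1) × Fin (m + 1) ≃ Fin (n * m + n + m + 1) :=
    finProdFinEquiv.trans (finCongr (by ring))
  obtain ⟨φ, h1, h2⟩ := exists_baseChange _ _ (specULiftZIsTerminal.from S)
    (CohB1.ProjSpace.toSpec (n * m + n + m) (ULift.{u} ℤ)) (segre (ULift.{u} ℤ) e) (segre_toSpec _ e)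
  exact ⟨φ, MorphismProperty.of_isPullback (P := @IsClosedImmersion) h2.flip (isClosedImmersion_segre _ e), h1⟩

end Groth.L18.PS
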