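import Groth.Agent.L18.AffineCrit
import Groth.Agent.L18.IdealModule
import Groth.Agent.L17.SerreCriterion
import Groth.Agent.L17.AffineVanishing
import Groth.Agent.L17.ToAbRpush
import Groth.Agent.L00.RDerLES
import Groth.Prelude.Def_FlatMod2

/-!
Cohomological criteria for affineness.
-/

set_option autoImplicit false
set_option backward.defeqAttrib.useBackward true
set_option backward.isDefEq.respectTransparency false
universe u

open CategoryTheory CategoryTheory.Limits AlgebraicGeometry TopologicalSpace Opposite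
open Groth.L10.SiteCoh
open Groth.L17 (toAbShF)

noncomputable section

namespace Groth.L18.AffineCrit

theorem isAffine_of_top (X : Scheme.{u}) (h : IsAffineOpen (⊤ : X.Opens)) : IsAffine X :=
  haveI : IsAffine (⊤ : X.Opens).toScheme := h
  .of_isIso X.topIso.inv

variable {X Y : Scheme.{u}}

theorem epi_toSubscheme (I : X.IdealSheafData) : Epi (ClSub.toSubscheme I) :=
  Groth.L17.Serre.epi_of_locally_surjective _ fun U x hx t => by
    obtain ⟨_, ⟨V, hV, rfl⟩, hxV, hVU⟩ :=
      X.isBasis_affineOpens.exists_subset_of_mem_open (show x ∈ (U : Set X) from hx) U.2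
    obtain ⟨s, hs⟩ := I.subschemeι.app_surjective V hV
      ((show Γ(I.subscheme, I.subschemeι ⁻¹ᵁ V) from (ClSub.quotMod I).presheaf.map (homOfLE hVU).op t))
    exact ⟨V, hVU, hxV, s, hs⟩

theorem isQCoh_quotMod (I : X.IdealSheafData) : Coh.IsQCoh (ClSub.quotMod I) := by
  haveI : Coh.IsQCoh (Coh.structureModule I.subscheme) := Groth.L19.Conormal.isQCoh_structureModule _
  exact Groth.L16.QcqsPush.isQCoh_push (Coh.structureModule I.subscheme) I.subschemeι

/-- affineness from surjectivity onto functions of reduced closed subschemes -/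
theorem isAffineOpen_of_reduced (A : X.Opens) (hA : IsCompact (A : Set X)) (hA' : IsQuasiSeparated (A : Set X))
    (h : ∀ I : X.IdealSheafData, Function.Surjective ((ClSub.toSubscheme I).app A)) : IsAffineOpen A := by
  refine isAffineOpen_of_lifting A hA hA' (fun x U hU hUA hxU hx => ?_) fun z hz E hE => ?_
  · let Z : Closeds X := ⟨(U : Set X)ᶜ ∪ ({x} ∪ (A : Set X)ᶜ), U.2.isClosed_compl.union hx⟩
    let I := Scheme.IdealSheafData.vanishingIdeal Z
    have hr : Set.range I.subschemeι = (U : Set X)ᶜ ∪ ({x} ∪ (A : Set X)ᶜ) := by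
      rw [Scheme.IdealSheafData.range_subschemeι, Groth.L18.support_vanishingIdeal]; rfl
    refine ⟨{x} ∪ (A : Set X)ᶜ, I.subscheme, I.subschemeι, hx, Or.inl rfl, ?_, h I, hr.ge (Or.inr (Or.inl rfl)),
      fun y hy => hr.ge (Or.inl hy.2), fun t ht => ?_⟩
    · rintro y ⟨hy | hy, hyA⟩
      · rw [Set.mem_singleton_iff] at hy; rw [hy]; exact hxU
      · exact absurd hyA hy
    · exact (hr.le ⟨t, rfl⟩).resolve_left (fun h' => h' ht)
  · let Z : Closeds X := ⟨closure {z}, isClosed_closure⟩
    let I := Scheme.IdealSheafData.vanishingIdeal Z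
    haveI : IsReduced I.subscheme := Groth.L18.isReduced_vanishingIdeal_subscheme Z
    have hr : Set.range I.subschemeι = closure {z} := by
      rw [Scheme.IdealSheafData.range_subschemeι, Groth.L18.support_vanishingIdeal]; rfl
    refine ⟨I.subscheme, I.subschemeι, h I, hr.ge (subset_closure rfl), fun a ha => ?_⟩
    refine Groth.L18.app_eq_zero_of_disjoint _ _ _ (Set.disjoint_left.2 fun y hy hy' => hE a ha ?_)
    exact (specializes_iff_mem_closure.2 (hr.le hy')).mem_open (X.basicOpen a).2 hy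

theorem surjective_app_of_epi_affine {F G : Y.Modules} [Coh.IsQCoh F] [Coh.IsQCoh G] (p : F ⟶ G) [Epi p]
    {V : Y.Opens} (hV : IsAffineOpen V) : Function.Surjective (p.app V) := by
  have hS : (ShortComplex.mk (kernel.ι p) p (kernel.condition p)).ShortExact :=
    { exact := ShortComplex.exact_kernel p }
  have hA := hS.map_of_exact (toAbShF Y)
  haveI : Coh.IsQCoh (kernel p) := Groth.L18.IdealModule.isQCoh_kernel p
  haveI : Subsingleton (Abelian.Ext (fs (Opens.grothendieckTopology Y) V)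
      ((ShortComplex.mk (kernel.ι p) p (kernel.condition p)).map (toAbShF Y)).X₁ 1) :=
    subsingleton_of_forall_eq 0 fun x => Groth.L17.hu_affine_eq_zero (kernel p) hV 0 x
  exact surjective_sections_of_subsingleton hA V

theorem surjective_of_epi_push (f : X ⟶ Y) [QuasiCompact f] [QuasiSeparated f] {F G : X.Modules}
    [Coh.IsQCoh F] [Coh.IsQCoh G] (p : F ⟶ G) (hp : Epi ((Coh.push f).map p)) {V : Y.Opens}
    (hV : IsAffineOpen V) : Function.Surjective (p.app (f ⁻¹ᵁ V)) := by
  haveI : Coh.IsQCoh ((Coh.push f).obj F) := Groth.L16.QcqsPush.isQCoh_push F f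
  haveI : Coh.IsQCoh ((Coh.push f).obj G) := Groth.L16.QcqsPush.isQCoh_push G f
  haveI := hp
  exact surjective_app_of_epi_affine ((Coh.push f).map p) hV

theorem isAffineHom_of_surjective (f : X ⟶ Y) [IsSeparated f] [QuasiCompact f]
    (h : ∀ (I : X.IdealSheafData) (V : Y.Opens), IsAffineOpen V →
      Function.Surjective ((ClSub.toSubscheme I).app (f ⁻¹ᵁ V))) : IsAffineHom f := by
  refine ⟨fun V hV => ?_⟩
  haveI : IsAffine (V : Scheme.{u}) := hV
  haveI : (f ⁻¹ᵁ V).toScheme.IsSeparated := ⟨by rw [← terminal.comp_from (f ∣_ V)]; infer_instance⟩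
  exact isAffineOpen_of_reduced (f ⁻¹ᵁ V) (f.isCompact_preimage hV.isCompact)
    ((isQuasiSeparated_iff_quasiSeparatedSpace _ (f ⁻¹ᵁ V).2).2 (inferInstance : QuasiSeparatedSpace (f ⁻¹ᵁ V).toScheme))
    fun I => h I V hV

theorem isAffineHom_of_push_epi (f : X ⟶ Y) [IsSeparated f] [QuasiCompact f]
    (h : ∀ (F F'' : X.Modules) (p : F ⟶ F''), Coh.IsQCoh F → Coh.IsQCoh F'' → Epi p → Epi ((Coh.push f).map p)) :
    IsAffineHom f := by
  refine isAffineHom_of_surjective f fun I V hV => ?_
  haveI := Groth.L19.Conormal.isQCoh_structureModule X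
  haveI := isQCoh_quotMod I
  exact surjective_of_epi_push f (ClSub.toSubscheme I)
    (h _ _ _ inferInstance inferInstance (epi_toSubscheme I)) hV

theorem epi_push_of_R1 (f : X ⟶ Y) {F G : X.Modules} (p : F ⟶ G) [Epi p]
    (h : IsZero ((Coh.RpushAb f 1).obj (Coh.toAb (kernel p)))) : Epi ((Coh.push f).map p) := by
  haveI : PreservesFiniteLimits (Coh.pushAb f) :=
    inferInstanceAs (PreservesFiniteLimits (TopCat.Sheaf.pushforward AddCommGrpCat.{u} f.base))
  haveI : (Coh.pushAb f).Additive := inferInstance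
  letI := HasDerivedCategory.standard (Sheaf (Opens.grothendieckTopology X) AddCommGrpCat.{u})
  letI := HasDerivedCategory.standard (Sheaf (Opens.grothendieckTopology Y) AddCommGrpCat.{u})
  have hS : (ShortComplex.mk (kernel.ι p) p (kernel.condition p)).ShortExact :=
    { exact := ShortComplex.exact_kernel p }
  have hT := hS.map_of_exact (toAbShF X)
  haveI he : Epi (((Coh.pushAb f).rightDerived 0).map ((toAbShF X).map p)) :=
    Groth.L00.RDerLES.epi_map_g (S := Coh.pushAb f) hT 0 h
  haveI : Epi ((Coh.pushAb f).map ((toAbShF X).map p)) := by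
    have hn := (Coh.pushAb f).rightDerivedZeroIsoSelf.hom.naturality ((toAbShF X).map p)
    haveI : Epi (((Coh.pushAb f).rightDerivedZeroIsoSelf.hom.app ((toAbShF X).obj F)) ≫
        (Coh.pushAb f).map ((toAbShF X).map p)) := by
      rw [← hn]; infer_instance
    exact epi_of_epi ((Coh.pushAb f).rightDerivedZeroIsoSelf.hom.app ((toAbShF X).obj F)) _
  haveI : Epi ((toAbShF Y).map ((Coh.push f).map p)) := ‹Epi ((Coh.pushAb f).map ((toAbShF X).map p))›
  exact (toAbShF Y).epi_of_epi_map ‹_›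

theorem isAffineHom_of_R1 (f : X ⟶ Y) [IsSeparated f] [QuasiCompact f]
    (h : ∀ (J : X.Modules) (i : J ⟶ Coh.structureModule X), Mono i → Coh.IsQCoh J →
      IsZero ((Coh.RpushAb f 1).obj (Coh.toAb J))) : IsAffineHom f := by
  refine isAffineHom_of_surjective f fun I V hV => ?_
  haveI := Groth.L19.Conormal.isQCoh_structureModule X
  haveI := isQCoh_quotMod I
  haveI := epi_toSubscheme I
  exact surjective_of_epi_push f (ClSub.toSubscheme I) (epi_push_of_R1 f (ClSub.toSubscheme I)
    (h _ (ClSub.idealModι I) (inferInstanceAs (Mono (kernel.ι _))) (Groth.L18.IdealModule.isQCoh_idealMod I))) hV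

theorem isAffine_of_sections_exact [CompactSpace X] [X.IsSeparated]
    (h : ∀ (n : ℕ) (F F'' : X.Modules) (i : F ⟶ FlatMod.freeMod X n) (p : F ⟶ F''),
      Mono i → Epi p → Coh.IsQCoh F → Coh.IsQCoh F'' → Function.Surjective (p.val.app (op ⊤)).hom) :
    IsAffine X := by
  refine isAffine_of_top X ?_
  refine isAffineOpen_of_reduced ⊤ (by simpa using isCompact_univ)
    (by simpa using isQuasiSeparated_univ_iff.mpr inferInstance) fun I => ?_
  haveI : IsSplitMono (Sigma.ι (fun _ : Fin 1 => Coh.structureModule X) 0) :=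
    IsSplitMono.mk' ⟨Sigma.desc fun _ => 𝟙 _, by simp⟩
  exact h 1 _ _ (Sigma.ι (fun _ : Fin 1 => Coh.structureModule X) 0) (ClSub.toSubscheme I) inferInstance
    (epi_toSubscheme I) (Groth.L19.Conormal.isQCoh_structureModule X) (isQCoh_quotMod I)

/-- the ideal generated by finitely many functions -/
def spanIdeal (E : Finset Γ(X, ⊤)) : X.IdealSheafData :=
  Scheme.IdealSheafData.mkOfMemSupportIff
    (fun U => (Ideal.span (E : Set Γ(X, ⊤))).map (res (le_top : U.1 ≤ ⊤)))
    (fun U g => by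
      rw [Ideal.map_map]
      congr 1
      refine RingHom.ext fun a => ?_
      exact congr($(X.presheaf.map_comp (homOfLE (le_top : U.1 ≤ ⊤)).op (homOfLE (X.basicOpen_le g)).op) a).symm)
    (X.zeroLocus (U := ⊤) (E : Set Γ(X, ⊤)))
    (fun U x hx => by
      rw [Ideal.map_span, Scheme.zeroLocus_span, Scheme.mem_zeroLocus_iff, Scheme.mem_zeroLocus_iff]
      constructor
      · rintro h _ ⟨a, ha, rfl⟩ hxa
        rw [X.basicOpen_res] at hxa
        exact h a ha hxa.2
      · intro h a ha hxa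
        exact h _ ⟨a, ha, rfl⟩ (by rw [X.basicOpen_res]; exact ⟨hx, hxa⟩))

theorem exists_fg_ideal_closed_point [CompactSpace X] [QuasiSeparatedSpace X] {x : X} (hx : IsClosed ({x} : Set X))
    {U : X.Opens} (hxU : x ∈ U) :
    ∃ K : X.IdealSheafData, BlowUp.IsFiniteTypeIdeal K ∧ x ∈ K.support ∧ (K.support : Set X) ⊆ U := by
  classical
  let Z : Closeds X := ⟨{x}, hx⟩
  let L := Scheme.IdealSheafData.vanishingIdeal Z
  have hy : ∀ y : ((U : Set X)ᶜ : Set X), ∃ K : X.IdealSheafData, K ≤ L ∧ Groth.L19.Approx.FGOn K ⊤ ∧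
      y.1 ∉ K.support := by
    rintro ⟨y, hy⟩
    have hyL : y ∉ L.support := by
      show y ∉ (L.support : Set X)
      rw [Groth.L18.support_vanishingIdeal]
      exact fun h => hy (show y ∈ U by rw [show y = x from h]; exact hxU)
    obtain ⟨_, ⟨V, hV, rfl⟩, hyV, -⟩ :=
      X.isBasis_affineOpens.exists_subset_of_mem_open (Set.mem_univ y) isOpen_univ
    rw [L.mem_support_iff_of_mem (U := ⟨V, hV⟩) hyV, Scheme.mem_zeroLocus_iff] at hyL
    push Not at hyL
    obtain ⟨a, ha, hya⟩ := hyL
    obtain ⟨K, hK, hfg, haK⟩ := Groth.L19.Approx.exists_fgOn_mem L ⟨V, hV⟩ ha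
    refine ⟨K, hK, hfg, ?_⟩
    rw [K.mem_support_iff_of_mem (U := ⟨V, hV⟩) hyV, Scheme.mem_zeroLocus_iff]
    exact fun h => h a haK hya
  choose K hK hfg hyK using hy
  obtain ⟨t, ht⟩ := U.2.isClosed_compl.isCompact.elim_finite_subcover (fun y => ((K y).support : Set X)ᶜ)
    (fun y => (K y).support.isClosed.isOpen_compl) fun y hy => Set.mem_iUnion.2 ⟨⟨y, hy⟩, hyK ⟨y, hy⟩⟩
  refine ⟨t.sup K, fun V => ?_, ?_, fun y hy => ?_⟩
  · have : Groth.L19.Approx.FGOn (t.sup K) ⊤ :=
      Finset.sup_induction (p := fun J => Groth.L19.Approx.FGOn J ⊤) (Groth.L19.Approx.fgOn_bot ⊤)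
        (fun a ha b hb => ha.sup hb) fun y _ => hfg y
    exact this V le_top
  · refine Scheme.IdealSheafData.support_antitone (Finset.sup_le fun y _ => hK y) ?_
    show x ∈ (L.support : Set X)
    rw [Groth.L18.support_vanishingIdeal]
    exact rfl
  · by_contra hyU
    obtain ⟨z, hz, hyz⟩ := Set.mem_iUnion₂.1 (ht hyU)
    exact hyz (Scheme.IdealSheafData.support_antitone (Finset.le_sup (f := K) hz) hy)

theorem isAffine_of_H1_finiteType [CompactSpace X] [QuasiSeparatedSpace X]
    (h : ∀ (I : X.Modules) (i : I ⟶ Coh.structureModule X), Mono i →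
      Coh.IsQCoh I → CohB1.IsFT I → Subsingleton (Coh.HH X I 1)) : IsAffine X := by
  have hs : ∀ K : X.IdealSheafData, BlowUp.IsFiniteTypeIdeal K → Function.Surjective (K.subschemeι.app ⊤) := by
    intro K hK
    haveI := epi_toSubscheme K
    exact Groth.L17.Serre.surjective_top (ClSub.toSubscheme K) (h _ (ClSub.idealModι K)
      (inferInstanceAs (Mono (kernel.ι _))) (Groth.L18.IdealModule.isQCoh_idealMod K)
      (Groth.L18.IdealModule.isCoh_idealMod K hK).2)
  refine isAffine_of_top X ?_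
  refine isAffineOpen_of_lifting ⊤ (by simpa using isCompact_univ)
    (by simpa using isQuasiSeparated_univ_iff.mpr inferInstance) (fun x U hU _ hxU hx => ?_) fun z _ E hE => ?_
  · have hx' : IsClosed ({x} : Set X) := by simpa using hx
    obtain ⟨K₁, hK₁, hs₁, -⟩ := Groth.L18.IdealModule.exists_finiteType_of_isCompact U hU.isCompact
    obtain ⟨K₂, hK₂, hxK, hKU⟩ := exists_fg_ideal_closed_point hx' hxU
    have hr : Set.range (K₁ * K₂).subschemeι = (U : Set X)ᶜ ∪ (K₂.support : Set X) := by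
      rw [Scheme.IdealSheafData.range_subschemeι, Scheme.IdealSheafData.support_mul, Closeds.coe_sup, hs₁]
    exact ⟨K₂.support, _, (K₁ * K₂).subschemeι, K₂.support.isClosed, hxK, Set.inter_subset_left.trans hKU,
      hs _ (fun V => (hK₁ V).mul (hK₂ V)), hr.ge (Or.inr hxK), fun y hy => hr.ge (Or.inl hy.2),
      fun t ht => (hr.le ⟨t, rfl⟩).resolve_left fun h' => h' ht⟩
  · refine ⟨_, (spanIdeal E).subschemeι, hs _ (fun V => Ideal.FG.map ⟨E, rfl⟩ _), ?_, fun a ha => ?_⟩
    · rw [Scheme.IdealSheafData.range_subschemeι]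
      show z ∈ X.zeroLocus (U := ⊤) (E : Set Γ(X, ⊤))
      rw [Scheme.mem_zeroLocus_iff]
      exact hE
    · let T := (spanIdeal E).subscheme
      let i := (spanIdeal E).subschemeι
      refine T.sheaf.eq_of_locally_eq' (fun V : X.affineOpens => i ⁻¹ᵁ V.1) (i ⁻¹ᵁ ⊤)
        (fun V => homOfLE (i.preimage_mono le_top)) (fun t _ => ?_) _ _ fun V => ?_
      · obtain ⟨V, hV⟩ := Opens.mem_iSup.1 ((iSup_affineOpens_eq_top X).ge (Opens.mem_top (i t)))
        exact Opens.mem_iSup.2 ⟨V, hV⟩
      · have h1 : res (le_top : V.1 ≤ ⊤) a ∈ RingHom.ker (i.app V.1).hom := by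
          rw [Scheme.IdealSheafData.ker_subschemeι_app]
          exact Ideal.mem_map_of_mem _ (Ideal.subset_span ha)
        refine Eq.trans ?_ (map_zero _).symm
        exact (congr($(i.naturality (homOfLE (le_top : V.1 ≤ ⊤)).op) a)).symm.trans (RingHom.mem_ker.1 h1)

end Groth.L18.AffineCrit
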