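import Mathlib.AlgebraicGeometry.Fiber
import Mathlib.AlgebraicGeometry.Morphisms.QuasiFinite
import Mathlib.AlgebraicGeometry.Morphisms.UniversallyOpen
import Mathlib.AlgebraicGeometry.ZariskisMainTheorem

/-!
# Closed and isolated points of fibres
-/

set_option autoImplicit false
universe u

open CategoryTheory CategoryTheory.Limits AlgebraicGeometry TopologicalSpace

noncomputable section

namespace Groth.L18.FP

/-- A point whose residue field is algebraic over the ground field is closed. -/
theorem isClosed_of_isIntegral {F K : CommRingCat.{u}} {T : Scheme.{u}} (π : T ⟶ Spec F) (φ : F ⟶ K)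
    (j : Spec K ⟶ T) (h : j ≫ π = Spec.map φ) (hφ : φ.hom.IsIntegral) (hK : IsField K) (p : Spec K) :
    IsClosed ({j.base p} : Set T) := by
  refine isClosed_of_closure_subset fun y hy => ?_
  obtain ⟨_, ⟨V, hV, rfl⟩, hyV, -⟩ :=
    T.isBasis_affineOpens.exists_subset_of_mem_open (Set.mem_univ y) isOpen_univ
  have hj : j.base p ∈ V := (specializes_iff_mem_closure.mpr hy).mem_open V.2 hyV
  letI := hK.toField
  haveI : Subsingleton ↑(Spec K) := inferInstanceAs (Subsingleton (PrimeSpectrum K))
  have hrange : Set.range j.base ⊆ Set.range hV.fromSpec.base := by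
    rintro _ ⟨q, rfl⟩
    rw [hV.range_fromSpec, Subsingleton.elim q p]
    exact hj
  obtain ⟨ψ, hψ⟩ := Spec.map_surjective (IsOpenImmersion.lift hV.fromSpec j hrange)
  have hfac : Spec.map ψ ≫ hV.fromSpec = j := by rw [hψ, IsOpenImmersion.lift_fac]
  obtain ⟨η, hη⟩ := Spec.map_surjective (hV.fromSpec ≫ π)
  have hcomp : η ≫ ψ = φ := by
    apply Spec.map_injective
    rw [Spec.map_comp, hη, ← Category.assoc, hfac, h]
  haveI : IsIntegralHom (Spec.map ψ) := by
    rw [IsIntegralHom.SpecMap_iff]
    refine RingHom.IsIntegral.tower_top η.hom ψ.hom ?_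
    rw [← CommRingCat.hom_comp, hcomp]
    exact hφ
  have hcl : IsClosed ({(Spec.map ψ).base p} : Set (Spec Γ(T, V))) := by
    simpa using (Spec.map ψ).isClosedMap _ (isClosed_discrete ({p} : Set _))
  obtain ⟨q, rfl⟩ : y ∈ Set.range hV.fromSpec.base := by rw [hV.range_fromSpec]; exact hyV
  have h1 : hV.fromSpec.base ((Spec.map ψ).base p) = j.base p := by rw [← Scheme.Hom.comp_apply, hfac]
  have h2 : (Spec.map ψ).base p ⤳ q := by
    rw [← hV.fromSpec.isOpenEmbedding.isInducing.specializes_iff, h1]
    exact specializes_iff_mem_closure.mpr hy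
  have h3 : q = (Spec.map ψ).base p := h2.mem_closed hcl rfl
  rw [Set.mem_singleton_iff, h3, h1]

section Field

variable {F : Type u} [Field F] {T : Scheme.{u}} (π : T ⟶ Spec (CommRingCat.of F))

theorem isClosed_iff_isFinite [LocallyOfFiniteType π] (z : T) :
    IsClosed ({z} : Set T) ↔ IsFinite (T.fromSpecResidueField z ≫ π) := by
  haveI : JacobsonSpace T := LocallyOfFiniteType.jacobsonSpace π
  refine ⟨fun h => ?_, fun h => ?_⟩
  · have := isClosed_singleton_iff_isClosedImmersion.mp h
    exact (isFinite_iff_locallyOfFiniteType_of_jacobsonSpace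
      (f := T.fromSpecResidueField z ≫ π)).mpr inferInstance
  · rw [isClosed_singleton_iff_locallyOfFiniteType]
    haveI : LocallyOfFiniteType (T.fromSpecResidueField z ≫ π) := inferInstance
    exact locallyOfFiniteType_of_comp _ π

include π in
theorem isLocallyNoetherian_of_lft [LocallyOfFiniteType π] : IsLocallyNoetherian T :=
  LocallyOfFiniteType.isLocallyNoetherian π

include π in
theorem isOpen_iff [LocallyOfFiniteType π] (z : T) :
    IsOpen ({z} : Set T) ↔ (IsClosed ({z} : Set T) ∧ ∀ z' : T, z' ⤳ z → z' = z) := by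
  haveI : JacobsonSpace T := LocallyOfFiniteType.jacobsonSpace π
  haveI := isLocallyNoetherian_of_lft π
  refine ⟨fun h => ⟨isClosed_singleton_of_isLocallyClosed_singleton h.isLocallyClosed,
    fun z' hz' => hz'.mem_open h rfl⟩, fun ⟨hc, hg⟩ => ?_⟩
  obtain ⟨_, ⟨(V : T.Opens), hV, rfl⟩, hzV, -⟩ :=
    T.isBasis_affineOpens.exists_subset_of_mem_open (Set.mem_univ z) isOpen_univ
  haveI : IsAffine V.toScheme := hV
  haveI : IsLocallyNoetherian V.toScheme := isLocallyNoetherian_of_isOpenImmersion V.ι
  haveI : IsNoetherian V.toScheme := {}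
  let z₀ : V.toScheme := ⟨z, hzV⟩
  have hemb := V.ι.isOpenEmbedding
  have hzc : IsClosed ({z₀} : Set V.toScheme) := by
    have h : IsClosed (V.ι.base ⁻¹' ({V.ι.base z₀} : Set T)) := hc.preimage V.ι.continuous
    rw [show V.ι.base ⁻¹' ({V.ι.base z₀} : Set T) = {z₀} from
      Set.ext fun w => ⟨fun hw => hemb.injective hw, fun hw => congrArg _ hw⟩] at h
    exact h
  -- all points other than `z` lie in the finitely many other components
  have h0 : (⋃ Z ∈ {Z ∈ irreducibleComponents V.toScheme | Z ≠ {z₀}}, Z) = ({z₀} : Set V.toScheme)ᶜ := by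
    refine Set.Subset.antisymm ?_ fun y hy => ?_
    · refine Set.iUnion₂_subset fun Z ⟨hZ, hne⟩ y hyZ (hy : y = z₀) => hne ?_
      subst hy
      have hZc := isClosed_of_mem_irreducibleComponents Z hZ
      obtain ⟨η, hη⟩ := QuasiSober.sober hZ.1 hZc
      have h1 : η = z₀ := hemb.injective (hg (V.ι.base η) ((hη.specializes hyZ).map V.ι.continuous))
      rw [← hη.def, h1, hzc.closure_eq]
    · exact Set.mem_iUnion₂.mpr ⟨irreducibleComponent y,
        ⟨irreducibleComponent_mem_irreducibleComponents y,
          fun e => hy (e.le mem_irreducibleComponent)⟩, mem_irreducibleComponent⟩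
  have hclosed : IsClosed (({z₀} : Set V.toScheme)ᶜ) := by
    rw [← h0]
    exact ((TopologicalSpace.NoetherianSpace.finite_irreducibleComponents).subset fun Z hZ => hZ.1).isClosed_biUnion
      fun Z hZ => isClosed_of_mem_irreducibleComponents Z hZ.1
  have hopen : IsOpen ({z₀} : Set V.toScheme) := by
    rw [← compl_compl ({z₀} : Set V.toScheme)]
    exact hclosed.isOpen_compl
  simpa using hemb.isOpenMap _ hopen

end Field

/-- Closedness of points passes to base change by fields. -/
theorem isClosed_baseChange {F F' : Type u} [Field F] [Field F'] {T T' : Scheme.{u}}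
    {π : T ⟶ Spec (CommRingCat.of F)} [LocallyOfFiniteType π] {π' : T' ⟶ Spec (CommRingCat.of F')}
    {p : T' ⟶ T} {φ : CommRingCat.of F ⟶ CommRingCat.of F'} (sq : IsPullback p π' π (Spec.map φ)) (z' : T')
    (hz : IsClosed ({p.base z'} : Set T)) : IsClosed ({z'} : Set T') := by
  haveI : JacobsonSpace T := LocallyOfFiniteType.jacobsonSpace π
  haveI hfin := (isClosed_iff_isFinite π _).mp hz
  have := isClosed_singleton_iff_isClosedImmersion.mp hz
  set j := T.fromSpecResidueField (p.base z') with hj
  have sqQ := (IsPullback.of_hasPullback p j).flip.paste_vert sq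
  haveI : IsFinite (pullback.fst p j ≫ π') := MorphismProperty.of_isPullback sqQ hfin
  obtain ⟨q, hq, -⟩ := Scheme.Pullback.exists_preimage_pullback (f := p) (g := j) z'
    (IsLocalRing.closedPoint (T.residueField (p.base z'))) (by rw [hj, Scheme.fromSpecResidueField_apply])
  haveI : Subsingleton ↑(Spec (CommRingCat.of F')) := inferInstanceAs (Subsingleton (PrimeSpectrum F'))
  haveI : DiscreteTopology ↑(pullback p j) := by
    have h := (pullback.fst p j ≫ π').isDiscrete_preimage (s := Set.univ) (isDiscrete_univ_iff.mpr inferInstance)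
    rw [Set.preimage_univ] at h
    exact (isDiscrete_univ_iff).mp h
  haveI : IsClosedImmersion (pullback.fst p j) := inferInstance
  rw [← hq]
  simpa using (pullback.fst p j).isClosedEmbedding.isClosedMap _ (isClosed_discrete ({q} : Set _))

theorem isOpen_baseChange_iff {F F' : Type u} [Field F] [Field F'] {T T' : Scheme.{u}}
    {π : T ⟶ Spec (CommRingCat.of F)} [LocallyOfFiniteType π] {π' : T' ⟶ Spec (CommRingCat.of F')}
    {p : T' ⟶ T} {φ : CommRingCat.of F ⟶ CommRingCat.of F'} (sq : IsPullback p π' π (Spec.map φ)) (z' : T') :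
    IsOpen ({z'} : Set T') ↔ IsOpen ({p.base z'} : Set T) := by
  haveI : LocallyOfFiniteType π' := MorphismProperty.of_isPullback sq inferInstance
  haveI : UniversallyOpen (Spec.map φ) := inferInstance
  haveI : UniversallyOpen p := MorphismProperty.of_isPullback sq.flip inferInstance
  refine ⟨fun h => by simpa using p.isOpenMap _ h, fun h => ?_⟩
  have hc := ((isOpen_iff π _).mp h).1
  refine (isOpen_iff π' z').mpr ⟨isClosed_baseChange sq z' hc, fun w hw => ?_⟩
  have hw' : p.base w = p.base z' := hw.mem_open (h.preimage p.continuous) rfl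
  exact (hw.mem_closed (isClosed_baseChange sq w (hw'.symm ▸ hc)) rfl).symm

section Fibre

variable {X S : Scheme.{u}} (f : X ⟶ S)

theorem isClosed_fiber_iff (s : S) (z : f.fiber s) :
    IsClosed ({z} : Set (f.fiber s)) ↔
      IsClosed ({f.asFiber ((f.fiberι s).base z)} : Set (f.fiber (f.base ((f.fiberι s).base z)))) := by
  have h : f.base ((f.fiberι s).base z) = s := (f.range_fiberι s).le ⟨z, rfl⟩
  obtain ⟨x, hx⟩ : ∃ x, x = (f.fiberι s).base z := ⟨_, rfl⟩
  rw [← hx] at h ⊢
  subst h
  rw [(f.fiberι _).isEmbedding.injective ((f.fiberι_asFiber x).trans hx) ]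

theorem quasiFiniteAt_iff [LocallyOfFiniteType f] (s : S) (z : f.fiber s) :
    f.QuasiFiniteAt ((f.fiberι s).base z) ↔ IsOpen ({z} : Set (f.fiber s)) := by
  have h : f.base ((f.fiberι s).base z) = s := (f.range_fiberι s).le ⟨z, rfl⟩
  obtain ⟨x, hx⟩ : ∃ x, x = (f.fiberι s).base z := ⟨_, rfl⟩
  rw [← hx] at h ⊢
  subst h
  rw [← (f.fiberι _).isEmbedding.injective ((f.fiberι_asFiber x).trans hx)]
  exact Scheme.Hom.quasiFiniteAt_iff_isOpen_singleton_asFiber

instance lft_fiber [LocallyOfFiniteType f] (s : S) : LocallyOfFiniteType (f.fiberToSpecResidueField s) :=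
  MorphismProperty.pullback_snd _ _ inferInstance

theorem isClosed_asFiber_of_isIntegral (x : X) (h : (f.residueFieldMap x).hom.IsIntegral) :
    IsClosed ({f.asFiber x} : Set (f.fiber (f.base x))) := by
  have := isClosed_of_isIntegral (f.fiberToSpecResidueField (f.base x)) (f.residueFieldMap x) (f.asFiberHom x)
    (f.asFiberHom_fiberToSpecResidueField x) h (Field.toIsField _) (IsLocalRing.closedPoint _)
  rwa [f.asFiberHom_apply] at this

theorem isClosed_asFiber_iff [LocallyOfFiniteType f] (x : X) :
    IsClosed ({f.asFiber x} : Set (f.fiber (f.base x))) ↔ (f.residueFieldMap x).hom.Finite := by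
  refine ⟨fun h => ?_, fun h => isClosed_asFiber_of_isIntegral f x h.to_isIntegral⟩
  haveI : IsClosedImmersion (f.asFiberHom x) :=
    IsClosedImmersion.of_isPreimmersion _ (by rw [f.range_asFiberHom]; exact h)
  haveI : LocallyOfFiniteType (f.asFiberHom x ≫ f.fiberToSpecResidueField (f.base x)) := inferInstance
  haveI : LocallyOfFiniteType (Spec.map (f.residueFieldMap x)) :=
    (f.asFiberHom_fiberToSpecResidueField x) ▸ this
  haveI : JacobsonSpace ↑(Spec (S.residueField (f.base x))) := inferInstance
  exact (IsFinite.SpecMap_iff _).mp ((isFinite_iff_locallyOfFiniteType_of_jacobsonSpace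
    (f := Spec.map (f.residueFieldMap x))).mpr inferInstance)

variable {X' S' : Scheme.{u}} {g : S' ⟶ S} {g' : X' ⟶ X} {f' : X' ⟶ S'}

theorem exists_fiberMap (hsq : IsPullback g' f' f g) (s' : S') :
    ∃ p : f'.fiber s' ⟶ f.fiber (g.base s'),
      IsPullback p (f'.fiberToSpecResidueField s') (f.fiberToSpecResidueField (g.base s'))
        (Spec.map (g.residueFieldMap s')) ∧
      p ≫ f.fiberι (g.base s') = f'.fiberι s' ≫ g' := by
  let p : f'.fiber s' ⟶ f.fiber (g.base s') :=
    pullback.lift (f'.fiberι s' ≫ g') (f'.fiberToSpecResidueField s' ≫ Spec.map (g.residueFieldMap s')) (by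
      rw [Category.assoc, Category.assoc, hsq.w, g.SpecMap_residueFieldMap_fromSpecResidueField,
        ← Category.assoc, f'.fiber_fac, Category.assoc])
  have h1 : p ≫ f.fiberι (g.base s') = f'.fiberι s' ≫ g' := pullback.lift_fst _ _ _
  refine ⟨p, IsPullback.of_right (h₁₁ := p) (h₁₂ := f.fiberι (g.base s')) ?_ (pullback.lift_snd _ _ _)
    (IsPullback.of_hasPullback f (S.fromSpecResidueField (g.base s'))), h1⟩
  rw [h1, g.SpecMap_residueFieldMap_fromSpecResidueField]
  exact IsPullback.paste_horiz (IsPullback.of_hasPullback f' (S'.fromSpecResidueField s')) hsq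

end Fibre

end Groth.L18.FP
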