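import Groth.Agent.L18.ExtendQCoh
import Groth.Prelude.Def_SecTwist

/-!
`SecTwist.twist`: sections vanishing on, or defined on, `X_s`.
-/

set_option autoImplicit false
set_option backward.isDefEq.respectTransparency false
universe u

open CategoryTheory AlgebraicGeometry TopologicalSpace Opposite

noncomputable section

namespace Groth.L18.SecTwistExt

open Groth.L18.Frame (rs ro rs_rs rs_self rs_smul ro_ro ro_self ro_mul IsFrame)
open Groth.L18.GenLoc

variable {X : Scheme.{u}} {L : X.Modules} (s : Coh.structureModule X ⟶ L) (F : X.Modules)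

/-- `ε^n` -/
def epow {V : X.Opens} (ε : Γ(L, V)) : ∀ n : ℕ, Γ(CohB1.tensorPow L n, V)
  | 0 => (1 : Γ(X, V))
  | n + 1 => tens _ L V (epow ε n) ε

theorem rs_one {U V : X.Opens} (h : V ≤ U) :
    rs (Coh.structureModule X) h (show Γ(Coh.structureModule X, U) from (1 : Γ(X, U))) = (1 : Γ(X, V)) :=
  map_one (X.presheaf.map (homOfLE h).op).hom

theorem epow_rs {U V : X.Opens} (h : V ≤ U) (ε : Γ(L, U)) : ∀ n,
    rs (CohB1.tensorPow L n) h (epow ε n) = epow (rs L h ε) n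
  | 0 => rs_one h
  | n + 1 => by
    show rs (CohB1.tensorMod (CohB1.tensorPow L n) L) h (tens _ L U _ _) = tens _ L V _ _
    rw [tens_rs, epow_rs h ε n]

theorem epow_smul {V : X.Opens} (c : Γ(X, V)) (ε : Γ(L, V)) : ∀ n, epow (c • ε) n = c ^ n • epow ε n
  | 0 => by rw [pow_zero, one_smul]; rfl
  | n + 1 => by
    show tens _ L V (epow (c • ε) n) _ = c ^ (n + 1) • tens _ L V _ ε
    rw [epow_smul c ε n, tens_smul_left, tens_smul_right, ← mul_smul, pow_succ]

theorem val_eq (V : X.Opens) :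
    (show Γ(L, V) from SecTwist.val s V) = rs L le_top (secOf s) := by
  show s.app V (1 : Γ(X, V)) = _
  rw [app_eq, one_smul]

theorem pow_eq (V : X.Opens) : ∀ n : ℕ,
    (show Γ(CohB1.tensorPow L n, V) from SecTwist.pow s n V) = epow (rs L le_top (secOf s)) n
  | 0 => rfl
  | n + 1 => by
    show tens (CohB1.tensorPow L n) L V (SecTwist.pow s n V) (SecTwist.val s V) = tens _ L V _ _
    exact congrArg₂ (tens (CohB1.tensorPow L n) L V) (pow_eq V n) (val_eq s V)

/-- the twist in terms of a frame -/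
theorem twist_eq {V : X.Opens} {ε : Γ(L, V)} {a : Γ(X, V)} (ha : a • ε = rs L le_top (secOf s))
    (n : ℕ) (m : Γ(F, V)) :
    (show Γ(CohB1.tensorMod F (CohB1.tensorPow L n), V) from SecTwist.twist s n F V m) =
      tens F _ V (a ^ n • m) (epow ε n) := by
  show tens F (CohB1.tensorPow L n) V m (SecTwist.pow s n V) = _
  refine (congrArg (tens F (CohB1.tensorPow L n) V m) (pow_eq s V n)).trans ?_
  rw [← ha, epow_smul, tens_smul_right, tens_smul_left]

theorem twist_rs {U V : X.Opens} (h : V ≤ U) (n : ℕ) (m : Γ(F, U)) :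
    rs (CohB1.tensorMod F (CohB1.tensorPow L n)) h
      (show Γ(CohB1.tensorMod F (CohB1.tensorPow L n), U) from SecTwist.twist s n F U m) =
      SecTwist.twist s n F V (rs F h m) :=
  SecTwist.map_twist s n F (homOfLE h) m

theorem exists_finite_frame_cover [CompactSpace X] (hL : PicF.IsInvertible L) :
    ∃ (T : Finset X) (W : X → X.Opens), (∀ x, IsAffineOpen (W x)) ∧
      (∀ x, ∃ ε : Γ(L, W x), IsFrame L (W x) ε) ∧ (⊤ : X.Opens) ≤ ⨆ i : T, W i.1 := by
  have hloc : ∀ x : X, ∃ W : X.Opens, x ∈ W ∧ IsAffineOpen W ∧ ∃ ε : Γ(L, W), IsFrame L W ε := fun x => by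
    obtain ⟨W', ε, hx', hε⟩ := Frame.exists_frame hL x
    obtain ⟨_, ⟨V, hV, rfl⟩, hxV, hVW⟩ :=
      X.isBasis_affineOpens.exists_subset_of_mem_open (show x ∈ W' from hx') W'.2
    exact ⟨V, hxV, hV, ⟨_, hε.mono fun y hy => hVW hy⟩⟩
  choose W hxW hW hε using hloc
  obtain ⟨T, hT⟩ := isCompact_univ.elim_finite_subcover (fun x : X => (W x : Set X)) (fun x => (W x).2)
    (fun x _ => Set.mem_iUnion.2 ⟨x, hxW x⟩)
  refine ⟨T, W, hW, hε, fun x _ => ?_⟩
  obtain ⟨y, hy, hxy⟩ := Set.mem_iUnion₂.1 (hT (Set.mem_univ x))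
  exact Opens.mem_iSup.2 ⟨⟨y, hy⟩, hxy⟩

theorem exists_twist_eq_zero [CompactSpace X] (hL : PicF.IsInvertible L) [Coh.IsQCoh F] (t : Γ(F, ⊤))
    (ht : rs F (le_top : CohB1.genLocus L s ≤ ⊤) t = 0) :
    ∃ n : ℕ, 0 < n ∧ SecTwist.twist s n F ⊤ t = 0 := by
  obtain ⟨T, W, hW, hε, hcov⟩ := exists_finite_frame_cover hL
  choose ε hε using hε
  choose a ha using fun i : T => (hε i.1).exists_coeff le_rfl (rs L le_top (secOf s))
  simp only [rs_self] at ha
  have hd : ∀ i : T, ∃ d : ℕ, a i ^ d • rs F (le_top : W i.1 ≤ ⊤) t = 0 := fun i => by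
    refine Groth.L16.QCohSect.exists_pow_smul_eq_zero (hW i.1) F (a i) _ ?_
    have h := congrArg (rs F ((genLocus_inf_eq s (hε i.1) (ha i)).ge.trans inf_le_left)) ht
    rw [rs_rs] at h
    rw [rs_rs]
    exact h.trans (map_zero _)
  choose d hd using hd
  obtain ⟨D, hD⟩ := (Set.finite_range d).bddAbove
  refine ⟨D + 1, Nat.succ_pos _, ?_⟩
  refine TopCat.Sheaf.eq_of_locally_eq'
    (⟨(CohB1.tensorMod F (CohB1.tensorPow L (D + 1))).presheaf, (CohB1.tensorMod F (CohB1.tensorPow L (D + 1))).isSheaf⟩ :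
      TopCat.Sheaf Ab X.toTopCat) (fun i : T => W i.1) ⊤ (fun i => homOfLE le_top) hcov _ _ fun i => ?_
  show rs (CohB1.tensorMod F (CohB1.tensorPow L (D + 1))) le_top _ = rs _ le_top (0 : Γ(CohB1.tensorMod F (CohB1.tensorPow L (D + 1)), ⊤))
  refine (twist_rs s F _ (D + 1) t).trans ?_
  refine (twist_eq s F (ha i) (D + 1) _).trans ?_
  have hDi : d i ≤ D + 1 := (hD ⟨i, rfl⟩).trans D.le_succ
  rw [show a i ^ (D + 1) • rs F (le_top : W i.1 ≤ ⊤) t = (0 : Γ(F, W i.1)) by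
    rw [← Nat.sub_add_cancel hDi, pow_add, mul_smul, hd i, smul_zero],
    ← zero_smul Γ(X, W i.1) (0 : Γ(F, W i.1)), tens_smul_left, zero_smul]
  exact (map_zero _).symm

theorem exists_twist_extend [CompactSpace X] [QuasiSeparatedSpace X] (hL : PicF.IsInvertible L) [Coh.IsQCoh F]
    (m : Γ(F, CohB1.genLocus L s)) :
    ∃ n : ℕ, 0 < n ∧ ∃ t' : Γ(CohB1.tensorMod F (CohB1.tensorPow L n), ⊤),
      rs (CohB1.tensorMod F (CohB1.tensorPow L n)) le_top t' = SecTwist.twist s n F (CohB1.genLocus L s) m := by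
  obtain ⟨T, W, hW, hε, hcov⟩ := exists_finite_frame_cover hL
  choose ε hε using hε
  choose a ha using fun i : T => (hε i.1).exists_coeff le_rfl (rs L le_top (secOf s))
  simp only [rs_self] at ha
  have hG : ∀ i : T, CohB1.genLocus L s ⊓ W i.1 = X.basicOpen (a i) := fun i =>
    genLocus_inf_eq s (hε i.1) (ha i)
  have hBG : ∀ i : T, X.basicOpen (a i) ≤ CohB1.genLocus L s := fun i => (hG i).ge.trans inf_le_left
  choose k c hc using fun i : T => Groth.L16.QCohSect.exists_pow_smul_eq_res (hW i.1) F (a i) (rs F (hBG i) m)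
  obtain ⟨K, hK⟩ := (Set.finite_range k).bddAbove
  obtain ⟨c', hc'⟩ : ∃ c' : ∀ i : T, Γ(F, W i.1), ∀ i : T,
      rs F (X.basicOpen_le (a i)) (c' i) = ro (X.basicOpen_le (a i)) (a i) ^ K • rs F (hBG i) m :=
    ⟨fun i => a i ^ (K - k i) • c i, fun i => by
      rw [rs_smul, hc i, ← mul_smul, ← ro_mul, ← pow_add, Nat.sub_add_cancel (hK ⟨i, rfl⟩)]
      simp only [ro, map_pow]⟩
  choose u hu using fun p : T × T => (hε p.2.1).exists_coeff
    (inf_le_right : W p.1.1 ⊓ W p.2.1 ≤ W p.2.1) (rs L inf_le_left (ε p.1.1))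
  have hau : ∀ p : T × T, ro (inf_le_right : W p.1.1 ⊓ W p.2.1 ≤ _) (a p.2) = ro inf_le_left (a p.1) * u p := by
    intro p
    refine (hε p.2.1).inj inf_le_right ?_
    rw [mul_smul, hu p, ← rs_smul, ← rs_smul, ha, ha, rs_rs, rs_rs]
  have hov : ∀ p : T × T, ∃ d : ℕ, ro (inf_le_left : W p.1.1 ⊓ W p.2.1 ≤ _) (a p.1) ^ d •
      (rs F inf_le_right (c' p.2) - u p ^ K • rs F inf_le_left (c' p.1)) = 0 := by
    rintro ⟨i, j⟩
    set W₂ := W i.1 ⊓ W j.1
    let a' := ro (inf_le_left : W₂ ≤ W i.1) (a i)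
    have hVi : X.basicOpen a' ≤ X.basicOpen (a i) := (X.basicOpen_res (a i) _).trans_le inf_le_right
    have hVj : X.basicOpen a' ≤ X.basicOpen (a j) :=
      (le_inf ((hVi.trans (hBG i))) ((X.basicOpen_le a').trans inf_le_right)).trans_eq (hG j)
    refine Groth.L16.QcqsPush.exists_pow_smul_eq_zero F
      (quasiSeparatedSpace_iff_forall_affineOpens.mp inferInstance ⟨_, hW i.1⟩ ⟨_, hW j.1⟩) a' _ ?_
    have h1 := congrArg (rs F hVi) (hc' i)
    have h2 := congrArg (rs F hVj) (hc' j)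
    rw [rs_rs, rs_smul, rs_rs] at h1 h2
    simp only [Groth.L16.QcqsPush.ro_pow, ro_ro] at h1 h2
    refine (map_sub _ _ _).trans (sub_eq_zero.2 ?_)
    show rs F (X.basicOpen_le a') (rs F inf_le_right (c' j)) =
      rs F (X.basicOpen_le a') (u (i, j) ^ K • rs F inf_le_left (c' i))
    rw [rs_rs, rs_smul, rs_rs, h1, h2, ← mul_smul, Groth.L16.QcqsPush.ro_pow, ← mul_pow]
    congr 2
    have h3 := congrArg (ro (X.basicOpen_le a')) (hau (i, j))
    rw [ro_mul, ro_ro, ro_ro] at h3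
    rw [mul_comm]
    exact h3
  choose d hd using hov
  obtain ⟨D, hD⟩ := (Set.finite_range d).bddAbove
  refine ⟨K + (D + 1), by omega, ?_⟩
  set n := K + (D + 1)
  set N := CohB1.tensorMod F (CohB1.tensorPow L n)
  let t : ∀ i : T, Γ(N, W i.1) := fun i => tens F _ _ (a i ^ (D + 1) • c' i) (epow (ε i.1) n)
  have hcompat : TopCat.Presheaf.IsCompatible (X := X.toTopCat) N.presheaf (fun i : T => W i.1) t := fun i j => by
    show rs N (inf_le_left : W i.1 ⊓ W j.1 ≤ W i.1) (t i) = rs N (inf_le_right : W i.1 ⊓ W j.1 ≤ W j.1) (t j)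
    simp only [t, N, tens_rs, epow_rs, rs_smul]
    rw [← hu (i, j), epow_smul, tens_smul_right, ← tens_smul_left, ← mul_smul]
    congr 1
    have hDd : d (i, j) ≤ D + 1 := (hD ⟨(i, j), rfl⟩).trans (Nat.le_succ D)
    have hd' : ro (inf_le_left : W i.1 ⊓ W j.1 ≤ W i.1) (a i) ^ (D + 1) •
        (rs F (inf_le_right : W i.1 ⊓ W j.1 ≤ _) (c' j) - u (i, j) ^ K • rs F inf_le_left (c' i)) = 0 := by
      rw [← Nat.sub_add_cancel hDd, pow_add, mul_smul, hd (i, j), smul_zero]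
    rw [smul_sub, sub_eq_zero, ← mul_smul] at hd'
    rw [Groth.L16.QcqsPush.ro_pow, Groth.L16.QcqsPush.ro_pow, hau (i, j), mul_pow,
      mul_comm (_ ^ (D + 1)) (u (i, j) ^ (D + 1)), mul_smul (u (i, j) ^ (D + 1)), hd', ← mul_smul]
    congr 1
    simp only [n, pow_add]
    ring
  let OM : TopCat.Sheaf Ab.{u} X.toTopCat := ⟨N.presheaf, N.isSheaf⟩
  obtain ⟨g, hg, -⟩ := TopCat.Sheaf.existsUnique_gluing' OM
    (fun i : T => W i.1) ⊤ (fun i => homOfLE le_top) hcov t hcompat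
  refine ⟨g, OM.eq_of_locally_eq' (fun i : T => X.basicOpen (a i)) _ (fun i => homOfLE (hBG i)) ?_ _ _ fun i => ?_⟩
  · intro x hx
    obtain ⟨i, hi⟩ := Opens.mem_iSup.1 (hcov (Opens.mem_top x))
    exact Opens.mem_iSup.2 ⟨i, (hG i).le ⟨hx, hi⟩⟩
  · show rs N (hBG i) (rs N le_top g) = rs N (hBG i) (show Γ(N, _) from SecTwist.twist s n F _ m)
    rw [rs_rs, show rs N ((hBG i).trans le_top) g =
      rs N (X.basicOpen_le (a i)) (rs N le_top g) from (rs_rs _ _ _ g).symm,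
      show rs N (le_top : W i.1 ≤ ⊤) g = t i from hg i]
    refine Eq.trans ?_ (twist_rs s F (hBG i) n m).symm
    refine Eq.trans ?_ (twist_eq s F
      (show ro (X.basicOpen_le (a i)) (a i) • rs L (X.basicOpen_le (a i)) (ε i.1) = _ by
        rw [← rs_smul, ha, rs_rs]) n _).symm
    simp only [t, N, tens_rs, epow_rs, rs_smul, hc', Groth.L16.QcqsPush.ro_pow, ← mul_smul]
    congr 2
    simp only [n, ro, map_pow, ← pow_add]
    congr 1
    omega

end Groth.L18.SecTwistExt
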