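import Groth.Agent.L18.SymSheaf
import Mathlib.RingTheory.GradedAlgebra.RingHom
import Mathlib.LinearAlgebra.SymmetricAlgebra.Basic
import Mathlib.Algebra.Polynomial.AlgebraMap

/-!
# The graded symmetric algebra; its structure on affine opens
-/

set_option autoImplicit false

noncomputable section

universe u

open CategoryTheory CategoryTheory.Limits AlgebraicGeometry TopologicalSpace Opposite

namespace Groth.L18.SymSheaf

/-- A grading pulled back along a ring isomorphism. -/
theorem nonempty_gradedRing_comap {A B σ : Type*} [CommRing A] [CommRing B] [SetLike σ B] [AddSubgroupClass σ B]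
    (e : A ≃+* B) (ℬ : ℕ → σ) [GradedRing ℬ] (𝒜 : ℕ → AddSubgroup A) (h : ∀ n a, a ∈ 𝒜 n ↔ e a ∈ ℬ n) :
    Nonempty (GradedRing 𝒜) := by
  classical
  haveI : SetLike.GradedMonoid 𝒜 :=
    { one_mem := (h 0 1).mpr (by rw [map_one]; exact SetLike.one_mem_graded ℬ)
      mul_mem := fun i j a b ha hb => (h (i + j) (a * b)).mpr (by
        rw [map_mul]; exact SetLike.mul_mem_graded ((h i a).mp ha) ((h j b).mp hb)) }
  refine ⟨{ toDecomposition := DirectSum.IsInternal.chooseDecomposition 𝒜 ⟨fun x y hxy => ?_, fun a => ?_⟩ }⟩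
  · let f : ∀ i, 𝒜 i →+ (DirectSum ℕ fun i => ℬ i) := fun i =>
      (DirectSum.of (fun i => ℬ i) i).comp
        { toFun := fun a => ⟨e (a : A), (h i a).mp a.2⟩
          map_zero' := Subtype.ext (map_zero e)
          map_add' := fun a b => Subtype.ext (map_add e (a : A) (b : A)) }
    have key : ∀ z : DirectSum ℕ fun i => 𝒜 i, DirectSum.coeAddMonoidHom ℬ (DirectSum.toAddMonoid f z) =
        e (DirectSum.coeAddMonoidHom 𝒜 z) := by
      intro z
      induction z using DirectSum.induction_on with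
      | zero => simp
      | of i a => simp [f]
      | add z w hz hw => simp [hz, hw]
    have hb := (DirectSum.Decomposition.isInternal ℬ).1
    have hfi : Function.Injective (DirectSum.toAddMonoid f) := by
      rw [injective_iff_map_eq_zero]
      intro z hz
      refine DFinsupp.ext fun i => Subtype.ext (e.injective ?_)
      have hcomp : ∀ z : DirectSum ℕ fun i => 𝒜 i, ((DirectSum.toAddMonoid f z) i : B) = e (z i) := by
        intro z
        induction z using DirectSum.induction_on with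
        | zero => simp
        | of k a =>
          rw [DirectSum.toAddMonoid_of]
          rcases eq_or_ne k i with rfl | hki
          · simp [f]
          · simp [f, DirectSum.of_eq_of_ne _ _ _ (Ne.symm hki)]
        | add z w hz hw => simp [hz, hw]
      rw [← hcomp z, hz]
      simp
    exact hfi (hb (by rw [key, key, hxy]))
  · obtain ⟨w, hw⟩ := (DirectSum.Decomposition.isInternal ℬ).2 (e a)
    refine ⟨DirectSum.toAddMonoid (fun i => (DirectSum.of (fun i => 𝒜 i) i).comp
      { toFun := fun b : ℬ i => ⟨e.symm b, (h i _).mpr (by rw [e.apply_symm_apply]; exact b.2)⟩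
        map_zero' := Subtype.ext (map_zero e.symm)
        map_add' := fun a b => Subtype.ext (map_add e.symm (a : B) (b : B)) }) w, ?_⟩
    rw [← e.symm_apply_apply a, ← hw]
    clear hw
    induction w using DirectSum.induction_on with
    | zero => simp
    | of i b => simp
    | add z w hz hw => simp [hz, hw]

variable {S : Scheme.{u}} (E : S.Modules) [Coh.IsQCoh E]

/-- The graded symmetric algebra. -/
def symGr : RelProj.QCGrAlg S where
  toQCAlg := symAlg E
  deg := deg E
  graded U hU := (nonempty_gradedRing_comap (secEquiv E U hU) (SymRing.piece Γ(S, U) Γ(E, U)) (deg E U hU)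
    (fun _ _ => Iff.rfl)).some
  map_mem {U V} hU hV i {d x} hx := by
    show secEquiv E V hV _ ∈ SymRing.piece Γ(S, V) Γ(E, V) d
    rw [secEquiv_res E hU hV]
    exact SymRing.map_mem_piece _ _ _ hx
  str_mem U hU r := by
    show secEquiv E U hU _ ∈ SymRing.piece Γ(S, U) Γ(E, U) 0
    rw [secEquiv_str]
    exact SymRing.algebraMap_mem _ _ r

theorem isGrSymAlg : RelProj.IsGrSymAlg E (symGr E) (j E) :=
  ⟨isSymAlg E, fun U hU x => by
    show secEquiv E U hU ((j E).app U x) ∈ SymRing.piece Γ(S, U) Γ(E, U) 1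
    rw [secEquiv_j]
    exact SymRing.ι_mem _ _ x⟩

section Structure

variable {E} {A : RelSpec.QCAlg S} {k : E ⟶ A.toModule}

theorem exists_equiv (hA : RelSpec.IsSymAlg E A k) :
    ∃ Φ : ∀ (U : S.Opens), IsAffineOpen U → (Sym E U ≃+* A.presheaf.obj (op U)),
      (∀ U hU r, Φ U hU (algebraMap _ (Sym E U) r) = (A.str.app (op U)).hom r) ∧
      (∀ U hU m, Φ U hU (SymmetricAlgebra.ι _ Γ(E, U) m) = k.app U m) ∧
      (∀ U V (hU : IsAffineOpen U) (hV : IsAffineOpen V) (h : V ≤ U) x,
        (A.presheaf.map (homOfLE h).op).hom (Φ U hU x) = Φ V hV (resMap E h x)) := by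
  obtain ⟨θ, hθ, hθu⟩ := isSymAlg E A k
  obtain ⟨η, hη, hηu⟩ := hA (symAlg E) (j E)
  have h1 : θ ≫ η = 𝟙 _ := (isSymAlg E (symAlg E) (j E)).unique (y₁ := θ ≫ η) (y₂ := 𝟙 _)
    (show j E ≫ RelSpec.QCAlg.Hom.toModuleMap θ ≫ RelSpec.QCAlg.Hom.toModuleMap η = j E by
      rw [← Category.assoc, hθ, hη])
    (show j E ≫ RelSpec.QCAlg.Hom.toModuleMap (𝟙 (symAlg E)) = j E from Category.comp_id _)
  have h2 : η ≫ θ = 𝟙 _ := (hA A k).unique (y₁ := η ≫ θ) (y₂ := 𝟙 _)
    (show k ≫ RelSpec.QCAlg.Hom.toModuleMap η ≫ RelSpec.QCAlg.Hom.toModuleMap θ = k by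
      rw [← Category.assoc, hη, hθ])
    (show k ≫ RelSpec.QCAlg.Hom.toModuleMap (𝟙 A) = k from Category.comp_id _)
  have h1' : ∀ (U : S.Opens) x, (η.hom.app (op U)).hom ((θ.hom.app (op U)).hom x) = x := fun U x =>
    ConcreteCategory.congr_hom (congrArg (fun g : symAlg E ⟶ symAlg E => g.hom.app (op U)) h1) x
  have h2' : ∀ (U : S.Opens) x, (θ.hom.app (op U)).hom ((η.hom.app (op U)).hom x) = x := fun U x =>
    ConcreteCategory.congr_hom (congrArg (fun g : A ⟶ A => g.hom.app (op U)) h2) x
  refine ⟨fun U hU => (secEquiv E U hU).symm.trans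
    (RingEquiv.ofRingHom (θ.hom.app (op U)).hom (η.hom.app (op U)).hom (RingHom.ext (h2' U)) (RingHom.ext (h1' U))),
    fun U hU r => ?_, fun U hU m => ?_, fun U V hU hV h x => ?_⟩
  · show (θ.hom.app (op U)).hom ((secEquiv E U hU).symm _) = _
    rw [show (secEquiv E U hU).symm (algebraMap _ (Sym E U) r) = ((symAlg E).str.app (op U)).hom r by
      apply (secEquiv E U hU).injective
      rw [secEquiv_str, RingEquiv.apply_symm_apply]]
    exact ConcreteCategory.congr_hom (NatTrans.congr_app θ.comm (op U)) r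
  · show (θ.hom.app (op U)).hom ((secEquiv E U hU).symm _) = _
    rw [show (secEquiv E U hU).symm (SymmetricAlgebra.ι _ Γ(E, U) m) = (j E).app U m by
      apply (secEquiv E U hU).injective
      rw [secEquiv_j E U hU, RingEquiv.apply_symm_apply]]
    exact congrArg (fun g : E ⟶ A.toModule => g.app U m) hθ
  · show (A.presheaf.map _).hom ((θ.hom.app (op U)).hom _) = (θ.hom.app (op V)).hom ((secEquiv E V hV).symm _)
    rw [← secEquiv_symm_res E hU hV h x]
    exact (ConcreteCategory.congr_hom (θ.hom.naturality (homOfLE h).op) _).symm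

end Structure

section GradedStructure

variable {E} {𝒯 : RelProj.QCGrAlg S} {k : E ⟶ 𝒯.toModule}

theorem exists_gradedEquiv (hT : RelProj.IsGrSymAlg E 𝒯 k) :
    ∃ Φ : ∀ (U : S.Opens), IsAffineOpen U → (Sym E U ≃+* 𝒯.presheaf.obj (op U)),
      (∀ U hU r, Φ U hU (algebraMap _ (Sym E U) r) = (𝒯.str.app (op U)).hom r) ∧
      (∀ U hU m, Φ U hU (SymmetricAlgebra.ι _ Γ(E, U) m) = k.app U m) ∧
      (∀ U hU n x, x ∈ SymRing.piece Γ(S, U) Γ(E, U) n ↔ Φ U hU x ∈ 𝒯.deg U hU n) := by
  obtain ⟨Φ, h0, h1, -⟩ := exists_equiv hT.1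
  have hmem : ∀ U hU n x, x ∈ SymRing.piece Γ(S, U) Γ(E, U) n → Φ U hU x ∈ 𝒯.deg U hU n := by
    intro U hU n x hx
    induction hx using Submodule.pow_induction_on_left' with
    | algebraMap r => rw [h0]; exact 𝒯.str_mem U hU r
    | add x y i hx hy ihx ihy => rw [map_add]; exact add_mem ihx ihy
    | mem_mul m hm i x hx ih =>
      obtain ⟨m', rfl⟩ := hm
      rw [map_mul, h1, Nat.succ_eq_one_add]
      exact SetLike.mul_mem_graded (hT.2 U hU m') ih
  refine ⟨Φ, h0, h1, fun U hU n x => ⟨hmem U hU n x, fun hx => ?_⟩⟩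
  let ψ : SymRing.piece Γ(S, U) Γ(E, U) →+*ᵍ 𝒯.deg U hU :=
    { (Φ U hU).toRingHom with map_mem := fun {i a} ha => hmem U hU i a ha }
  classical
  have h := ψ.map_directSumDecompose (i := n) (x := x)
  rw [show ψ x = Φ U hU x from rfl, DirectSum.decompose_of_mem_same _ hx] at h
  rw [← (Φ U hU).injective (show Φ U hU _ = Φ U hU x from h)]
  exact SetLike.coe_mem _

end GradedStructure

end Groth.L18.SymSheaf
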