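import Groth.Agent.L18.AffineAlgExtend
import Groth.Agent.L18.SymGraded
import Groth.Prelude.Def_RelProj
import Mathlib.AlgebraicGeometry.Morphisms.Finite
import Mathlib.Algebra.MonoidAlgebra.Grading
import Mathlib.RingTheory.Localization.Algebra

/-!
# Finite morphisms are projective
-/

set_option autoImplicit false

noncomputable section

universe u

open CategoryTheory CategoryTheory.Limits AlgebraicGeometry TopologicalSpace Opposite
open scoped HomogeneousIdeal

namespace Groth.L18.FinProj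

section Abstract

variable {A σ : Type u} [CommRing A] [SetLike σ A] [AddSubgroupClass σ A] (𝒜 : ℕ → σ) [GradedRing 𝒜]

open HomogeneousLocalization in
/-- If `t` in degree one induces bijections `𝒜 0 ≅ 𝒜 n`, then `Proj 𝒜 ≅ Spec 𝒜 0`. -/
theorem isIso_toSpecZero {t : A} (ht : t ∈ 𝒜 1) (hinj : ∀ n, ∀ a ∈ 𝒜 0, a * t ^ n = 0 → a = 0)
    (hsurj : ∀ n, ∀ x ∈ 𝒜 n, ∃ a ∈ 𝒜 0, a * t ^ n = x) : IsIso (Proj.toSpecZero 𝒜) := by
  have htop : Proj.basicOpen 𝒜 t = ⊤ := by
    have h := Proj.iSup_basicOpen_eq_top 𝒜 (fun _ : Unit => t) (by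
      refine (HomogeneousIdeal.toIdeal_irrelevant_le _).mpr fun i hi x hx => ?_
      obtain ⟨a, -, rfl⟩ := hsurj i x hx
      exact Ideal.mul_mem_left _ _ (Ideal.pow_mem_of_mem _ (Ideal.subset_span (Set.mem_range_self ())) _ hi))
    simpa only [iSup_const] using h
  haveI : IsIso (Proj.awayι 𝒜 t ht one_pos) := by
    rw [isIso_iff_isOpenImmersion_and_surjective]
    exact ⟨inferInstance, ⟨fun x => by
      have hx : x ∈ (Proj.awayι 𝒜 t ht one_pos).opensRange := by
        rw [Proj.opensRange_awayι, htop]; trivial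
      exact hx⟩⟩
  have hbij : Function.Bijective (fromZeroRingHom 𝒜 (Submonoid.powers t)) := by
    constructor
    · rw [injective_iff_map_eq_zero]
      intro a ha
      have hv := congrArg HomogeneousLocalization.val ha
      simp only [fromZeroRingHom, RingHom.coe_mk, MonoidHom.coe_mk, OneHom.coe_mk, HomogeneousLocalization.val_mk,
        HomogeneousLocalization.val_zero] at hv
      rw [← Localization.mk_zero (1 : Submonoid.powers t), Localization.mk_eq_mk_iff, Localization.r_iff_exists] at hv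
      obtain ⟨⟨c, k, rfl⟩, hc⟩ := hv
      simp only [OneMemClass.coe_one, mul_zero, one_mul] at hc
      exact Subtype.ext (hinj k _ a.2 (by rw [mul_comm]; exact hc))
    · intro z
      obtain ⟨n, a, ha, rfl⟩ := HomogeneousLocalization.Away.mk_surjective 𝒜 ht z
      obtain ⟨b, hb, rfl⟩ := hsurj n a (by simpa using ha)
      refine ⟨⟨b, hb⟩, HomogeneousLocalization.val_injective _ ?_⟩
      simp only [fromZeroRingHom, RingHom.coe_mk, MonoidHom.coe_mk, OneHom.coe_mk, HomogeneousLocalization.val_mk,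
        HomogeneousLocalization.Away.val_mk]
      rw [Localization.mk_eq_mk_iff, Localization.r_iff_exists]
      exact ⟨1, by simp [mul_comm]⟩
  haveI h2 : IsIso (Proj.awayι 𝒜 t ht one_pos ≫ Proj.toSpecZero 𝒜) := by
    rw [Proj.awayι_toSpecZero]
    haveI : IsIso (CommRingCat.ofHom (fromZeroRingHom 𝒜 (Submonoid.powers t))) :=
      (RingEquiv.toCommRingCatIso (RingEquiv.ofBijective _ hbij)).isIso_hom
    infer_instance
  exact IsIso.of_isIso_comp_left (Proj.awayι 𝒜 t ht one_pos) (Proj.toSpecZero 𝒜)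

variable {B τ : Type u} [CommRing B] [SetLike τ B] [AddSubgroupClass τ B] {ℬ : ℕ → τ} [GradedRing ℬ]

/-- The degree-zero part of a graded homomorphism. -/
def zeroHom (φ : 𝒜 →+*ᵍ ℬ) : 𝒜 0 →+* ℬ 0 where
  toFun a := ⟨φ a, φ.2 a.2⟩
  map_one' := Subtype.ext (map_one φ)
  map_mul' a b := Subtype.ext (map_mul φ (a : A) (b : A))
  map_zero' := Subtype.ext (map_zero φ)
  map_add' a b := Subtype.ext (map_add φ (a : A) (b : A))

/-- `Proj.map` lies over the map of degree-zero parts. -/
theorem map_toSpecZero (φ : 𝒜 →+*ᵍ ℬ) (hφ : ℬ₊ ≤ 𝒜₊.map φ) :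
    Proj.map φ hφ ≫ Proj.toSpecZero 𝒜 =
      Proj.toSpecZero ℬ ≫ Spec.map (CommRingCat.ofHom (zeroHom 𝒜 φ)) := by
  refine (Proj.mapAffineOpenCover φ hφ).openCover.hom_ext _ _ fun s => ?_
  obtain ⟨d, t, ht⟩ := s
  show Proj.awayι ℬ (φ t) (φ.2 ht) d.pos ≫ _ = Proj.awayι ℬ (φ t) (φ.2 ht) d.pos ≫ _
  rw [Proj.awayι_comp_map_assoc _ _ d.pos _ ht, Proj.awayι_toSpecZero, Proj.awayι_toSpecZero_assoc, ← Spec.map_comp,
    ← Spec.map_comp]
  congr 1
  ext x
  simp only [CommRingCat.hom_comp, RingHom.comp_apply, CommRingCat.hom_ofHom]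
  have h0 : HomogeneousLocalization.fromZeroRingHom 𝒜 (Submonoid.powers t) x =
      HomogeneousLocalization.Away.mk 𝒜 ht 0 (x : A) (by simpa using x.2) := by
    apply HomogeneousLocalization.val_injective
    simp [HomogeneousLocalization.fromZeroRingHom, HomogeneousLocalization.val_mk,
      HomogeneousLocalization.Away.val_mk]
  rw [h0, HomogeneousLocalization.Away.map_mk]
  simp [HomogeneousLocalization.fromZeroRingHom, HomogeneousLocalization.val_mk,
    HomogeneousLocalization.Away.val_mk, zeroHom]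

end Abstract

variable {X Y : Scheme.{u}} (f : X ⟶ Y)

/-- Restriction between preimages. -/
def ρ {U V : Y.Opens} (h : V ≤ U) : Γ(X, f ⁻¹ᵁ U) →+* Γ(X, f ⁻¹ᵁ V) :=
  (X.presheaf.map (homOfLE (f.preimage_mono h)).op).hom

theorem ρ_app {U V : Y.Opens} (h : V ≤ U) (a : Γ(Y, U)) :
    ρ f h ((f.app U).hom a) = (f.app V).hom ((Y.presheaf.map (homOfLE h).op).hom a) :=
  (ConcreteCategory.congr_hom (f.naturality (homOfLE h).op) a).symm

variable [IsAffineHom f]

/-- The values `Γ(X, f⁻¹U)[t]`. -/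
def data : Groth.L18.AlgExt.Data Y where
  obj U _ := CommRingCat.of (Polynomial Γ(X, f ⁻¹ᵁ U))
  res _ _ h := CommRingCat.ofHom (Polynomial.mapRingHom (ρ f h))
  res_id hU := by
    ext : 1
    rw [CommRingCat.hom_ofHom, CommRingCat.hom_id,
      show ρ f (le_refl _) = RingHom.id _ from RingHom.ext fun a => by
        show (X.presheaf.map (𝟙 _)).hom a = a
        rw [CategoryTheory.Functor.map_id]; rfl,
      Polynomial.mapRingHom_id]
  res_comp hU hV hW h h' := by
    ext : 1
    rw [CommRingCat.hom_comp, CommRingCat.hom_ofHom, CommRingCat.hom_ofHom, CommRingCat.hom_ofHom,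
      Polynomial.mapRingHom_comp]
    congr 1
    ext a
    exact (ConcreteCategory.congr_hom (X.presheaf.map_comp (homOfLE (f.preimage_mono h)).op
      (homOfLE (f.preimage_mono h')).op) a).symm
  str U _ := CommRingCat.ofHom ((Polynomial.C).comp (f.app U).hom)
  str_res hU hV h := by
    refine CommRingCat.hom_ext (RingHom.ext fun a => ?_)
    show (Polynomial.C _).map (ρ f h) = Polynomial.C ((f.app _).hom _)
    rw [Polynomial.map_C, ρ_app]; rfl
  isLoc U hU r := by
    letI ia : Algebra Γ(X, f ⁻¹ᵁ U) Γ(X, f ⁻¹ᵁ Y.basicOpen r) := (ρ f (Y.basicOpen_le r)).toAlgebra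
    haveI : IsLocalization.Away ((f.app U).hom r) Γ(X, f ⁻¹ᵁ Y.basicOpen r) :=
      RelSpec.QCAlg.isQC_pushforward f U hU r
    have h := Polynomial.isLocalization (Submonoid.powers ((f.app U).hom r)) Γ(X, f ⁻¹ᵁ Y.basicOpen r)
    rw [Submonoid.map_powers] at h
    exact h

/-- The algebra `f_* O_X [t]` on an affine open. -/
def η (U : Y.Opens) (hU : IsAffineOpen U) :
    (data f).alg.presheaf.obj (op U) ≃+* Polynomial Γ(X, f ⁻¹ᵁ U) :=
  (data f).evEquiv U hU

theorem η_res {U V : Y.Opens} (hU : IsAffineOpen U) (hV : IsAffineOpen V) (h : V ≤ U)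
    (a : (data f).alg.presheaf.obj (op U)) :
    η f V hV (((data f).alg.presheaf.map (homOfLE h).op).hom a) = (η f U hU a).map (ρ f h) :=
  (data f).ev_res hU hV h a

theorem η_str (U : Y.Opens) (hU : IsAffineOpen U) (a : Γ(Y, U)) :
    η f U hU (((data f).alg.str.app (op U)).hom a) = Polynomial.C ((f.app U).hom a) :=
  ConcreteCategory.congr_hom ((data f).str_ev U hU) a

/-- Polynomials `c t^n`. -/
def piece (U : Y.Opens) (hU : IsAffineOpen U) (n : ℕ) : AddSubgroup ((data f).alg.presheaf.obj (op U)) :=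
  AddSubgroup.comap (η f U hU).toAddMonoidHom (Polynomial.monomial n).toAddMonoidHom.range

theorem mem_piece {U : Y.Opens} {hU : IsAffineOpen U} {n : ℕ} {a : (data f).alg.presheaf.obj (op U)} :
    a ∈ piece f U hU n ↔ ∃ c, Polynomial.monomial n c = η f U hU a := Iff.rfl

/-- The graded algebra `f_* O_X [t]`. -/
def grAlg : RelProj.QCGrAlg Y where
  toQCAlg := (data f).alg
  deg := piece f
  graded U hU := (Groth.L18.SymSheaf.nonempty_gradedRing_comap
    ((η f U hU).trans (Polynomial.toFinsuppIso _)) (AddMonoidAlgebra.grade Γ(X, f ⁻¹ᵁ U)) (piece f U hU)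
    (fun n a => by
      rw [mem_piece, AddMonoidAlgebra.mem_grade_iff']
      constructor
      · rintro ⟨c, hc⟩
        refine ⟨c, ?_⟩
        rw [RingEquiv.trans_apply, ← hc]
        exact (Polynomial.toFinsupp_monomial n c).symm
      · rintro ⟨c, hc⟩
        refine ⟨c, (Polynomial.toFinsuppIso _).injective ?_⟩
        rw [RingEquiv.trans_apply] at hc
        rw [← hc]
        exact Polynomial.toFinsupp_monomial n c)).some
  map_mem {U V} hU hV i {d x} hx := by
    obtain ⟨c, hc⟩ := hx
    refine ⟨ρ f i c, ?_⟩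
    show Polynomial.monomial d (ρ f i c) = η f V hV _
    rw [η_res f hU hV i x, ← Polynomial.map_monomial]
    exact congrArg (Polynomial.map (ρ f i)) hc
  str_mem U hU r := ⟨(f.app U).hom r, (Polynomial.monomial_zero_left).trans (η_str f U hU r).symm⟩

/-- The degree-zero part is `Γ(X, f⁻¹U)`. -/
def ψ (U : Y.Opens) (hU : IsAffineOpen U) : Γ(X, f ⁻¹ᵁ U) →+* (grAlg f).deg U hU 0 where
  toFun c := ⟨(η f U hU).symm (Polynomial.C c), ⟨c, (Polynomial.monomial_zero_left).trans
    ((η f U hU).apply_symm_apply _).symm⟩⟩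
  map_one' := Subtype.ext (by show (η f U hU).symm _ = 1; rw [map_one, map_one])
  map_mul' a b := Subtype.ext (by show (η f U hU).symm _ = _ * _; rw [map_mul, map_mul])
  map_zero' := Subtype.ext (by show (η f U hU).symm _ = 0; rw [map_zero, map_zero])
  map_add' a b := Subtype.ext (by show (η f U hU).symm _ = _ + _; rw [map_add, map_add])

theorem ψ_bijective (U : Y.Opens) (hU : IsAffineOpen U) : Function.Bijective (ψ f U hU) := by
  constructor
  · intro a b h
    exact Polynomial.C_injective ((η f U hU).symm.injective (congrArg Subtype.val h))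
  · rintro ⟨x, c, hc⟩
    refine ⟨c, Subtype.ext ?_⟩
    show (η f U hU).symm (Polynomial.C c) = x
    rw [← Polynomial.monomial_zero_left]
    exact (η f U hU).symm_apply_eq.mpr hc

theorem strZero_eq (U : Y.Opens) (hU : IsAffineOpen U) :
    (grAlg f).strZero U hU = f.app U ≫ CommRingCat.ofHom (ψ f U hU) := by
  refine CommRingCat.hom_ext (RingHom.ext fun a => Subtype.ext ?_)
  show ((data f).alg.str.app (op U)).hom a = (η f U hU).symm (Polynomial.C ((f.app U).hom a))
  rw [← η_str f U hU a, RingEquiv.symm_apply_apply]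

theorem η_str_mul (U : Y.Opens) (hU : IsAffineOpen U) (b : Γ(Y, U)) (c : Γ(X, f ⁻¹ᵁ U)) :
    η f U hU (((data f).alg.str.app (op U)).hom b * (η f U hU).symm (Polynomial.monomial 1 c)) =
      Polynomial.monomial 1 ((f.app U).hom b * c) := by
  rw [map_mul, η_str, RingEquiv.apply_symm_apply, Polynomial.C_mul_monomial]

/-- The identification `Proj (f_*O_X [t])(U) ≅ Spec Γ(X, f⁻¹U)`. -/
def G (U : Y.Opens) (hU : IsAffineOpen U) : Proj ((grAlg f).deg U hU) ⟶ Spec Γ(X, f ⁻¹ᵁ U) :=
  Proj.toSpecZero ((grAlg f).deg U hU) ≫ Spec.map (CommRingCat.ofHom (ψ f U hU))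

theorem pow_monomial (U : Y.Opens) (hU : IsAffineOpen U) (n : ℕ) :
    η f U hU (((η f U hU).symm Polynomial.X) ^ n) = Polynomial.monomial n 1 := by
  rw [map_pow, RingEquiv.apply_symm_apply, Polynomial.X_pow_eq_monomial]

theorem η_mul_pow (U : Y.Opens) (hU : IsAffineOpen U) (n : ℕ) (a : (data f).alg.presheaf.obj (op U)) :
    η f U hU (a * ((η f U hU).symm Polynomial.X) ^ n) = η f U hU a * Polynomial.monomial n 1 := by
  rw [map_mul, pow_monomial]

instance isIso_G (U : Y.Opens) (hU : IsAffineOpen U) : IsIso (G f U hU) := by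
  haveI : IsIso (CommRingCat.ofHom (ψ f U hU)) :=
    (RingEquiv.toCommRingCatIso (RingEquiv.ofBijective _ (ψ_bijective f U hU))).isIso_hom
  haveI : IsIso (Proj.toSpecZero ((grAlg f).deg U hU)) := by
    refine isIso_toSpecZero _ (t := (η f U hU).symm Polynomial.X)
      ⟨1, (Polynomial.monomial_one_one_eq_X).trans ((η f U hU).apply_symm_apply _).symm⟩ ?_ ?_
    · rintro n a ⟨c, hc⟩ h
      have h' : (Polynomial.monomial 0 c) * Polynomial.monomial n (1 : Γ(X, f ⁻¹ᵁ U)) = 0 :=
        ((congrArg (· * _) hc).trans (η_mul_pow f U hU n a).symm).trans ((congrArg (η f U hU) h).trans (map_zero _))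
      rw [Polynomial.monomial_mul_monomial, zero_add, mul_one, Polynomial.monomial_eq_zero_iff] at h'
      refine (η f U hU).injective ?_
      refine hc.symm.trans (Eq.trans ?_ (map_zero _).symm)
      simp [h']
    · rintro n x ⟨c, hc⟩
      refine ⟨_, (ψ f U hU c).2, (η f U hU).injective ?_⟩
      refine (η_mul_pow f U hU n _).trans (Eq.trans ?_ hc)
      show η f U hU ((η f U hU).symm (Polynomial.C c)) * _ = Polynomial.monomial n c
      rw [RingEquiv.apply_symm_apply, Polynomial.C_mul_monomial, mul_one]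
  rw [G]
  infer_instance

/-- The charts. -/
def chart (U : Y.Opens) (hU : IsAffineOpen U) :
    ((f ⁻¹ᵁ U : X.Opens) : Scheme.{u}) ≅ Proj ((grAlg f).deg U hU) :=
  (hU.preimage f).isoSpec ≪≫ (asIso (G f U hU)).symm

theorem chart_hom_G (U : Y.Opens) (hU : IsAffineOpen U) :
    (chart f U hU).hom ≫ G f U hU = (hU.preimage f).isoSpec.hom := by
  simp [chart]

theorem isRelProj : RelProj.IsRelProj (grAlg f) f (chart f) where
  chart_over U hU := by
    calc (chart f U hU).hom ≫ Proj.toSpecZero _ ≫ Spec.map ((grAlg f).strZero U hU) ≫ hU.fromSpec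
        = ((chart f U hU).hom ≫ G f U hU) ≫ Spec.map (f.app U) ≫ hU.fromSpec := by
          rw [strZero_eq, Spec.map_comp]; simp only [G, Category.assoc]
      _ = (hU.preimage f).isoSpec.hom ≫ (hU.preimage f).fromSpec ≫ f := by
          rw [chart_hom_G, Scheme.Hom.app_eq_appLE, IsAffineOpen.SpecMap_appLE_fromSpec f hU (hU.preimage f) le_rfl]
      _ = (f ⁻¹ᵁ U).ι ≫ f := IsAffineOpen.isoSpec_hom_fromSpec_assoc _ _
  chart_res U hU r := by
    rw [← cancel_mono (G f U hU), Category.assoc, Category.assoc, chart_hom_G]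
    have hψ : CommRingCat.ofHom (ψ f U hU) ≫
        CommRingCat.ofHom (zeroHom ((grAlg f).deg U hU) ((grAlg f).res hU (hU.basicOpen r) (Y.basicOpen_le r))) =
        CommRingCat.ofHom (ρ f (Y.basicOpen_le r)) ≫ CommRingCat.ofHom (ψ f _ (hU.basicOpen r)) := by
      refine CommRingCat.hom_ext (RingHom.ext fun a => Subtype.ext ((η f _ (hU.basicOpen r)).injective ?_))
      show η f _ (hU.basicOpen r) (((data f).alg.presheaf.map _).hom ((η f U hU).symm (Polynomial.C a))) =
        η f _ (hU.basicOpen r) ((η f _ (hU.basicOpen r)).symm (Polynomial.C (ρ f (Y.basicOpen_le r) a)))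
      rw [η_res f hU (hU.basicOpen r), RingEquiv.apply_symm_apply, RingEquiv.apply_symm_apply, Polynomial.map_C]
    have h1 : Proj.map ((grAlg f).res hU (hU.basicOpen r) (Y.basicOpen_le r)) ((grAlg f).irrelevant_le_map U hU r) ≫
        G f U hU = G f _ (hU.basicOpen r) ≫ Spec.map (CommRingCat.ofHom (ρ f (Y.basicOpen_le r))) := by
      rw [G, G, ← Category.assoc, map_toSpecZero, Category.assoc, Category.assoc, ← Spec.map_comp, hψ, Spec.map_comp]
    rw [h1, reassoc_of% (chart_hom_G f _ (hU.basicOpen r)), IsAffineOpen.isoSpec_hom, IsAffineOpen.isoSpec_hom]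
    exact (Scheme.Opens.toSpecΓ_SpecMap_presheaf_map _ _ _).symm

theorem isGenDegOne : (grAlg f).IsGenDegOne := by
  intro U hU
  refine eq_top_iff.mpr fun x _ => ?_
  have key : ∀ p : Polynomial Γ(X, f ⁻¹ᵁ U), (η f U hU).symm p ∈ Subring.closure
      (((grAlg f).deg U hU 0 : Set ((grAlg f).presheaf.obj (op U))) ∪ ((grAlg f).deg U hU 1 : Set _)) := by
    intro p
    induction p using Polynomial.induction_on with
    | C a => exact Subring.subset_closure (Or.inl (ψ f U hU a).2)
    | add p q hp hq => rw [map_add]; exact add_mem hp hq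
    | monomial n a hn =>
      rw [pow_succ, ← mul_assoc, map_mul]
      exact mul_mem hn (Subring.subset_closure (Or.inr ⟨1, (Polynomial.monomial_one_one_eq_X).trans
        ((η f U hU).apply_symm_apply _).symm⟩))
  exact (η f U hU).symm_apply_apply x ▸ key (η f U hU x)

end Groth.L18.FinProj

namespace Groth.L18.FinProj

variable {X Y : Scheme.{u}} (f : X ⟶ Y) [IsFinite f]

theorem isFTDeg : (grAlg f).IsFTDeg 1 := by
  classical
  intro U hU
  letI := (f.app U).hom.toAlgebra
  haveI : Module.Finite Γ(Y, U) Γ(X, f ⁻¹ᵁ U) := f.finite_app U hU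
  obtain ⟨s, hs⟩ := Module.Finite.fg_top (R := Γ(Y, U)) (M := Γ(X, f ⁻¹ᵁ U))
  let g : Γ(X, f ⁻¹ᵁ U) → (grAlg f).presheaf.obj (op U) := fun a => (η f U hU).symm (Polynomial.monomial 1 a)
  have hg : Function.Injective g := fun a b h =>
    Polynomial.monomial_injective 1 ((η f U hU).symm.injective h)
  refine ⟨s.image g, fun x hx => ?_, ?_⟩
  · obtain ⟨a, -, rfl⟩ := Finset.mem_image.mp (Finset.mem_coe.mp hx)
    exact ⟨a, ((η f U hU).apply_symm_apply _).symm⟩
  rintro x ⟨c, hc⟩
  obtain ⟨m, -, hm⟩ := Submodule.mem_span_finset.mp (hs ▸ Submodule.mem_top : c ∈ Submodule.span Γ(Y, U) (s : Set _))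
  refine ⟨fun t => m (Function.invFun g t), ?_⟩
  rw [Finset.sum_image fun a _ b _ h => hg h]
  refine (η f U hU).injective ?_
  refine hc.symm.trans (Eq.trans ?_ (map_sum _ _ _).symm)
  rw [← hm, LinearMap.toAddMonoidHom_coe, map_sum]
  refine Finset.sum_congr rfl fun a _ => ?_
  simp only [Function.leftInverse_invFun hg a]
  exact (η_str_mul f U hU (m a) a).symm

/-- Finite morphisms are projective. -/
theorem isProjective_of_isFinite : RelProj.IsProjective f :=
  ⟨grAlg f, X, f, chart f, Iso.refl X, isGenDegOne f, isFTDeg f, isRelProj f, Category.id_comp f⟩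

end Groth.L18.FinProj
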