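import Groth.Agent.L02.Quot.GG
import Groth.Agent.L14.Quot.Lift
import Groth.Agent.L03.Euler.Section
import Groth.Agent.L18.GenLocus
import Mathlib.LinearAlgebra.TensorProduct.RightExactness

/-!
# The kernel of a surjection onto an invertible module, twisted by it, is globally generated

If `s : E ⟶ L` is an epimorphism, `E` globally generated and `L` invertible, then `(ker s) ⊗ L` is
generated by the sections `a ⊗ s b - b ⊗ s a` of `E ⊗ L`.
-/

set_option autoImplicit false
set_option linter.style.haveILetI false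
set_option backward.isDefEq.respectTransparency false
set_option backward.isDefEq.respectTransparency.types false

universe u

open CategoryTheory CategoryTheory.Limits AlgebraicGeometry TopologicalSpace Opposite TensorProduct

noncomputable section

namespace Groth.L18.KernelTensorGG

open Groth.L00.Tensor (tensorMap)
open Groth.L14.Quot (stMapₗ)
open Groth.L18.GenLoc (tens)

variable {X : Scheme.{u}}

/-- The stalk, as the value of the linear stalk functor. -/
abbrev Sx (M : X.Modules) (x : X) : Type u := ↥((Groth.L00.Stk.F X x).obj M)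

/-- The stalk of a tensor product. -/
def stk (M N : X.Modules) (x : X) :
    (Sx M x) ⊗[X.presheaf.stalk x] (Sx N x) ≃ₗ[X.presheaf.stalk x]
      Sx (CohB1.tensorMod M N) x :=
  (Groth.L00.Stk.τ x M N).toLinearEquiv

theorem stk_germ {M N : X.Modules} (x : X) (m : Γ(M, ⊤)) (n : Γ(N, ⊤)) :
    stk M N x (M.presheaf.germ ⊤ x trivial m ⊗ₜ N.presheaf.germ ⊤ x trivial n) =
      (CohB1.tensorMod M N).presheaf.germ ⊤ x trivial (tens M N ⊤ m n) :=
  Groth.L00.Stk.τfun_tmul x M N (Opens.mem_top x) m n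

theorem stk_natural {M M' N N' : X.Modules} (f : M ⟶ M') (g : N ⟶ N') (x : X)
    (z : (Sx M x) ⊗[X.presheaf.stalk x] (Sx N x)) :
    stMapₗ (tensorMap f g) x (stk M N x z) =
      stk M' N' x (TensorProduct.map (stMapₗ f x) (stMapₗ g x) z) :=
  (congrArg (fun k => (ConcreteCategory.hom k) z) (Groth.L00.Stk.τ_natural x f g)).symm

theorem stMapₗ_germ {M N : X.Modules} (f : M ⟶ N) (x : X) (m : Γ(M, ⊤)) :
    stMapₗ f x (M.presheaf.germ ⊤ x trivial m) = N.presheaf.germ ⊤ x trivial (f.app ⊤ m) :=
  DerSch.stalkFunctor_map_germ x f ⊤ trivial m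

theorem exists_stalk_equiv {L : X.Modules} (hL : PicF.IsInvertible L) (x : X) :
    Nonempty (X.presheaf.stalk x ≃ₗ[X.presheaf.stalk x] (Sx L x)) := by
  obtain ⟨W, e, -, hx, he⟩ := Groth.L18.GenLoc.exists_affine_frame hL x
  exact ⟨LinearEquiv.ofBijective _ (Groth.L03.Euler.bijective_toSpanSingleton_germ he hx)⟩

theorem tmul_comm {L : X.Modules} (hL : PicF.IsInvertible L) (x : X) (a b : (Sx L x)) :
    a ⊗ₜ[X.presheaf.stalk x] b = b ⊗ₜ a := by
  obtain ⟨e⟩ := exists_stalk_equiv hL x
  have h : ∀ c, ∃ r : X.presheaf.stalk x, c = r • e 1 := fun c =>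
    ⟨e.symm c, by rw [← map_smul, smul_eq_mul, mul_one, e.apply_symm_apply]⟩
  obtain ⟨r, rfl⟩ := h a
  obtain ⟨t, rfl⟩ := h b
  rw [TensorProduct.smul_tmul_smul, TensorProduct.smul_tmul_smul, mul_comm]

/-- The kernel of a surjection from a globally generated module onto an invertible module `L`, tensored
with `L`, is globally generated. -/
theorem isGloballyGenerated_tensor_kernel {E L : X.Modules} (hE : Curv2.IsGloballyGenerated E)
    (hL : PicF.IsInvertible L) (s : E ⟶ L) [Epi s] :
    Curv2.IsGloballyGenerated (CohB1.tensorMod (kernel s) L) := by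
  classical
  let f : CohB1.tensorMod (kernel s) L ⟶ CohB1.tensorMod E L := tensorMap (kernel.ι s) (𝟙 L)
  let g : CohB1.tensorMod E L ⟶ CohB1.tensorMod L L := tensorMap s (𝟙 L)
  have hid : ∀ x : X, stMapₗ (𝟙 L) x = LinearMap.id := fun x => LinearMap.ext fun m =>
    Groth.L14.Quot.stMapₗ_id L x m
  have hf : ∀ x z, stMapₗ f x (stk _ _ x z) = stk _ _ x ((stMapₗ (kernel.ι s) x).rTensor _ z) :=
    fun x z => by rw [stk_natural, hid]; rfl
  have hg : ∀ x z, stMapₗ g x (stk _ _ x z) = stk _ _ x ((stMapₗ s x).rTensor _ z) :=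
    fun x z => by rw [stk_natural, hid]; rfl
  have hker : ∀ x, Function.Exact (stMapₗ (kernel.ι s) x) (stMapₗ s x) := fun x => by
    have h := (ShortComplex.exact_of_f_is_kernel (ShortComplex.mk (kernel.ι s) s (kernel.condition s))
      (kernelIsKernel s)).map (Groth.L00.Stk.F X x)
    exact (ShortComplex.ShortExact.moduleCat_exact_iff_function_exact _).1 h
  have hinj : ∀ x, Function.Injective (stMapₗ f x) := fun x => by
    obtain ⟨e⟩ := exists_stalk_equiv hL x
    haveI : Module.Flat (X.presheaf.stalk x) ((Sx L x)) := Module.Flat.of_linearEquiv e.symm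
    intro a b hab
    obtain ⟨a, rfl⟩ := (stk _ _ x).surjective a
    obtain ⟨b, rfl⟩ := (stk _ _ x).surjective b
    rw [hf, hf] at hab
    exact congrArg _ (Module.Flat.rTensor_preserves_injective_linearMap _
      (Groth.L14.Quot.stMapₗ_injective (kernel.ι s) x) ((stk _ _ x).injective hab))
  have hfg : f ≫ g = 0 := by
    refine Groth.L14.Quot.eq_zero_of_stalk _ fun x m => ?_
    obtain ⟨z, rfl⟩ := (stk _ _ x).surjective m
    rw [Groth.L14.Quot.stMapₗ_comp_apply, hf, hg, ← LinearMap.comp_apply, ← LinearMap.rTensor_comp,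
      (hker x).linearMap_comp_eq_zero, LinearMap.rTensor_zero]
    exact map_zero _
  haveI : Mono f := Groth.L14.Quot.mono_of_stalk f hinj
  have hex : (ShortComplex.mk f g hfg).Exact := by
    refine Groth.L14.Quot.exact_of_stalk _ fun x => le_antisymm ?_ ?_
    · rintro _ ⟨m, rfl⟩
      show stMapₗ g x (stMapₗ f x m) = 0
      rw [← Groth.L14.Quot.stMapₗ_comp_apply, hfg]
      exact LinearMap.congr_fun (show stMapₗ (0 : CohB1.tensorMod (kernel s) L ⟶ CohB1.tensorMod L L) x = 0 from
        congrArg ModuleCat.Hom.hom ((Groth.L00.Stk.F X x).map_zero _ _)) m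
    · intro m hm
      obtain ⟨z, rfl⟩ := (stk _ _ x).surjective m
      have hm' : stMapₗ g x (stk _ _ x z) = 0 := hm
      rw [hg, LinearEquiv.map_eq_zero_iff] at hm'
      obtain ⟨w, hw⟩ := (rTensor_exact ((Sx L x)) (hker x)
        (Groth.L14.Quot.stMapₗ_surjective s x) z).1 hm'
      exact ⟨stk _ _ x w, (hf x w).trans (congrArg _ hw)⟩
  -- the Koszul sections
  let t : Γ(E, ⊤) × Γ(E, ⊤) → Γ(CohB1.tensorMod E L, ⊤) := fun p =>
    tens E L ⊤ p.1 (s.app ⊤ p.2) - tens E L ⊤ p.2 (s.app ⊤ p.1)
  let B : ∀ x, (Sx E x) → (Sx E x) →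
      (Sx E x) ⊗[X.presheaf.stalk x] (Sx L x) := fun x a b =>
    a ⊗ₜ stMapₗ s x b - b ⊗ₜ stMapₗ s x a
  have ht : ∀ (x : X) (p : Γ(E, ⊤) × Γ(E, ⊤)), (CohB1.tensorMod E L).presheaf.germ ⊤ x trivial (t p) =
      stk E L x (B x (E.presheaf.germ ⊤ x trivial p.1) (E.presheaf.germ ⊤ x trivial p.2)) := fun x p => by
    simp only [t, B, map_sub, stMapₗ_germ, stk_germ]
  have htg : ∀ p, Groth.L16.homOfSection _ (t p) ≫ g = 0 := fun p => by
    refine Groth.L14.Quot.eq_zero_of_stalk _ fun x m => ?_
    obtain ⟨V, hV, r, rfl⟩ := TopCat.Presheaf.exists_germ_eq (F := (Coh.structureModule X).presheaf) (x := x) m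
    have h1 : stMapₗ (Groth.L16.homOfSection _ (t p)) x ((Coh.structureModule X).presheaf.germ V x hV r) =
        X.presheaf.germ V x hV r • (CohB1.tensorMod E L).presheaf.germ ⊤ x trivial (t p) := by
      refine (DerSch.stalkFunctor_map_germ x _ V hV r).trans ?_
      rw [Groth.L16.homOfSection_app]
      refine (Groth.L20.ModStalk.germ_smul _ hV _ _).trans ?_
      exact congrArg _ (TopCat.Presheaf.germ_res_apply _ (homOfLE (le_top : V ≤ ⊤)) x hV _)
    rw [Groth.L14.Quot.stMapₗ_comp_apply, h1, map_smul, ht, hg]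
    refine (congrArg _ ((congrArg _ ?_).trans (map_zero _))).trans (smul_zero _)
    simp only [B, map_sub, LinearMap.rTensor_tmul, sub_eq_zero]
    exact tmul_comm hL x _ _
  let τ : Γ(E, ⊤) × Γ(E, ⊤) → (Coh.structureModule X ⟶ CohB1.tensorMod (kernel s) L) := fun p =>
    hex.lift (Groth.L16.homOfSection _ (t p)) (htg p)
  have hτ : ∀ p, τ p ≫ f = Groth.L16.homOfSection _ (t p) := fun p => hex.lift_f _ _
  refine ⟨Γ(E, ⊤) × Γ(E, ⊤), Limits.Sigma.desc τ, Groth.L14.Quot.epi_of_stalk _ fun x v => ?_⟩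
  let R : Submodule (X.presheaf.stalk x) ((Sx E x) ⊗[X.presheaf.stalk x] (Sx L x)) :=
    (LinearMap.range (stMapₗ (Limits.Sigma.desc τ ≫ f) x)).comap (stk E L x).toLinearMap
  have hmem : ∀ p : Γ(E, ⊤) × Γ(E, ⊤), B x (E.presheaf.germ ⊤ x trivial p.1) (E.presheaf.germ ⊤ x trivial p.2) ∈ R := fun p => by
    refine ⟨stMapₗ (Limits.Sigma.ι (fun _ => Coh.structureModule X) p) x
      ((Coh.structureModule X).presheaf.germ ⊤ x trivial (1 : Γ(X, ⊤))), ?_⟩
    rw [← Groth.L14.Quot.stMapₗ_comp_apply, Limits.Sigma.ι_desc_assoc, hτ, stMapₗ_germ]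
    show _ = stk E L x _
    rw [← ht, Groth.L16.homOfSection_app, one_smul]
    exact congrArg _ (Groth.L18.Frame.rs_self _ le_rfl _)
  have hspan := Groth.L02.Quot.span_germ_top_of_gg hE x
  have hB : ∀ a b, B x a b ∈ R := by
    intro a b
    have ha : a ∈ Submodule.span (X.presheaf.stalk x) (Set.range fun t : Γ(E, ⊤) => E.presheaf.germ ⊤ x trivial t) :=
      hspan ▸ Submodule.mem_top
    have hb : b ∈ Submodule.span (X.presheaf.stalk x) (Set.range fun t : Γ(E, ⊤) => E.presheaf.germ ⊤ x trivial t) :=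
      hspan ▸ Submodule.mem_top
    clear hspan
    induction ha, hb using Submodule.span_induction₂ with
    | mem_mem a b ha hb =>
      obtain ⟨a, rfl⟩ := ha
      obtain ⟨b, rfl⟩ := hb
      exact hmem (a, b)
    | zero_left y hy => simp only [B, map_zero, TensorProduct.zero_tmul, TensorProduct.tmul_zero, sub_self, zero_mem]
    | zero_right y hy => simp only [B, map_zero, TensorProduct.zero_tmul, TensorProduct.tmul_zero, sub_self, zero_mem]
    | add_left a a' b _ _ _ h h' =>
      convert add_mem h h' using 1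
      simp only [B, map_add, TensorProduct.add_tmul, TensorProduct.tmul_add]
      abel
    | add_right a b b' _ _ _ h h' =>
      convert add_mem h h' using 1
      simp only [B, map_add, TensorProduct.add_tmul, TensorProduct.tmul_add]
      abel
    | smul_left r a b _ _ h =>
      convert Submodule.smul_mem R r h using 1
      simp only [B, map_smul, TensorProduct.smul_tmul', TensorProduct.tmul_smul, smul_sub]
    | smul_right r a b _ _ h =>
      convert Submodule.smul_mem R r h using 1
      simp only [B, map_smul, TensorProduct.smul_tmul', TensorProduct.tmul_smul, smul_sub]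
  obtain ⟨z, rfl⟩ := (stk _ _ x).surjective v
  suffices h : (stMapₗ (kernel.ι s) x).rTensor _ z ∈ R by
    obtain ⟨w, hw⟩ := h
    refine ⟨w, hinj x ?_⟩
    rw [← Groth.L14.Quot.stMapₗ_comp_apply, hf]
    exact hw
  induction z using TensorProduct.induction_on with
  | zero => rw [map_zero]; exact zero_mem _
  | add a b ha hb => rw [map_add]; exact add_mem ha hb
  | tmul k l =>
    obtain ⟨b, rfl⟩ := Groth.L14.Quot.stMapₗ_surjective s x l
    convert hB (stMapₗ (kernel.ι s) x k) b using 1
    simp only [B, LinearMap.rTensor_tmul, (hker x).apply_apply_eq_zero, TensorProduct.tmul_zero, sub_zero]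

end Groth.L18.KernelTensorGG
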