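import Groth.Agent.L18.ProjSpaceUP
import Groth.Agent.L03.Euler.Section
import Groth.Agent.L16.ProjSpace.Basic
import Mathlib.AlgebraicGeometry.ZariskisMainTheorem
import Mathlib.RingTheory.Jacobson.Ring

/-!
# A morphism to projective space is a closed immersion iff it separates points and tangents
-/

set_option autoImplicit false
universe u

open CategoryTheory CategoryTheory.Limits AlgebraicGeometry TopologicalSpace Opposite

noncomputable section

namespace Groth.L18.CIC

open Groth.L18.Frame Groth.L18.PUP MvPolynomial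

variable {n : ℕ} {k : Type u} [Field k]

/-- A closed subset of a Jacobson space whose closed points lie in `{x}`, `x` closed. -/
theorem subset_singleton_of_closedPoints {T : Type*} [TopologicalSpace T] [JacobsonSpace T] {Z : Set T}
    (hZ : IsClosed Z) {x : T} (hx : IsClosed ({x} : Set T)) (h : ∀ z ∈ Z, IsClosed ({z} : Set T) → z = x) :
    Z ⊆ {x} := by
  rw [← hZ.closure_eq, ← JacobsonSpace.closure_inter_closedPoints_eq_closure hZ.isLocallyClosed]
  exact hx.closure_subset_iff.mpr fun z hz => h z hz.1 hz.2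

instance proper_pr : IsProper (pr n k) := Groth.L16.ProjSpace.isProper_toSpec n k

instance jacobson_P : JacobsonSpace (P n k) :=
  LocallyOfFiniteType.jacobsonSpace (pr n k)

/-- Constants in a stalk of projective space. -/
def sc (y : P n k) : k →+* (P n k).presheaf.stalk y :=
  ((P n k).presheaf.germ ⊤ y trivial).hom.comp (ProjUP.toGlobal (pr n k))

/-- The value of a linear form in the chart `i`. -/
def lin {y : P n k} (i : Fin (n + 1)) (hy : y ∈ D i) (c : Fin (n + 1) → k) :
    (P n k).presheaf.stalk y :=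
  ∑ j, sc y (c j) * (P n k).presheaf.germ (D i) y hy (cc i j)

/-- Constants on the chart. -/
def sD (i : Fin (n + 1)) : k →+* Γ(P n k, D i) :=
  ((P n k).presheaf.map (homOfLE (le_top : D i ≤ ⊤)).op).hom.comp (ProjUP.toGlobal (pr n k))

theorem cc_self (i : Fin (n + 1)) : cc (R := k) i i = 1 := by
  rw [cc, Groth.L18.PS.coord_self]
  exact map_one _

theorem germ_sD {y : P n k} (i : Fin (n + 1)) (hy : y ∈ D i) (c : k) :
    (P n k).presheaf.germ (D i) y hy (sD i c) = sc y c :=
  TopCat.Presheaf.germ_res_apply _ _ _ _ _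

theorem lin_germ {y : P n k} (i : Fin (n + 1)) (hy : y ∈ D i) (c : Fin (n + 1) → k) :
    lin i hy c = (P n k).presheaf.germ (D i) y hy (∑ j, sD i (c j) * cc i j) := by
  rw [lin, map_sum]
  exact Finset.sum_congr rfl fun j _ => by rw [map_mul, germ_sD]

theorem lin_single {y : P n k} (i : Fin (n + 1)) (hy : y ∈ D i) (j : Fin (n + 1)) :
    lin i hy (Pi.single j 1) = (P n k).presheaf.germ (D i) y hy (cc i j) := by
  rw [lin, Finset.sum_eq_single j]
  · rw [Pi.single_eq_same, map_one, one_mul]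
  · intro b _ hb
    rw [Pi.single_eq_of_ne hb, map_zero, zero_mul]
  · intro h
    exact absurd (Finset.mem_univ j) h

theorem sum_single_sub (i j : Fin (n + 1)) (r : k) :
    ∑ l, sD i ((Pi.single j (1 : k) - Pi.single i r : Fin (n + 1) → k) l) * cc i l = cc i j - sD i r := by
  simp only [Pi.sub_apply, map_sub, sub_mul, Finset.sum_sub_distrib]
  congr 1
  · rw [Finset.sum_eq_single j]
    · rw [Pi.single_eq_same, map_one, one_mul]
    · intro b _ hb
      rw [Pi.single_eq_of_ne hb, map_zero, zero_mul]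
    · intro h
      exact absurd (Finset.mem_univ j) h
  · rw [Finset.sum_eq_single i]
    · rw [Pi.single_eq_same, cc_self, mul_one]
    · intro b _ hb
      rw [Pi.single_eq_of_ne hb, map_zero, zero_mul]
    · intro h
      exact absurd (Finset.mem_univ i) h

theorem lin_single_notMem {y : P n k} (i i' : Fin (n + 1)) (hy : y ∈ D i) (hy' : y ∉ D i') :
    lin i hy (Pi.single i' 1) ∈ IsLocalRing.maximalIdeal ((P n k).presheaf.stalk y) := by
  rw [lin_single]
  intro hu
  exact hy' (basicOpen_cc i i' (((P n k).mem_basicOpen (cc i i') y hy).mpr hu))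

theorem sD_eq (i : Fin (n + 1)) :
    sD (k := k) i = (Proj.awayToSection (CohB1.polyGrading n k) (X i)).hom.comp
      (Groth.L18.PS.chartScalar n k i) := by
  set hD := Proj.isAffineOpen_basicOpen (CohB1.polyGrading n k) (X i) (Groth.L18.PS.X_mem n i) one_pos
  have h1 : hD.fromSpec ≫ pr n k = _ := toGlobal_fromSpec (pr n k) hD
  have h2 : hD.fromSpec ≫ pr n k =
      Spec.map (CommRingCat.ofHom (Groth.L18.PS.chartScalar n k i) ≫
        Proj.awayToSection (CohB1.polyGrading n k) (X i)) := by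
    rw [fromSpec_D, Category.assoc, Spec.map_comp]
    congr 1
    exact Groth.L18.PS.chart_toSpec i
  exact congrArg CommRingCat.Hom.hom (Spec.map_injective (h1.symm.trans h2))

/-- The chart is generated by constants and the coordinates. -/
theorem eval_surjective (i : Fin (n + 1)) :
    Function.Surjective (eval₂Hom (sD (k := k) i) (cc i)) := by
  intro z
  haveI : IsIso (Proj.awayToSection (CohB1.polyGrading n k) (X i)) :=
    inferInstanceAs (IsIso (Proj.basicOpenIsoAway (CohB1.polyGrading n k) (X i) (Groth.L18.PS.X_mem n i) one_pos).hom)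
  obtain ⟨w, rfl⟩ := ((ConcreteCategory.bijective_of_isIso
    (Proj.awayToSection (CohB1.polyGrading n k) (X i))).2 z)
  obtain ⟨p, rfl⟩ := Groth.L18.PS.exists_eq_eval_coord i w
  refine ⟨p, ?_⟩
  show _ = (Proj.awayToSection (CohB1.polyGrading n k) (X i)).hom _
  rw [map_eval₂Hom, sD_eq]
  rfl

/-- The maximal ideal of a closed point in a chart is cut out by linear forms. -/
theorem exists_tuple [IsAlgClosed k] (i : Fin (n + 1)) (p : Ideal Γ(P n k, D i)) [p.IsMaximal] :
    ∃ a : Fin (n + 1) → k, p = Ideal.span (Set.range fun j => cc i j - sD i (a j)) := by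
  letI : Algebra k Γ(P n k, D i) := (sD i).toAlgebra
  haveI : Algebra.FiniteType k Γ(P n k, D i) := by
    refine Algebra.FiniteType.of_surjective (MvPolynomial.aeval (R := k) (cc i)) fun z => ?_
    obtain ⟨q, rfl⟩ := eval_surjective i z
    exact ⟨q, rfl⟩
  letI : Field (Γ(P n k, D i) ⧸ p) := Ideal.Quotient.field p
  haveI : Algebra.FiniteType k (Γ(P n k, D i) ⧸ p) :=
    Algebra.FiniteType.of_surjective (Ideal.Quotient.mkₐ k p) (Ideal.Quotient.mkₐ_surjective k p)
  haveI : Module.Finite k (Γ(P n k, D i) ⧸ p) := finite_of_finite_type_of_isJacobsonRing k _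
  have hsur := (IsAlgClosed.algebraMap_bijective_of_isIntegral (k := k) (K := Γ(P n k, D i) ⧸ p)).2
  choose a ha using fun j => hsur (Ideal.Quotient.mk p (cc i j))
  refine ⟨a, ?_⟩
  have hle : Ideal.span (Set.range fun j => cc i j - sD i (a j)) ≤ p := by
    rw [Ideal.span_le]
    rintro _ ⟨j, rfl⟩
    refine Ideal.Quotient.eq_zero_iff_mem.mp ?_
    rw [map_sub, ← ha j]
    exact sub_self _
  refine le_antisymm (fun z hz => ?_) hle
  set J := Ideal.span (Set.range fun j => cc i j - sD i (a j))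
  obtain ⟨q, rfl⟩ := eval_surjective i z
  have key : (Ideal.Quotient.mk J).comp (eval₂Hom (sD i) (cc i)) =
      ((Ideal.Quotient.mk J).comp (sD i)).comp (eval₂Hom (RingHom.id k) a) := by
    refine MvPolynomial.ringHom_ext (fun r => by simp) (fun j => ?_)
    simp only [RingHom.comp_apply, eval₂Hom_X']
    rw [Ideal.Quotient.mk_eq_mk_iff_sub_mem]
    exact Ideal.subset_span ⟨j, rfl⟩
  have h1 := RingHom.congr_fun key q
  simp only [RingHom.comp_apply] at h1
  rw [Ideal.Quotient.mk_eq_mk_iff_sub_mem] at h1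
  have h2 : sD i (eval₂Hom (RingHom.id k) a q) ∈ p := by
    have := p.sub_mem hz (hle h1)
    rwa [sub_sub_cancel] at this
  by_cases h0 : eval₂Hom (RingHom.id k) a q = 0
  · rwa [h0, map_zero, sub_zero] at h1
  · exact absurd (p.eq_top_of_isUnit_mem h2 ((IsUnit.mk0 _ h0).map (sD i))) (Ideal.IsPrime.ne_top')

theorem maxIdeal_stalk_eq {X : Scheme.{u}} {U : X.Opens} (hU : IsAffineOpen U) {x : X} (hx : x ∈ U) :
    IsLocalRing.maximalIdeal (X.presheaf.stalk x) =
      (hU.primeIdealOf ⟨x, hx⟩).asIdeal.map (X.presheaf.germ U x hx).hom := by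
  letI := TopCat.Presheaf.algebra_section_stalk X.presheaf (U := U) ⟨x, hx⟩
  haveI : IsLocalization.AtPrime (X.presheaf.stalk x) (hU.primeIdealOf ⟨x, hx⟩).asIdeal :=
    hU.isLocalization_stalk ⟨x, hx⟩
  exact (IsLocalization.AtPrime.map_eq_maximalIdeal _ _).symm

theorem mem_maxIdeal_germ_iff {X : Scheme.{u}} {U : X.Opens} (hU : IsAffineOpen U) {x : X} (hx : x ∈ U)
    (z : Γ(X, U)) :
    X.presheaf.germ U x hx z ∈ IsLocalRing.maximalIdeal (X.presheaf.stalk x) ↔
      z ∈ (hU.primeIdealOf ⟨x, hx⟩).asIdeal := by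
  letI := TopCat.Presheaf.algebra_section_stalk X.presheaf (U := U) ⟨x, hx⟩
  haveI : IsLocalization.AtPrime (X.presheaf.stalk x) (hU.primeIdealOf ⟨x, hx⟩).asIdeal :=
    hU.isLocalization_stalk ⟨x, hx⟩
  exact IsLocalization.AtPrime.to_map_mem_maximal_iff (X.presheaf.stalk x) (hU.primeIdealOf ⟨x, hx⟩).asIdeal z

/-- The maximal ideal at a closed point is spanned by linear forms vanishing there. -/
theorem maxIdeal_le_lin [IsAlgClosed k] {y : P n k} (i : Fin (n + 1)) (hy : y ∈ D i)
    (hcl : IsClosed ({y} : Set (P n k))) :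
    IsLocalRing.maximalIdeal ((P n k).presheaf.stalk y) ≤
      Ideal.span {r | r ∈ IsLocalRing.maximalIdeal ((P n k).presheaf.stalk y) ∧ ∃ c, r = lin i hy c} := by
  set hD := Proj.isAffineOpen_basicOpen (CohB1.polyGrading n k) (X i) (Groth.L18.PS.X_mem n i) one_pos
  haveI := hD.primeIdealOf_isMaximal_of_isClosed ⟨y, hy⟩ hcl
  obtain ⟨a, ha⟩ := exists_tuple i (hD.primeIdealOf ⟨y, hy⟩).asIdeal
  refine (maxIdeal_stalk_eq hD hy).trans_le ?_
  rw [ha, Ideal.map_span, Ideal.span_le]
  rintro _ ⟨_, ⟨j, rfl⟩, rfl⟩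
  refine Ideal.subset_span ⟨?_, Pi.single j (1 : k) - Pi.single i (a j), ?_⟩
  · exact (mem_maxIdeal_germ_iff hD hy _).mpr (ha.ge (Ideal.subset_span ⟨j, rfl⟩))
  · rw [lin_germ, sum_single_sub]

/-- Two distinct closed points are separated by a linear form. -/
theorem exists_sep [IsAlgClosed k] {y₁ y₂ : P n k} (h₁ : IsClosed ({y₁} : Set (P n k)))
    (h₂ : IsClosed ({y₂} : Set (P n k))) (hne : y₁ ≠ y₂) :
    ∃ (c : Fin (n + 1) → k) (i₁ i₂ : Fin (n + 1)) (m₁ : y₁ ∈ D i₁) (m₂ : y₂ ∈ D i₂),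
      lin i₁ m₁ c ∈ IsLocalRing.maximalIdeal ((P n k).presheaf.stalk y₁) ∧
      lin i₂ m₂ c ∉ IsLocalRing.maximalIdeal ((P n k).presheaf.stalk y₂) := by
  obtain ⟨i, hi⟩ := Opens.mem_iSup.mp ((Groth.L18.PS.iSup_chart (n := n) (R := k)).ge (trivial : y₂ ∈ (⊤ : (P n k).Opens)))
  by_cases h : y₁ ∈ D i
  · set hD := Proj.isAffineOpen_basicOpen (CohB1.polyGrading n k) (X i) (Groth.L18.PS.X_mem n i) one_pos
    haveI := hD.primeIdealOf_isMaximal_of_isClosed ⟨y₁, h⟩ h₁
    haveI := hD.primeIdealOf_isMaximal_of_isClosed ⟨y₂, hi⟩ h₂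
    obtain ⟨a, ha⟩ := exists_tuple i (hD.primeIdealOf ⟨y₁, h⟩).asIdeal
    obtain ⟨j, hj⟩ : ∃ j, cc i j - sD i (a j) ∉ (hD.primeIdealOf ⟨y₂, hi⟩).asIdeal := by
      by_contra hall
      have hle : (hD.primeIdealOf ⟨y₁, h⟩).asIdeal ≤ (hD.primeIdealOf ⟨y₂, hi⟩).asIdeal := by
        rw [ha, Ideal.span_le]
        rintro _ ⟨j, rfl⟩
        by_contra hc
        exact hall ⟨j, hc⟩
      have heq : hD.primeIdealOf ⟨y₁, h⟩ = hD.primeIdealOf ⟨y₂, hi⟩ :=
        PrimeSpectrum.ext (Ideal.IsMaximal.eq_of_le inferInstance (Ideal.IsPrime.ne_top') hle)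
      have := congrArg hD.fromSpec heq
      rw [hD.fromSpec_primeIdealOf, hD.fromSpec_primeIdealOf] at this
      exact hne this
    refine ⟨Pi.single j (1 : k) - Pi.single i (a j), i, i, h, hi, ?_, ?_⟩
    · rw [lin_germ, sum_single_sub]
      exact (mem_maxIdeal_germ_iff hD h _).mpr (ha.ge (Ideal.subset_span ⟨j, rfl⟩))
    · rw [lin_germ, sum_single_sub]
      exact fun hm => hj ((mem_maxIdeal_germ_iff hD hi _).mp hm)
  · obtain ⟨i', hi'⟩ := Opens.mem_iSup.mp ((Groth.L18.PS.iSup_chart (n := n) (R := k)).ge (trivial : y₁ ∈ (⊤ : (P n k).Opens)))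
    refine ⟨Pi.single i 1, i', i, hi', hi, lin_single_notMem i' i hi' h, ?_⟩
    rw [lin_single, cc_self, map_one]
    exact fun hm => hm isUnit_one

section Pull

variable {X : Scheme.{u}} (pX : X ⟶ Spec (CommRingCat.of k)) (f : X ⟶ P n k) (hf : f ≫ pr n k = pX)

/-- The stalk of `f^* O(1)`. -/
abbrev MS (x : X) : Type u := ((Scheme.Modules.pullback f).obj (O1 n k)).presheaf.stalk x

/-- The germ of the section given by a tuple. -/
def secGerm (x : X) (c : Fin (n + 1) → k) : MS f x :=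
  (((Scheme.Modules.pullback f).obj (O1 n k)).presheaf.germ ⊤ x trivial).hom
    (∑ j, ProjUP.toGlobal pX (c j) • rT f j)

/-- The generator of the stalk in a chart. -/
def gen (x : X) (i : Fin (n + 1)) : MS f x :=
  (((Scheme.Modules.pullback f).obj (O1 n k)).presheaf.germ ⊤ x trivial).hom (rT f i)

theorem gen_bijective (x : X) (i : Fin (n + 1)) (hi : f.base x ∈ D i) :
    Function.Bijective (LinearMap.toSpanSingleton (X.presheaf.stalk x) (MS f x) (gen f x i)) := by
  have h := Groth.L03.Euler.bijective_toSpanSingleton_germ (rT_frame f i) (x := x) hi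
  rw [Groth.L20.ModStalk.germ_rs] at h
  exact h

theorem mem_smul_top_iff (x : X) (i : Fin (n + 1)) (hi : f.base x ∈ D i) (J : Ideal (X.presheaf.stalk x))
    (r : X.presheaf.stalk x) :
    r • gen f x i ∈ J • (⊤ : Submodule (X.presheaf.stalk x) (MS f x)) ↔ r ∈ J := by
  refine ⟨fun h => ?_, fun h => Submodule.smul_mem_smul h Submodule.mem_top⟩
  obtain ⟨s, hs, e⟩ : ∃ s ∈ J, s • gen f x i = r • gen f x i := by
    refine Submodule.smul_induction_on (p := fun v => ∃ s ∈ J, s • gen f x i = v) h ?_ ?_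
    · intro a ha m _
      obtain ⟨t, rfl⟩ := (gen_bijective f x i hi).2 m
      exact ⟨a * t, J.mul_mem_right t ha, mul_smul _ _ _⟩
    · rintro _ _ ⟨s, hs, rfl⟩ ⟨t, ht, rfl⟩
      exact ⟨s + t, J.add_mem hs ht, add_smul _ _ _⟩
  exact (gen_bijective f x i hi).1 e ▸ hs

include hf in
theorem stalkMap_sc (x : X) (c : k) :
    f.stalkMap x (sc (f.base x) c) = X.presheaf.germ ⊤ x trivial (ProjUP.toGlobal pX c) := by
  subst hf
  exact (Scheme.Hom.germ_stalkMap_apply f ⊤ x trivial (ProjUP.toGlobal (pr n k) c))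

include hf in
theorem secGerm_eq (x : X) (i : Fin (n + 1)) (hi : f.base x ∈ D i) (c : Fin (n + 1) → k) :
    secGerm pX f x c = f.stalkMap x (lin i hi c) • gen f x i := by
  rw [secGerm, map_sum, lin, map_sum, Finset.sum_smul]
  refine Finset.sum_congr rfl fun j _ => ?_
  rw [map_mul, mul_smul, stalkMap_sc pX f hf]
  refine (Groth.L20.ModStalk.germ_smul _ _ _ _).trans ?_
  congr 1
  rw [← Groth.L20.ModStalk.germ_rs _ (le_top : f ⁻¹ᵁ D i ≤ ⊤) (show x ∈ f ⁻¹ᵁ D i from hi), ← rT_smul f i j,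
    Groth.L20.ModStalk.germ_smul, Groth.L20.ModStalk.germ_rs]
  congr 1
  exact (Scheme.Hom.germ_stalkMap_apply f (D i) x hi (cc i j)).symm

include hf in
theorem secGerm_mem_iff (x : X) (i : Fin (n + 1)) (hi : f.base x ∈ D i) (c : Fin (n + 1) → k) :
    secGerm pX f x c ∈ IsLocalRing.maximalIdeal (X.presheaf.stalk x) • (⊤ : Submodule (X.presheaf.stalk x) (MS f x)) ↔
      lin i hi c ∈ IsLocalRing.maximalIdeal ((P n k).presheaf.stalk (f.base x)) := by
  rw [secGerm_eq pX f hf x i hi, mem_smul_top_iff f x i hi, IsLocalRing.mem_maximalIdeal,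
    IsLocalRing.mem_maximalIdeal, mem_nonunits_iff, mem_nonunits_iff, isUnit_map_iff (f.stalkMap x).hom]

/-- Separation of points, in the ordered form. -/
def Sep₁ : Prop :=
  ∀ P Q : X, IsClosed ({P} : Set X) → IsClosed ({Q} : Set X) → P ≠ Q → ∃ c : Fin (n + 1) → k,
    secGerm pX f P c ∈ IsLocalRing.maximalIdeal (X.presheaf.stalk P) • (⊤ : Submodule (X.presheaf.stalk P) (MS f P)) ∧
    secGerm pX f Q c ∉ IsLocalRing.maximalIdeal (X.presheaf.stalk Q) • (⊤ : Submodule (X.presheaf.stalk Q) (MS f Q))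

/-- Separation of tangent vectors. -/
def Tan : Prop :=
  ∀ P : X, IsClosed ({P} : Set X) →
    IsLocalRing.maximalIdeal (X.presheaf.stalk P) • (⊤ : Submodule (X.presheaf.stalk P) (MS f P)) ≤
      Submodule.span (X.presheaf.stalk P)
        {v | ∃ c : Fin (n + 1) → k, v = secGerm pX f P c ∧
          v ∈ IsLocalRing.maximalIdeal (X.presheaf.stalk P) • (⊤ : Submodule (X.presheaf.stalk P) (MS f P))} ⊔
      IsLocalRing.maximalIdeal (X.presheaf.stalk P) ^ 2 • (⊤ : Submodule (X.presheaf.stalk P) (MS f P))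

include hf in
theorem sep_of_isClosedImmersion [IsAlgClosed k] [IsClosedImmersion f] : Sep₁ pX f := by
  intro P Q hP hQ hne
  have c₁ : IsClosed ({f.base P} : Set _) := by simpa using f.isClosedEmbedding.isClosedMap _ hP
  have c₂ : IsClosed ({f.base Q} : Set _) := by simpa using f.isClosedEmbedding.isClosedMap _ hQ
  obtain ⟨c, i₁, i₂, m₁, m₂, h₁, h₂⟩ := exists_sep c₁ c₂ fun e => hne (f.isClosedEmbedding.injective e)
  exact ⟨c, (secGerm_mem_iff pX f hf P i₁ m₁ c).mpr h₁, fun h => h₂ ((secGerm_mem_iff pX f hf Q i₂ m₂ c).mp h)⟩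

include hf in
theorem tan_of_isClosedImmersion [IsAlgClosed k] [IsClosedImmersion f] : Tan pX f := by
  intro P hP
  have hy : IsClosed ({f.base P} : Set _) := by simpa using f.isClosedEmbedding.isClosedMap _ hP
  obtain ⟨i, hi⟩ := Opens.mem_iSup.mp ((Groth.L18.PS.iSup_chart (n := n) (R := k)).ge (trivial : f.base P ∈ (⊤ : (Groth.L18.PUP.P n k).Opens)))
  refine le_trans (Submodule.smul_le.mpr fun r hr v _ => ?_) le_sup_left
  obtain ⟨t, rfl⟩ := (gen_bijective f P i hi).2 v
  obtain ⟨z, rfl⟩ := f.stalkMap_surjective P r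
  have hz : z ∈ IsLocalRing.maximalIdeal _ := fun hu => hr (hu.map (f.stalkMap P).hom)
  rw [LinearMap.toSpanSingleton_apply, smul_smul, mul_comm, mul_smul]
  refine Submodule.smul_mem _ _ ?_
  have hz2 := maxIdeal_le_lin i hi hy hz
  clear hr hz
  induction hz2 using Submodule.span_induction with
  | mem z h =>
    obtain ⟨h1, c, rfl⟩ := h
    exact Submodule.subset_span ⟨c, (secGerm_eq pX f hf P i hi c).symm, by
      rw [← secGerm_eq pX f hf P i hi c]; exact (secGerm_mem_iff pX f hf P i hi c).mpr h1⟩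
  | zero => rw [map_zero, zero_smul]; exact Submodule.zero_mem _
  | add a b _ _ ha hb => rw [map_add, add_smul]; exact Submodule.add_mem _ ha hb
  | smul a b _ hb => rw [smul_eq_mul, map_mul, mul_smul]; exact Submodule.smul_mem _ _ hb

include hf in
theorem injOn_closedPoints
    (hs : ∀ P Q : X, IsClosed ({P} : Set X) → IsClosed ({Q} : Set X) → P ≠ Q → ∃ c : Fin (n + 1) → k,
      ¬ (secGerm pX f P c ∈ IsLocalRing.maximalIdeal (X.presheaf.stalk P) • (⊤ : Submodule (X.presheaf.stalk P) (MS f P)) ↔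
        secGerm pX f Q c ∈ IsLocalRing.maximalIdeal (X.presheaf.stalk Q) • (⊤ : Submodule (X.presheaf.stalk Q) (MS f Q))))
    {P Q : X} (hP : IsClosed ({P} : Set X)) (hQ : IsClosed ({Q} : Set X)) (e : f.base P = f.base Q) : P = Q := by
  by_contra hne
  obtain ⟨c, hc⟩ := hs P Q hP hQ hne
  obtain ⟨i, hi⟩ := Opens.mem_iSup.mp ((Groth.L18.PS.iSup_chart (n := n) (R := k)).ge (trivial : f.base P ∈ (⊤ : (Groth.L18.PUP.P n k).Opens)))
  refine hc ?_
  rw [secGerm_mem_iff pX f hf P i hi, secGerm_mem_iff pX f hf Q i (e ▸ hi)]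
  clear hc
  revert hi
  generalize f.base P = y at e
  subst e
  intro hi
  rfl

include hf in
theorem maxIdeal_le_map [IsLocallyNoetherian X] (ht : Tan pX f) {P : X} (hP : IsClosed ({P} : Set X)) :
    IsLocalRing.maximalIdeal (X.presheaf.stalk P) ≤
      (IsLocalRing.maximalIdeal ((Groth.L18.PUP.P n k).presheaf.stalk (f.base P))).map (f.stalkMap P).hom := by
  obtain ⟨i, hi⟩ := Opens.mem_iSup.mp ((Groth.L18.PS.iSup_chart (n := n) (R := k)).ge (trivial : f.base P ∈ (⊤ : (Groth.L18.PUP.P n k).Opens)))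
  set I := (IsLocalRing.maximalIdeal ((Groth.L18.PUP.P n k).presheaf.stalk (f.base P))).map (f.stalkMap P).hom with hI
  set m := IsLocalRing.maximalIdeal (X.presheaf.stalk P) with hm
  refine Submodule.le_of_le_smul_of_le_jacobson_bot (I := m) (IsNoetherian.noetherian m)
    (IsLocalRing.maximalIdeal_le_jacobson _) ?_
  intro r hr
  have h1 : r • gen f P i ∈ (I ⊔ m * m) • (⊤ : Submodule (X.presheaf.stalk P) (MS f P)) := by
    have h0 := ht P hP (Submodule.smul_mem_smul hr Submodule.mem_top (n := gen f P i))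
    refine (sup_le ?_ ?_ : _ ≤ (I ⊔ m * m) • (⊤ : Submodule (X.presheaf.stalk P) (MS f P))) h0
    · rw [Submodule.span_le]
      rintro _ ⟨c, rfl, hc⟩
      rw [secGerm_eq pX f hf P i hi c]
      exact Submodule.smul_mem_smul (Ideal.mem_sup_left
        (Ideal.mem_map_of_mem _ ((secGerm_mem_iff pX f hf P i hi c).mp hc))) Submodule.mem_top
    · rw [pow_two]
      exact Submodule.smul_mono_left le_sup_right
  exact (mem_smul_top_iff f P i hi _ r).mp h1

theorem quasiFinite_of_injOn [IsProper f]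
    (hinj : ∀ {P Q : X}, IsClosed ({P} : Set X) → IsClosed ({Q} : Set X) → f.base P = f.base Q → P = Q) :
    LocallyQuasiFinite f := by
  haveI : JacobsonSpace X := LocallyOfFiniteType.jacobsonSpace f
  rw [← Scheme.Hom.quasiFiniteLocus_eq_top_iff]
  by_contra h
  obtain ⟨x, hx, hxc⟩ := nonempty_inter_closedPoints (Z := (f.quasiFiniteLocus : Set X)ᶜ)
    (Set.nonempty_compl.mpr fun e => h (Opens.ext e)) f.quasiFiniteLocus.2.isClosed_compl.isLocallyClosed
  refine hx (Scheme.Hom.quasiFiniteAt_iff_isOpen_singleton_asFiber.mpr ?_)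
  have hy : IsClosed ({f.base x} : Set (Groth.L18.PUP.P n k)) := f.closePoints_subset_preimage_closedPoints hxc
  have hsub : f.base ⁻¹' {f.base x} ⊆ {x} :=
    subset_singleton_of_closedPoints (hy.preimage f.continuous) hxc fun z hz hzc => hinj hzc hxc hz
  haveI : Subsingleton (f.base ⁻¹' {f.base x}) :=
    ⟨fun a b => Subtype.ext ((hsub a.2).trans (hsub b.2).symm)⟩
  haveI : Subsingleton ↑(f.fiber (f.base x)) := (f.fiberHomeo (f.base x)).toEquiv.subsingleton
  have : ({f.asFiber x} : Set _) = Set.univ := Set.eq_univ_of_forall fun z => Subsingleton.elim _ _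
  rw [this]
  exact isOpen_univ

end Pull

/-- A finite ring map which is surjective modulo each maximal ideal is surjective. -/
theorem surjective_of_finite {A B : Type u} [CommRing A] [CommRing B] (φ : A →+* B) (hfin : φ.Finite)
    (h : ∀ p : Ideal A, p.IsMaximal → ∀ b : B, ∃ a, b - φ a ∈ p.map φ) : Function.Surjective φ := by
  letI := φ.toAlgebra
  haveI : Module.Finite A B := hfin
  set N := LinearMap.range (Algebra.linearMap A B) with hN
  suffices hsub : Subsingleton (B ⧸ N) by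
    intro b
    have : b ∈ N := (Submodule.Quotient.mk_eq_zero N).mp (Subsingleton.elim _ _)
    exact this
  have hann : Module.annihilator A (B ⧸ N) = ⊤ := by
    by_contra hne
    obtain ⟨p, hp, hle⟩ := Ideal.exists_le_maximal _ hne
    have htop : (⊤ : Submodule A (B ⧸ N)) ≤ p • ⊤ := by
      intro v _
      obtain ⟨b, rfl⟩ := Submodule.mkQ_surjective N v
      obtain ⟨a, ha⟩ := h p hp b
      have h1 : N.mkQ b = N.mkQ (b - φ a) := by
        rw [map_sub, show N.mkQ (φ a) = 0 from (Submodule.Quotient.mk_eq_zero N).mpr ⟨a, rfl⟩, sub_zero]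
      rw [h1]
      have h2 : b - φ a ∈ p • (⊤ : Submodule A B) := by
        rw [Ideal.smul_top_eq_map]
        exact ha
      have := Submodule.mem_map_of_mem (f := N.mkQ) h2
      rw [Submodule.map_smul''] at this
      exact Submodule.smul_mono le_rfl le_top this
    obtain ⟨r, hr, hr'⟩ := Submodule.exists_sub_one_mem_and_smul_eq_zero_of_fg_of_le_smul p ⊤
      Module.Finite.fg_top htop
    exact hp.ne_top ((Ideal.eq_top_iff_one _).mpr
      (by have := p.sub_mem (hle (Module.mem_annihilator.mpr fun v => hr' v Submodule.mem_top)) hr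
          rwa [sub_sub_cancel] at this))
  refine ⟨fun a b => ?_⟩
  have h1 : (1 : A) ∈ Module.annihilator A (B ⧸ N) := hann ▸ Submodule.mem_top
  rw [← one_smul A a, ← one_smul A b, Module.mem_annihilator.mp h1 a, Module.mem_annihilator.mp h1 b]

/-- Local criterion over one affine open. -/
theorem app_surjective_of_tangent [IsAlgClosed k] {X : Scheme.{u}} [JacobsonSpace X]
    (f : X ⟶ P n k) [IsFinite f]
    (hinj : ∀ {P Q : X}, IsClosed ({P} : Set X) → IsClosed ({Q} : Set X) → f.base P = f.base Q → P = Q)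
    (hmax : ∀ {P : X}, IsClosed ({P} : Set X) → IsLocalRing.maximalIdeal (X.presheaf.stalk P) ≤
      (IsLocalRing.maximalIdeal ((Groth.L18.PUP.P n k).presheaf.stalk (f.base P))).map (f.stalkMap P).hom)
    (i : Fin (n + 1)) : Function.Surjective (f.app (D i)) := by
  set hD := Proj.isAffineOpen_basicOpen (CohB1.polyGrading n k) (MvPolynomial.X i) (Groth.L18.PS.X_mem n i) one_pos
  have hV : IsAffineOpen (f ⁻¹ᵁ D i) := hD.preimage f
  set φ : Γ(P n k, D i) →+* Γ(X, f ⁻¹ᵁ D i) := (f.app (D i)).hom with hφ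
  have hfin : φ.Finite := IsFinite.finite_app f (D i) hD
  refine surjective_of_finite φ hfin fun p hp b => ?_
  -- points of `f⁻¹ D(i)` given by maximal ideals
  have hfrom : ∀ (q : Ideal Γ(X, f ⁻¹ᵁ D i)) (hq : q.IsPrime),
      f.base (hV.fromSpec ⟨q, hq⟩) = hD.fromSpec ⟨q.comap φ, Ideal.IsPrime.comap φ⟩ := by
    intro q hq
    have := hD.SpecMap_appLE_fromSpec f hV (le_refl (f ⁻¹ᵁ D i))
    rw [Scheme.Hom.appLE_eq_app] at this
    exact (congrArg (fun g => g.base (⟨q, hq⟩ : PrimeSpectrum Γ(X, f ⁻¹ᵁ D i))) this).symm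
  have hclosed : ∀ (q : Ideal Γ(X, f ⁻¹ᵁ D i)) (hq : q.IsMaximal),
      IsClosed ({hV.fromSpec ⟨q, hq.isPrime⟩} : Set X) := by
    intro q hq
    have h1 : (⟨q, hq.isPrime⟩ : Spec Γ(X, f ⁻¹ᵁ D i)) ∈ closedPoints (Spec Γ(X, f ⁻¹ᵁ D i)) :=
      (PrimeSpectrum.isClosed_singleton_iff_isMaximal _).mpr hq
    rw [← hV.fromSpec.isOpenEmbedding.preimage_closedPoints] at h1
    exact h1
  by_cases hpB : p.map φ = ⊤
  · exact ⟨0, by rw [hpB]; trivial⟩
  obtain ⟨q, hq, hle⟩ := Ideal.exists_le_maximal _ hpB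
  haveI := hq.isPrime
  have hcomap : ∀ (q' : Ideal Γ(X, f ⁻¹ᵁ D i)), q'.IsMaximal → p.map φ ≤ q' → q'.comap φ = p := by
    intro q' hq' h
    exact (hp.eq_of_le (Ideal.IsPrime.ne_top (by haveI := hq'.isPrime; exact Ideal.IsPrime.comap φ))
      (Ideal.map_le_iff_le_comap.mp h)).symm
  have huniq : ∀ (q' : Ideal Γ(X, f ⁻¹ᵁ D i)), q'.IsMaximal → p.map φ ≤ q' → q' = q := by
    intro q' hq' h
    have h2 : f.base (hV.fromSpec ⟨q', hq'.isPrime⟩) = f.base (hV.fromSpec ⟨q, hq.isPrime⟩) := by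
      rw [hfrom, hfrom]
      congr 1
      exact PrimeSpectrum.ext ((hcomap q' hq' h).trans (hcomap q hq hle).symm)
    have h3 := hV.fromSpec.isOpenEmbedding.injective (hinj (hclosed q' hq') (hclosed q hq) h2)
    exact congrArg PrimeSpectrum.asIdeal h3
  -- `q = p B`
  have hqeq : q ≤ p.map φ := by
    intro z hz
    refine Ideal.mem_of_localization_maximal fun q' hq' => ?_
    by_cases hle' : p.map φ ≤ q'
    · obtain rfl := huniq q' hq' hle'
      set x := hV.fromSpec (⟨q', hq.isPrime⟩ : PrimeSpectrum Γ(X, f ⁻¹ᵁ D i)) with hxdef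
      have hx : x ∈ f ⁻¹ᵁ D i := by
        rw [hxdef]
        exact hV.range_fromSpec.le (Set.mem_range_self _)
      letI := TopCat.Presheaf.algebra_section_stalk X.presheaf (U := f ⁻¹ᵁ D i) ⟨x, hx⟩
      haveI : IsLocalization.AtPrime (X.presheaf.stalk x) q' :=
        hV.isLocalization_stalk' ⟨q', hq.isPrime⟩ hx
      have hz' : algebraMap _ (X.presheaf.stalk x) z ∈ (p.map φ).map (algebraMap _ (X.presheaf.stalk x)) := by
        refine (le_trans (hmax (hclosed q' hq)) ?_) ((IsLocalization.AtPrime.to_map_mem_maximal_iff (X.presheaf.stalk x) q' z).mpr hz)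
        have hxD : f.base x ∈ D i := hx
        rw [maxIdeal_stalk_eq hD hxD, Ideal.map_map]
        have hp' : (hD.primeIdealOf ⟨f.base x, hxD⟩).asIdeal = p := by
          have h4 : hD.primeIdealOf ⟨f.base x, hxD⟩ = ⟨q'.comap φ, Ideal.IsPrime.comap φ⟩ := by
            apply hD.fromSpec.isOpenEmbedding.injective
            rw [hD.fromSpec_primeIdealOf]
            exact hfrom q' hq.isPrime
          rw [h4]
          exact hcomap q' hq hle'
        rw [hp', Ideal.map_map]
        refine le_of_eq (congrArg (fun g => Ideal.map g p) (RingHom.ext fun s => ?_))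
        exact Scheme.Hom.germ_stalkMap_apply f (D i) x hxD s
      rw [IsLocalization.mem_map_algebraMap_iff q'.primeCompl] at hz' ⊢
      obtain ⟨⟨⟨a, ha⟩, s⟩, e⟩ := hz'
      rw [← map_mul, IsLocalization.eq_iff_exists q'.primeCompl] at e
      obtain ⟨t, ht⟩ := e
      refine ⟨⟨⟨a, ha⟩, s⟩, ?_⟩
      rw [← map_mul, IsLocalization.eq_iff_exists q'.primeCompl]
      exact ⟨t, ht⟩
    · obtain ⟨w, hw, hwq⟩ := SetLike.not_le_iff_exists.mp hle'
      rw [Ideal.eq_top_of_isUnit_mem _ (Ideal.mem_map_of_mem _ hw)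
        (IsLocalization.map_units (Localization.AtPrime q') (⟨w, hwq⟩ : q'.primeCompl))]
      trivial
  -- residue field
  haveI : (q.comap φ).IsMaximal := by rw [hcomap q hq hle]; exact hp
  letI : Field (Γ(X, f ⁻¹ᵁ D i) ⧸ q) := Ideal.Quotient.field q
  letI : Algebra k (Γ(X, f ⁻¹ᵁ D i) ⧸ q) := ((Ideal.Quotient.mk q).comp (φ.comp (sD i))).toAlgebra
  haveI : Module.Finite k (Γ(X, f ⁻¹ᵁ D i) ⧸ q) := by
    have h1 : (sD (k := k) i).FiniteType := by
      letI : Algebra k Γ(P n k, D i) := (sD i).toAlgebra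
      show Algebra.FiniteType k Γ(P n k, D i)
      refine Algebra.FiniteType.of_surjective (MvPolynomial.aeval (R := k) (cc i)) fun z => ?_
      obtain ⟨r, rfl⟩ := eval_surjective i z
      exact ⟨r, rfl⟩
    haveI : Algebra.FiniteType k (Γ(X, f ⁻¹ᵁ D i) ⧸ q) :=
      (RingHom.FiniteType.of_surjective _ Ideal.Quotient.mk_surjective).comp (hfin.finiteType.comp h1)
    exact finite_of_finite_type_of_isJacobsonRing k _
  obtain ⟨c, hc⟩ := (IsAlgClosed.algebraMap_bijective_of_isIntegral (k := k) (K := Γ(X, f ⁻¹ᵁ D i) ⧸ q)).2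
    (Ideal.Quotient.mk q b)
  exact ⟨sD i c, hqeq (Ideal.Quotient.eq.mp hc.symm)⟩

/-- The criterion. -/
theorem isClosedImmersion_of_sep_tan [IsAlgClosed k] {X : Scheme.{u}} (pX : X ⟶ Spec (CommRingCat.of k))
    [IsProper pX] (f : X ⟶ P n k) (hf : f ≫ pr n k = pX)
    (hs : ∀ P Q : X, IsClosed ({P} : Set X) → IsClosed ({Q} : Set X) → P ≠ Q → ∃ c : Fin (n + 1) → k,
      ¬ (secGerm pX f P c ∈ IsLocalRing.maximalIdeal (X.presheaf.stalk P) • (⊤ : Submodule (X.presheaf.stalk P) (MS f P)) ↔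
        secGerm pX f Q c ∈ IsLocalRing.maximalIdeal (X.presheaf.stalk Q) • (⊤ : Submodule (X.presheaf.stalk Q) (MS f Q))))
    (ht : Tan pX f) : IsClosedImmersion f := by
  haveI : IsProper (f ≫ pr n k) := by rw [hf]; infer_instance
  haveI : IsProper f := IsProper.of_comp f (pr n k)
  haveI := quasiFinite_of_injOn f (fun hP hQ e => injOn_closedPoints pX f hf hs hP hQ e)
  haveI : IsFinite f := .of_isProper_of_locallyQuasiFinite f
  haveI : JacobsonSpace X := LocallyOfFiniteType.jacobsonSpace f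
  haveI : IsLocallyNoetherian X := LocallyOfFiniteType.isLocallyNoetherian pX
  let U : Fin (n + 1) → (Groth.L18.PUP.P n k).affineOpens := fun i =>
    ⟨D i, Proj.isAffineOpen_basicOpen (CohB1.polyGrading n k) (MvPolynomial.X i) (Groth.L18.PS.X_mem n i) one_pos⟩
  refine HasAffineProperty.of_iSup_eq_top (P := @IsClosedImmersion) U Groth.L18.PS.iSup_chart fun i => ?_
  refine ⟨(U i).2.preimage f, ?_⟩
  rw [morphismRestrict_appTop]
  have hsur := app_surjective_of_tangent f (fun hP hQ e => injOn_closedPoints pX f hf hs hP hQ e)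
    (fun hP => maxIdeal_le_map pX f hf ht hP) i
  have h1 : Function.Surjective (f.app ((U i).1.ι ''ᵁ ⊤)) := by
    rw [Scheme.Opens.ι_image_top]
    exact hsur
  intro z
  obtain ⟨w, rfl⟩ := (ConcreteCategory.bijective_of_isIso (X.presheaf.map (eqToHom (image_morphismRestrict_preimage f (U i).1 ⊤)).op)).2 z
  obtain ⟨v, rfl⟩ := h1 w
  exact ⟨v, rfl⟩

end Groth.L18.CIC
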