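import Mathlib.AlgebraicGeometry.ValuativeCriterion
import Mathlib.AlgebraicGeometry.FunctionField
import Mathlib.RingTheory.Valuation.ValuationSubring

/-!
Centers of valuations on a scheme universally closed over an affine base.
-/

set_option autoImplicit false
set_option linter.style.haveILetI false
universe u

open CategoryTheory AlgebraicGeometry TopologicalSpace

namespace Groth.L18.CurveCenter

theorem exists_center_aux {k : Type u} [CommRing k] {X : Scheme.{u}} (p : X ⟶ Spec (CommRingCat.of k))
    [UniversallyClosed p] {K : Type u} [Field K] (gK : Spec (CommRingCat.of K) ⟶ X) (R : ValuationSubring K)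
    (χ : k →+* R) (hχ : gK ≫ p = Spec.map (CommRingCat.ofHom (R.subtype.comp χ))) :
    ∃ (x : X) (hx : gK (IsLocalRing.closedPoint K) ⤳ x) (θ : X.presheaf.stalk x →+* R), IsLocalHom θ ∧
      ∀ a, (θ a : K) = (Scheme.stalkClosedPointTo gK).hom ((X.presheaf.stalkSpecializes hx).hom a) := by
  have hsq : CommSq gK (Spec.map (CommRingCat.ofHom (algebraMap R K))) p (Spec.map (CommRingCat.ofHom χ)) :=
    ⟨by rw [hχ, ← Spec.map_comp]; rfl⟩
  have hex : (ValuativeCriterion.Existence ⊓ @QuasiCompact : MorphismProperty Scheme.{u}) p := by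
    rw [← UniversallyClosed.eq_valuativeCriterion]
    infer_instance
  obtain ⟨l, hl1, -⟩ := (hex.1 { R := R, K := K, commSq := hsq, .. }).exists_lift
  dsimp only at hl1
  have hx : gK (IsLocalRing.closedPoint K) ⤳ l (IsLocalRing.closedPoint R) := by
    have e := congrArg (fun h : Spec (CommRingCat.of K) ⟶ X => h (IsLocalRing.closedPoint K)) hl1
    refine (specializes_of_eq e.symm).trans ?_
    exact (IsLocalRing.specializes_closedPoint _).map l.continuous
  refine ⟨l (IsLocalRing.closedPoint R), hx, (Scheme.stalkClosedPointTo l).hom, inferInstance, fun a => ?_⟩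
  have h : X.presheaf.stalkSpecializes hx ≫ Scheme.stalkClosedPointTo gK =
      Scheme.stalkClosedPointTo l ≫ CommRingCat.ofHom (algebraMap R K) := by
    refine Spec.map_injective ((cancel_mono (X.fromSpecStalk _)).mp ?_)
    refine Eq.trans (b := gK) ?_ ?_
    · rw [Spec.map_comp, Category.assoc, Scheme.SpecMap_stalkSpecializes_fromSpecStalk]
      exact Scheme.Spec_stalkClosedPointTo_fromSpecStalk gK
    · rw [Spec.map_comp, Category.assoc]
      exact ((congrArg (fun t => Spec.map (CommRingCat.ofHom (algebraMap R K)) ≫ t)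
        (Scheme.Spec_stalkClosedPointTo_fromSpecStalk l)).trans hl1).symm
  exact (ConcreteCategory.congr_hom h a).symm

/-- A valuation ring of the function field containing the base ring has a center. -/
theorem exists_center {k : Type u} [CommRing k] {X : Scheme.{u}} [IsIntegral X]
    (p : X ⟶ Spec (CommRingCat.of k)) [UniversallyClosed p] (R : ValuationSubring X.functionField)
    (hk : ∀ c : k, (X.presheaf.germ ⊤ (genericPoint X) trivial).hom
      (p.appTop.hom ((Scheme.ΓSpecIso (CommRingCat.of k)).inv.hom c)) ∈ R) :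
    ∃ (x : X) (hxR : ∀ a, algebraMap (X.presheaf.stalk x) X.functionField a ∈ R.toSubring),
      ∀ a, IsUnit (⟨_, hxR a⟩ : R.toSubring) → IsUnit a := by
  let κ : k →+* X.functionField := (X.presheaf.germ ⊤ (genericPoint X) trivial).hom.comp
    (p.appTop.hom.comp (Scheme.ΓSpecIso (CommRingCat.of k)).inv.hom)
  have hχ : (X.fromSpecStalk (genericPoint X) ≫ p) =
      Spec.map (CommRingCat.ofHom (R.subtype.comp (κ.codRestrict R.toSubring hk))) := by
    refine ext_of_isAffine ?_
    rw [← cancel_mono (Scheme.ΓSpecIso X.functionField).hom, ← cancel_epi (Scheme.ΓSpecIso (CommRingCat.of k)).inv]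
    rw [Scheme.Hom.comp_appTop, Scheme.fromSpecStalk_appTop]
    erw [Scheme.ΓSpecIso_naturality]
    simp
    rfl
  obtain ⟨x, hx, θ, hθ, hcomp⟩ :=
    exists_center_aux p (K := X.functionField) (X.fromSpecStalk (genericPoint X)) R
      (κ.codRestrict R.toSubring hk) hχ
  have hval : ∀ a, algebraMap (X.presheaf.stalk x) X.functionField a = (θ a).1 := fun a => by
    rw [hcomp]
    have h : X.presheaf.stalkSpecializes ((genericPoint_spec X).specializes (trivial : x ∈ Set.univ)) =
        X.presheaf.stalkSpecializes hx ≫ Scheme.stalkClosedPointTo (R := X.functionField)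
          (X.fromSpecStalk (genericPoint X)) := by
      rw [Scheme.stalkClosedPointTo_fromSpecStalk, TopCat.Presheaf.stalkCongr]
      exact (TopCat.Presheaf.stalkSpecializes_comp X.presheaf (specializes_of_eq Scheme.fromSpecStalk_closedPoint.symm) hx).symm
    exact ConcreteCategory.congr_hom h a
  refine ⟨x, fun a => (hval a).symm ▸ (θ a).2, fun a ha => hθ.map_nonunit a ?_⟩
  have he : θ a = ⟨_, (hval a).symm ▸ (θ a).2⟩ := Subtype.ext (hval a).symm
  exact he ▸ ha

end Groth.L18.CurveCenter
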