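import Groth.Prelude.Def_Pi1
import Groth.Prelude.Def_Found
import Groth.Agent.L01.NagataFiniteType
import Mathlib.AlgebraicGeometry.Normalization
import Mathlib.AlgebraicGeometry.FunctionField
import Mathlib.RingTheory.Ideal.GoingUp

/-!
The normalization of an integral scheme in an extension of its function field:
affine sections, normality, finiteness, and dimension one.
-/

set_option autoImplicit false
set_option linter.style.haveILetI false
universe u

open CategoryTheory CategoryTheory.Limits AlgebraicGeometry TopologicalSpace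

namespace Groth.L18.NormField

variable {X : Scheme.{u}} [IsIntegral X] {K : Type u} [Field K] {φ : X.functionField →+* K}
  {g : Spec (CommRingCat.of K) ⟶ X}

theorem base_eq (hg : g = Spec.map (CommRingCat.ofHom φ) ≫ X.fromSpecStalk (genericPoint X))
    (x : ↥(Spec (CommRingCat.of K))) : g x = genericPoint X := by
  rw [hg, Scheme.Hom.comp_apply]
  rw [Subsingleton.elim (Spec.map (CommRingCat.ofHom φ) x)
    (IsLocalRing.closedPoint ↑(X.presheaf.stalk (genericPoint X)))]
  exact Scheme.fromSpecStalk_closedPoint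

theorem preimage_eq_top (hg : g = Spec.map (CommRingCat.ofHom φ) ≫ X.fromSpecStalk (genericPoint X))
    (U : X.Opens) [h : Nonempty U] : g ⁻¹ᵁ U = ⊤ := by
  refine top_le_iff.mp fun x _ => ?_
  change g x ∈ U
  rw [base_eq hg]
  exact ((genericPoint_spec X).mem_open_set_iff U.isOpen).mpr (by simpa using h)

/-- Evaluation of sections on the preimage of a nonempty open in the field. -/
noncomputable def secIso (hg : g = Spec.map (CommRingCat.ofHom φ) ≫ X.fromSpecStalk (genericPoint X))
    (U : X.Opens) [Nonempty U] : Γ(Spec (CommRingCat.of K), g ⁻¹ᵁ U) ≅ CommRingCat.of K :=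
  (Spec (CommRingCat.of K)).presheaf.mapIso (eqToIso (preimage_eq_top hg U).symm).op ≪≫
    Scheme.ΓSpecIso (CommRingCat.of K)

theorem app_secIso (hg : g = Spec.map (CommRingCat.ofHom φ) ≫ X.fromSpecStalk (genericPoint X))
    (U : X.Opens) [Nonempty U] :
    g.app U ≫ (secIso hg U).hom = X.germToFunctionField U ≫ CommRingCat.ofHom φ := by
  have hxU : genericPoint X ∈ U :=
    ((genericPoint_spec X).mem_open_set_iff U.isOpen).mpr (by simpa using ‹Nonempty U›)
  haveI : Subsingleton ↥(Spec X.functionField) :=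
    inferInstanceAs (Subsingleton (PrimeSpectrum X.functionField))
  have e2 : (⊤ : (Spec X.functionField).Opens) ≤ X.fromSpecStalk (genericPoint X) ⁻¹ᵁ U := fun z _ => by
    change X.fromSpecStalk (genericPoint X) z ∈ U
    rw [Subsingleton.elim z (IsLocalRing.closedPoint ↑(X.presheaf.stalk (genericPoint X)))]
    rw [Scheme.fromSpecStalk_closedPoint]
    exact hxU
  have h2 : (X.fromSpecStalk (genericPoint X)).appLE U ⊤ e2 =
      X.germToFunctionField U ≫ (Scheme.ΓSpecIso X.functionField).inv := by
    rw [Scheme.Hom.appLE, Scheme.fromSpecStalk_app hxU]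
    simp only [Category.assoc, ← Functor.map_comp]
    erw [CategoryTheory.Functor.map_id, Category.comp_id]
  have h3 : g.app U ≫ (secIso hg U).hom =
      g.appLE U ⊤ (preimage_eq_top hg U).ge ≫ (Scheme.ΓSpecIso (CommRingCat.of K)).hom := by
    rw [Scheme.Hom.appLE, Category.assoc]
    rfl
  rw [h3]
  subst hg
  rw [← Scheme.Hom.appLE_comp_appLE (Spec.map (CommRingCat.ofHom φ))
    (X.fromSpecStalk (genericPoint X)) U ⊤ ⊤ e2 (le_refl _), h2]
  simp only [Category.assoc]
  congr 1
  erw [← Scheme.Hom.app_eq_appLE, Scheme.ΓSpecIso_naturality]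
  exact Iso.inv_hom_id_assoc _ _

/-- Sections of the normalization over the preimage of a nonempty affine open: the integral closure
in the field. -/
theorem exists_equiv (hg : g = Spec.map (CommRingCat.ofHom φ) ≫ X.fromSpecStalk (genericPoint X))
    [QuasiCompact g] [QuasiSeparated g] {U : X.Opens} (hU : IsAffineOpen U) [Nonempty U] :
    letI := (φ.comp (X.germToFunctionField U).hom).toAlgebra
    ∃ e : ↑Γ(g.normalization, g.fromNormalization ⁻¹ᵁ U) ≃+* integralClosure Γ(X, U) K,
      (∀ a, e ((g.fromNormalization.app U).hom a) = algebraMap Γ(X, U) (integralClosure Γ(X, U) K) a) ∧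
      ∀ b, (e b : K) = (g.toNormalization.appLE (g.fromNormalization ⁻¹ᵁ U) (g ⁻¹ᵁ U)
        (by simp [← Scheme.Hom.comp_preimage]) ≫ (secIso hg U).hom).hom b := by
  letI aK : Algebra Γ(X, U) K := (φ.comp (X.germToFunctionField U).hom).toAlgebra
  letI aS : Algebra Γ(X, U) Γ(Spec (CommRingCat.of K), g ⁻¹ᵁ U) := (g.app U).hom.toAlgebra
  let s : Γ(Spec (CommRingCat.of K), g ⁻¹ᵁ U) ≃ₐ[Γ(X, U)] K :=
    AlgEquiv.ofRingEquiv (f := (secIso hg U).commRingCatIsoToRingEquiv) (fun a => by
      exact ConcreteCategory.congr_hom (app_secIso hg U) a)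
  refine ⟨(g.normalizationObjIso hU).commRingCatIsoToRingEquiv.trans
    (AlgEquiv.mapIntegralClosure s).toRingEquiv, fun a => ?_, fun b => ?_⟩
  · apply Subtype.ext
    have h1 := ConcreteCategory.congr_hom (g.fromNormalization_app hU) a
    change s ((g.normalizationObjIso hU).hom ((g.fromNormalization.app U) a) :) = _
    rw [h1]
    simp only [CommRingCat.hom_comp, RingHom.comp_apply]
    rw [← CategoryTheory.comp_apply (g.normalizationObjIso hU).inv (g.normalizationObjIso hU).hom,
      Iso.inv_hom_id]
    exact s.commutes a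
  · exact congrArg s (ConcreteCategory.congr_hom (g.normalizationObjIso_hom_val hU) b)

theorem isNormalScheme (hg : g = Spec.map (CommRingCat.ofHom φ) ≫ X.fromSpecStalk (genericPoint X))
    [QuasiCompact g] [QuasiSeparated g] : Pi1.IsNormalScheme g.normalization := by
  intro x'
  obtain ⟨_, ⟨U, hU, rfl⟩, hxU, -⟩ :=
    X.isBasis_affineOpens.exists_subset_of_mem_open (Set.mem_univ (g.fromNormalization x')) isOpen_univ
  haveI : Nonempty U := ⟨⟨_, hxU⟩⟩
  haveI : Nonempty ↥(g.fromNormalization ⁻¹ᵁ U) := ⟨⟨x', hxU⟩⟩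
  obtain ⟨e, -, -⟩ := exists_equiv hg hU
  letI := (φ.comp (X.germToFunctionField U).hom).toAlgebra
  haveI : IsIntegrallyClosed (integralClosure Γ(X, U) K) :=
    IsIntegrallyClosed.of_isIntegrallyClosed_of_isIntegrallyClosedIn (integralClosure Γ(X, U) K) K
  haveI : IsDomain Γ(g.normalization, g.fromNormalization ⁻¹ᵁ U) := e.toMulEquiv.isDomain _
  haveI : IsIntegrallyClosed Γ(g.normalization, g.fromNormalization ⁻¹ᵁ U) :=
    IsIntegrallyClosed.of_equiv e.symm
  letI := g.normalization.presheaf.algebra_section_stalk (⟨x', hxU⟩ : ↥(g.fromNormalization ⁻¹ᵁ U))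
  haveI := (hU.preimage g.fromNormalization).isLocalization_stalk ⟨x', hxU⟩
  exact ⟨inferInstance, isIntegrallyClosed_of_isLocalization (g.normalization.presheaf.stalk x')
    ((hU.preimage g.fromNormalization).primeIdealOf ⟨x', hxU⟩).asIdeal.primeCompl
    (Ideal.primeCompl_le_nonZeroDivisors _)⟩

theorem isNagata_field (k : Type u) [Field k] : CAlg.IsNagata k := by
  refine ⟨inferInstance, fun p _ => ?_⟩
  intro L _ _ _ _ hfd
  haveI := hfd
  have hbot : p = ⊥ := (Ideal.eq_bot_or_top p).resolve_right (Ideal.IsPrime.ne_top ‹_›)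
  have hF : IsField (k ⧸ p) :=
    (Ideal.Quotient.maximal_ideal_iff_isField_quotient p).mp (hbot ▸ Ideal.bot_isMaximal)
  haveI : Module.Finite (k ⧸ p) (FractionRing (k ⧸ p)) :=
    Module.Finite.of_surjective (Algebra.linearMap (k ⧸ p) (FractionRing (k ⧸ p)))
      (IsFractionRing.surjective_iff_isField.mpr hF)
  haveI : Module.Finite (k ⧸ p) L := Module.Finite.trans (FractionRing (k ⧸ p)) L
  haveI : IsNoetherian (k ⧸ p) L := isNoetherian_of_isNoetherianRing_of_finite (k ⧸ p) L
  exact Module.Finite.of_injective (integralClosure (k ⧸ p) L).val.toLinearMap Subtype.val_injective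

theorem isFinite_fromNormalization {k : Type u} [Field k] (pX : X ⟶ Spec (CommRingCat.of k))
    [LocallyOfFiniteType pX] (hφ : φ.Finite)
    (hg : g = Spec.map (CommRingCat.ofHom φ) ≫ X.fromSpecStalk (genericPoint X))
    [QuasiCompact g] [QuasiSeparated g] : IsFinite g.fromNormalization := by
  refine ⟨fun U hU => ?_⟩
  by_cases hne : Nonempty U
  swap
  · have hb : g.fromNormalization ⁻¹ᵁ U = ⊥ :=
      le_bot_iff.mp fun x hx => (hne ⟨⟨_, hx⟩⟩).elim
    haveI : Subsingleton Γ(g.normalization, g.fromNormalization ⁻¹ᵁ U) := by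
      rw [hb]; infer_instance
    exact RingHom.Finite.of_surjective _ fun b => ⟨0, Subsingleton.elim _ _⟩
  obtain ⟨e, he, -⟩ := exists_equiv hg hU
  let ψ : k →+* Γ(X, U) := ((Scheme.ΓSpecIso (CommRingCat.of k)).inv ≫
    pX.appLE ⊤ U (by simp)).hom
  have hψ : ψ.FiniteType := by
    refine RingHom.FiniteType.comp (pX.finiteType_appLE (isAffineOpen_top _) hU (by simp)) ?_
    exact RingHom.FiniteType.of_surjective _
      (Scheme.ΓSpecIso (CommRingCat.of k)).commRingCatIsoToRingEquiv.symm.surjective
  letI := ψ.toAlgebra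
  haveI : Algebra.FiniteType k Γ(X, U) := hψ
  have hN : CAlg.IsNagata Γ(X, U) := Groth.L01.Nagata.isNagata_of_finiteType (isNagata_field k)
  haveI : IsFractionRing Γ(X, U) X.functionField := functionField_isFractionRing_of_isAffineOpen X U hU
  let f := FractionRing.algEquiv Γ(X, U) X.functionField
  letI aK : Algebra Γ(X, U) K := (φ.comp (X.germToFunctionField U).hom).toAlgebra
  letI aF : Algebra (FractionRing Γ(X, U)) K := (φ.comp f.toRingEquiv.toRingHom).toAlgebra
  haveI : IsScalarTower Γ(X, U) (FractionRing Γ(X, U)) K :=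
    IsScalarTower.of_algebraMap_eq fun a => by
      change φ _ = φ (f (algebraMap _ _ a))
      rw [f.commutes]
      rfl
  haveI : Module.Finite (FractionRing Γ(X, U)) K :=
    hφ.comp (RingHom.Finite.of_surjective f.toRingEquiv.toRingHom f.surjective)
  haveI := Groth.L01.Nagata.isN2_of_isNagata hN K inferInstance
  have h1 : (algebraMap Γ(X, U) (integralClosure Γ(X, U) K)).Finite :=
    RingHom.finite_algebraMap.mpr inferInstance
  have h2 : (g.fromNormalization.app U).hom =
      e.symm.toRingHom.comp (algebraMap Γ(X, U) (integralClosure Γ(X, U) K)) :=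
    RingHom.ext fun a => by
      apply e.injective
      rw [he, RingHom.comp_apply]
      exact (e.apply_symm_apply _).symm
  rw [h2]
  exact (RingHom.Finite.of_surjective _ e.symm.surjective).comp h1

/-- Height one primes go to height one primes in an integral extension of domains. -/
theorem height_eq_one_of_comap {A B : Type u} [CommRing A] [IsDomain A] [CommRing B] [IsDomain B]
    [Algebra A B] [Algebra.IsIntegral A B] (m : Ideal B) [m.IsPrime]
    (hm : (m.comap (algebraMap A B)).height = 1) (hinj : Function.Injective (algebraMap A B)) :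
    m.height = 1 := by
  have hbot : ∀ q : Ideal B, q.IsPrime → q.comap (algebraMap A B) = ⊥ → q = ⊥ := fun q _ h =>
    Ideal.eq_bot_of_comap_eq_bot (R := A) h
  refine le_antisymm ?_ (Order.one_le_iff_ne_zero.mpr fun h => ?_)
  · refine Ideal.height_le_iff.mpr fun q hq hqm => ?_
    haveI := hq
    have h1 := (Ideal.height_le_iff (p := m.comap (algebraMap A B)) (n := 1)).mp (le_of_eq hm)
      (q.comap (algebraMap A B)) inferInstance (Ideal.IsIntegral.comap_lt_comap hqm)
    rw [Nat.cast_one, Order.lt_one_iff, Ideal.height_eq_zero_iff_eq_bot] at h1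
    rw [Nat.cast_one, Order.lt_one_iff, Ideal.height_eq_zero_iff_eq_bot]
    exact hbot q hq h1
  · rw [Ideal.height_eq_zero_iff_eq_bot] at h
    subst h
    rw [show (⊥ : Ideal B).comap (algebraMap A B) = ⊥ from
      (RingHom.injective_iff_ker_eq_bot _).mp hinj, Ideal.height_bot] at hm
    exact zero_ne_one hm

theorem dim_stalk (hg : g = Spec.map (CommRingCat.ofHom φ) ≫ X.fromSpecStalk (genericPoint X))
    [QuasiCompact g] [QuasiSeparated g]
    (hX : ∀ x : X, IsClosed ({x} : Set X) → ringKrullDim (X.presheaf.stalk x) = 1)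
    (x' : g.normalization) (hx' : IsClosed ({x'} : Set g.normalization)) :
    ringKrullDim (g.normalization.presheaf.stalk x') = 1 := by
  obtain ⟨_, ⟨U, hU, rfl⟩, hxU, -⟩ :=
    X.isBasis_affineOpens.exists_subset_of_mem_open (Set.mem_univ (g.fromNormalization x')) isOpen_univ
  have hx : IsClosed ({g.fromNormalization x'} : Set X) := by
    rw [← Set.image_singleton]
    exact g.fromNormalization.isClosedMap _ hx'
  haveI : Nonempty U := ⟨⟨_, hxU⟩⟩
  haveI : Nonempty ↥(g.fromNormalization ⁻¹ᵁ U) := ⟨⟨x', hxU⟩⟩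
  obtain ⟨e, he, -⟩ := exists_equiv hg hU
  let V := g.fromNormalization ⁻¹ᵁ U
  letI := (g.fromNormalization.app U).hom.toAlgebra
  haveI : Algebra.IsIntegral Γ(X, U) Γ(g.normalization, g.fromNormalization ⁻¹ᵁ U) :=
    algebraMap_isIntegral_iff.mp (IsIntegralHom.isIntegral_app g.fromNormalization U hU)
  have hinj : Function.Injective (algebraMap Γ(X, U) Γ(g.normalization, g.fromNormalization ⁻¹ᵁ U)) := by
    letI := (φ.comp (X.germToFunctionField U).hom).toAlgebra
    intro a b hab
    have h1 : e ((g.fromNormalization.app U).hom a) = e ((g.fromNormalization.app U).hom b) := congrArg e hab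
    rw [he, he] at h1
    exact (φ.injective.comp (Scheme.germToFunctionField_injective X U)) (congrArg Subtype.val h1)
  have hm := IsAffineOpen.comap_primeIdealOf_appLE (f := g.fromNormalization) U hU
    (g.fromNormalization ⁻¹ᵁ U) (hU.preimage _) le_rfl (x := x') hxU
  rw [← Scheme.Hom.app_eq_appLE] at hm
  letI := X.presheaf.algebra_section_stalk (⟨g.fromNormalization x', hxU⟩ : U)
  haveI := hU.isLocalization_stalk ⟨g.fromNormalization x', hxU⟩
  letI := g.normalization.presheaf.algebra_section_stalk (⟨x', hxU⟩ : ↥(g.fromNormalization ⁻¹ᵁ U))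
  haveI := (hU.preimage g.fromNormalization).isLocalization_stalk ⟨x', hxU⟩
  rw [IsLocalization.AtPrime.ringKrullDim_eq_height
    ((hU.preimage g.fromNormalization).primeIdealOf ⟨x', hxU⟩).asIdeal]
  have hd := hX _ hx
  rw [IsLocalization.AtPrime.ringKrullDim_eq_height
    (hU.primeIdealOf ⟨g.fromNormalization x', hxU⟩).asIdeal, ← hm] at hd
  haveI : IsDomain Γ(g.normalization, g.fromNormalization ⁻¹ᵁ U) :=
    letI := (φ.comp (X.germToFunctionField U).hom).toAlgebra
    e.toMulEquiv.isDomain _
  rw [height_eq_one_of_comap (A := Γ(X, U)) _ (by exact_mod_cast hd) hinj]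
  rfl

end Groth.L18.NormField
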