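import Mathlib.AlgebraicGeometry.Stalk
import Mathlib.AlgebraicGeometry.FunctionField
import Mathlib.AlgebraicGeometry.Noetherian
import Mathlib.RingTheory.Ideal.Height
import Mathlib.RingTheory.Ideal.KrullsHeightTheorem
import Mathlib.RingTheory.DiscreteValuationRing.TFAE
import Mathlib.RingTheory.Valuation.ValuationSubring
import Mathlib.RingTheory.KrullDimension.Field

/-!
Points of irreducible one-dimensional schemes.
-/

set_option autoImplicit false
set_option linter.style.haveILetI false
universe u

open CategoryTheory AlgebraicGeometry TopologicalSpace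

namespace Groth.L18.Curve

variable {X : Scheme.{u}}

theorem eq_or_eq_genericPoint_of_specializes [IrreducibleSpace X] {x y : X} (h : x ⤳ y)
    (hy : ringKrullDim (X.presheaf.stalk y) ≤ 1) : x = y ∨ x = genericPoint X := by
  by_contra hne
  push Not at hne
  obtain ⟨hxy, hxg⟩ := hne
  obtain ⟨P, rfl⟩ : x ∈ Set.range (X.fromSpecStalk y) := by rw [Scheme.range_fromSpecStalk]; exact h
  obtain ⟨Q, hQ⟩ : genericPoint X ∈ Set.range (X.fromSpecStalk y) := by
    rw [Scheme.range_fromSpecStalk]; exact (genericPoint_spec X).specializes trivial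
  have hle : Q.asIdeal ≤ P.asIdeal := by
    refine (PrimeSpectrum.le_iff_specializes Q P).mpr ?_
    refine (X.fromSpecStalk y).isEmbedding.toIsInducing.specializes_iff.mp ?_
    rw [hQ]
    exact (genericPoint_spec X).specializes trivial
  have hQP : Q.asIdeal ≠ P.asIdeal := fun e => hxg (by rw [show P = Q from (PrimeSpectrum.ext e).symm, hQ])
  have hPm : P.asIdeal < IsLocalRing.maximalIdeal (X.presheaf.stalk y) := by
    refine lt_of_le_of_ne (IsLocalRing.le_maximalIdeal P.isPrime.ne_top) fun e => hxy ?_
    rw [show P = IsLocalRing.closedPoint (X.presheaf.stalk y) from PrimeSpectrum.ext e]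
    exact Scheme.fromSpecStalk_closedPoint
  have hm : (IsLocalRing.maximalIdeal (X.presheaf.stalk y)).height ≤ (1 : ℕ) := by
    have h1 := IsLocalRing.maximalIdeal_height_eq_ringKrullDim (R := X.presheaf.stalk y)
    rw [← h1] at hy
    exact_mod_cast hy
  have hP := (Ideal.height_le_iff.mp hm) P.asIdeal P.isPrime hPm
  haveI := P.isPrime
  rw [Nat.cast_one, Order.lt_one_iff, Ideal.height_eq_zero_iff] at hP
  exact hQP (le_antisymm hle (hP.2 ⟨Q.isPrime, bot_le⟩ hle))

theorem not_isClosed_genericPoint [IrreducibleSpace X]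
    (hcurve : ∀ x : X, IsClosed ({x} : Set X) → ringKrullDim (X.presheaf.stalk x) = 1) :
    ¬ IsClosed ({genericPoint X} : Set X) := by
  intro hc
  have huniv : ({genericPoint X} : Set X) = Set.univ := by rw [← genericPoint_closure X, hc.closure_eq]
  haveI : Subsingleton (PrimeSpectrum (X.presheaf.stalk (genericPoint X))) := by
    refine ⟨fun P Q => (X.fromSpecStalk (genericPoint X)).isEmbedding.injective ?_⟩
    have hP : X.fromSpecStalk (genericPoint X) P ∈ ({genericPoint X} : Set X) := huniv ▸ trivial
    have hQ : X.fromSpecStalk (genericPoint X) Q ∈ ({genericPoint X} : Set X) := huniv ▸ trivial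
    exact hP.trans hQ.symm
  have h0 : ringKrullDim (X.presheaf.stalk (genericPoint X)) ≤ 0 := Order.krullDim_nonpos_of_subsingleton
  rw [hcurve _ hc] at h0
  exact not_le.mpr zero_lt_one h0

theorem eq_genericPoint_of_not_isClosed [IrreducibleSpace X] [CompactSpace X]
    (hcurve : ∀ x : X, IsClosed ({x} : Set X) → ringKrullDim (X.presheaf.stalk x) = 1)
    (x : X) (hx : ¬ IsClosed ({x} : Set X)) : x = genericPoint X := by
  obtain ⟨y, hy, hyc⟩ := (isClosed_closure (s := ({x} : Set X))).exists_closed_singleton
    ⟨x, subset_closure rfl⟩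
  exact (eq_or_eq_genericPoint_of_specializes (specializes_iff_mem_closure.mpr hy) (hcurve y hyc).le).resolve_left
    fun e => hx (e ▸ hyc)

theorem finite_of_forall_isClosed [NoetherianSpace X] {F : Set X} (hF : IsClosed F)
    (h : ∀ x ∈ F, IsClosed ({x} : Set X)) : F.Finite := by
  obtain ⟨S, hSf, hSc, hSi, rfl⟩ := NoetherianSpace.exists_finite_set_isClosed_irreducible hF
  refine hSf.sUnion fun t ht => ?_
  obtain ⟨η, hη⟩ := QuasiSober.sober (hSi t ht) (hSc t ht)
  have hηF : η ∈ ⋃₀ S := ⟨t, ht, hη.mem⟩
  rw [← hη.def, (h η hηF).closure_eq]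
  exact Set.finite_singleton η

/-- The local ring of a normal curve at a non-generic closed point is a valuation ring of the function field. -/
theorem exists_valuationSubring [IsIntegral X] [IsLocallyNoetherian X] (x : X)
    (hd : ringKrullDim (X.presheaf.stalk x) = 1) [IsIntegrallyClosed (X.presheaf.stalk x)] :
    ∃ R : ValuationSubring X.functionField, R ≠ ⊤ ∧
      (R : Set X.functionField) = Set.range (algebraMap (X.presheaf.stalk x) X.functionField) := by
  have hnf : ¬ IsField (X.presheaf.stalk x) := fun h => by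
    rw [ringKrullDim_eq_zero_of_isField h] at hd
    exact zero_ne_one hd
  haveI : IsDiscreteValuationRing (X.presheaf.stalk x) := by
    have ht : IsDiscreteValuationRing (X.presheaf.stalk x) ↔ IsIntegrallyClosed (X.presheaf.stalk x) ∧
        ∃! P : Ideal (X.presheaf.stalk x), P ≠ ⊥ ∧ P.IsPrime :=
      (IsDiscreteValuationRing.TFAE (X.presheaf.stalk x) hnf).out 0 3
    refine ht.mpr ⟨inferInstance, ?_⟩
    refine ⟨IsLocalRing.maximalIdeal _, ⟨fun h => hnf (IsLocalRing.isField_iff_maximalIdeal_eq.mpr h),
      inferInstance⟩, fun Q hQ => ?_⟩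
    by_contra hne
    haveI := hQ.2
    have hlt : Q < IsLocalRing.maximalIdeal (X.presheaf.stalk x) :=
      lt_of_le_of_ne (IsLocalRing.le_maximalIdeal hQ.2.ne_top) hne
    have hm : (IsLocalRing.maximalIdeal (X.presheaf.stalk x)).height ≤ (1 : ℕ) := by
      have h1 := IsLocalRing.maximalIdeal_height_eq_ringKrullDim (R := X.presheaf.stalk x)
      rw [hd] at h1
      exact_mod_cast h1.le
    have hQ0 := (Ideal.height_le_iff.mp hm) Q hQ.2 hlt
    rw [Nat.cast_one, Order.lt_one_iff, Ideal.height_eq_zero_iff_eq_bot] at hQ0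
    exact hQ.1 hQ0
  refine ⟨{ (algebraMap (X.presheaf.stalk x) X.functionField).range with
    mem_or_inv_mem' := fun z => ValuationRing.isInteger_or_isInteger (X.presheaf.stalk x) z }, ?_, rfl⟩
  intro htop
  refine hnf ((IsFractionRing.surjective_iff_isField (R := X.presheaf.stalk x) (K := X.functionField)).mp
    fun z => ?_)
  have hz : z ∈ (⊤ : ValuationSubring X.functionField) := ValuationSubring.mem_top z
  rw [← htop] at hz
  exact hz

end Groth.L18.Curve
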