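import Groth.Prelude.Def_KRR
import Groth.Agent.L18.AmpleGG
import Groth.Agent.L29.K.Sub
import Groth.Agent.L29.LocFree
import Groth.Agent.L29.DCoh.Amplitude
import Groth.Agent.L29.DCoh.TensorPerfect
import Groth.Agent.L20.ResAmple
import Groth.Agent.L21.Disc.Push
import Groth.Agent.L16.NegPow.Gen
import Groth.Agent.L15.Ref.Tensor

/-!
# Ample modules give ample line elements of the λ-ring of vector bundles
-/

set_option autoImplicit false
set_option backward.isDefEq.respectTransparency false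
set_option linter.style.haveILetI false
universe v u

open CategoryTheory CategoryTheory.Limits AlgebraicGeometry TopologicalSpace ZeroObject

noncomputable section

namespace Groth.L18.KRRAmple

open Groth.L22.CurveDeg.Det (IsBasisS)

variable {X : Scheme.{u}}

instance : (KRR.vbP X).IsClosedUnderIsomorphisms := ⟨fun e h => Groth.L29.LocFree.of_iso e h⟩

theorem cl_iso {M N : X.Modules} (e : M ≅ N) (h : FlatMod.IsFinLocFree M) : KRR.cl X M = KRR.cl X N :=
  Groth.L29.KSub.clSub_iso (KRR.vbP X) e (isZero_zero _) (Groth.L29.LocFree.of_isZero (isZero_zero _)) h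

theorem rank_unique {E : X.Modules} {x : X} {U V : X.Opens} {m n : ℕ} (hxU : x ∈ U) (hxV : x ∈ V)
    (i : E.restrict U.ι ≅ FlatMod.freeMod (↑U) m) (j : E.restrict V.ι ≅ FlatMod.freeMod (↑V) n) : m = n := by
  have key : ∀ (W : X.Opens) (r : ℕ), x ∈ W → (E.restrict W.ι ≅ FlatMod.freeMod (↑W) r) →
      Nonempty ((Fin r → X.presheaf.stalk x) ≃ₗ[X.presheaf.stalk x] E.presheaf.stalk x) := by
    intro W r hx k
    obtain ⟨s, hs⟩ := Groth.L17.FinLocBases.exists_isBasis E k
    have hη : x ∈ W.ι ''ᵁ ⊤ := ((Scheme.Hom.image_top_eq_opensRange W.ι).trans W.opensRange_ι).symm ▸ hx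
    have hb := IsBasisS.stalk (E := E) (e := s) (fun V h => hs V (homOfLE h)) _ hη
    exact ⟨LinearEquiv.ofBijective (Fintype.linearCombination (X.presheaf.stalk x)
      fun j => E.presheaf.germ (W.ι ''ᵁ ⊤) x hη (s j)) hb⟩
  obtain ⟨e₁⟩ := key U m hxU i
  obtain ⟨e₂⟩ := key V n hxV j
  have h := (e₁.trans e₂.symm).finrank_eq
  rwa [Module.finrank_fin_fun, Module.finrank_fin_fun] at h

/-- Locally free modules on connected schemes have constant rank. -/
theorem exists_rank [ConnectedSpace X] {E : X.Modules} (hE : FlatMod.IsFinLocFree E) :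
    ∃ n, FlatMod.IsFinLocFreeOfRank n E := by
  choose U n hxU i using hE
  have hn : IsLocallyConstant n := by
    refine (IsLocallyConstant.iff_exists_open n).2 fun x => ⟨U x, (U x).2, hxU x, fun y hy => ?_⟩
    exact rank_unique (hxU y) hy (i y).some (i x).some
  obtain ⟨x₀⟩ := (inferInstance : Nonempty X)
  refine ⟨n x₀, fun x => ⟨U x, hxU x, ?_⟩⟩
  rw [hn.apply_eq_of_preconnectedSpace x₀ x]
  exact i x

theorem isFinLocFree_of_rank {n : ℕ} {E : X.Modules} (h : FlatMod.IsFinLocFreeOfRank n E) :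
    FlatMod.IsFinLocFree E := fun x => by
  obtain ⟨U, hx, he⟩ := h x
  exact ⟨U, n, hx, he⟩

theorem isRankOne_of_isInvertible {L : X.Modules} (h : PicF.IsInvertible L) :
    FlatMod.IsFinLocFreeOfRank 1 L := fun x => by
  obtain ⟨U, hx, ⟨e⟩⟩ := h x
  exact ⟨U, hx, ⟨e ≪≫
    { hom := Sigma.ι (fun _ : Fin 1 => Coh.structureModule (↑U)) 0
      inv := Sigma.desc fun _ => 𝟙 _
      hom_inv_id := Sigma.ι_desc _ _
      inv_hom_id := Sigma.hom_ext _ _ fun b => by
        rw [Subsingleton.elim b 0, Sigma.ι_desc_assoc, Category.id_comp, Category.comp_id] }⟩⟩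

theorem isFinLocFree_freeMod (k : ℕ) : FlatMod.IsFinLocFree (FlatMod.freeMod X k) :=
  fun _ => ⟨⊤, k, trivial, ⟨Groth.L16.NegPow.freeRestrictIso _ _⟩⟩

variable {K : Type v} [CommRing K] [LambdaRing.LambdaOps K] {P : LambdaRing.PosStructure K}
  {φ : SGA6.Kvb X →+ K}

theorem phi_mul (hK : KRR.IsModel X K P φ) {E F : X.Modules} (hE : FlatMod.IsFinLocFree E)
    (hF : FlatMod.IsFinLocFree F) :
    φ (KRR.cl X E) * φ (KRR.cl X F) = φ (KRR.cl X (CohB1.tensorMod E F)) :=
  hK.map_mul E F hE hF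

theorem phi_freeMod (hK : KRR.IsModel X K P φ) : ∀ k : ℕ, φ (KRR.cl X (FlatMod.freeMod X k)) = (k : K)
  | 0 => by
    have hz : IsZero (FlatMod.freeMod X 0) := by
      rw [IsZero.iff_id_eq_zero]
      exact Sigma.hom_ext _ _ fun i => i.elim0
    rw [KRR.cl, Groth.L29.KSub.clSub_zero (KRR.vbP X) hz (isFinLocFree_freeMod 0), map_zero, Nat.cast_zero]
  | k + 1 => by
    let e : FlatMod.freeMod X k ⊞ Coh.structureModule X ≅ FlatMod.freeMod X (k + 1) :=
      { hom := biprod.desc (Sigma.desc fun i => Sigma.ι (fun _ : Fin (k + 1) => Coh.structureModule X) i.castSucc)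
          (Sigma.ι (fun _ : Fin (k + 1) => Coh.structureModule X) (Fin.last k))
        inv := Sigma.desc (Fin.lastCases biprod.inr
          fun i => Sigma.ι (fun _ : Fin k => Coh.structureModule X) i ≫ biprod.inl)
        hom_inv_id := by
          refine biprod.hom_ext' _ _ ?_ ?_
          · rw [biprod.inl_desc_assoc, Category.comp_id]
            refine Sigma.hom_ext _ _ fun i => ?_
            rw [Sigma.ι_desc_assoc, Sigma.ι_desc, Fin.lastCases_castSucc]
          · rw [biprod.inr_desc_assoc, Category.comp_id, Sigma.ι_desc, Fin.lastCases_last]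
        inv_hom_id := by
          refine Sigma.hom_ext _ _ (Fin.lastCases ?_ fun i => ?_)
          · rw [Sigma.ι_desc_assoc, Fin.lastCases_last, biprod.inr_desc, Category.comp_id]
          · rw [Sigma.ι_desc_assoc, Fin.lastCases_castSucc, Category.assoc, biprod.inl_desc, Sigma.ι_desc,
              Category.comp_id] }
    have h1 := isFinLocFree_freeMod (X := X) k
    have h2 : FlatMod.IsFinLocFree (Coh.structureModule X) :=
      Groth.L20.ResDescent.isFinLocFree_of_isInvertible (Groth.L18.Ample.isInvertible_structureModule X)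
    have h3 := Groth.L29.LocFree.biprod h1 h2
    rw [← cl_iso e h3, KRR.cl, Groth.L29.KSub.clSub_biprod (KRR.vbP X) h1 h2 h3, map_add, Nat.cast_succ]
    exact congrArg₂ (· + ·) (phi_freeMod hK k) hK.map_one

theorem phi_pow (hK : KRR.IsModel X K P φ) {L : X.Modules} (hL : PicF.IsInvertible L) :
    ∀ n : ℕ, φ (KRR.cl X L) ^ n = φ (KRR.cl X (CohB1.tensorPow L n))
  | 0 => by
    rw [pow_zero]
    exact hK.map_one.symm
  | n + 1 => by
    rw [pow_succ, phi_pow hK hL n]
    exact phi_mul hK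
      (Groth.L20.ResDescent.isFinLocFree_of_isInvertible (Groth.L18.Ample.isInvertible_tensorPow hL n))
      (Groth.L20.ResDescent.isFinLocFree_of_isInvertible hL)

/-- An ample invertible module gives an ample line element. -/
theorem isAmpleElt [CompactSpace X] [ConnectedSpace X] (hK : KRR.IsModel X K P φ) {L : X.Modules}
    (hL : CohB1.IsAmple L) : KRR.IsAmpleElt P (φ (KRR.cl X L)) := by
  have h1 := isRankOne_of_isInvertible hL.1
  have hline : φ (KRR.cl X L) ∈ P.pos := (hK.mem_pos_iff _).2 ⟨1, L, le_rfl, h1, rfl⟩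
  refine ⟨⟨hline, hK.aug_cl 1 L h1⟩, fun x => ?_⟩
  obtain ⟨e, f, he, hf, rfl⟩ := P.exists_sub x
  obtain ⟨r, F, -, hF, rfl⟩ := (hK.mem_pos_iff f).1 hf
  have hF' := isFinLocFree_of_rank hF
  obtain ⟨n₀, hn₀⟩ := Groth.L18.Ample.exists_forall_isGloballyGenerated hL F
    (Groth.L16.NegPow.isCoh_of_isFinLocFree hF')
  refine ⟨n₀ + 1, fun n hn => ?_⟩
  have hLn := Groth.L18.Ample.isInvertible_tensorPow hL.1 n
  have hT := Groth.L29.DC.isFinLocFree_tensor hF' (Groth.L20.ResDescent.isFinLocFree_of_isInvertible hLn)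
  obtain ⟨ι, p, hp⟩ := hn₀ n (by omega)
  obtain ⟨k, q, hq⟩ := Groth.L16.NegPow.exists_finite_epi (Groth.L16.NegPow.isCoh_of_isFinLocFree hT) p
  have hker := Groth.L29.DC.isFinLocFree_kernel_of_epi q (isFinLocFree_freeMod k) hT
  have hseq : (ShortComplex.mk (kernel.ι q) q (kernel.condition q)).ShortExact :=
    { exact := ShortComplex.exact_of_f_is_kernel _ (kernelIsKernel q)
      mono_f := inferInstance
      epi_g := hq }
  have hcl := congrArg φ (Groth.L29.KSub.clSub_shortExact (KRR.vbP X) hseq hker (isFinLocFree_freeMod k) hT)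
  have h2 : FlatMod.IsFinLocFree (Coh.structureModule X) :=
    Groth.L20.ResDescent.isFinLocFree_of_isInvertible (Groth.L18.Ample.isInvertible_structureModule X)
  have hK1 := Groth.L29.LocFree.biprod hker h2
  obtain ⟨d, hd⟩ := exists_rank hK1
  obtain ⟨d₀, hd₀⟩ := exists_rank hker
  have hsum : φ (KRR.cl X (kernel q ⊞ Coh.structureModule X)) = φ (KRR.cl X (kernel q)) + 1 := by
    rw [KRR.cl, Groth.L29.KSub.clSub_biprod (KRR.vbP X) hker h2 hK1, map_add]
    exact congrArg (_ + ·) hK.map_one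
  have hd1 : 1 ≤ d := by
    have h := congrArg P.aug hsum
    rw [hK.aug_cl _ _ hd, map_add, hK.aug_cl _ _ hd₀, map_one] at h
    omega
  have hpos : φ (KRR.cl X (kernel q)) + 1 ∈ P.pos := (hK.mem_pos_iff _).2 ⟨d, _, hd1, hd, hsum⟩
  have hun : φ (KRR.cl X L) ^ n * e ∈ P.pos := by
    obtain ⟨j, rfl⟩ : ∃ j, n = j + 1 := ⟨n - 1, by omega⟩
    clear hn hLn hT p hp q hq hker hseq hcl hK1 hd hd₀ hsum hd1 hpos
    induction j with
    | zero => rw [pow_one]; exact P.mul_mem _ _ hline he
    | succ j ih => rw [pow_succ', mul_assoc]; exact P.mul_mem _ _ hline ih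
  refine ⟨φ (KRR.cl X L) ^ n * e + (φ (KRR.cl X (kernel q)) + 1), k + 1, P.add_mem _ _ hun hpos, ?_⟩
  have hcl' : (k : K) = φ (KRR.cl X (kernel q)) + φ (KRR.cl X (CohB1.tensorMod F (CohB1.tensorPow L n))) := by
    rw [← phi_freeMod hK k, ← map_add]
    exact hcl
  rw [mul_sub, phi_pow hK hL.1, mul_comm _ (φ (KRR.cl X F)),
    phi_mul hK hF' (Groth.L20.ResDescent.isFinLocFree_of_isInvertible hLn), Nat.cast_succ, hcl']
  ring

end Groth.L18.KRRAmple
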