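import Groth.Agent.L18.GrTildeQCoh
import Groth.Agent.L16.CohKernel

/-!
# `M~` is of finite type under (TF); degree-`d` sections generating `O(d)`
-/

set_option autoImplicit false
universe u

open CategoryTheory AlgebraicGeometry TopologicalSpace Opposite

noncomputable section

namespace Groth.L18.GrT

open Groth.L16.ProjTwist (one_notMem notMem_pow notMem_mul image_le sc)

variable {R A : Type u} [CommRing R] [CommRing A] [Algebra R A] {𝒜 : ℕ → Submodule R A}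
  [GradedAlgebra 𝒜]

theorem tildeFT_iff (S : CommRingCat.{u}) (N : ModuleCat.{u} S) :
    CohB1.IsFT (tilde N) ↔ Module.Finite S N := by
  constructor
  · intro h
    haveI : Coh.IsQCoh (tilde N) := inferInstanceAs (tilde N).IsQuasicoherent
    obtain ⟨σ, hσ⟩ := Groth.L16.CohKernel.exists_finite_generators (tilde N) h
    exact Groth.L16.CohKernel.finite_of_generators N σ
  · intro h
    exact (Groth.L16.CohKernel.isCoh_of_tilde_charts (tilde N) fun x =>
      ⟨S, 𝟙 _, inferInstance, N, by simp, h, ⟨Scheme.Modules.restrictFunctorId.app (tilde N)⟩⟩).2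

theorem notMem_iff_span (hgen : (HomogeneousIdeal.irrelevant 𝒜).toIdeal = Ideal.span (𝒜 1 : Set A))
    {d : ℕ} (f : 𝒜 d) (p : ProjectiveSpectrum 𝒜) (g : Twist.twistAt 𝒜 (d : ℤ) p)
    (hg : (g : Twist.Loc 𝒜 p) = Localization.mk f.1 ⟨1, one_notMem 𝒜 p⟩) :
    f.1 ∉ p.asHomogeneousIdeal ↔ Submodule.span (Twist.A0 𝒜 p) {g} = ⊤ := by
  rw [Submodule.span_singleton_eq_top_iff]
  constructor
  · intro hf ⟨q, hq⟩
    suffices h : ∃ c : Twist.A0 𝒜 p, ((c • g : Twist.twistAt 𝒜 (d : ℤ) p) : Twist.Loc 𝒜 p) = q from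
      h.imp fun c hc => Subtype.ext hc
    induction hq using Submodule.span_induction with
    | mem q hq =>
      obtain ⟨i, j, a, s, hs, hij, rfl⟩ := hq
      refine ⟨HomogeneousLocalization.mk ⟨i, a, ⟨s.1 * f.1, ?_⟩, notMem_mul 𝒜 hs hf⟩, ?_⟩
      · rw [show i = j + d by omega]; exact SetLike.mul_mem_graded s.2 f.2
      · rw [Twist.coe_smul_val, HomogeneousLocalization.val_mk, hg, Localization.mk_mul]
        rw [Localization.mk_eq_mk_iff, Localization.r_iff_exists]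
        exact ⟨1, by simp only [OneMemClass.coe_one, one_mul, Submonoid.coe_mul, mul_one]; ring⟩
    | zero => exact ⟨0, by rw [Twist.coe_smul_val, HomogeneousLocalization.val_zero, zero_mul]⟩
    | add a b _ _ ha hb =>
      obtain ⟨ca, hca⟩ := ha
      obtain ⟨cb, hcb⟩ := hb
      exact ⟨ca + cb, by rw [Twist.coe_smul_val] at hca hcb ⊢; rw [HomogeneousLocalization.val_add, add_mul, hca, hcb]⟩
    | smul c a _ ha =>
      obtain ⟨ca, hca⟩ := ha
      exact ⟨c * ca, by rw [Twist.coe_smul_val] at hca ⊢; rw [HomogeneousLocalization.val_mul, mul_assoc, hca, Algebra.smul_def, HomogeneousLocalization.algebraMap_apply]⟩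
  · intro hspan hf
    obtain ⟨t, ht, htp⟩ : ∃ t ∈ 𝒜 1, t ∉ p.asHomogeneousIdeal := by
      by_contra hne
      push Not at hne
      exact p.not_irrelevant_le (show (HomogeneousIdeal.irrelevant 𝒜).toIdeal ≤ p.asHomogeneousIdeal.toIdeal by
        rw [hgen, Ideal.span_le]; exact hne)
    have htd : t ^ d ∈ 𝒜 d := by simpa using SetLike.pow_mem_graded d ht
    obtain ⟨c, hc⟩ := hspan ⟨Localization.mk (t ^ d) ⟨1, one_notMem 𝒜 p⟩, Submodule.subset_span
      ⟨d, 0, ⟨t ^ d, htd⟩, ⟨1, SetLike.GradedOne.one_mem⟩, _, by simp, rfl⟩⟩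
    obtain ⟨⟨k, r, s, hs⟩, rfl⟩ := c.mk_surjective
    have h1 := congrArg Subtype.val hc
    rw [Twist.coe_smul_val, HomogeneousLocalization.val_mk, hg, Localization.mk_mul] at h1
    rw [Localization.mk_eq_mk_iff, Localization.r_iff_exists] at h1
    obtain ⟨w, hw⟩ := h1
    simp only [Submonoid.coe_mul, mul_one, one_mul] at hw
    have hmem : (w : A) * (r.1 * f.1) ∈ p.asHomogeneousIdeal.toIdeal :=
      Ideal.mul_mem_left _ _ (Ideal.mul_mem_left _ _ hf)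
    rw [hw] at hmem
    exact notMem_mul 𝒜 w.2 (notMem_mul 𝒜 hs (notMem_pow 𝒜 htp d)) hmem

theorem mem_basicOpen_iff_span (hgen : (HomogeneousIdeal.irrelevant 𝒜).toIdeal = Ideal.span (𝒜 1 : Set A))
    {d : ℕ} (f : 𝒜 d) (p : ProjectiveSpectrum 𝒜) :
    p ∈ ProjectiveSpectrum.basicOpen 𝒜 (f : A) ↔
      Submodule.span (Twist.A0 𝒜 p) {(Twist.globalOf 𝒜 f).1 ⟨p, trivial⟩} = ⊤ :=
  (ProjectiveSpectrum.mem_basicOpen 𝒜 (f : A) p).trans
    (notMem_iff_span hgen f p ((Twist.globalOf 𝒜 f).1 ⟨p, trivial⟩) rfl)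

section FT

variable {M : Type u} [AddCommGroup M] [Module R M] [Module A M] [IsScalarTower R A M]
  {ℳ : ℕ → Submodule R M} [DirectSum.Decomposition ℳ] [SetLike.GradedSMul 𝒜 ℳ]
  {d : ℕ} {f : A} (hd : 0 < d) (hf : f ∈ 𝒜 d)

/-- The fraction `a / f ^ Q` on the chart. -/
def sec (Q : ℕ) (a : M) (ha : a ∈ ℳ (Q * d)) : Γ(chartMod (ℳ := ℳ) 0 hd hf, ⊤) :=
  gen (n := 0) (⟨a, ha⟩ : ℳ (Q * d)) (⟨f ^ Q, by simpa using SetLike.pow_mem_graded Q hf⟩ : 𝒜 (Q * d))
    (by simp) (Proj.awayι 𝒜 f hf hd ''ᵁ ⊤) fun x =>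
      notMem_pow 𝒜 ((Proj.mem_basicOpen _ _ _).1 (image_le hd hf ⊤ x.2)) Q

lemma sec_val (Q : ℕ) (a : M) (ha : a ∈ ℳ (Q * d))
    (x : (Proj.awayι 𝒜 f hf hd ''ᵁ ⊤ : Opens (ProjectiveSpectrum.top 𝒜))) :
    ((toFun' 0 hd hf (sec hd hf Q a ha)).1 x).1 = LocalizedModule.mk a ⟨f ^ Q,
      notMem_pow 𝒜 ((Proj.mem_basicOpen _ _ _).1 (image_le hd hf ⊤ x.2)) Q⟩ := rfl

lemma sec_ext {s t : Γ(chartMod (ℳ := ℳ) 0 hd hf, ⊤)}
    (h : ∀ x, ((toFun' 0 hd hf s).1 x).1 = ((toFun' 0 hd hf t).1 x).1) : s = t := sect_ext (n := 0) h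

lemma sec_add (Q : ℕ) (a b : M) (ha : a ∈ ℳ (Q * d)) (hb : b ∈ ℳ (Q * d)) :
    sec hd hf Q (a + b) (add_mem ha hb) = sec hd hf Q a ha + sec hd hf Q b hb := by
  refine sec_ext hd hf fun x => ?_
  refine Eq.trans ?_ (show ((toFun' 0 hd hf (sec hd hf Q a ha)).1 x).1 + ((toFun' 0 hd hf (sec hd hf Q b hb)).1 x).1 = _ from rfl)
  refine (sec_val hd hf Q _ (add_mem ha hb) x).trans (Eq.trans ?_
    (congrArg₂ (· + ·) (sec_val hd hf Q a ha x) (sec_val hd hf Q b hb x)).symm)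
  rw [LocalizedModule.mk_add_mk, LocalizedModule.mk_eq]
  exact ⟨1, by simp [Submonoid.smul_def, smul_add, smul_smul]⟩

lemma sec_zero (Q : ℕ) : sec (ℳ := ℳ) hd hf Q 0 (zero_mem _) = 0 :=
  sec_ext hd hf fun x => (LocalizedModule.zero_mk _ : _)

lemma sc_smul_sec (k : ℕ) (b : A) (hb : b ∈ 𝒜 (k • d)) (Q : ℕ) (a : M) (ha : a ∈ ℳ (Q * d)) (Q' : ℕ) (hQ : Q' = k + Q)
    (hba : b • a ∈ ℳ (Q' * d)) :
    sec hd hf Q' (b • a) hba = sc hf k b hb • sec hd hf Q a ha := by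
  refine sec_ext hd hf fun x => ?_
  refine Eq.trans ?_ (smul_val 0 hd hf k b hb _ x).symm
  refine (sec_val hd hf Q' _ hba x).trans (Eq.trans ?_ (congrArg (_ • ·) (sec_val hd hf Q a ha x)).symm)
  rw [LocalizedModule.mk_smul_mk, LocalizedModule.mk_eq]
  exact ⟨1, by simp [Submonoid.smul_def, hQ, pow_add]⟩

theorem finite_chartMod (hfg : (HomogeneousIdeal.irrelevant 𝒜).toIdeal.FG)
    (hTF : ∃ n : ℕ, (Submodule.span A (⋃ k ∈ Set.Ici n, (ℳ k : Set M))).FG) :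
    Module.Finite (HomogeneousLocalization.Away 𝒜 f) Γ(chartMod (ℳ := ℳ) 0 hd hf, ⊤) := by
  classical
  haveI := (Groth.L18.finiteType_iff_irrelevant_fg 𝒜).1 hfg
  obtain ⟨T, hT, hT'⟩ := GradedAlgebra.exists_finset_adjoin_eq_top_and_homogeneous_ne_zero 𝒜
  choose! δ hδ0 hδ using hT'
  obtain ⟨n₀, hn₀⟩ := hTF
  obtain ⟨G, hG, hspan⟩ := (Submodule.fg_span_iff_fg_span_finset_subset _).1 hn₀
  choose! ε hε hεm using fun g (hg : g ∈ G) => Set.mem_iUnion₂.1 (hG hg)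
  let E : G × (T → Fin d) → ℕ := fun i => (∑ e : T, (i.2 e).1 * δ e.1) + ε i.1.1
  let mon : G × (T → Fin d) → M := fun i => (∏ e : T, e.1 ^ (i.2 e).1) • i.1.1
  have hmon : ∀ i, mon i ∈ ℳ (E i) := fun i =>
    SetLike.GradedSMul.smul_mem (SetLike.prod_mem_graded 𝒜 (fun e : T => (i.2 e).1 * δ e.1) (fun e : T => e.1 ^ (i.2 e).1)
      fun e _ => by simpa using SetLike.pow_mem_graded (i.2 e).1 (hδ e.1 e.2)) (hεm i.1.1 i.1.2)
  let gs : G × (T → Fin d) → Γ(chartMod (ℳ := ℳ) 0 hd hf, ⊤) := fun i =>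
    if h : d ∣ E i then sec hd hf (E i / d) (mon i) (by rw [Nat.div_mul_cancel h]; exact hmon i) else 0
  let S := Submodule.span (HomogeneousLocalization.Away 𝒜 f) (Set.range gs)
  have key : ∀ (g : G) (N Q : ℕ), N + ε g.1 = Q * d → ∀ c : A, c ∈ 𝒜 N →
      ∀ hc : c • g.1 ∈ ℳ (Q * d), sec hd hf Q (c • g.1) hc ∈ S := by
    intro g N Q hNQ c hcN hc
    have hdeg : ∀ c : A, c ∈ 𝒜 N → c • g.1 ∈ ℳ (Q * d) := fun c h =>
      hNQ ▸ SetLike.GradedSMul.smul_mem h (hεm g.1 g.2)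
    suffices H : ∀ c ∈ Submodule.span (𝒜 0) {x | ∃ v : A → ℕ, (∑ e ∈ T, v e * δ e) = N ∧ x = ∏ e ∈ T, e ^ v e},
        ∃ h : c ∈ 𝒜 N, sec hd hf Q (c • g.1) (hdeg c h) ∈ S from
      (H c (Groth.L18.mem_span_monomials 𝒜 T δ hδ hT N hcN)).2
    intro c hc
    induction hc using Submodule.span_induction with
    | zero =>
      refine ⟨zero_mem _, ?_⟩
      simp only [zero_smul]
      rw [sec_zero]
      exact zero_mem _
    | add a b _ _ ha hb =>
      refine ⟨add_mem ha.1 hb.1, ?_⟩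
      simp only [add_smul]
      rw [sec_add hd hf Q _ _ (hdeg a ha.1) (hdeg b hb.1)]
      exact add_mem ha.2 hb.2
    | smul r a _ ha =>
      refine ⟨Groth.L18.smul_mem_degree 𝒜 r ha.1, ?_⟩
      have e : r • a = r.1 * a := Algebra.smul_def _ _
      simp only [e, mul_smul]
      rw [sc_smul_sec hd hf 0 r.1 (by simpa using r.2) Q _ (hdeg a ha.1) Q (zero_add Q).symm]
      exact S.smul_mem _ ha.2
    | mem x hx =>
      obtain ⟨v, hv, rfl⟩ := hx
      let i : G × (T → Fin d) := ⟨g, fun e => ⟨v e.1 % d, Nat.mod_lt _ hd⟩⟩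
      let k := ∑ e : T, δ e.1 * (v e.1 / d)
      let b : A := ∏ e : T, e.1 ^ (v e.1 / d * d)
      have hsum : k * d + E i = Q * d := by
        have h1 : ∀ e : T, δ e.1 * (v e.1 / d) * d + v e.1 % d * δ e.1 = v e.1 * δ e.1 := fun e =>
          calc δ e.1 * (v e.1 / d) * d + v e.1 % d * δ e.1 = δ e.1 * (d * (v e.1 / d) + v e.1 % d) := by ring
            _ = v e.1 * δ e.1 := by rw [Nat.div_add_mod]; ring
        rw [← hNQ, ← hv, ← Finset.sum_coe_sort T (fun e => v e * δ e)]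
        simp only [k, E, i, Finset.sum_mul, ← add_assoc, ← Finset.sum_add_distrib, h1]
      have hdvd : d ∣ E i := (Nat.dvd_add_right ⟨k, mul_comm k d⟩).1 (hsum ▸ ⟨Q, mul_comm Q d⟩)
      have hb : b ∈ 𝒜 (k • d) := by
        rw [smul_eq_mul, Finset.sum_mul]
        refine SetLike.prod_mem_graded 𝒜 (fun e : T => δ e.1 * (v e.1 / d) * d) (fun e : T => e.1 ^ (v e.1 / d * d))
          fun e _ => ?_
        have h2 := SetLike.pow_mem_graded (v e.1 / d * d) (hδ e.1 e.2)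
        rwa [smul_eq_mul, show v e.1 / d * d * δ e.1 = δ e.1 * (v e.1 / d) * d by ring] at h2
      have hmul : (∏ e ∈ T, e ^ v e) • g.1 = b • mon i := by
        rw [← Finset.prod_coe_sort T, smul_smul, ← Finset.prod_mul_distrib]
        congr 1
        refine Finset.prod_congr rfl fun e _ => ?_
        rw [← pow_add, Nat.div_add_mod']
      refine ⟨hv ▸ SetLike.prod_mem_graded 𝒜 (fun e => v e * δ e) (fun e => e ^ v e)
        (fun e he => by simpa using SetLike.pow_mem_graded (v e) (hδ e he)), ?_⟩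
      simp only [hmul]
      rw [sc_smul_sec hd hf k b hb (E i / d) (mon i) (by rw [Nat.div_mul_cancel hdvd]; exact hmon i) Q
        (Nat.eq_of_mul_eq_mul_right hd (by rw [add_mul, Nat.div_mul_cancel hdvd, hsum]))]
      refine S.smul_mem _ (Submodule.subset_span ⟨i, ?_⟩)
      simp only [gs, dif_pos hdvd]
  refine ⟨⟨Finset.univ.image gs, top_le_iff.1 fun s _ => ?_⟩⟩
  rw [Finset.coe_image, Finset.coe_univ, Set.image_univ]
  obtain ⟨K, m, a, ha, hm, hs⟩ := exists_eq_mk hd hf (U := Proj.awayι 𝒜 f hf hd ''ᵁ ⊤)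
    (fun x => by
      change x ∈ Proj.awayι 𝒜 f hf hd ''ᵁ ⊤ ↔ _
      rw [Scheme.Hom.image_top_eq_opensRange, Proj.opensRange_awayι]
      exact Proj.mem_basicOpen _ _ _) (toFun' 0 hd hf s)
  have hmK : m = K * d := by omega
  let Q := n₀ + K
  let D := Q * d
  have hfa : f ^ n₀ • a ∈ ℳ D := by
    have h0 : f ^ n₀ ∈ 𝒜 (n₀ • d) := SetLike.pow_mem_graded _ hf
    have := SetLike.GradedSMul.smul_mem h0 ha
    rwa [smul_eq_mul, vadd_eq_add, hmK, ← add_mul] at this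
  have hD : n₀ ≤ D := le_trans (Nat.le_mul_of_pos_right _ hd) (Nat.mul_le_mul_right _ (Nat.le_add_right _ _))
  obtain ⟨c, -, hc⟩ := Submodule.mem_span_finset.1
    (show f ^ n₀ • a ∈ Submodule.span A (G : Set M) from
      hspan ▸ Submodule.subset_span (Set.mem_iUnion₂.2 ⟨D, hD, hfa⟩))
  let t : M → M := fun g => (DirectSum.decompose ℳ (c g • g) D : M)
  have hfa' : f ^ n₀ • a = ∑ g ∈ G, t g := by
    conv_lhs => rw [← DirectSum.decompose_of_mem_same ℳ hfa, ← hc]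
    rw [DirectSum.decompose_sum, DFinsupp.finsetSum_apply, AddSubmonoidClass.coe_finsetSum]
  have ht : ∀ g ∈ G, ∀ h : t g ∈ ℳ (Q * d), sec hd hf Q (t g) h ∈ S := by
    intro g hg h
    by_cases hle : ε g ≤ D
    · have e : t g = GradedRing.proj 𝒜 (D - ε g) (c g) • g := by
        simp only [t]
        rw [Groth.L18.decompose_smul_of_mem 𝒜 ℳ (hεm g hg), if_pos hle]
      simp only [e]
      exact key ⟨g, hg⟩ _ Q (Nat.sub_add_cancel hle) _ (Groth.L18.proj_mem 𝒜 _ _) _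
    · have e : t g = 0 := by
        simp only [t]
        rw [Groth.L18.decompose_smul_of_mem 𝒜 ℳ (hεm g hg), if_neg hle]
      simp only [e]
      rw [sec_zero]
      exact zero_mem _
  have hs' : s = sec hd hf Q (f ^ n₀ • a) hfa := by
    refine sec_ext hd hf fun x => (hs x).trans ?_
    refine Eq.trans ?_ (sec_val hd hf Q _ hfa x).symm
    rw [LocalizedModule.mk_eq]
    exact ⟨1, by simp [Q, Submonoid.smul_def, smul_smul, pow_add, mul_comm]⟩
  have hsum : ∀ (G' : Finset M), G' ⊆ G → ∀ h : ∑ g ∈ G', t g ∈ ℳ (Q * d), sec hd hf Q (∑ g ∈ G', t g) h ∈ S := by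
    intro G'
    induction G' using Finset.induction with
    | empty => intro _ h; simp only [Finset.sum_empty]; rw [sec_zero]; exact zero_mem _
    | insert g G'' hg ih =>
      intro hsub h
      rw [Finset.insert_subset_iff] at hsub
      have h1 : t g ∈ ℳ (Q * d) := SetLike.coe_mem _
      have h2 : ∑ g ∈ G'', t g ∈ ℳ (Q * d) := sum_mem fun _ _ => SetLike.coe_mem _
      simp only [Finset.sum_insert hg]
      rw [sec_add hd hf Q _ _ h1 h2]
      exact add_mem (ht g hsub.1 h1) (ih hsub.2 h2)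
  rw [hs']
  simp only [hfa']
  exact hsum G subset_rfl _

theorem isFT_tilde (hfg : (HomogeneousIdeal.irrelevant 𝒜).toIdeal.FG)
    (hTF : ∃ n : ℕ, (Submodule.span A (⋃ k ∈ Set.Ici n, (ℳ k : Set M))).FG) :
    CohB1.IsFT (GrTilde.tilde 𝒜 ℳ 0) := by
  refine (Groth.L16.CohKernel.isCoh_of_tilde_charts _ fun x => ?_).2
  obtain ⟨i, g, hi, hg, hgx⟩ := exists_hom_pos (show ProjectiveSpectrum 𝒜 from x)
  haveI := (isIso_fromTildeΓ_iff_isLocalizing (chartMod (ℳ := ℳ) 0 hi hg)).2 (isLocalizing_chartMod (ℳ := ℳ) 0 hi hg)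
  refine ⟨.of (HomogeneousLocalization.Away 𝒜 g), Proj.awayι 𝒜 g hg hi, inferInstance, _, ?_, ?_,
    ⟨(asIso (Scheme.Modules.fromTildeΓ (R := .of (HomogeneousLocalization.Away 𝒜 g)) (chartMod (ℳ := ℳ) 0 hi hg))).symm⟩⟩
  · rw [Proj.opensRange_awayι]
    exact (Proj.mem_basicOpen _ _ _).2 hgx
  · exact finite_chartMod hi hg hfg hTF

end FT

end Groth.L18.GrT
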