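import Groth.Agent.L21.P1.Comb
import Groth.Agent.L20.ResDescent
import Groth.Agent.L18.LocFreeFP
import Groth.Agent.L20.ModStalk
import Mathlib.LinearAlgebra.Matrix.Determinant.Basic
import Mathlib.Topology.Sheaves.SheafCondition.UniqueGluing

/-!
# A locally free module is free near a finite set of points of an affine open
-/

set_option autoImplicit false
set_option linter.style.haveILetI false
set_option backward.isDefEq.respectTransparency false
set_option backward.isDefEq.respectTransparency.types false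

universe u

open CategoryTheory CategoryTheory.Limits AlgebraicGeometry TopologicalSpace Opposite

noncomputable section

namespace Groth.L18.FreeFin

open Groth.L18.Frame (rs ro rs_rs ro_ro rs_smul rs_self ro_self)
open Groth.L19.ProjBdl (IsBasisOn lc rs_lc lc_mono)
open Groth.L21.P1 (comb exists_comb comb_injective isBasisOn_comb rs_comb comb_diagonal comb_one)

variable {X : Scheme.{u}} {M : X.Modules} {r : ℕ}

/-- Being a basis is local. -/
theorem isBasisOn_of_cover {W : X.Opens} {b : Fin r → Γ(M, W)} {κ : Type*} (D : κ → X.Opens)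
    (hD : ∀ k, D k ≤ W) (hW : W ≤ iSup D) (hb : ∀ k, IsBasisOn M (D k) fun i => rs M (hD k) (b i)) :
    IsBasisOn M W b := by
  have key : ∀ (k : κ) (V : X.Opens) (hV : V ≤ W) (hVk : V ≤ D k),
      Function.Bijective (lc M b hV) := fun k V hV hVk => by
    have h := hb k V hVk
    rwa [show lc M (fun i => rs M (hD k) (b i)) hVk = lc M b hV from funext fun c => lc_mono b (hD k) hVk c] at h
  intro V hV
  let OX : TopCat.Sheaf CommRingCat.{u} X.toTopCat := ⟨X.presheaf, X.IsSheaf⟩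
  let OM : TopCat.Sheaf Ab.{u} X.toTopCat := ⟨M.presheaf, M.isSheaf⟩
  have hc : V ≤ ⨆ k, V ⊓ D k := fun x hx => by
    obtain ⟨k, hk⟩ := Opens.mem_iSup.1 (hW (hV hx))
    exact Opens.mem_iSup.2 ⟨k, hx, hk⟩
  have inj : ∀ c c' : Fin r → Γ(X, V), lc M b hV c = lc M b hV c' → c = c' := fun c c' h => funext fun i => by
    refine OX.eq_of_locally_eq' (fun k => V ⊓ D k) V (fun k => homOfLE inf_le_left) hc _ _ fun k => ?_
    have h' := congrArg (rs M (inf_le_left : V ⊓ D k ≤ V)) h
    rw [rs_lc, rs_lc] at h'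
    exact congrFun ((key k _ _ inf_le_right).1 h') i
  refine ⟨fun c c' h => inj c c' h, fun s => ?_⟩
  choose c hc' using fun k => (key k (V ⊓ D k) (inf_le_left.trans hV) inf_le_right).2 (rs M inf_le_left s)
  have hcomp : ∀ i, TopCat.Presheaf.IsCompatible X.presheaf (fun k => V ⊓ D k) fun k => c k i := fun i k l => by
    have hk : (V ⊓ D k) ⊓ (V ⊓ D l) ≤ W := inf_le_left.trans (inf_le_left.trans hV)
    have h' : (fun i => ro (inf_le_left : (V ⊓ D k) ⊓ (V ⊓ D l) ≤ V ⊓ D k) (c k i)) =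
        fun i => ro (inf_le_right : (V ⊓ D k) ⊓ (V ⊓ D l) ≤ V ⊓ D l) (c l i) := by
      refine (key k _ hk (inf_le_left.trans inf_le_right)).1 ?_
      rw [← rs_lc b (inf_le_left.trans hV) inf_le_left, ← rs_lc b (inf_le_left.trans hV) inf_le_right,
        hc', hc', rs_rs, rs_rs]
    exact congrFun h' i
  choose g hg using fun i => (OX.existsUnique_gluing' (fun k => V ⊓ D k) V (fun k => homOfLE inf_le_left) hc
    (fun k => c k i) (hcomp i)).exists
  refine ⟨g, OM.eq_of_locally_eq' (fun k => V ⊓ D k) V (fun k => homOfLE inf_le_left) hc _ _ fun k => ?_⟩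
  show rs M inf_le_left (lc M b hV g) = rs M inf_le_left s
  rw [rs_lc, ← hc' k]
  exact congrArg (lc M b _) (funext fun i => hg i k)

/-- Near each point of an affine open there are global sections forming a basis. -/
theorem exists_global_basis [Coh.IsQCoh M] (hM : FlatMod.IsFinLocFreeOfRank r M) {V : X.Opens}
    (hV : IsAffineOpen V) {z : X} (hz : z ∈ V) :
    ∃ (D : X.Opens) (hDV : D ≤ V) (m : Fin r → Γ(M, V)), z ∈ D ∧ IsBasisOn M D fun i => rs M hDV (m i) := by
  obtain ⟨U, hzU, ⟨e⟩⟩ := hM z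
  obtain ⟨s, hs⟩ := Groth.L17.FinLocBases.exists_isBasis M e
  have hU : U.ι ''ᵁ ⊤ = U := (Scheme.Hom.image_top_eq_opensRange U.ι).trans U.opensRange_ι
  obtain ⟨f, hfle, hzf⟩ := hV.exists_basicOpen_le ⟨z, (hU.ge hzU : z ∈ U.ι ''ᵁ ⊤)⟩ hz
  have hb := (Groth.L19.ProjBdl.isBasisOn_of_locBases hs).mono hfle
  letI := Module.compHom Γ(M, X.basicOpen f) (X.presheaf.map (homOfLE (X.basicOpen_le f)).op).hom
  haveI hloc := Groth.L20.ModStalk.isLocalizedModule_res (M := M) hV f
  choose p hp using fun i => hloc.surj (rs M hfle (s i))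
  refine ⟨X.basicOpen f, X.basicOpen_le f, fun i => (p i).1, hzf, ?_⟩
  have hu : ∀ i, IsUnit (ro (X.basicOpen_le f) ((p i).2 : Γ(X, V))) := fun i => by
    obtain ⟨n, hn⟩ := (p i).2.2
    rw [show ((p i).2 : Γ(X, V)) = f ^ n from hn.symm]
    rw [show ro (X.basicOpen_le f) (f ^ n) = (ro (X.basicOpen_le f) f) ^ n from map_pow _ f n]
    exact IsUnit.pow n (X.toRingedSpace.isUnit_res_basicOpen f)
  have hQ : IsUnit (Matrix.diagonal fun i => ro (X.basicOpen_le f) ((p i).2 : Γ(X, V))) := by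
    rw [Matrix.isUnit_iff_isUnit_det, Matrix.det_diagonal]
    exact IsUnit.prod_iff.2 fun i _ => hu i
  have h := isBasisOn_comb hb hQ
  rw [comb_diagonal] at h
  rwa [show (fun i => rs M (X.basicOpen_le f) (p i).1) =
    fun i => ro (X.basicOpen_le f) ((p i).2 : Γ(X, V)) • rs M hfle (s i) from funext fun i => (hp i).symm]

theorem exists_free_nhd [Coh.IsQCoh M] (hM : FlatMod.IsFinLocFreeOfRank r M) (Z : Set X) (hZ : Z.Finite)
    {V : X.Opens} (hV : IsAffineOpen V) (hZV : Z ⊆ V) :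
    ∃ U : X.Opens, Z ⊆ U ∧ U ≤ V ∧ Nonempty (M.restrict U.ι ≅ FlatMod.freeMod (U : Scheme.{u}) r) := by
  classical
  let P : Z → Ideal Γ(X, V) := fun z => (hV.primeIdealOf ⟨z, hZV z.2⟩).asIdeal
  haveI : Finite Z := hZ
  let K := {z : Z // Maximal (fun I => I ∈ Set.range P) (P z)}
  have hKinj : ∀ z w : K, P z.1 = P w.1 → z = w := fun z w h => by
    have e : hV.primeIdealOf ⟨z.1.1, hZV z.1.2⟩ = hV.primeIdealOf ⟨w.1.1, hZV w.1.2⟩ := PrimeSpectrum.ext h
    have e' := congrArg (fun q => hV.fromSpec q) e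
    simp only [IsAffineOpen.fromSpec_primeIdealOf] at e'
    exact Subtype.ext (Subtype.ext e')
  have hsep : ∀ z : K, ∃ c : Γ(X, V), c ∉ P z.1 ∧ ∀ w : K, w ≠ z → c ∈ P w.1 := fun z => by
    have h : ∀ w : K, ∃ a : Γ(X, V), a ∉ P z.1 ∧ (w ≠ z → a ∈ P w.1) := fun w => by
      by_cases hwz : w = z
      · exact ⟨1, (hV.primeIdealOf ⟨z.1, hZV z.1.2⟩).2.one_notMem, fun h => absurd hwz h⟩
      · have : ¬ P w.1 ≤ P z.1 := fun hle =>
          hwz (hKinj _ _ (le_antisymm hle (w.2.le_of_ge ⟨z.1, rfl⟩ hle)))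
        obtain ⟨a, ha, ha'⟩ := SetLike.not_le_iff_exists.1 this
        exact ⟨a, ha', fun _ => ha⟩
    choose a ha ha' using h
    haveI : Fintype K := Fintype.ofFinite K
    refine ⟨∏ w, a w, fun h => ?_, fun w hw => ?_⟩
    · obtain ⟨w, -, hw⟩ := (Ideal.IsPrime.prod_mem_iff (hp := (hV.primeIdealOf ⟨z.1, hZV z.1.2⟩).2)).1 h
      exact ha w hw
    · exact Ideal.mem_of_dvd _ (Finset.dvd_prod_of_mem a (Finset.mem_univ w)) (ha' w hw)
  choose c hc hc' using hsep
  choose D hDV m hzD hD using fun z : K => exists_global_basis hM hV (hZV z.1.2)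
  haveI : Fintype K := Fintype.ofFinite K
  let s : Fin r → Γ(M, V) := fun i => ∑ w, c w • m w i
  have hloc : ∀ z : K, ∃ (E : X.Opens) (hEV : E ≤ V), (z.1 : X) ∈ E ∧ IsBasisOn M E fun i => rs M hEV (s i) := by
    intro z
    let b : Fin r → Γ(M, D z) := fun i => rs M (hDV z) (m z i)
    choose Q hQ using fun w => exists_comb (hD z) fun i => rs M (hDV z) (m w i)
    let S : Matrix (Fin r) (Fin r) Γ(X, D z) := ∑ w, ro (hDV z) (c w) • Q w
    have hS : comb b S = fun i => rs M (hDV z) (s i) := by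
      funext i
      simp only [comb, S, Matrix.sum_apply, Matrix.smul_apply, smul_eq_mul, Finset.sum_smul, ← smul_smul]
      rw [Finset.sum_comm]
      refine Eq.trans ?_ (Groth.L19.ProjBdl.rs_sum M (hDV z) _ _).symm
      refine Finset.sum_congr rfl fun w _ => ?_
      rw [rs_smul, ← Finset.smul_sum]
      exact congrArg (_ • ·) (congrFun (hQ w) i)
    let φ : Γ(X, D z) →+* X.residueField z.1 :=
      (X.residue z.1).hom.comp (X.presheaf.germ (D z) z.1 (hzD z)).hom
    have hφ : ∀ a : Γ(X, V), φ (ro (hDV z) a) = 0 ↔ a ∈ P z.1 := fun a => by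
      show IsLocalRing.residue _ (X.presheaf.germ (D z) z.1 (hzD z) (ro (hDV z) a)) = 0 ↔ _
      rw [show X.presheaf.germ (D z) z.1 (hzD z) (ro (hDV z) a) = X.presheaf.germ V z.1 (hZV z.1.2) a from
        TopCat.Presheaf.germ_res_apply X.presheaf (homOfLE (hDV z)) z.1 (hzD z) a,
        IsLocalRing.residue_eq_zero_iff, IsLocalRing.mem_maximalIdeal, mem_nonunits_iff,
        ← X.mem_basicOpen]
      have h1 : (z.1 : X) ∈ X.basicOpen a ↔
          hV.primeIdealOf ⟨z.1, hZV z.1.2⟩ ∈ PrimeSpectrum.basicOpen a := by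
        rw [← hV.fromSpec_preimage_basicOpen a]
        show _ ↔ hV.fromSpec _ ∈ X.basicOpen a
        rw [IsAffineOpen.fromSpec_primeIdealOf]
      rw [h1, PrimeSpectrum.mem_basicOpen, not_not]
    have hdet : φ S.det ≠ 0 := by
      have hQz : Q z = 1 := comb_injective (hD z) ((hQ z).trans (comb_one _).symm)
      have e : φ.mapMatrix S = φ (ro (hDV z) (c z)) • (1 : Matrix (Fin r) (Fin r) (X.residueField z.1)) := by
        rw [map_sum, Finset.sum_eq_single z]
        · rw [hQz]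
          ext i j
          by_cases hij : i = j <;> simp [Matrix.one_apply, hij]
        · intro w _ hw
          ext i j
          have : φ (ro (hDV z) (c w)) = 0 := (hφ _).2 (hc' w z (Ne.symm hw))
          simp [this]
        · simp
      rw [RingHom.map_det, e, Matrix.det_smul, Matrix.det_one, _root_.mul_one]
      exact pow_ne_zero _ fun h => hc z ((hφ _).1 h)
    have hzE : (z.1 : X) ∈ X.basicOpen S.det := by
      rw [X.mem_basicOpen S.det z.1 (hzD z)]
      exact (IsLocalRing.residue_ne_zero_iff_isUnit _).1 hdet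
    refine ⟨X.basicOpen S.det, (X.basicOpen_le _).trans (hDV z), hzE, ?_⟩
    let S' := S.map (X.presheaf.map (homOfLE (X.basicOpen_le S.det)).op).hom
    have hS' : IsUnit S' := by
      rw [Matrix.isUnit_iff_isUnit_det]
      exact Eq.mp (congrArg IsUnit (RingHom.map_det (X.presheaf.map (homOfLE (X.basicOpen_le S.det)).op).hom S))
        (X.toRingedSpace.isUnit_res_basicOpen S.det)
    have h := isBasisOn_comb ((hD z).mono (X.basicOpen_le S.det)) hS'
    rw [← rs_comb b S (X.basicOpen_le S.det), hS] at h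
    simpa only [rs_rs] using h
  choose E hEV hzE hE using hloc
  refine ⟨⨆ z, E z, fun x hx => ?_, iSup_le hEV, ?_⟩
  · obtain ⟨_, hle, hmax⟩ := (Set.finite_range P).exists_le_maximal (a := P ⟨x, hx⟩) ⟨⟨x, hx⟩, rfl⟩
    obtain ⟨w, rfl⟩ := hmax.prop
    refine Opens.mem_iSup.2 ⟨⟨w, hmax⟩, ?_⟩
    have h1 : hV.primeIdealOf ⟨w.1, hZV w.2⟩ ∈ hV.fromSpec ⁻¹ᵁ E ⟨w, hmax⟩ := by
      show hV.fromSpec _ ∈ E _
      rw [IsAffineOpen.fromSpec_primeIdealOf]
      exact hzE ⟨w, hmax⟩
    have hsp : hV.primeIdealOf ⟨x, hZV hx⟩ ⤳ hV.primeIdealOf ⟨w.1, hZV w.2⟩ :=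
      (PrimeSpectrum.le_iff_specializes _ _).1 hle
    have h2 := hsp.mem_open (hV.fromSpec ⁻¹ᵁ E ⟨w, hmax⟩).isOpen h1
    have h3 : hV.fromSpec (hV.primeIdealOf ⟨x, hZV hx⟩) ∈ E ⟨w, hmax⟩ := h2
    rwa [IsAffineOpen.fromSpec_primeIdealOf] at h3
  · let U := ⨆ z, E z
    let b : Fin r → Γ(M, U) := fun i => rs M (iSup_le hEV : U ≤ V) (s i)
    have hb : IsBasisOn M U b := isBasisOn_of_cover E (fun z => le_iSup E z) le_rfl fun z => by
      have : (fun i => rs M (le_iSup E z) (b i)) = fun i => rs M (hEV z) (s i) := funext fun i => rs_rs _ _ _ _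
      rw [this]
      exact hE z
    obtain ⟨e⟩ := Groth.L20.ResDescent.nonempty_iso_free (le_of_eq (U.ι_preimage_self).symm) (hb.pullback U.ι)
    exact ⟨(Scheme.Modules.restrictFunctorIsoPullback U.ι).app M ≪≫ e⟩

end Groth.L18.FreeFin
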