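import Groth.Prelude.Def_Lef
import Groth.Agent.L18.GenLocus
import Groth.Agent.L18.Ample
import Groth.Agent.L20.ResAmple

/-!
# Connectedness under the Lefschetz condition
-/

set_option autoImplicit false
set_option backward.isDefEq.respectTransparency false
set_option linter.style.haveILetI false
universe u

open CategoryTheory AlgebraicGeometry TopologicalSpace Opposite

noncomputable section

namespace Groth.L18.LefConnected

open Groth.L18.GenLoc (secOf secOf_homOfSection homOfSection_secOf)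
open Groth.L18.Frame (rs ro rs_rs)

variable {X : Scheme.{u}}

theorem hom_ext_secOf {M : X.Modules} {φ ψ : Coh.structureModule X ⟶ M} (h : secOf φ = secOf ψ) : φ = ψ := by
  rw [← homOfSection_secOf φ, ← homOfSection_secOf ψ, h]

theorem unitToPush_comp {Z W : Scheme.{u}} (f : Z ⟶ W) (g : W ⟶ X) (h : Z ⟶ X) (hh : h = f ≫ g) :
    ClSub.unitToPush g ≫ (Coh.push g).map (ClSub.unitToPush f) ≫
      (Scheme.Modules.pushforwardComp f g).hom.app _ ≫ (Scheme.Modules.pushforwardCongr hh.symm).hom.app _ =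
    ClSub.unitToPush h := by
  subst hh
  ext U y
  show ((Coh.structureModule Z).presheaf.map (eqToHom rfl).op) (f.app (g ⁻¹ᵁ U) (g.app U y)) = (f ≫ g).app U y
  rw [eqToHom_refl, op_id, CategoryTheory.Functor.map_id, Scheme.Hom.comp_app]
  rfl

theorem toSubscheme_quotMap {I J : X.IdealSheafData} (h : I ≤ J) :
    ClSub.toSubscheme I ≫ Lef.quotMap h = ClSub.toSubscheme J :=
  unitToPush_comp _ _ _ (Scheme.IdealSheafData.inclusion_subschemeι h).symm

theorem range_pow (𝓙 : X.IdealSheafData) (n : ℕ) :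
    Set.range (𝓙 ^ (n + 1)).subschemeι = (𝓙.support : Set X) := by
  rw [Scheme.IdealSheafData.range_subschemeι, Scheme.IdealSheafData.support_pow_succ]

theorem eq_zero_of_idem {Z : Scheme.{u}} {e : Γ(Z, ⊤)} (he : IsIdempotentElem e) (h : Z.basicOpen e = ⊥) :
    e = 0 := by
  refine TopCat.Presheaf.section_ext Z.sheaf ⊤ _ _ fun x hx => ?_
  show (Z.presheaf.germ ⊤ x hx).hom e = (Z.presheaf.germ ⊤ x hx).hom 0
  rw [map_zero]
  have hnu : ¬ IsUnit (Z.presheaf.germ ⊤ x hx e) := fun hu => by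
    rw [← Z.mem_basicOpen, h] at hu
    exact hu
  have h1 : IsUnit (1 - Z.presheaf.germ ⊤ x hx e) := (IsLocalRing.isUnit_or_isUnit_one_sub_self _).resolve_left hnu
  exact h1.mul_left_eq_zero.1 (by rw [mul_sub, mul_one, ← map_mul, he.eq, sub_self])

/-- One direction: a connected closed subset has only connected neighbourhoods. -/
theorem eq_zero_or_one (𝓙 : X.IdealSheafData) (hb : Lef.HomToFormalBijective 𝓙 (Coh.structureModule X))
    (hY : ConnectedSpace (𝓙.support : Set X)) {e : Γ(X, ⊤)} (he : IsIdempotentElem e) : e = 0 ∨ e = 1 := by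
  have key : ∀ e : Γ(X, ⊤), IsIdempotentElem e → Disjoint (X.basicOpen e : Set X) (𝓙.support : Set X) → e = 0 := by
    intro e he hd
    have h0 : Groth.L16.homOfSection (Coh.structureModule X) (show Γ(Coh.structureModule X, ⊤) from e) =
        Groth.L16.homOfSection (Coh.structureModule X) (show Γ(Coh.structureModule X, ⊤) from (0 : Γ(X, ⊤))) := by
      refine hb.1 _ _ fun n => hom_ext_secOf ?_
      show (𝓙 ^ (n + 1)).subschemeι.app ⊤ (secOf (Groth.L16.homOfSection (Coh.structureModule X) _)) =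
        (𝓙 ^ (n + 1)).subschemeι.app ⊤ (secOf (Groth.L16.homOfSection (Coh.structureModule X) _))
      rw [secOf_homOfSection, secOf_homOfSection]
      refine (eq_zero_of_idem (he.map ((𝓙 ^ (n + 1)).subschemeι.app ⊤).hom) ?_).trans (map_zero _).symm
      rw [eq_bot_iff]
      intro z hz
      erw [← Scheme.preimage_basicOpen] at hz
      exact (Set.disjoint_left.1 hd hz (range_pow 𝓙 n ▸ ⟨z, rfl⟩)).elim
    have h1 := congrArg secOf h0
    rw [secOf_homOfSection, secOf_homOfSection] at h1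
    exact h1
  have hcover : ∀ x : X, x ∈ X.basicOpen e ∨ x ∈ X.basicOpen (1 - e) := fun x => by
    rw [X.mem_basicOpen _ x (show x ∈ (⊤ : X.Opens) from trivial), X.mem_basicOpen _ x (show x ∈ (⊤ : X.Opens) from trivial), map_sub, map_one]
    exact IsLocalRing.isUnit_or_isUnit_one_sub_self _
  by_cases h1 : Disjoint (X.basicOpen e : Set X) (𝓙.support : Set X)
  · exact Or.inl (key e he h1)
  by_cases h2 : Disjoint (X.basicOpen (1 - e) : Set X) (𝓙.support : Set X)
  · exact Or.inr (sub_eq_zero.1 (key _ he.one_sub h2)).symm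
  exfalso
  have hpc : _root_.IsPreconnected (𝓙.support : Set X) := isPreconnected_iff_preconnectedSpace.2 inferInstance
  rw [Set.not_disjoint_iff] at h1 h2
  obtain ⟨a, ha, haY⟩ := h1
  obtain ⟨b, hb', hbY⟩ := h2
  obtain ⟨c, -, hc1, hc2⟩ := hpc _ _ (X.basicOpen e).2 (X.basicOpen (1 - e)).2 (fun x _ => hcover x)
    ⟨a, haY, ha⟩ ⟨b, hbY, hb'⟩
  have hc : c ∈ X.basicOpen (e * (1 - e)) := by
    rw [X.basicOpen_mul]
    exact ⟨hc1, hc2⟩
  rw [he.mul_one_sub_self, X.basicOpen_zero] at hc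
  exact hc

theorem preconnectedSpace_of_idem (h : ∀ e : Γ(X, ⊤), IsIdempotentElem e → e = 0 ∨ e = 1) :
    PreconnectedSpace X := by
  refine ⟨isPreconnected_iff_subset_of_disjoint.2 fun u v hu hv huv hd => ?_⟩
  rw [Set.univ_inter] at hd
  let W : Bool → X.Opens := fun b => cond b ⟨u, hu⟩ ⟨v, hv⟩
  let c : ∀ b, Γ(X, W b) := fun b =>
    Bool.rec (motive := fun b => Γ(X, W b)) 0 1 b
  have hbot : (W true ⊓ W false : X.Opens) = ⊥ := Opens.ext hd
  have hc : ∀ i j : Bool, ro (inf_le_left : W i ⊓ W j ≤ W i) (c i) = ro inf_le_right (c j) := by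
    intro i j
    cases i <;> cases j <;> first
      | rfl
      | (haveI : Subsingleton Γ(X, W true ⊓ W false) := hbot ▸ inferInstanceAs (Subsingleton Γ(X, ⊥))
         exact Subsingleton.elim _ _)
      | (haveI : Subsingleton Γ(X, W false ⊓ W true) := by
          rw [inf_comm, hbot]; infer_instance
         exact Subsingleton.elim _ _)
  have hcov : (⊤ : X.Opens) ≤ iSup W := fun x _ => by
    rcases huv (Set.mem_univ x) with hx | hx
    · exact Opens.mem_iSup.2 ⟨true, hx⟩
    · exact Opens.mem_iSup.2 ⟨false, hx⟩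
  obtain ⟨e, he, hu'⟩ := X.sheaf.existsUnique_gluing' W ⊤ (fun _ => homOfLE le_top) hcov c hc
  have hidem : IsIdempotentElem e := hu' (e * e) fun i => by
    refine (map_mul (X.presheaf.map (homOfLE (le_top : W i ≤ ⊤)).op).hom e e).trans ?_
    refine (congrArg₂ (· * ·) (he i) (he i)).trans ?_
    cases i
    · exact mul_zero _
    · exact mul_one _
  rcases h e hidem with rfl | rfl
  · refine Or.inr fun x hx => ?_
    rcases huv hx with hxu | hxv
    · exfalso
      have h1 : (0 : Γ(X, W true)) = 1 := (map_zero (X.presheaf.map (homOfLE (le_top : W true ≤ ⊤)).op).hom).symm.trans (he true)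
      have := congrArg (X.presheaf.germ (W true) x hxu).hom h1
      rw [map_zero, map_one] at this
      exact zero_ne_one this
    · exact hxv
  · refine Or.inl fun x hx => ?_
    rcases huv hx with hxu | hxv
    · exact hxu
    · exfalso
      have h1 : (1 : Γ(X, W false)) = 0 := (map_one (X.presheaf.map (homOfLE (le_top : W false ≤ ⊤)).op).hom).symm.trans (he false)
      have := congrArg (X.presheaf.germ (W false) x hxv).hom h1
      rw [map_zero, map_one] at this
      exact one_ne_zero this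

theorem isPreconnected_support [PreconnectedSpace X] (𝓙 : X.IdealSheafData)
    (hb : Lef.HomToFormalBijective 𝓙 (Coh.structureModule X)) : _root_.IsPreconnected (𝓙.support : Set X) := by
  refine (isPreconnected_iff_subset_of_fully_disjoint_closed 𝓙.support.isClosed).2 fun A B hA hB hAB hd => ?_
  let W : Bool → X.Opens := fun b => cond b ⟨Bᶜ, hB.isOpen_compl⟩ ⟨Aᶜ, hA.isOpen_compl⟩
  let c : ∀ b, Γ(X, W b) := fun b => Bool.rec (motive := fun b => Γ(X, W b)) 0 1 b
  have hcov : (⊤ : X.Opens) ≤ iSup W := fun x _ => by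
    by_cases hx : x ∈ B
    · exact Opens.mem_iSup.2 ⟨false, fun hxA => Set.disjoint_left.1 hd hxA hx⟩
    · exact Opens.mem_iSup.2 ⟨true, hx⟩
  let M : ℕ → X.Modules := fun n => ClSub.quotMod (𝓙 ^ (n + 1))
  let τ : ∀ n, ∀ b, Γ(M n, W b) := fun n b => (ClSub.toSubscheme (𝓙 ^ (n + 1))).app (W b) (c b)
  have hemp : ∀ (n : ℕ) (i j : Bool), i ≠ j → Subsingleton Γ(M n, W i ⊓ W j) := by
    intro n i j hij
    have hbot : (𝓙 ^ (n + 1)).subschemeι ⁻¹ᵁ (W i ⊓ W j) = ⊥ := by
      rw [eq_bot_iff]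
      intro z hz
      have hzY : (𝓙 ^ (n + 1)).subschemeι z ∈ (𝓙.support : Set X) := range_pow 𝓙 n ▸ ⟨z, rfl⟩
      rcases hAB hzY with h | h <;> cases i <;> cases j <;>
        first | exact absurd rfl hij | exact absurd h hz.1 | exact absurd h hz.2
    show Subsingleton Γ((𝓙 ^ (n + 1)).subscheme, (𝓙 ^ (n + 1)).subschemeι ⁻¹ᵁ (W i ⊓ W j))
    rw [hbot]
    infer_instance
  have hτ : ∀ n (i j : Bool), rs (M n) (inf_le_left : W i ⊓ W j ≤ W i) (τ n i) = rs (M n) inf_le_right (τ n j) := by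
    intro n i j
    by_cases hij : i = j
    · subst hij; rfl
    · haveI := hemp n i j hij
      exact Subsingleton.elim _ _
  let F : ℕ → TopCat.Sheaf Ab.{u} X.toTopCat := fun n => ⟨(M n).presheaf, (M n).isSheaf⟩
  choose g hg hgu using fun n : ℕ =>
    (F n).existsUnique_gluing' W ⊤ (fun _ => homOfLE le_top) hcov (τ n) (hτ n)
  let y : ∀ n : ℕ, Coh.structureModule X ⟶ M n := fun n => Groth.L16.homOfSection (M n) (g n)
  have hy : Lef.IsFormalHom 𝓙 (Coh.structureModule X) y := fun n => hom_ext_secOf (by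
    show (Lef.quotMap (Lef.pow_succ_le 𝓙 n)).app ⊤ (secOf (Groth.L16.homOfSection (M (n + 1)) (g (n + 1)))) = secOf (y n)
    rw [secOf_homOfSection, secOf_homOfSection]
    refine hgu n _ fun i => ?_
    show rs (M n) (le_top : W i ≤ ⊤) ((Lef.quotMap (Lef.pow_succ_le 𝓙 n)).app ⊤ (g (n + 1))) = τ n i
    refine Eq.trans (?_ : _ = (Lef.quotMap (Lef.pow_succ_le 𝓙 n)).app (W i) (τ (n + 1) i)) ?_
    · have := congr($((Lef.quotMap (Lef.pow_succ_le 𝓙 n)).mapPresheaf.naturality (homOfLE (le_top : W i ≤ ⊤)).op) (g (n + 1)))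
      refine this.symm.trans ?_
      exact congrArg ((Lef.quotMap (Lef.pow_succ_le 𝓙 n)).app (W i)) (hg (n + 1) i)
    · exact congr(($(toSubscheme_quotMap (Lef.pow_succ_le 𝓙 n))).app (W i) (c i)))
  obtain ⟨φ, hφ⟩ := hb.2 y hy
  let e : Γ(X, ⊤) := secOf φ
  have hge : ∀ n, (show Γ((𝓙 ^ (n + 1)).subscheme, (𝓙 ^ (n + 1)).subschemeι ⁻¹ᵁ ⊤) from g n) =
      (𝓙 ^ (n + 1)).subschemeι.app ⊤ e := fun n => by
    have h := congrArg secOf (hφ n)
    rw [secOf_homOfSection] at h
    exact h.symm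
  have hidem : IsIdempotentElem e := by
    have h0 : Groth.L16.homOfSection (Coh.structureModule X) (show Γ(Coh.structureModule X, ⊤) from e * e) = φ := by
      refine hb.1 _ _ fun n => (hom_ext_secOf ?_)
      show (𝓙 ^ (n + 1)).subschemeι.app ⊤ (secOf (Groth.L16.homOfSection (Coh.structureModule X) _)) = _
      rw [secOf_homOfSection, hφ n, secOf_homOfSection]
      refine hgu n _ fun i => ?_
      show ((𝓙 ^ (n + 1)).subscheme.presheaf.map
        (homOfLE ((𝓙 ^ (n + 1)).subschemeι.preimage_mono (le_top : W i ≤ ⊤))).op).hom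
          (((𝓙 ^ (n + 1)).subschemeι.app ⊤).hom (e * e)) = τ n i
      have hi : ((𝓙 ^ (n + 1)).subscheme.presheaf.map
          (homOfLE ((𝓙 ^ (n + 1)).subschemeι.preimage_mono (le_top : W i ≤ ⊤))).op).hom
            (((𝓙 ^ (n + 1)).subschemeι.app ⊤).hom e) = (𝓙 ^ (n + 1)).subschemeι.app (W i) (c i) := by
        rw [← hge n]
        exact hg n i
      rw [map_mul, map_mul, hi]
      show _ = (𝓙 ^ (n + 1)).subschemeι.app (W i) (c i)
      rw [← map_mul]
      refine congrArg _ ?_
      cases i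
      · exact mul_zero _
      · exact mul_one _
    have h1 := congrArg secOf h0
    rw [secOf_homOfSection] at h1
    exact h1
  have hcover : ∀ x : X, x ∈ X.basicOpen e ∨ x ∈ X.basicOpen (1 - e) := fun x => by
    rw [X.mem_basicOpen _ x (show x ∈ (⊤ : X.Opens) from trivial), X.mem_basicOpen _ x (show x ∈ (⊤ : X.Opens) from trivial), map_sub, map_one]
    exact IsLocalRing.isUnit_or_isUnit_one_sub_self _
  -- on the zeroth thickening the idempotent is `1` on `A` and `0` on `B`
  have hval : ∀ x ∈ (𝓙.support : Set X), (x ∈ X.basicOpen e → x ∈ A) ∧ (x ∉ X.basicOpen e → x ∈ B) := by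
    intro x hxY
    obtain ⟨z, rfl⟩ := (range_pow 𝓙 0).symm ▸ hxY
    have key : ∀ i, (𝓙 ^ (0 + 1)).subschemeι z ∈ W i →
        ((𝓙 ^ (0 + 1)).subschemeι z ∈ X.basicOpen e ↔ i = true) := by
      intro i hzi
      have hgi : ((𝓙 ^ (0 + 1)).subscheme.presheaf.map
          (homOfLE ((𝓙 ^ (0 + 1)).subschemeι.preimage_mono (le_top : W i ≤ ⊤))).op).hom
            (((𝓙 ^ (0 + 1)).subschemeι.app ⊤).hom e) = (𝓙 ^ (0 + 1)).subschemeι.app (W i) (c i) := by
        rw [← hge 0]
        exact hg 0 i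
      show z ∈ (𝓙 ^ (0 + 1)).subschemeι ⁻¹ᵁ X.basicOpen e ↔ _
      rw [Scheme.preimage_basicOpen, Scheme.mem_basicOpen _ _ z (show z ∈ (𝓙 ^ (0 + 1)).subschemeι ⁻¹ᵁ (⊤ : X.Opens) from trivial)]
      have h2 := congrArg ((𝓙 ^ (0 + 1)).subscheme.presheaf.germ _ z hzi).hom hgi
      rw [TopCat.Presheaf.germ_res_apply] at h2
      erw [h2]
      cases i
      · simp [c]
      · simp [c]
    constructor
    · intro hxe
      rcases hAB hxY with h | h
      · exact h
      · have := (key false fun h' => Set.disjoint_left.1 hd h' h).1 hxe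
        exact absurd this Bool.false_ne_true
    · intro hxe
      rcases hAB hxY with h | h
      · exact absurd ((key true fun h' => Set.disjoint_left.1 hd h h').2 rfl) hxe
      · exact h
  have hzero : X.basicOpen e ⊓ X.basicOpen (1 - e) = ⊥ := by
    rw [← X.basicOpen_mul, hidem.mul_one_sub_self, X.basicOpen_zero]
  have hclopen : IsClopen (X.basicOpen e : Set X) := by
    refine ⟨isOpen_compl_iff.1 ?_, (X.basicOpen e).2⟩
    have : (X.basicOpen e : Set X)ᶜ = X.basicOpen (1 - e) := Set.ext fun x =>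
      ⟨fun hx => (hcover x).resolve_left hx, fun hx hxe => (hzero ▸ (show x ∈ X.basicOpen e ⊓ X.basicOpen (1 - e) from ⟨hxe, hx⟩) : x ∈ (⊥ : X.Opens))⟩
    rw [this]
    exact (X.basicOpen (1 - e)).2
  rcases isClopen_iff.1 hclopen with h | h
  · exact Or.inr fun x hx => (hval x hx).2 fun h' => by
      have : x ∈ (X.basicOpen e : Set X) := h'
      rw [h] at this
      exact this
  · exact Or.inl fun x hx => (hval x hx).1 (by
      show x ∈ (X.basicOpen e : Set X)
      rw [h]
      trivial)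

theorem nonempty_support [Nonempty X] (𝓙 : X.IdealSheafData)
    (hb : Lef.HomToFormalBijective 𝓙 (Coh.structureModule X)) : (𝓙.support : Set X).Nonempty := by
  by_contra hne
  rw [Set.not_nonempty_iff_eq_empty] at hne
  have h0 : (1 : Γ(X, ⊤)) = 0 := by
    have h : 𝟙 (Coh.structureModule X) = 0 := hb.1 _ _ fun n => hom_ext_secOf (by
      haveI : Subsingleton Γ((𝓙 ^ (n + 1)).subscheme, (𝓙 ^ (n + 1)).subschemeι ⁻¹ᵁ ⊤) := by
        have hbot : (𝓙 ^ (n + 1)).subschemeι ⁻¹ᵁ ⊤ = ⊥ := eq_bot_iff.2 fun z _ => by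
          have hzY : (𝓙 ^ (n + 1)).subschemeι z ∈ (𝓙.support : Set X) := range_pow 𝓙 n ▸ ⟨z, rfl⟩
          rw [hne] at hzY
          exact hzY.elim
        rw [hbot]
        infer_instance
      exact Subsingleton.elim (α := Γ((𝓙 ^ (n + 1)).subscheme, (𝓙 ^ (n + 1)).subschemeι ⁻¹ᵁ ⊤)) _ _)
    exact congrArg secOf h
  obtain ⟨x⟩ := (inferInstance : Nonempty X)
  have := congrArg (X.presheaf.germ ⊤ x trivial).hom h0
  rw [map_one, map_zero] at this
  exact one_ne_zero this

theorem connectedSpace_support_iff (𝓙 : X.IdealSheafData)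
    (hb : Lef.HomToFormalBijective 𝓙 (Coh.structureModule X)) :
    ConnectedSpace (𝓙.support : Set X) ↔ ConnectedSpace X := by
  constructor
  · intro hY
    obtain ⟨⟨x, -⟩⟩ := hY.toNonempty
    haveI : Nonempty X := ⟨x⟩
    haveI := preconnectedSpace_of_idem (X := X) fun e he => eq_zero_or_one 𝓙 hb hY he
    exact ⟨inferInstance⟩
  · intro hX
    exact isConnected_iff_connectedSpace.1 ⟨nonempty_support 𝓙 hb, isPreconnected_support 𝓙 hb⟩

end Groth.L18.LefConnected
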