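import Groth.Agent.L18.AmpleCoprod

/-!
Modules on a disjoint union from modules on the summands.
-/

set_option autoImplicit false
set_option backward.isDefEq.respectTransparency false
universe u

open CategoryTheory CategoryTheory.Limits AlgebraicGeometry TopologicalSpace Opposite

noncomputable section

namespace Groth.L18.CoprodMod

variable {X X' : Scheme.{u}}

theorem isZero_pullback_pushforward_of_disjoint {Z : Scheme.{u}} (i : X ⟶ Z) (j : X' ⟶ Z) [IsOpenImmersion i]
    (h : ∀ U : X.Opens, j ⁻¹ᵁ (i ''ᵁ U) = ⊥) (M : X'.Modules) :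
    IsZero ((Scheme.Modules.pullback i).obj ((Scheme.Modules.pushforward j).obj M)) := by
  refine IsZero.of_iso ?_ ((Scheme.Modules.restrictFunctorIsoPullback i).app _).symm
  rw [IsZero.iff_id_eq_zero]
  refine Scheme.Modules.hom_ext _ _ fun U => ?_
  haveI : Subsingleton Γ(M, j ⁻¹ᵁ (i ''ᵁ U)) := by
    rw [h]
    haveI : Subsingleton Γ(X', ⊥) := inferInstance
    exact Module.subsingleton Γ(X', ⊥) _
  ext x
  exact @Subsingleton.elim _ (this) _ _

variable (L : X.Modules) (L' : X'.Modules)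

/-- The module on `X ⨿ X'` restricting to `L` and `L'`. -/
def glue : (X ⨿ X').Modules :=
  (Scheme.Modules.pushforward (coprod.inl : X ⟶ X ⨿ X')).obj L ⊞
    (Scheme.Modules.pushforward (coprod.inr : X' ⟶ X ⨿ X')).obj L'

theorem preimage_inr_image_inl (U : X.Opens) :
    (coprod.inr : X' ⟶ X ⨿ X') ⁻¹ᵁ ((coprod.inl : X ⟶ X ⨿ X') ''ᵁ U) = ⊥ := by
  refine le_bot_iff.1 fun x hx => ?_
  have h := (isCompl_opensRange_inl_inr X X').inf_eq_bot.le
    (show (coprod.inr : X' ⟶ X ⨿ X') x ∈ (coprod.inl : X ⟶ X ⨿ X').opensRange ⊓ (coprod.inr : X' ⟶ X ⨿ X').opensRange from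
      ⟨(Scheme.Hom.image_le_opensRange _ _) hx, ⟨x, rfl⟩⟩)
  exact h

theorem preimage_inl_image_inr (U : X'.Opens) :
    (coprod.inl : X ⟶ X ⨿ X') ⁻¹ᵁ ((coprod.inr : X' ⟶ X ⨿ X') ''ᵁ U) = ⊥ := by
  refine le_bot_iff.1 fun x hx => ?_
  have h := (isCompl_opensRange_inl_inr X X').inf_eq_bot.le
    (show (coprod.inl : X ⟶ X ⨿ X') x ∈ (coprod.inl : X ⟶ X ⨿ X').opensRange ⊓ (coprod.inr : X' ⟶ X ⨿ X').opensRange from
      ⟨⟨x, rfl⟩, (Scheme.Hom.image_le_opensRange _ _) hx⟩)
  exact h

attribute [local instance] preservesBinaryBiproducts_of_preservesBiproducts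

/-- Pullback to the first summand. -/
def pullbackInlGlue : (Scheme.Modules.pullback (coprod.inl : X ⟶ X ⨿ X')).obj (glue L L') ≅ L :=
  (Scheme.Modules.pullback _).mapBiprod _ _ ≪≫
    { hom := biprod.fst, inv := biprod.inl, inv_hom_id := biprod.inl_fst,
      hom_inv_id := biprod.hom_ext _ _ (by simp)
        ((isZero_pullback_pushforward_of_disjoint _ _ preimage_inr_image_inl L').eq_of_tgt _ _) } ≪≫
    ((Scheme.Modules.restrictFunctorIsoPullback _).app _).symm ≪≫
    (Scheme.Modules.restrictFunctorAdjCounitIso _).app L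

/-- Pullback to the second summand. -/
def pullbackInrGlue : (Scheme.Modules.pullback (coprod.inr : X' ⟶ X ⨿ X')).obj (glue L L') ≅ L' :=
  (Scheme.Modules.pullback _).mapBiprod _ _ ≪≫
    { hom := biprod.snd, inv := biprod.inr, inv_hom_id := biprod.inr_snd,
      hom_inv_id := biprod.hom_ext _ _
        ((isZero_pullback_pushforward_of_disjoint _ _ preimage_inl_image_inr L).eq_of_tgt _ _) (by simp) } ≪≫
    ((Scheme.Modules.restrictFunctorIsoPullback _).app _).symm ≪≫
    (Scheme.Modules.restrictFunctorAdjCounitIso _).app L'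

end Groth.L18.CoprodMod

namespace Groth.L18.Ample

theorem isRelAmple_congr_iso {X Y : Scheme.{u}} (f : X ⟶ Y) {L M : X.Modules} (e : L ≅ M)
    (h : RelAmple.IsRelAmple f L) : RelAmple.IsRelAmple f M :=
  ⟨h.1, fun V => isAmple_of_iso ((Scheme.Modules.restrictFunctor _).mapIso e) (h.2 V)⟩

theorem exists_isRelAmple_coprod {X X' Y : Scheme.{u}} (f : X ⟶ Y) (f' : X' ⟶ Y) {L : X.Modules} {L' : X'.Modules}
    (hL : RelAmple.IsRelAmple f L) (hL' : RelAmple.IsRelAmple f' L') :
    RelAmple.IsRelAmple (coprod.desc f f') (Groth.L18.CoprodMod.glue L L') := by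
  haveI := hL.1
  haveI := hL'.1
  exact (isRelAmple_coprod_iff f f' _).2 ⟨isRelAmple_congr_iso f (Groth.L18.CoprodMod.pullbackInlGlue L L').symm hL,
    isRelAmple_congr_iso f' (Groth.L18.CoprodMod.pullbackInrGlue L L').symm hL'⟩

end Groth.L18.Ample
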