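import Groth.Agent.L16.PushEdge
import Groth.Agent.L16.PushCompare
import Groth.Agent.L17.AffinePush
import Groth.Prelude.Def_Canon

/-!
# Cohomology along an affine morphism, linear and natural
-/

set_option autoImplicit false
set_option backward.isDefEq.respectTransparency.types false
set_option backward.isDefEq.respectTransparency false

universe u

open CategoryTheory CategoryTheory.Limits AlgebraicGeometry

noncomputable section

namespace Groth.L18.PushHLin

variable {A : Type u} [CommRing A] {X Z : Scheme.{u}} [X.Over (Spec (CommRingCat.of A))]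
  [Z.Over (Spec (CommRingCat.of A))] (π : X ⟶ Z) [IsAffineHom π]

/-- The comparison of cohomology along an affine morphism. -/
def pushH (hπ : π ≫ (Z ↘ Spec (CommRingCat.of A)) = X ↘ Spec (CommRingCat.of A)) (M : X.Modules)
    (hM : Coh.IsQCoh M) (p : ℕ) : Coh.HH Z ((Coh.push π).obj M) p ≃ₗ[A] Coh.HH X M p :=
  LinearEquiv.ofBijective
    { toFun := fun x : Coh.HH Z ((Coh.push π).obj M) p => (Groth.L16.PushEdge.edge π.base (Coh.toAb M) p x : Coh.HH X M p)
      map_add' := map_add _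
      map_smul' := fun a x => by
        have h0 : Coh.toGlobal (X ↘ Spec (CommRingCat.of A)) a =
            (show Coh.Γtop X from π.appTop (Coh.toGlobal (Z ↘ Spec (CommRingCat.of A)) a)) :=
          congrArg (fun g : X ⟶ Spec (CommRingCat.of A) => Coh.toGlobal g a) hπ.symm
        refine Eq.trans ?_ (congrArg (fun c : Coh.Γtop X =>
          Sheaf.H.map (Coh.smulAb M c) p (Groth.L16.PushEdge.edge π.base (Coh.toAb M) p x)) h0).symm
        exact Eq.trans
          (congrArg (fun (φ : Coh.toAb ((Coh.push π).obj M) ⟶ Coh.toAb ((Coh.push π).obj M)) =>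
            Groth.L16.PushEdge.edge π.base (Coh.toAb M) p (Sheaf.H.map φ p x))
            (Groth.L16.PushCompare.smulAb_push π M (Coh.toGlobal (Z ↘ Spec (CommRingCat.of A)) a)))
          (Groth.L16.PushEdge.edge_natural π.base (F := Coh.toAb M) (G := Coh.toAb M) _ p x) }
    (haveI := hM
     Groth.L16.PushEdge.edge_bijective π.base p (Coh.toAb M) (Groth.L17.locAcyclic_of_isAffineHom π M))

/-- The comparison is natural. -/
theorem pushH_natural (hπ : π ≫ (Z ↘ Spec (CommRingCat.of A)) = X ↘ Spec (CommRingCat.of A)) {M N : X.Modules}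
    (hM : Coh.IsQCoh M) (hN : Coh.IsQCoh N) (φ : M ⟶ N) (p : ℕ) (x : Coh.HH Z ((Coh.push π).obj M) p) :
    pushH π hπ N hN p (Canon.HHlin A ((Coh.push π).map φ) p x) = Canon.HHlin A φ p (pushH π hπ M hM p x) :=
  Groth.L16.PushEdge.edge_natural π.base (F := Coh.toAb M) (G := Coh.toAb N)
    ((SheafOfModules.toSheaf X.ringCatSheaf).map φ) p x

/-- A dualizing pair is carried along a finite morphism by a universal trace. -/
theorem exists_isRDualOver (hπ : π ≫ (Z ↘ Spec (CommRingCat.of A)) = X ↘ Spec (CommRingCat.of A))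
    (hpush : ∀ F : X.Modules, Coh.IsQCoh F → Coh.IsQCoh ((Coh.push π).obj F)) {r : ℕ}
    {ωZ : Z.Modules} {trZ : Coh.HH Z ωZ r →ₗ[A] A} (hZ : Canon.IsRDualOver A Z r ωZ trZ)
    {ωX : X.Modules} (hωX : Coh.IsQCoh ωX) (τ : (Coh.push π).obj ωX ⟶ ωZ)
    (huniv : ∀ F : X.Modules, Coh.IsQCoh F →
      Function.Bijective (fun φ : F ⟶ ωX => (Coh.push π).map φ ≫ τ)) :
    ∃ trX : Coh.HH X ωX r →ₗ[A] A, Canon.IsRDualOver A X r ωX trX := by
  refine ⟨trZ ∘ₗ Canon.HHlin A τ r ∘ₗ (pushH π hπ ωX hωX r).symm.toLinearMap, hωX, fun F hF => ?_⟩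
  have h1 := ((hZ.2 _ (hpush F hF)).comp (huniv F hF))
  have h2 : Canon.dualityMap A X r ωX
        (trZ ∘ₗ Canon.HHlin A τ r ∘ₗ (pushH π hπ ωX hωX r).symm.toLinearMap) F =
      (fun l : Coh.HH Z ((Coh.push π).obj F) r →ₗ[A] A => l ∘ₗ (pushH π hπ F hF r).symm.toLinearMap) ∘
        (Canon.dualityMap A Z r ωZ trZ ((Coh.push π).obj F) ∘ fun φ : F ⟶ ωX => (Coh.push π).map φ ≫ τ) := by
    funext φ
    refine LinearMap.ext fun x => ?_
    obtain ⟨y, rfl⟩ := (pushH π hπ F hF r).surjective x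
    show trZ (Canon.HHlin A τ r ((pushH π hπ ωX hωX r).symm (Canon.HHlin A φ r (pushH π hπ F hF r y)))) =
      trZ (Canon.HHlin A ((Coh.push π).map φ ≫ τ) r ((pushH π hπ F hF r).symm (pushH π hπ F hF r y)))
    rw [← pushH_natural π hπ hF hωX φ r y, LinearEquiv.symm_apply_apply, LinearEquiv.symm_apply_apply]
    refine congrArg trZ ?_
    show Sheaf.H.map _ r (Sheaf.H.map _ r y) = Sheaf.H.map _ r y
    rw [← Sheaf.H.map_comp_apply, ← Functor.map_comp]
  rw [h2]
  refine Function.Bijective.comp ⟨fun a b h => LinearMap.ext fun y => ?_, fun l => ?_⟩ h1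
  · simpa using LinearMap.congr_fun h (pushH π hπ F hF r y)
  · exact ⟨l ∘ₗ (pushH π hπ F hF r).toLinearMap, LinearMap.ext fun x => by simp⟩

end Groth.L18.PushHLin
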