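import Groth.Agent.L00.RDerLES
import Groth.Agent.L17.SectSupp
import Groth.Agent.L17.OpenTransfer
import Groth.Prelude.Def_SuppFam

/-! `sectSuppLC` is left exact and kills flasque sheaves in positive degree. -/

set_option autoImplicit false
set_option backward.isDefEq.respectTransparency false
set_option backward.isDefEq.respectTransparency.types false

universe u

open CategoryTheory CategoryTheory.Limits TopologicalSpace Opposite

namespace Groth.L18.GammaLC

open Groth.L17

variable {T : TopCat.{u}}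

theorem sectSupp_map_surjective (U : Opens T) {A B C : CohTop.Ab T} (f : A ⟶ B) (g : B ⟶ C) (w : f ≫ g = 0)
    [TopCat.Sheaf.IsFlasque A]
    (hex : ∀ (V : Opens T) (b : B.obj.obj (op V)), g.hom.app (op V) b = 0 → ∃ a, f.hom.app (op V) a = b)
    (V : Opens T) (hsurj : Function.Surjective (g.hom.app (op V))) :
    Function.Surjective (((LocCohZ.sectSuppF U).map g).hom.app (op V)) := by
  intro t
  obtain ⟨s, hs⟩ := hsurj ((SectSupp.incl U C).hom.app (op V) t)
  obtain ⟨a, ha⟩ := hex (V ⊓ U) (B.obj.map (homOfLE (inf_le_left : V ⊓ U ≤ V)).op s) (by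
    rw [NatTrans.naturality_apply, hs]
    exact SectSupp.incl_app_mem U C V t)
  obtain ⟨a', ha'⟩ := (AddCommGrpCat.epi_iff_surjective _).1
    (TopCat.Presheaf.IsFlasque.epi (F := A.obj) (homOfLE (inf_le_left : V ⊓ U ≤ V)).op) a
  obtain ⟨x, hx⟩ := SectSupp.exists_incl_app_eq U B V (s - f.hom.app (op V) a') (by
    rw [map_sub, ← NatTrans.naturality_apply, ha', ha, sub_self])
  refine ⟨x, SectSupp.incl_app_injective U C V ?_⟩
  have h1 := congrArg (fun k : (LocCohZ.sectSuppF U).obj B ⟶ C => k.hom.app (op V) x) (SectSupp.incl_map U g)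
  refine h1.trans ?_
  change g.hom.app (op V) ((SectSupp.incl U B).hom.app (op V) x) = _
  rw [hx, map_sub, hs]
  have h2 : g.hom.app (op V) (f.hom.app (op V) a') = 0 :=
    congrArg (fun k : A ⟶ C => k.hom.app (op V) a') w
  rw [h2, sub_zero]

theorem sectSupp_map_exact (U : Opens T) {A B C : CohTop.Ab T} (f : A ⟶ B) (g : B ⟶ C)
    (hex : ∀ (V : Opens T) (b : B.obj.obj (op V)), g.hom.app (op V) b = 0 → ∃ a, f.hom.app (op V) a = b)
    (hinj : ∀ V : Opens T, Function.Injective (f.hom.app (op V)))
    (V : Opens T) (y : ((LocCohZ.sectSuppF U).obj B).obj.obj (op V))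
    (hy : ((LocCohZ.sectSuppF U).map g).hom.app (op V) y = 0) :
    ∃ x, ((LocCohZ.sectSuppF U).map f).hom.app (op V) x = y := by
  have h1 : g.hom.app (op V) ((SectSupp.incl U B).hom.app (op V) y) = 0 :=
    (congrArg (fun k : (LocCohZ.sectSuppF U).obj B ⟶ C => k.hom.app (op V) y) (SectSupp.incl_map U g)).symm.trans
      ((congrArg ((SectSupp.incl U C).hom.app (op V)) hy).trans (map_zero _))
  obtain ⟨a, ha⟩ := hex V _ h1
  obtain ⟨x, hx⟩ := SectSupp.exists_incl_app_eq U A V a (hinj _ (by
    rw [map_zero, NatTrans.naturality_apply, ha]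
    exact SectSupp.incl_app_mem U B V y))
  refine ⟨x, SectSupp.incl_app_injective U B V ?_⟩
  refine (congrArg (fun k : (LocCohZ.sectSuppF U).obj A ⟶ B => k.hom.app (op V) x) (SectSupp.incl_map U f)).trans ?_
  exact (congrArg (f.hom.app (op V)) hx).trans ha

theorem sectSupp_map_injective (U : Opens T) {A B : CohTop.Ab T} (f : A ⟶ B)
    (hinj : ∀ V : Opens T, Function.Injective (f.hom.app (op V))) (V : Opens T) :
    Function.Injective (((LocCohZ.sectSuppF U).map f).hom.app (op V)) := by
  intro x y h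
  refine SectSupp.incl_app_injective U A V (hinj V ?_)
  exact (congrArg (fun k : (LocCohZ.sectSuppF U).obj A ⟶ B => k.hom.app (op V) x) (SectSupp.incl_map U f)).symm.trans
    ((congrArg ((SectSupp.incl U B).hom.app (op V)) h).trans
      (congrArg (fun k : (LocCohZ.sectSuppF U).obj A ⟶ B => k.hom.app (op V) y) (SectSupp.incl_map U f)))

variable {W V : Opens T} (h : W ≤ V)

theorem preservesFiniteLimits_sectSuppLC : PreservesFiniteLimits (SuppFam.sectSuppLC h) := by
  refine ((SuppFam.sectSuppLC h).preservesFiniteLimits_tfae.out 0 3).1 (fun S hS => ?_)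
  haveI := hS.mono_f
  have hinj : ∀ O : Opens T, Function.Injective (S.f.hom.app (op O)) := fun O =>
    (AddCommGrpCat.mono_iff_injective _).1
      ((Groth.L17.GrothSS.secFun (Opens.grothendieckTopology T) O).map_mono (f := S.f))
  have hex : ∀ (O : Opens T) (b : S.X₂.obj.obj (op O)), S.g.hom.app (op O) b = 0 → ∃ a, S.f.hom.app (op O) a = b :=
    fun O b hb => TopCat.Sheaf.sections_exact_of_left_exact hS.1 hS.2 (U := O) b hb
  have hinj' : ∀ O : Opens (TopCat.of V), Function.Injective (((CohTop.restrFunctor V).map S.f).hom.app (op O)) :=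
    fun O => hinj (V.isOpenEmbedding.isOpenMap.functor.obj O)
  refine ⟨Groth.L17.exact_of_sections _ fun O y hy => ?_, Groth.L17.mono_of_injective_app _ fun O => ?_⟩
  · exact sectSupp_map_exact (SuppFam.inOpen V W) ((CohTop.restrFunctor V).map S.f)
      ((CohTop.restrFunctor V).map S.g) (fun O' => hex (V.isOpenEmbedding.isOpenMap.functor.obj O')) hinj' _ y hy
  · exact sectSupp_map_injective (SuppFam.inOpen V W) _ hinj' _

theorem epi_sectSuppLC_map {S : ShortComplex (CohTop.Ab T)} (hS : S.ShortExact) [TopCat.Sheaf.IsFlasque S.X₁] :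
    Epi ((SuppFam.sectSuppLC h).map S.g) := by
  refine (sheafToPresheaf (Opens.grothendieckTopology T) AddCommGrpCat.{u}).epi_of_epi_map ?_
  refine @NatTrans.epi_of_epi_app _ _ _ _ _ _ _ fun O => (AddCommGrpCat.epi_iff_surjective _).2 ?_
  haveI : TopCat.Sheaf.IsFlasque ((CohTop.restrFunctor V).obj S.X₁) :=
    ⟨fun i => TopCat.Presheaf.IsFlasque.epi (F := S.X₁.obj) (V.isOpenEmbedding.isOpenMap.functor.op.map i)⟩
  refine sectSupp_map_surjective (SuppFam.inOpen V W) ((CohTop.restrFunctor V).map S.f)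
    ((CohTop.restrFunctor V).map S.g) (by rw [← Functor.map_comp, S.zero, Functor.map_zero])
    (fun O' b hb => TopCat.Sheaf.sections_exact_of_left_exact hS.1 hS.2
      (U := V.isOpenEmbedding.isOpenMap.functor.obj O') b hb) _ ?_
  exact (AddCommGrpCat.epi_iff_surjective _).1
    (TopCat.Sheaf.IsFlasque.epi_of_shortExact hS (U := V.isOpenEmbedding.isOpenMap.functor.obj _))

theorem isZero_rightDerived_sectSuppLC : ∀ (q : ℕ) (F : CohTop.Ab T), TopCat.Sheaf.IsFlasque F →
    IsZero (((SuppFam.sectSuppLC h).rightDerived (q + 1)).obj F) := by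
  haveI := preservesFiniteLimits_sectSuppLC h
  letI := HasDerivedCategory.standard (CohTop.Ab T)
  intro q
  induction q with
  | zero =>
    intro F hF
    let S : ShortComplex (CohTop.Ab T) :=
      ShortComplex.mk (Injective.ι F) (cokernel.π (Injective.ι F)) (cokernel.condition _)
    have hS : S.ShortExact := { exact := ShortComplex.exact_of_g_is_cokernel _ (cokernelIsCokernel _) }
    haveI : TopCat.Sheaf.IsFlasque S.X₁ := hF
    haveI : Epi (((SuppFam.sectSuppLC h).rightDerived 0).map S.g) := by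
      haveI := epi_sectSuppLC_map h hS
      rw [← NatIso.naturality_2 (SuppFam.sectSuppLC h).rightDerivedZeroIsoSelf S.g]
      infer_instance
    exact Groth.L00.RDerLES.isZero_X₁ (SuppFam.sectSuppLC h) hS 0
      ((SuppFam.sectSuppLC h).isZero_rightDerived_obj_injective_succ 0 (Injective.under F))
  | succ q ih =>
    intro F hF
    let S : ShortComplex (CohTop.Ab T) :=
      ShortComplex.mk (Injective.ι F) (cokernel.π (Injective.ι F)) (cokernel.condition _)
    have hS : S.ShortExact := { exact := ShortComplex.exact_of_g_is_cokernel _ (cokernelIsCokernel _) }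
    haveI : TopCat.Sheaf.IsFlasque S.X₁ := hF
    haveI : TopCat.Sheaf.IsFlasque S.X₂ := Groth.L10.TopCoh.isFlasque_of_injective (Injective.under F)
    have h3 : TopCat.Sheaf.IsFlasque S.X₃ := TopCat.Sheaf.IsFlasque.of_shortExact_of_isFlasque₁₂ hS
    haveI : Epi (((SuppFam.sectSuppLC h).rightDerived (q + 1)).map S.g) :=
      ⟨fun a b _ => (ih S.X₃ h3).eq_of_src a b⟩
    exact Groth.L00.RDerLES.isZero_X₁ (SuppFam.sectSuppLC h) hS (q + 1)
      ((SuppFam.sectSuppLC h).isZero_rightDerived_obj_injective_succ (q + 1) (Injective.under F))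

end Groth.L18.GammaLC
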