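import Groth.Agent.L18.GammaLC
import Groth.Agent.L18.GammaLCAb
import Groth.Agent.L17.ExactThen
import Groth.Agent.L27.StalkRpush.Final

/-! Local cohomology sheaves along a locally closed subset of quasi-coherent modules. -/

set_option autoImplicit false
set_option backward.isDefEq.respectTransparency false
set_option backward.isDefEq.respectTransparency.types false
set_option linter.style.haveILetI false

universe u

open CategoryTheory CategoryTheory.Limits AlgebraicGeometry TopologicalSpace Opposite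

namespace Groth.L18.GammaLC

open Groth.L17

variable {Y : Scheme.{u}} {V₂ V₁ : Y.Opens} (h : V₂ ≤ V₁)

theorem rightDerived_prop_of_natIso {C D : Type*} [Category C] [Abelian C] [HasInjectiveResolutions C] [Category D] [Abelian D]
    {F G : C ⥤ D} [F.Additive] [G.Additive] (e : F ≅ G) (P : ObjectProperty D) [P.IsClosedUnderIsomorphisms]
    (X : C) (n : ℕ) (hG : P ((G.rightDerived n).obj X)) : P ((F.rightDerived n).obj X) := by
  let I := injectiveResolution X
  refine P.prop_of_iso (I.isoRightDerivedObj G n ≪≫ ?_ ≪≫ (I.isoRightDerivedObj F n).symm) hG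
  exact (HomologicalComplex.homologyFunctor D (ComplexShape.up ℕ) n).mapIso
    ((NatIso.mapHomologicalComplex e.symm (ComplexShape.up ℕ)).app I.cocomplex)

theorem rightDerived_natIso {C D : Type*} [Category C] [Abelian C] [HasInjectiveResolutions C] [Category D] [Abelian D]
    {F G : C ⥤ D} [F.Additive] [G.Additive] (e : F ≅ G) (X : C) (n : ℕ) :
    Nonempty ((F.rightDerived n).obj X ≅ (G.rightDerived n).obj X) := by
  let I := injectiveResolution X
  exact ⟨I.isoRightDerivedObj F n ≪≫ (HomologicalComplex.homologyFunctor D (ComplexShape.up ℕ) n).mapIso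
    ((NatIso.mapHomologicalComplex e (ComplexShape.up ℕ)).app I.cocomplex) ≪≫ (I.isoRightDerivedObj G n).symm⟩

attribute [local instance] PushQCoh.additive_push

instance additive_restrict {A B : Scheme.{u}} (f : A ⟶ B) [IsOpenImmersion f] : (Scheme.Modules.restrictFunctor f).Additive :=
  haveI := preservesBinaryBiproducts_of_preservesBinaryCoproducts (Scheme.Modules.restrictFunctor f)
  Functor.additive_of_preservesBinaryBiproducts _

variable (V₂ V₁) in
/-- The open `V₂ ∩ V₁` of `V₁`. -/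
abbrev U' : (V₁ : Scheme.{u}).Opens := V₁.ι ⁻¹ᵁ V₂

variable (V₂ V₁) in
/-- Sections with supports in `V₁ ∖ V₂`. -/
noncomputable abbrev G : Y.Modules ⥤ Y.Modules :=
  Scheme.Modules.restrictFunctor V₁.ι ⋙ DCoh.gammaZ (U' V₂ V₁).ι ⋙ Scheme.Modules.pushforward V₁.ι

theorem isQCoh_rightDerived_G [QuasiCompact V₁.ι] [QuasiCompact V₂.ι] [HasInjectiveResolutions Y.Modules]
    (M : Y.Modules) [Coh.IsQCoh M] (i : ℕ) : Coh.IsQCoh (((G V₂ V₁).rightDerived i).obj M) := by
  haveI : QuasiCompact (U' V₂ V₁).ι :=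
    MorphismProperty.of_isPullback (P := @QuasiCompact) (isPullback_morphismRestrict V₁.ι V₂) ‹_›
  let unit := (Scheme.Modules.restrictAdjunction (U' V₂ V₁).ι).unit
  let φ : G V₂ V₁ ⟶ Scheme.Modules.restrictFunctor V₁.ι ⋙ Scheme.Modules.pushforward V₁.ι :=
    Functor.whiskerLeft (Scheme.Modules.restrictFunctor V₁.ι)
      (Functor.whiskerRight (Groth.L04.SupportSh.inclM (U' V₂ V₁).ι) (Scheme.Modules.pushforward V₁.ι))
  let ψ : Scheme.Modules.restrictFunctor V₁.ι ⋙ Scheme.Modules.pushforward V₁.ι ⟶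
      Scheme.Modules.restrictFunctor V₁.ι ⋙ (Scheme.Modules.restrictFunctor (U' V₂ V₁).ι ⋙
        Scheme.Modules.pushforward (U' V₂ V₁).ι) ⋙ Scheme.Modules.pushforward V₁.ι :=
    Functor.whiskerLeft (Scheme.Modules.restrictFunctor V₁.ι)
      (Functor.whiskerRight unit (Scheme.Modules.pushforward V₁.ι))
  have w : φ ≫ ψ = 0 := by
    ext N : 2
    refine ((Scheme.Modules.pushforward V₁.ι).map_comp _ _).symm.trans ?_
    exact (congrArg (Scheme.Modules.pushforward V₁.ι).map (kernel.condition _)).trans (Functor.map_zero _ _ _)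
  haveI : (Scheme.Modules.pushforward V₁.ι).IsRightAdjoint :=
    (Scheme.Modules.pullbackPushforwardAdjunction V₁.ι).isRightAdjoint
  haveI : PreservesFiniteLimits (Scheme.Modules.pushforward V₁.ι) := inferInstance
  have hex : ∀ I : Y.Modules, Injective I → (ShortComplex.mk (φ.app I) (ψ.app I) (by
      rw [← NatTrans.comp_app, w, zero_app])).ShortExact := fun I hI => by
    let S : ShortComplex (V₁ : Scheme.{u}).Modules := ShortComplex.mk
      (kernel.ι (unit.app (I.restrict V₁.ι))) (unit.app (I.restrict V₁.ι)) (kernel.condition _)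
    have hS : S.Exact := ShortComplex.exact_of_f_is_kernel _ (kernelIsKernel _)
    refine ShortComplex.ShortExact.mk' ?_ ?_ ?_
    · exact hS.map_of_mono_of_preservesKernel (Scheme.Modules.pushforward V₁.ι)
        (inferInstanceAs (Mono (kernel.ι (unit.app (I.restrict V₁.ι))))) inferInstance
    · exact (Scheme.Modules.pushforward V₁.ι).map_mono (kernel.ι (unit.app (I.restrict V₁.ι)))
    · refine ⟨fun {Z} a b hab => Scheme.Modules.hom_ext _ _ fun T => ?_⟩
      ext z
      obtain ⟨y, hy⟩ := PushMV.surjective_res_of_injective I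
        (Scheme.Hom.image_mono V₁.ι ((U' V₂ V₁).ι.image_preimage_le (V₁.ι ⁻¹ᵁ T))) z
      have := congr($(hab).app T y)
      refine Eq.trans ?_ (this.trans ?_)
      · exact (congrArg (a.app T) hy).symm
      · exact congrArg (b.app T) hy
  have h2 : ∀ n, PushQCoh.QC Y (((Scheme.Modules.restrictFunctor V₁.ι ⋙
      Scheme.Modules.pushforward V₁.ι).rightDerived n).obj M) := fun n => by
    haveI := PushQCoh.hasInjectiveResolutions (V₁ : Scheme.{u})
    haveI : Coh.IsQCoh (M.restrict V₁.ι) := Scheme.Modules.isQuasicoherent_restrictFunctor V₁.ι M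
    obtain ⟨e⟩ := PushQCoh.nonempty_rightDerived_restrict_push V₁.ι V₁.ι M n
    exact (PushQCoh.QC Y).prop_of_iso e.symm (PushQCoh.isQCoh_Rpush V₁.ι (M.restrict V₁.ι) n)
  have h3 : ∀ n, PushQCoh.QC Y (((Scheme.Modules.restrictFunctor V₁.ι ⋙
      (Scheme.Modules.restrictFunctor (U' V₂ V₁).ι ⋙ Scheme.Modules.pushforward (U' V₂ V₁).ι) ⋙
        Scheme.Modules.pushforward V₁.ι).rightDerived n).obj M) := fun n => by
    refine rightDerived_prop_of_natIso (G := Scheme.Modules.restrictFunctor ((U' V₂ V₁).ι ≫ V₁.ι) ⋙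
      Scheme.Modules.pushforward ((U' V₂ V₁).ι ≫ V₁.ι)) ?_ _ M n ?_
    · exact Functor.isoWhiskerLeft _ (Functor.associator _ _ _) ≪≫ (Functor.associator _ _ _).symm ≪≫
        Functor.isoWhiskerRight (Scheme.Modules.restrictFunctorComp _ _).symm _ ≪≫
        Functor.isoWhiskerLeft _ (Scheme.Modules.pushforwardComp _ _)
    · haveI := PushQCoh.hasInjectiveResolutions ((U' V₂ V₁) : Scheme.{u})
      haveI : Coh.IsQCoh (M.restrict ((U' V₂ V₁).ι ≫ V₁.ι)) :=
        Scheme.Modules.isQuasicoherent_restrictFunctor _ M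
      obtain ⟨e⟩ := PushQCoh.nonempty_rightDerived_restrict_push ((U' V₂ V₁).ι ≫ V₁.ι) ((U' V₂ V₁).ι ≫ V₁.ι) M n
      exact (PushQCoh.QC Y).prop_of_iso e.symm (PushQCoh.isQCoh_Rpush _ (M.restrict _) n)
  cases i with
  | zero =>
    exact Groth.L04.SupportSh.prop_rightDerived_zero φ ψ w hex (PushQCoh.QC Y)
      (fun f h1 h2 => @Groth.L20.Strat.isQCoh_kernel _ _ _ h1 h2 f) M (h2 0) (h3 0)
  | succ k =>
    exact DerivedMV.prop_rightDerived_succ φ ψ w hex (PushQCoh.QC Y)
      (fun f h1 h2 => @Groth.L20.Strat.isQCoh_kernel _ _ _ h1 h2 f)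
      (fun f h1 h2 => @Groth.L16.Devissage.isQCoh_cokernel _ _ _ h1 h2 f)
      (fun S hS h1 h3 => QCohExtension.isQCoh_extension S hS h1 h3) M k (h2 k) (h3 k) (h2 (k + 1)) (h3 (k + 1))

/-- `G` computes `sectSuppLC` on underlying abelian sheaves. -/
theorem nonempty_G_toAb : Nonempty (G V₂ V₁ ⋙ toAbShF Y ≅
    toAbShF Y ⋙ SuppFam.sectSuppLC (X := Y.toTopCat) h) := by
  obtain ⟨e⟩ := nonempty_gammaZ_toAb (U' V₂ V₁)
  refine ⟨NatIso.ofComponents (fun M => (CohTop.push (CohCx.incl (X := Y.toTopCat) V₁)).mapIso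
    (e.app (M.restrict V₁.ι))) fun {M N} f => ?_⟩
  exact ((CohTop.push (CohCx.incl (X := Y.toTopCat) V₁)).map_comp _ _).symm.trans
    ((congrArg (CohTop.push (CohCx.incl (X := Y.toTopCat) V₁)).map
      (e.hom.naturality ((Scheme.Modules.restrictFunctor V₁.ι).map f))).trans
      ((CohTop.push (CohCx.incl (X := Y.toTopCat) V₁)).map_comp _ _))

theorem nonempty_HZshLC_iso [HasInjectiveResolutions Y.Modules] (M : Y.Modules) (i : ℕ) :
    Nonempty (Coh.toAb (((G V₂ V₁).rightDerived i).obj M) ≅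
      (SuppFam.HZshLC (X := Y.toTopCat) h i).obj (Coh.toAb M)) := by
  obtain ⟨α⟩ := nonempty_G_toAb h
  haveI : PreservesFiniteLimits (toAbShF Y) :=
    inferInstanceAs (PreservesFiniteLimits (SheafOfModules.toSheaf.{u} Y.ringCatSheaf))
  haveI : PreservesFiniteColimits (toAbShF Y) :=
    inferInstanceAs (PreservesFiniteColimits (SheafOfModules.toSheaf.{u} Y.ringCatSheaf))
  obtain ⟨e₁⟩ := Groth.L27.StalkRpush.nonempty_rightDerived_comp_exact (G V₂ V₁) (toAbShF Y) i
  obtain ⟨e₂⟩ := rightDerived_natIso α M i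
  haveI := preservesFiniteLimits_sectSuppLC (T := Y.toTopCat) h
  letI := HasDerivedCategory.standard (Sheaf (Opens.grothendieckTopology Y) AddCommGrpCat.{u})
  obtain ⟨e₃⟩ := GrothSS.nonempty_rightDerived_exact_comp (toAbShF Y) (SuppFam.sectSuppLC (X := Y.toTopCat) h)
    (fun Q hQ q hq => by
      obtain ⟨k, rfl⟩ : ∃ k, q = k + 1 := ⟨q - 1, by omega⟩
      exact isZero_rightDerived_sectSuppLC h k _ (PushMV.isFlasque_of_injective Q)) M i
  exact ⟨(e₁.app M).symm ≪≫ e₂ ≪≫ e₃⟩

end Groth.L18.GammaLC
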