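import Groth.Agent.L04.SupportSh.Modules
import Groth.Agent.L17.SectSupp
import Groth.Agent.L17.OpenTransfer
import Groth.Prelude.Def_SuppFam

/-! Sections with supports in a locally closed subset, on modules. -/

set_option autoImplicit false
set_option backward.isDefEq.respectTransparency false
set_option backward.isDefEq.respectTransparency.types false

universe u

open CategoryTheory CategoryTheory.Limits AlgebraicGeometry TopologicalSpace Opposite

namespace Groth.L18.GammaLC

open Groth.L17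

variable {X : Scheme.{u}} (U : X.Opens) (M : X.Modules)

theorem res_of_eq {F : CohTop.Ab X.toTopCat} {V W W' : X.Opens} (h : W = W') (i : W ≤ V) (i' : W' ≤ V)
    (s : F.obj.obj (op V)) :
    F.obj.map (homOfLE i).op s = 0 ↔ F.obj.map (homOfLE i').op s = 0 := by
  subst h
  exact Iff.rfl

theorem unit_eq_zero_iff (V : X.Opens) (s : (Coh.toAb M).obj.obj (op V)) :
    ((toAbShF X).map ((Scheme.Modules.restrictAdjunction U.ι).unit.app M)).hom.app (op V) s = 0 ↔
      ((TopCat.Sheaf.pullbackPushforwardAdjunction AddCommGrpCat.{u} (CohCx.incl (X := X.toTopCat) U)).unit.app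
        (Coh.toAb M)).hom.app (op V) s = 0 := by
  rw [SectSupp.ker_unit_app]
  have e : U.ι ''ᵁ (U.ι ⁻¹ᵁ V) = V ⊓ U := by
    rw [Scheme.Hom.image_preimage_eq_opensRange_inf, Scheme.Opens.opensRange_ι, inf_comm]
  exact res_of_eq e (U.ι.image_preimage_le V) inf_le_left s

theorem hom_eq_zero_of_sections {F G : CohTop.Ab X.toTopCat} (f : F ⟶ G)
    (h : ∀ (V : X.Opens) (s : F.obj.obj (op V)), f.hom.app (op V) s = 0) : f = 0 :=
  Sheaf.hom_ext (NatTrans.ext (funext fun V => by ext s; exact h V.unop s))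

theorem nonempty_gammaZ_toAb : Nonempty (DCoh.gammaZ U.ι ⋙ toAbShF X ≅
    toAbShF X ⋙ LocCohZ.sectSuppF (X := X.toTopCat) U) := by
  let a : ∀ M : X.Modules, (toAbShF X).obj ((DCoh.gammaZ U.ι).obj M) ⟶ (toAbShF X).obj M := fun M =>
    (toAbShF X).map (kernel.ι ((Scheme.Modules.restrictAdjunction U.ι).unit.app M))
  have ha : ∀ M : X.Modules, a M ≫ (TopCat.Sheaf.pullbackPushforwardAdjunction AddCommGrpCat.{u}
      (CohCx.incl (X := X.toTopCat) U)).unit.app (Coh.toAb M) = 0 := fun M => by
    refine hom_eq_zero_of_sections _ fun V s => (unit_eq_zero_iff U M V ((a M).hom.app (op V) s)).1 ?_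
    have h := congrArg (fun t : _ ⟶ _ => ((toAbShF X).map t).hom.app (op V) s)
      (kernel.condition ((Scheme.Modules.restrictAdjunction U.ι).unit.app M))
    simp only [Functor.map_comp, Functor.map_zero] at h
    exact h
  have hb : ∀ M : X.Modules, SectSupp.incl (X := X.toTopCat) U (Coh.toAb M) ≫
      (toAbShF X).map ((Scheme.Modules.restrictAdjunction U.ι).unit.app M) = 0 := fun M => by
    refine hom_eq_zero_of_sections _ fun V s => (unit_eq_zero_iff U M V
      ((SectSupp.incl (X := X.toTopCat) U (Coh.toAb M)).hom.app (op V) s)).2 ?_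
    exact congrArg (fun t : (LocCohZ.sectSuppF (X := X.toTopCat) U).obj (Coh.toAb M) ⟶ _ => t.hom.app (op V) s)
      (kernel.condition _)
  let φ : ∀ M : X.Modules, (toAbShF X).obj ((DCoh.gammaZ U.ι).obj M) ⟶
      (LocCohZ.sectSuppF (X := X.toTopCat) U).obj (Coh.toAb M) := fun M => kernel.lift _ (a M) (ha M)
  have hl : ∀ M, φ M ≫ SectSupp.incl (X := X.toTopCat) U (Coh.toAb M) = a M := fun M => kernel.lift_ι _ _ _
  haveI : PreservesFiniteLimits (toAbShF X) :=
    inferInstanceAs (PreservesFiniteLimits (SheafOfModules.toSheaf.{u} X.ringCatSheaf))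
  have hiso : ∀ M, IsIso (φ M) := fun M => by
    haveI : Mono (a M) := (toAbShF X).map_mono _
    haveI : Mono (φ M) := mono_of_mono_fac (hl M)
    have hlim := isLimitForkMapOfIsLimit' (toAbShF X)
      (kernel.condition ((Scheme.Modules.restrictAdjunction U.ι).unit.app M))
      (kernelIsKernel ((Scheme.Modules.restrictAdjunction U.ι).unit.app M))
    obtain ⟨b, hb'⟩ : ∃ b : (LocCohZ.sectSuppF (X := X.toTopCat) U).obj (Coh.toAb M) ⟶
        (toAbShF X).obj ((DCoh.gammaZ U.ι).obj M), b ≫ a M = SectSupp.incl (X := X.toTopCat) U (Coh.toAb M) :=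
      ⟨(KernelFork.IsLimit.lift' hlim _ (hb M)).1, (KernelFork.IsLimit.lift' hlim _ (hb M)).2⟩
    have this : b ≫ φ M = 𝟙 _ := by
      refine (cancel_mono (SectSupp.incl (X := X.toTopCat) U (Coh.toAb M))).1 ?_
      rw [Category.id_comp]
      exact ((Category.assoc _ _ _).trans (congrArg (b ≫ ·) (hl M))).trans hb'
    haveI : IsSplitEpi (φ M) := .mk' ⟨b, this⟩
    exact isIso_of_mono_of_isSplitEpi _
  refine ⟨NatIso.ofComponents (fun M => @asIso _ _ _ _ (φ M) (hiso M)) fun {M N} f => ?_⟩
  change (toAbShF X).map ((DCoh.gammaZ U.ι).map f) ≫ φ N =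
    φ M ≫ (LocCohZ.sectSuppF (X := X.toTopCat) U).map ((toAbShF X).map f)
  apply (cancel_mono (SectSupp.incl (X := X.toTopCat) U (Coh.toAb N))).1
  rw [Category.assoc, hl, Category.assoc]
  refine Eq.trans ?_ (congrArg (φ M ≫ ·) (SectSupp.incl_map (X := X.toTopCat) U ((toAbShF X).map f))).symm
  refine Eq.trans ?_ (Category.assoc _ _ _)
  refine Eq.trans ?_ (congrArg (· ≫ (toAbShF X).map f) (hl M)).symm
  refine ((toAbShF X).map_comp _ _).symm.trans (Eq.trans ?_ ((toAbShF X).map_comp _ _))
  exact congrArg (toAbShF X).map (kernel.lift_ι _ _ _)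

end Groth.L18.GammaLC
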