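import Groth.Agent.L19.Curves.Valuative
import Groth.Agent.S2654
import Groth.Agent.S7450
import Groth.Prelude.Def_EGA4b
import Mathlib.AlgebraicGeometry.ValuativeCriterion
import Mathlib.AlgebraicGeometry.FunctionField

/-!
The valuative criteria on discrete valuation rings essentially of finite type over an excellent base.
-/

set_option autoImplicit false
set_option linter.style.haveILetI false
set_option backward.isDefEq.respectTransparency.types false
set_option backward.isDefEq.respectTransparency false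

universe u

open CategoryTheory CategoryTheory.Limits AlgebraicGeometry

namespace Groth.L18.ValCritEss

theorem nagata_of_excellent {S : Scheme.{u}} (hS : ∀ U : S.affineOpens, EGA4.IsExcellent Γ(S, U.1)) :
    ∀ W : S.affineOpens, CAlg.IsNagata Γ(S, W) :=
  fun W => Groth.Agent.S2654.result _ ⟨(hS W).1, (hS W).2.2.1, (hS W).2.2.2⟩

theorem exists_essFiniteType {C S : Scheme.{u}} (r : C ⟶ S) [LocallyOfFiniteType r] (c : C) :
    ∃ (U : S.affineOpens) (φ : Γ(S, U.1) ⟶ CommRingCat.of (C.presheaf.stalk c)),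
      Spec.map φ ≫ U.2.fromSpec = C.fromSpecStalk c ≫ r ∧ φ.hom.EssFiniteType := by
  obtain ⟨_, ⟨W, hW, rfl⟩, hcW, -⟩ :=
    S.isBasis_affineOpens.exists_subset_of_mem_open (Set.mem_univ (r c)) isOpen_univ
  obtain ⟨_, ⟨W', hW', rfl⟩, hcW', hle⟩ :=
    C.isBasis_affineOpens.exists_subset_of_mem_open (show c ∈ r ⁻¹ᵁ W from hcW) (r ⁻¹ᵁ W).2
  replace hle : W' ≤ r ⁻¹ᵁ W := hle
  refine ⟨⟨W, hW⟩, r.appLE W W' hle ≫ C.presheaf.germ W' c hcW', ?_, ?_⟩
  · rw [← IsAffineOpen.fromSpecStalk_eq_fromSpecStalk hW' hcW']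
    simp only [Spec.map_comp, Category.assoc, IsAffineOpen.fromSpecStalk]
    rw [IsAffineOpen.SpecMap_appLE_fromSpec r hW hW' hle]
  · letI := C.presheaf.algebra_section_stalk ⟨c, hcW'⟩
    haveI := IsAffineOpen.isLocalization_stalk hW' ⟨c, hcW'⟩
    have h1 : (C.presheaf.germ W' c hcW').hom.EssFiniteType :=
      Algebra.EssFiniteType.of_isLocalization _ (IsAffineOpen.primeIdealOf hW' ⟨c, hcW'⟩).asIdeal.primeCompl
    exact (r.finiteType_appLE hW hW' hle).essFiniteType.comp h1

theorem isDVR_of_dim_one {R : Type u} [CommRing R] [IsNoetherianRing R] [IsLocalRing R] [IsDomain R]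
    [IsIntegrallyClosed R] (h : ringKrullDim R = 1) : IsDiscreteValuationRing R := by
  haveI := Groth.L19.Curves.valuationRing_of_dim_one h
  have hF : ¬ IsField R := fun hF => by
    rw [ringKrullDim_eq_zero_of_isField hF] at h
    exact zero_ne_one h
  exact ((IsDiscreteValuationRing.TFAE R hF).out 1 0).mp ‹_›

variable {X Y S : Scheme.{u}} (f : X ⟶ Y) (g : Y ⟶ S) [LocallyOfFiniteType f] [LocallyOfFiniteType g]
  [QuasiCompact f]

theorem existence (hS : ∀ U : S.affineOpens, EGA4.IsExcellent Γ(S, U.1))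
    (H : ∀ sq : ValuativeCommSq f, IsDiscreteValuationRing sq.R →
      (∃ (U : S.affineOpens) (φ : Γ(S, U.1) ⟶ CommRingCat.of sq.R),
        Spec.map φ ≫ U.2.fromSpec = sq.i₂ ≫ g ∧ φ.hom.EssFiniteType) → sq.commSq.HasLift) :
    ValuativeCriterion.Existence f := by
  have hN := nagata_of_excellent hS
  haveI := Groth.L19.Curves.isLocallyNoetherian_of_nagata hN
  haveI : UniversallyClosed f := by
    refine Groth.L19.Curves.universallyClosed_of_curveLifts g f hN ?_
    intro C r _ _ _ hn c hc hd U hU u h hh hu k hk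
    haveI : IsLocallyNoetherian C := LocallyOfFiniteType.isLocallyNoetherian r
    haveI := hn c
    haveI := Groth.L19.Curves.valuationRing_of_dim_one hd
    obtain ⟨W, φ, hφ, hφft⟩ := exists_essFiniteType r c
    obtain ⟨⟨⟨l, h1, h2⟩⟩⟩ := H
      { R := C.presheaf.stalk c
        K := FractionRing (C.presheaf.stalk c)
        i₁ := k ≫ u
        i₂ := C.fromSpecStalk c ≫ h
        commSq := ⟨by rw [Category.assoc, hu, reassoc_of% hk]⟩ }
      (isDVR_of_dim_one hd) ⟨W, φ, hφ.trans ((congrArg (C.fromSpecStalk c ≫ ·) hh.symm).trans (Category.assoc _ _ _).symm), hφft⟩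
    exact ⟨l, h2, h1⟩
  have h1 : (@UniversallyClosed : MorphismProperty Scheme.{u}) f := inferInstance
  rw [UniversallyClosed.eq_valuativeCriterion] at h1
  exact h1.1

theorem uniqueness (hS : ∀ U : S.affineOpens, EGA4.IsExcellent Γ(S, U.1))
    (H : ∀ sq : ValuativeCommSq f, IsDiscreteValuationRing sq.R →
      (∃ (U : S.affineOpens) (φ : Γ(S, U.1) ⟶ CommRingCat.of sq.R),
        Spec.map φ ≫ U.2.fromSpec = sq.i₂ ≫ g ∧ φ.hom.EssFiniteType) → Subsingleton sq.commSq.LiftStruct) :
    IsSeparated f := by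
  have hN := nagata_of_excellent hS
  haveI := Groth.L19.Curves.isLocallyNoetherian_of_nagata hN
  refine (Groth.Agent.S7450.result S hN (f ≫ g) g f rfl).2 ?_
  intro C r _ _ _ hn c hc hd U hU u h hh hu k hk l l' hl hl' hl₂ hl₂'
  haveI : IsLocallyNoetherian C := LocallyOfFiniteType.isLocallyNoetherian r
  haveI := hn c
  haveI := Groth.L19.Curves.valuationRing_of_dim_one hd
  obtain ⟨W, φ, hφ, hφft⟩ := exists_essFiniteType r c
  haveI := H
    { R := C.presheaf.stalk c
      K := FractionRing (C.presheaf.stalk c)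
      i₁ := k ≫ u
      i₂ := C.fromSpecStalk c ≫ h
      commSq := ⟨by rw [Category.assoc, hu, reassoc_of% hk]⟩ }
    (isDVR_of_dim_one hd) ⟨W, φ, hφ.trans ((congrArg (C.fromSpecStalk c ≫ ·) hh.symm).trans (Category.assoc _ _ _).symm), hφft⟩
  exact congrArg CommSq.LiftStruct.l (this.elim ⟨l, hl', hl⟩ ⟨l', hl₂', hl₂⟩)

end Groth.L18.ValCritEss
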