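import Groth.Agent.L18.GradedGen
import Mathlib.RingTheory.Finiteness.Basic
import Mathlib.Algebra.Module.GradedModule

/-!
Stabilisation of degrees of finite graded modules, and finite generation of Veronese subalgebras.
-/

noncomputable section

namespace Groth.L18

open HomogeneousIdeal DirectSum

universe u

variable {R A : Type u} [CommRing R] [CommRing A] [Algebra R A]
variable (𝒜 : ℕ → Submodule R A) [GradedAlgebra 𝒜]

section Module

variable {M : Type u} [AddCommGroup M] [Module R M] [Module A M] [IsScalarTower R A M]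
variable (ℳ : ℕ → Submodule R M) [DirectSum.Decomposition ℳ] [SetLike.GradedSMul 𝒜 ℳ]

theorem decompose_smul_of_mem {m : M} {e : ℕ} (hm : m ∈ ℳ e) (c : A) (n : ℕ) :
    (DirectSum.decompose ℳ (c • m) n : M) =
      if e ≤ n then GradedRing.proj 𝒜 (n - e) c • m else 0 := by
  induction c using DirectSum.Decomposition.inductionOn 𝒜 with
  | zero => simp
  | homogeneous x =>
    rename_i i
    have h : (x : A) • m ∈ ℳ (i + e) := SetLike.GradedSMul.smul_mem x.2 hm
    rcases eq_or_ne (i + e) n with rfl | hne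
    · rw [DirectSum.decompose_of_mem_same ℳ h, if_pos (Nat.le_add_left _ _), Nat.add_sub_cancel,
        proj_of_mem 𝒜 x.2]
    · rw [DirectSum.decompose_of_mem_ne ℳ h hne]
      split
      · rw [proj_of_mem_ne 𝒜 x.2 (by omega), zero_smul]
      · rfl
  | add a b ha hb =>
    rw [add_smul, DirectSum.decompose_add, DirectSum.add_apply, Submodule.coe_add, ha, hb]
    split <;> simp [add_smul]

theorem exists_shift_generated [Algebra.FiniteType (𝒜 0) A] [Module.Finite A M] :
    ∃ (n₁ h : ℕ), 0 < h ∧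
      ∀ n : ℕ, n₁ ≤ n → ℳ (n + h) = (𝒜 h : Submodule R A) • (ℳ n : Submodule R M) := by
  classical
  obtain ⟨h, hh, H⟩ := exists_period 𝒜
  obtain ⟨t, ht⟩ := (Module.finite_def (R := A) (M := M)).mp inferInstance
  set T : Finset (ℕ × M) := t.biUnion fun x =>
    (DirectSum.decompose ℳ x).support.image fun i => (i, (DirectSum.decompose ℳ x i : M)) with hT
  have hTmem : ∀ p ∈ T, p.2 ∈ ℳ p.1 := by
    intro p hp
    simp only [hT, Finset.mem_biUnion, Finset.mem_image] at hp
    obtain ⟨x, -, i, -, rfl⟩ := hp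
    exact SetLike.coe_mem _
  have hspan : Submodule.span A (Prod.snd '' (T : Set (ℕ × M))) = ⊤ := by
    rw [_root_.eq_top_iff, ← ht, Submodule.span_le]
    intro x hx
    rw [← DirectSum.sum_support_decompose ℳ x]
    refine Submodule.sum_mem _ fun i hi => Submodule.subset_span ⟨(i, (DirectSum.decompose ℳ x i : M)), ?_, rfl⟩
    simp only [hT, Finset.mem_coe, Finset.mem_biUnion, Finset.mem_image]
    exact ⟨x, hx, i, hi, rfl⟩
  set e₀ := T.sup Prod.fst with he₀
  refine ⟨e₀ + h, h, hh, fun n hn => le_antisymm ?_ ?_⟩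
  · intro x hx
    suffices K : ∀ y ∈ Submodule.span A (Prod.snd '' (T : Set (ℕ × M))), ∀ c : A,
        (DirectSum.decompose ℳ (c • y) (n + h) : M) ∈ (𝒜 h : Submodule R A) • (ℳ n : Submodule R M) by
      have := K x (by rw [hspan]; trivial) 1
      rwa [one_smul, DirectSum.decompose_of_mem_same ℳ hx] at this
    intro y hy
    refine Submodule.span_induction ?_ ?_ ?_ ?_ hy
    · rintro _ ⟨⟨i, z⟩, hiz, rfl⟩ c
      have hz : z ∈ ℳ i := hTmem _ hiz
      have hi : i ≤ e₀ := Finset.le_sup (f := Prod.fst) (Finset.mem_coe.mp hiz)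
      rw [decompose_smul_of_mem 𝒜 ℳ hz, if_pos (by omega)]
      have hc : GradedRing.proj 𝒜 (n + h - i) c ∈ 𝒜 h * 𝒜 (n + h - i - h) :=
        (H (n + h - i) (by omega)) ▸ proj_mem 𝒜 c _
      refine Submodule.mul_induction_on hc ?_ ?_
      · intro a ha b hb
        rw [mul_smul]
        refine Submodule.smul_mem_smul ha ?_
        have : b • z ∈ ℳ (n + h - i - h + i) := SetLike.GradedSMul.smul_mem hb hz
        rwa [show n + h - i - h + i = n by omega] at this
      · intro a b ha hb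
        rw [add_smul]; exact add_mem ha hb
    · intro c; simp
    · intro y z _ _ hy hz c
      rw [smul_add, DirectSum.decompose_add, DirectSum.add_apply, Submodule.coe_add]
      exact add_mem (hy c) (hz c)
    · intro r y _ hy c
      rw [← mul_smul]; exact hy _
  · rw [Submodule.smul_le]
    intro a ha m hm
    rw [add_comm n h]
    exact SetLike.GradedSMul.smul_mem ha hm

end Module

section Veronese

variable {B : Type u} [CommRing B] [Algebra R B] (ℬ : ℕ → Submodule R B) [GradedAlgebra ℬ]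

theorem veronese_finiteType [Algebra.FiniteType (𝒜 0) A] (d : ℕ) (hd : 0 < d) (φ : B →ₐ[R] A)
    (hφ : Function.Injective φ)
    (hdeg : ∀ n : ℕ, Submodule.map φ.toLinearMap (ℬ n) = 𝒜 (n * d)) :
    Algebra.FiniteType (ℬ 0) B := by
  classical
  obtain ⟨s, hs, hs'⟩ := GradedAlgebra.exists_finset_adjoin_eq_top_and_homogeneous_ne_zero 𝒜
  choose! w hw0 hw using hs'
  have hlift : ∀ (n : ℕ) (a : A), a ∈ 𝒜 (n * d) → ∃ b ∈ ℬ n, φ b = a := by
    intro n a ha
    rw [← hdeg n] at ha
    obtain ⟨b, hb, rfl⟩ := ha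
    exact ⟨b, hb, rfl⟩
  have hpow : ∀ (f : A → ℕ), ∏ e ∈ s, e ^ f e ∈ 𝒜 (∑ e ∈ s, f e * w e) := by
    intro f
    refine SetLike.prod_mem_graded 𝒜 (fun e => f e * w e) (fun e => e ^ f e) ?_
    intro e he
    simpa using SetLike.pow_mem_graded (f e) (hw e he)
  -- the finitely many candidate generators
  set G : Set A := ((fun e => e ^ d) '' (s : Set A)) ∪
    {x | ∃ g : s → Fin d, d ∣ ∑ e : s, (g e : ℕ) * w e ∧ x = ∏ e : s, (e : A) ^ (g e : ℕ)} with hG
  have hGfin : G.Finite := by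
    refine (s.finite_toSet.image _).union ?_
    refine (Set.finite_range fun g : s → Fin d => ∏ e : s, (e : A) ^ (g e : ℕ)).subset ?_
    rintro x ⟨g, -, rfl⟩
    exact ⟨g, rfl⟩
  have hGim : G ⊆ Set.range φ := by
    rintro x (⟨e, he, rfl⟩ | ⟨g, ⟨q, hq⟩, rfl⟩)
    · obtain ⟨b, -, hb⟩ := hlift (w e) (e ^ d) (by
        have := SetLike.pow_mem_graded d (hw e he)
        rwa [smul_eq_mul, mul_comm] at this)
      exact ⟨b, hb⟩
    · obtain ⟨b, -, hb⟩ := hlift q (∏ e : s, (e : A) ^ (g e : ℕ)) (by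
        rw [mul_comm, ← hq]
        refine SetLike.prod_mem_graded 𝒜 (fun e : s => (g e : ℕ) * w e)
          (fun e : s => (e : A) ^ (g e : ℕ)) ?_
        intro e _
        simpa using SetLike.pow_mem_graded (g e : ℕ) (hw e e.2))
      exact ⟨b, hb⟩
  have hpre : (φ ⁻¹' G).Finite := hGfin.preimage hφ.injOn
  refine ⟨⟨hpre.toFinset, ?_⟩⟩
  rw [hpre.coe_toFinset]
  set T := (Algebra.adjoin (ℬ 0) (φ ⁻¹' G)).toSubring.map φ.toRingHom with hTdef
  have hG' : G ⊆ T := by
    intro x hx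
    obtain ⟨b, rfl⟩ := hGim hx
    exact ⟨b, Algebra.subset_adjoin hx, rfl⟩
  have h0 : ∀ a ∈ 𝒜 0, a ∈ T := by
    intro a ha
    obtain ⟨b, hb, rfl⟩ := hlift 0 a (by rwa [Nat.zero_mul])
    exact ⟨b, Subalgebra.algebraMap_mem (Algebra.adjoin (ℬ 0) (φ ⁻¹' G)) (⟨b, hb⟩ : ℬ 0), rfl⟩
  have hA : ∀ n : ℕ, ∀ a ∈ 𝒜 (n * d), a ∈ T := by
    intro n a ha
    refine Submodule.span_induction ?_ ?_ ?_ ?_ (mem_span_monomials 𝒜 s w hw hs (n * d) ha)
    · rintro x ⟨f, hf, rfl⟩
      have hsplit : ∏ e ∈ s, e ^ f e =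
          (∏ e ∈ s, (e ^ d) ^ (f e / d)) * ∏ e : s, (e : A) ^ (f e % d) := by
        rw [Finset.prod_coe_sort s (fun e => e ^ (f e % d)), ← Finset.prod_mul_distrib]
        refine Finset.prod_congr rfl fun e _ => ?_
        rw [← pow_mul, ← pow_add, Nat.div_add_mod]
      rw [hsplit]
      refine T.mul_mem (T.prod_mem fun e he => T.pow_mem (hG' (Or.inl ⟨e, he, rfl⟩)) _) ?_
      refine hG' (Or.inr ⟨fun e => ⟨f e % d, Nat.mod_lt _ hd⟩, ?_, rfl⟩)
      have h1 : d ∣ ∑ e ∈ s, f e * w e := ⟨n, by rw [hf, mul_comm]⟩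
      have h2 : ∑ e ∈ s, f e * w e =
          d * (∑ e ∈ s, f e / d * w e) + ∑ e ∈ s, f e % d * w e := by
        rw [Finset.mul_sum, ← Finset.sum_add_distrib]
        refine Finset.sum_congr rfl fun e _ => ?_
        conv_lhs => rw [← Nat.div_add_mod (f e) d]
        rw [Nat.add_mul, mul_assoc]
      rw [h2] at h1
      have h3 := (Nat.dvd_add_right (Dvd.intro _ rfl)).mp h1
      rwa [← Finset.sum_coe_sort s (fun e => f e % d * w e)] at h3
    · exact T.zero_mem
    · intro x y _ _ hx hy; exact T.add_mem hx hy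
    · intro r x _ hx
      rw [Algebra.smul_def]
      exact T.mul_mem (h0 _ r.2) hx
  rw [_root_.eq_top_iff]
  rintro b -
  rw [← DirectSum.sum_support_decompose ℬ b]
  refine sum_mem fun i _ => ?_
  have hmem : φ (DirectSum.decompose ℬ b i : B) ∈ 𝒜 (i * d) := by
    rw [← hdeg i]
    exact ⟨_, SetLike.coe_mem _, rfl⟩
  obtain ⟨c, hc, hce⟩ := hA i _ hmem
  rw [← hφ hce]
  exact hc

theorem veronese_isNoetherianRing [IsNoetherianRing A] (d : ℕ) (hd : 0 < d) (φ : B →ₐ[R] A)
    (hφ : Function.Injective φ)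
    (hdeg : ∀ n : ℕ, Submodule.map φ.toLinearMap (ℬ n) = 𝒜 (n * d)) :
    IsNoetherianRing B := by
  obtain ⟨h0, hft⟩ := (isNoetherianRing_iff 𝒜).mp inferInstance
  have hB : Algebra.FiniteType (ℬ 0) B := veronese_finiteType 𝒜 ℬ d hd φ hφ hdeg
  let g : ℬ 0 →+* 𝒜 0 :=
    { toFun := fun b => ⟨φ b, by
        have h := (hdeg 0).le (Submodule.mem_map_of_mem (f := φ.toLinearMap) b.2)
        simpa using h⟩
      map_one' := Subtype.ext (map_one φ)
      map_mul' := fun x y => Subtype.ext (map_mul φ _ _)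
      map_zero' := Subtype.ext (map_zero φ)
      map_add' := fun x y => Subtype.ext (map_add φ _ _) }
  have hg : Function.Bijective g := by
    constructor
    · intro x y hxy
      exact Subtype.ext (hφ (congrArg Subtype.val hxy))
    · intro a
      have h : (a : A) ∈ 𝒜 (0 * d) := by rw [Nat.zero_mul]; exact a.2
      rw [← hdeg 0] at h
      obtain ⟨b, hb, hba⟩ := h
      exact ⟨⟨b, hb⟩, Subtype.ext hba⟩
  have : IsNoetherianRing (ℬ 0) :=
    isNoetherianRing_of_ringEquiv _ (RingEquiv.ofBijective g hg).symm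
  exact Algebra.FiniteType.isNoetherianRing (ℬ 0) B

end Veronese

end Groth.L18
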