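import Groth.Agent.L18.CatenarySpace
import Groth.Agent.L03.Catenary
import Mathlib.RingTheory.Localization.AtPrime.Basic
import Mathlib.RingTheory.EssentialFiniteness
import Mathlib.AlgebraicGeometry.Morphisms.FiniteType
import Mathlib.AlgebraicGeometry.Noetherian

/-!
Universally catenary rings and schemes are detected on local rings.
-/

set_option autoImplicit false
universe u

open CategoryTheory AlgebraicGeometry

namespace Groth.L18.Cat

theorem oCat_of_forall_Iic {α : Type*} [PartialOrder α] (h : ∀ a : α, OCat (Set.Iic a)) : OCat α := by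
  rw [← oCat_dual_iff]
  refine oCat_of_forall_Ici fun a => ?_
  refine (oCat_congr (α := (Set.Iic (OrderDual.ofDual a))ᵒᵈ) ?_).mp (oCat_dual_of (h _))
  exact ⟨⟨fun x => ⟨OrderDual.toDual (OrderDual.ofDual x).1, (OrderDual.ofDual x).2⟩,
    fun x => OrderDual.toDual ⟨OrderDual.ofDual x.1, x.2⟩, fun _ => rfl, fun _ => rfl⟩, Iff.rfl⟩

theorem isCatenary_of_localization_atPrime (S : Type u) [CommRing S]
    (h : ∀ (n : Ideal S) [n.IsPrime], CAlg.IsCatenary (Localization.AtPrime n)) : CAlg.IsCatenary S := by
  rw [isCatenary_iff]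
  refine oCat_of_forall_Iic fun a => ?_
  exact (oCat_congr (IsLocalization.AtPrime.primeSpectrumOrderIso (Localization.AtPrime a.asIdeal) a.asIdeal)).mp
    ((isCatenary_iff _).mp (h a.asIdeal))

theorem isUniversallyCatenary_of_essFiniteType {R : Type u} [CommRing R] (hR : CAlg.IsUniversallyCatenary R)
    (B : Type u) [CommRing B] [Algebra R B] [Algebra.EssFiniteType R B] : CAlg.IsUniversallyCatenary B := by
  haveI := hR.1
  refine ⟨Groth.L03.Catenary.isNoetherianRing_of_essFiniteType (A := R) B, fun S _ _ _ => ?_⟩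
  letI : Algebra R S := ((algebraMap B S).comp (algebraMap R B)).toAlgebra
  haveI : IsScalarTower R B S := IsScalarTower.of_algebraMap_eq' rfl
  haveI : Algebra.EssFiniteType R S := Algebra.EssFiniteType.comp R B S
  exact Groth.L03.Catenary.isCatenary_of_essFiniteType hR S

theorem isUniversallyCatenary_of_localization_maximal (R : Type u) [CommRing R] [IsNoetherianRing R]
    (h : ∀ (m : Ideal R) [m.IsMaximal], CAlg.IsUniversallyCatenary (Localization.AtPrime m)) :
    CAlg.IsUniversallyCatenary R := by
  refine ⟨inferInstance, fun S _ _ _ => isCatenary_of_localization_atPrime S fun n _ => ?_⟩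
  obtain ⟨m, hm, hle⟩ := Ideal.exists_le_maximal (n.comap (algebraMap R S)) (Ideal.IsPrime.ne_top inferInstance)
  have hu : ∀ y : m.primeCompl, IsUnit (algebraMap R (Localization.AtPrime n) y) := fun y => by
    rw [IsScalarTower.algebraMap_apply R S (Localization.AtPrime n)]
    exact IsLocalization.map_units (Localization.AtPrime n) (⟨_, fun hy => y.2 (hle hy)⟩ : n.primeCompl)
  letI : Algebra (Localization.AtPrime m) (Localization.AtPrime n) :=
    (IsLocalization.lift hu : Localization.AtPrime m →+* Localization.AtPrime n).toAlgebra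
  haveI : IsScalarTower R (Localization.AtPrime m) (Localization.AtPrime n) :=
    IsScalarTower.of_algebraMap_eq' (IsLocalization.lift_comp hu).symm
  haveI : Algebra.EssFiniteType R (Localization.AtPrime n) :=
    Algebra.EssFiniteType.comp R S _
  haveI : Algebra.EssFiniteType (Localization.AtPrime m) (Localization.AtPrime n) :=
    Algebra.EssFiniteType.of_comp R _ _
  exact Groth.L03.Catenary.isCatenary_of_essFiniteType (h m) _

theorem isUniversallyCatenary_iff_localization_maximal (R : Type u) [CommRing R] [IsNoetherianRing R] :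
    CAlg.IsUniversallyCatenary R ↔
      ∀ (m : Ideal R) [m.IsMaximal], CAlg.IsUniversallyCatenary (Localization.AtPrime m) :=
  ⟨fun h m _ => by
    haveI : Algebra.EssFiniteType R (Localization.AtPrime m) :=
      Algebra.EssFiniteType.of_isLocalization _ m.primeCompl
    exact isUniversallyCatenary_of_essFiniteType h _,
   isUniversallyCatenary_of_localization_maximal R⟩

theorem isUniversallyCatenary_stalk {S : Scheme.{u}} (h : ∀ (X : Scheme.{u}) (f : X ⟶ S),
    LocallyOfFiniteType f → PtTop.IsCatenarySpace X) [IsLocallyNoetherian S] (s : S) :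
    CAlg.IsUniversallyCatenary (S.presheaf.stalk s) := by
  obtain ⟨U, hU, hsU, -⟩ := exists_isAffineOpen_mem_and_subset (x := s) (U := ⊤) trivial
  haveI : IsNoetherianRing Γ(S, U) := IsLocallyNoetherian.component_noetherian ⟨U, hU⟩
  have hU' : CAlg.IsUniversallyCatenary Γ(S, U) := by
    refine ⟨inferInstance, fun A _ _ hA => ?_⟩
    let φ : Spec (CommRingCat.of A) ⟶ Spec Γ(S, U) :=
      Spec.map (CommRingCat.ofHom (algebraMap Γ(S, U) A))
    haveI : LocallyOfFiniteType φ := by
      rw [HasRingHomProperty.Spec_iff (P := @LocallyOfFiniteType)]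
      exact RingHom.finiteType_algebraMap.mpr hA
    exact (isCatenary_iff_space A).mpr (h _ (φ ≫ hU.fromSpec) inferInstance)
  letI := TopCat.Presheaf.algebra_section_stalk S.presheaf (⟨s, hsU⟩ : U)
  haveI := hU.isLocalization_stalk ⟨s, hsU⟩
  haveI : Algebra.EssFiniteType Γ(S, U) (S.presheaf.stalk s) :=
    Algebra.EssFiniteType.of_isLocalization _ (hU.primeIdealOf ⟨s, hsU⟩).asIdeal.primeCompl
  exact isUniversallyCatenary_of_essFiniteType hU' _

theorem isCatenarySpace_of_stalks {S X : Scheme.{u}} (f : X ⟶ S) [LocallyOfFiniteType f]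
    (h : ∀ s : S, CAlg.IsUniversallyCatenary (S.presheaf.stalk s)) : PtTop.IsCatenarySpace X := by
  rw [isCatenarySpace_iff_stalks]
  intro x
  letI : Algebra (S.presheaf.stalk (f x)) (X.presheaf.stalk x) := (f.stalkMap x).hom.toAlgebra
  haveI : Algebra.EssFiniteType (S.presheaf.stalk (f x)) (X.presheaf.stalk x) :=
    LocallyOfFiniteType.stalkMap f x
  exact Groth.L03.Catenary.isCatenary_of_essFiniteType (A := S.presheaf.stalk (f x)) (h (f x)) _

end Groth.L18.Cat
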