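import Mathlib.AlgebraicGeometry.Morphisms.UniversallyInjective
import Mathlib.AlgebraicGeometry.Morphisms.UniversallyClosed
import Mathlib.AlgebraicGeometry.Morphisms.Affine
import Groth.Prelude.Def_RelSpec
import Groth.Agent.S2913

/-!
# Descending morphisms along a surjection with the same functions
-/

set_option autoImplicit false
set_option linter.style.haveILetI false

noncomputable section

universe u

open CategoryTheory CategoryTheory.Limits AlgebraicGeometry TopologicalSpace Opposite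

namespace Groth.L18.FactorDesc

variable {T Z C S : Scheme.{u}}

/-- The functions on all opens from the functions over the affine opens of a base over which the target is affine. -/
theorem app_bijective_of_affine (f : T ⟶ Z) [QuasiCompact f] [QuasiSeparated f] (h : Z ⟶ S) [IsAffineHom h]
    (H : ∀ W : S.Opens, IsAffineOpen W → Function.Bijective (f.app (h ⁻¹ᵁ W))) (O : Z.Opens) :
    Function.Bijective (f.app O) := by
  have hD : ∀ (U : Z.Opens), IsAffineOpen U → Function.Bijective (f.app U) → ∀ a : Γ(Z, U),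
      Function.Bijective (f.app (Z.basicOpen a)) := by
    intro U hU hbij a
    haveI := hU.isLocalization_basicOpen a
    let res : Γ(Z, U) →+* Γ(Z, Z.basicOpen a) := (Z.presheaf.map (homOfLE (Z.basicOpen_le a)).op).hom
    let resT : Γ(T, f ⁻¹ᵁ U) →+* Γ(T, f ⁻¹ᵁ Z.basicOpen a) :=
      (T.presheaf.map (homOfLE (f.preimage_mono (Z.basicOpen_le a))).op).hom
    have hnat : ∀ x, f.app (Z.basicOpen a) (res x) = resT (f.app U x) := fun x =>
      ConcreteCategory.congr_hom (f.naturality (homOfLE (Z.basicOpen_le a)).op) x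
    letI := resT.toAlgebra
    haveI : IsLocalization.Away (f.app U a) Γ(T, f ⁻¹ᵁ Z.basicOpen a) := RelSpec.QCAlg.isQC_pushforward f U hU a
    have hu : IsUnit (res a) := IsLocalization.Away.algebraMap_isUnit (S := Γ(Z, Z.basicOpen a)) a
    constructor
    · rw [injective_iff_map_eq_zero]
      intro x hx
      obtain ⟨n, x0, hx0⟩ := IsLocalization.Away.surj a x
      change x * res a ^ n = res x0 at hx0
      have h0 : resT (f.app U x0) = 0 := by rw [← hnat, ← hx0, map_mul, hx, zero_mul]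
      obtain ⟨⟨_, k, rfl⟩, hk⟩ := (IsLocalization.map_eq_zero_iff (Submonoid.powers (f.app U a))
        Γ(T, f ⁻¹ᵁ Z.basicOpen a) _).1 h0
      change f.app U a ^ k * f.app U x0 = 0 at hk
      rw [← map_pow, ← map_mul, ← map_zero (f.app U).hom] at hk
      have h1 := congrArg res (hbij.1 hk)
      rw [map_mul, map_pow, ← hx0, map_zero] at h1
      rwa [(hu.pow _).mul_right_eq_zero, (hu.pow _).mul_left_eq_zero] at h1
    · intro y
      obtain ⟨n, y0, hy0⟩ := IsLocalization.Away.surj (f.app U a) y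
      obtain ⟨x0, rfl⟩ := hbij.2 y0
      change y * resT (f.app U a) ^ n = resT (f.app U x0) at hy0
      obtain ⟨b, hb⟩ := (hu.pow n).exists_left_inv
      refine ⟨b * res x0, ?_⟩
      rw [map_mul, hnat, ← hy0, ← hnat, mul_comm y, ← mul_assoc, ← map_pow, ← map_mul, hb, map_one, one_mul]
  let ι := {d : Z.Opens // d ≤ O ∧ Function.Bijective (f.app d)}
  have hbasis : ∀ z ∈ O, ∃ d : ι, z ∈ d.1 ∧ ∀ e : Z.Opens, z ∈ e → ∃ d' : ι, z ∈ d'.1 ∧ d'.1 ≤ d.1 ⊓ e := by
    intro z hz
    obtain ⟨W, hW, hzW, -⟩ := exists_isAffineOpen_mem_and_subset (Opens.mem_top (h.base z))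
    obtain ⟨a, ha, hza⟩ := (hW.preimage h).exists_basicOpen_le (V := O) ⟨z, hz⟩ hzW
    refine ⟨⟨Z.basicOpen a, ha, hD _ (hW.preimage h) (H W hW) a⟩, hza, fun e he => ?_⟩
    obtain ⟨a', ha', hza'⟩ := (hW.preimage h).exists_basicOpen_le (V := Z.basicOpen a ⊓ e) ⟨z, hza, he⟩ hzW
    exact ⟨⟨Z.basicOpen a', ha'.trans (inf_le_left.trans ha), hD _ (hW.preimage h) (H W hW) a'⟩, hza', ha'⟩
  have hcov : O ≤ ⨆ d : ι, d.1 := fun z hz => by
    obtain ⟨d, hd, -⟩ := hbasis z hz
    exact Opens.mem_iSup.2 ⟨d, hd⟩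
  have hnat : ∀ {U V : Z.Opens} (i : V ≤ U) (x : Γ(Z, U)), f.app V (Z.presheaf.map (homOfLE i).op x) =
      T.presheaf.map (homOfLE (f.preimage_mono i)).op (f.app U x) := fun i x =>
    ConcreteCategory.congr_hom (f.naturality (homOfLE i).op) x
  constructor
  · intro x x' hx
    refine TopCat.Sheaf.eq_of_locally_eq' Z.sheaf (fun d : ι => d.1) O (fun d => homOfLE d.2.1) hcov x x' fun d => ?_
    refine d.2.2.1 ?_
    change f.app d.1 (Z.presheaf.map (homOfLE d.2.1).op x) = f.app d.1 (Z.presheaf.map (homOfLE d.2.1).op x')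
    rw [hnat, hnat, hx]
  · intro y
    choose s hs using fun d : ι => d.2.2.2 (T.presheaf.map (homOfLE (f.preimage_mono d.2.1)).op y)
    have hcompat : TopCat.Presheaf.IsCompatible Z.sheaf.obj (fun d : ι => d.1) s := by
      intro d d'
      let κ := {e : ι // e.1 ≤ d.1 ⊓ d'.1}
      refine TopCat.Sheaf.eq_of_locally_eq' Z.sheaf (fun e : κ => e.1.1) (d.1 ⊓ d'.1) (fun e => homOfLE e.2)
        (fun z hz => ?_) _ _ fun e => ?_
      · obtain ⟨c, -, hc⟩ := hbasis z (d.2.1 hz.1)
        obtain ⟨c', hzc', hc'⟩ := hc (d.1 ⊓ d'.1) hz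
        exact Opens.mem_iSup.2 ⟨⟨c', hc'.trans inf_le_right⟩, hzc'⟩
      · refine e.1.2.2.1 ?_
        change f.app e.1.1 (Z.presheaf.map (homOfLE e.2).op (Z.presheaf.map (homOfLE inf_le_left).op (s d))) =
          f.app e.1.1 (Z.presheaf.map (homOfLE e.2).op (Z.presheaf.map (homOfLE inf_le_right).op (s d')))
        rw [hnat, hnat, hnat, hnat, hs, hs, ← CommRingCat.comp_apply, ← CommRingCat.comp_apply,
          ← CommRingCat.comp_apply, ← CommRingCat.comp_apply, ← Functor.map_comp, ← Functor.map_comp,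
          ← Functor.map_comp, ← Functor.map_comp]
        rfl
    obtain ⟨x, hx, -⟩ := TopCat.Sheaf.existsUnique_gluing' Z.sheaf (fun d : ι => d.1) O (fun d => homOfLE d.2.1)
      hcov s hcompat
    refine ⟨x, TopCat.Sheaf.eq_of_locally_eq' T.sheaf (fun d : ι => f ⁻¹ᵁ d.1) (f ⁻¹ᵁ O)
      (fun d => homOfLE (f.preimage_mono d.2.1)) ?_ _ _ fun d => ?_⟩
    · intro t ht
      obtain ⟨d, hd, -⟩ := hbasis _ ht
      exact Opens.mem_iSup.2 ⟨d, hd⟩
    · change T.presheaf.map (homOfLE (f.preimage_mono d.2.1)).op (f.app O x) = _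
      rw [← hnat d.2.1, show Z.presheaf.map (homOfLE d.2.1).op x = s d from hx d, hs]
      rfl

/-- The restriction of such a surjection over an open is an epimorphism. -/
theorem epi_restrict (f : T ⟶ Z) [Surjective f] (hbij : ∀ O, Function.Bijective (f.app O)) (O : Z.Opens) :
    Epi (f ∣_ O) := by
  haveI : Surjective (f ∣_ O) := MorphismProperty.of_isPullback (P := @Surjective)
    (isPullback_morphismRestrict f O).flip inferInstance
  refine Groth.Agent.S2913.result (f ∣_ O) fun V => ?_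
  rw [morphismRestrict_app]
  exact ((ConcreteCategory.isIso_iff_bijective (T.presheaf.map (eqToHom
    (image_morphismRestrict_preimage f O V)).op)).1 inferInstance).1.comp (hbij (O.ι ''ᵁ V)).1

theorem ι_comp_eq (q : T ⟶ C) {W : C.Opens} (hW : IsAffineOpen W) (O : T.Opens) (e : O = q ⁻¹ᵁ W) :
    O.toSpecΓ ≫ Spec.map (q.appLE W O e.le) ≫ hW.fromSpec = O.ι ≫ q := by
  subst e
  rw [← Scheme.Hom.app_eq_appLE, Scheme.Opens.toSpecΓ_naturality_assoc, IsAffineOpen.toSpecΓ_fromSpec,
    morphismRestrict_ι]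

/-- Descent of a morphism constant on the fibres. -/
theorem existsUnique_desc (f : T ⟶ Z) [Surjective f] (hcl : IsClosedMap f.base)
    (hbij : ∀ O, Function.Bijective (f.app O)) (q : T ⟶ C) (hconst : ∀ a b, f.base a = f.base b → q.base a = q.base b) :
    ∃! u : Z ⟶ C, f ≫ u = q := by
  haveI : Epi f := Groth.Agent.S2913.result f fun U => (hbij U).1
  have hO : ∀ W : C.affineOpens, ∃ O : Z.Opens, f ⁻¹ᵁ O = q ⁻¹ᵁ (W : C.Opens) := by
    intro W
    refine ⟨⟨(f.base '' ((q ⁻¹ᵁ (W : C.Opens) : T.Opens) : Set T)ᶜ)ᶜ,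
      (hcl _ (q ⁻¹ᵁ (W : C.Opens)).2.isClosed_compl).isOpen_compl⟩, Opens.ext (Set.ext fun t => ?_)⟩
    show f.base t ∈ (f.base '' ((q ⁻¹ᵁ (W : C.Opens) : T.Opens) : Set T)ᶜ)ᶜ ↔ q.base t ∈ (W : C.Opens)
    constructor
    · intro ht
      by_contra h
      exact ht ⟨t, h, rfl⟩
    · rintro ht ⟨t', ht', e⟩
      exact ht' (show q.base t' ∈ (W : C.Opens) from hconst t t' e.symm ▸ ht)
  choose O hO' using hO
  haveI : ∀ W, IsIso (f.app (O W)) := fun W => (ConcreteCategory.isIso_iff_bijective _).2 (hbij _)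
  let piece : ∀ W : C.affineOpens, (O W).toScheme ⟶ C := fun W =>
    (O W).toSpecΓ ≫ Spec.map (q.appLE W (f ⁻¹ᵁ O W) (hO' W).le ≫ inv (f.app (O W))) ≫ W.2.fromSpec
  have hpiece : ∀ W : C.affineOpens, (f ∣_ O W) ≫ piece W = (f ⁻¹ᵁ O W).ι ≫ q := fun W => by
    simp only [piece]
    rw [← Scheme.Opens.toSpecΓ_naturality_assoc, ← Spec.map_comp_assoc, Category.assoc, IsIso.inv_hom_id,
      Category.comp_id]
    exact ι_comp_eq q W.2 _ (hO' W)
  have hcov : TopologicalSpace.IsOpenCover O := by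
    refine eq_top_iff.2 fun z _ => ?_
    obtain ⟨t, rfl⟩ := f.surjective z
    obtain ⟨W, hW, htW, -⟩ := exists_isAffineOpen_mem_and_subset (Opens.mem_top (q.base t))
    exact Opens.mem_iSup.2 ⟨⟨W, hW⟩, show t ∈ f ⁻¹ᵁ O ⟨W, hW⟩ from (hO' ⟨W, hW⟩) ▸ htW⟩
  have hcompat : ∀ W W', pullback.fst (O W).ι (O W').ι ≫ piece W = pullback.snd (O W).ι (O W').ι ≫ piece W' := by
    intro W W'
    let J := isPullback_opens_inf (O W) (O W')
    rw [← cancel_epi J.isoPullback.hom, J.isoPullback_hom_fst_assoc, J.isoPullback_hom_snd_assoc]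
    haveI := epi_restrict f hbij (O W ⊓ O W')
    rw [← cancel_epi (f ∣_ (O W ⊓ O W'))]
    have key : ∀ (U : C.affineOpens) (h : O W ⊓ O W' ≤ O U),
        (f ∣_ (O W ⊓ O W')) ≫ Z.homOfLE h ≫ piece U = (f ⁻¹ᵁ (O W ⊓ O W')).ι ≫ q := fun U h => by
      have e : (f ∣_ (O W ⊓ O W')) ≫ Z.homOfLE h = T.homOfLE (f.preimage_mono h) ≫ (f ∣_ O U) := by
        rw [← cancel_mono (O U).ι, Category.assoc, Category.assoc, Scheme.homOfLE_ι, morphismRestrict_ι,
          morphismRestrict_ι, Scheme.homOfLE_ι_assoc]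
      rw [reassoc_of% e, hpiece, Scheme.homOfLE_ι_assoc]
    rw [key W inf_le_left, key W' inf_le_right]
  let u : Z ⟶ C := Scheme.Cover.glueMorphisms (Z.openCoverOfIsOpenCover O hcov) piece hcompat
  have hu : f ≫ u = q := by
    refine Scheme.Cover.hom_ext (T.openCoverOfIsOpenCover (fun W => f ⁻¹ᵁ O W) ?_) _ _ fun W => ?_
    · refine eq_top_iff.2 fun t _ => ?_
      obtain ⟨W, hW⟩ := Opens.mem_iSup.1 (hcov.ge (Set.mem_univ (f.base t)))
      exact Opens.mem_iSup.2 ⟨W, hW⟩
    · show (f ⁻¹ᵁ O W).ι ≫ f ≫ u = (f ⁻¹ᵁ O W).ι ≫ q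
      rw [← morphismRestrict_ι_assoc, ← hpiece W]
      exact congrArg _ (Scheme.Cover.ι_glueMorphisms (Z.openCoverOfIsOpenCover O hcov) piece hcompat W)
  exact ⟨u, hu, fun u' hu' => (cancel_epi f).1 (hu'.trans hu.symm)⟩

/-- Residue fields along a composite. -/
theorem residue_surjective (a : T ⟶ Z) (b : Z ⟶ C) (x : T) (h : Function.Surjective ((a ≫ b).residueFieldMap x)) :
    Function.Surjective (b.residueFieldMap (a.base x)) := fun y => by
  rw [Scheme.residueFieldMap_comp] at h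
  obtain ⟨z, hz⟩ := h (a.residueFieldMap x y)
  exact ⟨z, RingHom.injective (a.residueFieldMap x).hom hz⟩

theorem residue_surjective_section (a : T ⟶ Z) (b : Z ⟶ T) (hab : a ≫ b = 𝟙 T) (x : T) :
    Function.Surjective (a.residueFieldMap x) := by
  have h : IsIso ((a ≫ b).residueFieldMap x) := by
    rw [hab]
    infer_instance
  rw [Scheme.residueFieldMap_comp] at h
  exact Function.Surjective.of_comp (g := b.residueFieldMap (a x)) ((ConcreteCategory.isIso_iff_bijective _).1 h).2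

/-- Injective with surjective residue field maps. -/
theorem universallyInjective_of (b : Z ⟶ C) (hinj : Function.Injective b.base)
    (h : ∀ z, Function.Surjective (b.residueFieldMap z)) : UniversallyInjective b := by
  refine ((tfae_universallyInjective b).out 0 2).2 ?_
  refine ⟨hinj, fun z => ?_⟩
  let e : C.residueField (b z) ≃+* Z.residueField z :=
    RingEquiv.ofBijective (b.residueFieldMap z).hom ⟨RingHom.injective _, h z⟩
  letI := (b.residueFieldMap z).hom.toAlgebra
  show IsPurelyInseparable (C.residueField (b z)) (Z.residueField z)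
  exact (AlgEquiv.ofRingEquiv (f := e) fun _ => rfl).isPurelyInseparable

end Groth.L18.FactorDesc
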