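import Groth.Agent.L03.Japanese2
import Groth.Agent.L01.NagataFiniteType
import Groth.Agent.S4710
import Mathlib.AlgebraicGeometry.FunctionField

/-!
# Nagata, universally Japanese, N-2 are affine-local on schemes
-/

set_option autoImplicit false
universe u

open CategoryTheory AlgebraicGeometry

namespace Groth.L18.AffLocal

variable {X : Scheme.{u}}

theorem isNagata_affine {ι : Type*} (U : ι → X.Opens) (hU : iSup U = ⊤) (haff : ∀ i, IsAffineOpen (U i))
    (hN : ∀ i, CAlg.IsNagata Γ(X, U i)) (V : X.Opens) (hV : IsAffineOpen V) : CAlg.IsNagata Γ(X, V) := by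
  refine of_affine_open_cover (P := fun W : X.affineOpens => CAlg.IsNagata Γ(X, W.1))
    (fun i => ⟨U i, haff i⟩) hU ⟨V, hV⟩ (fun W f h => ?_) (fun W s hs h => ?_) hN
  · letI := W.2.isLocalization_basicOpen f
    exact Groth.L01.Nagata.isNagata_of_surjective
      (IsLocalization.algEquiv (Submonoid.powers f) (Localization.Away f) Γ(X, X.basicOpen f)).toRingEquiv.toRingHom
      (RingEquiv.surjective _) (Groth.Agent.S4710.result _ h _)
  · refine Groth.L03.Japanese.isNagata_of_cover (fun f : s => f.1) (by rw [show Set.range (fun f : s => f.1) = (s : Set Γ(X, W.1)) from Subtype.range_coe]; exact hs) fun f => ?_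
    letI := W.2.isLocalization_basicOpen f.1
    exact Groth.L01.Nagata.isNagata_of_surjective
      (IsLocalization.algEquiv (Submonoid.powers f.1) Γ(X, X.basicOpen f.1) (Localization.Away f.1)).toRingEquiv.toRingHom
      (RingEquiv.surjective _) (h f)

theorem isUniversallyJapanese_affine {ι : Type*} (U : ι → X.Opens) (hU : iSup U = ⊤) (haff : ∀ i, IsAffineOpen (U i))
    (hJ : ∀ i, CAlg.IsUniversallyJapanese Γ(X, U i)) (V : X.Opens) (hV : IsAffineOpen V) :
    CAlg.IsUniversallyJapanese Γ(X, V) := by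
  refine of_affine_open_cover (P := fun W : X.affineOpens => CAlg.IsUniversallyJapanese Γ(X, W.1))
    (fun i => ⟨U i, haff i⟩) hU ⟨V, hV⟩ (fun W f h => ?_) (fun W s hs h => ?_) hJ
  · letI := W.2.isLocalization_basicOpen f
    haveI : Algebra.EssFiniteType Γ(X, W.1) Γ(X, X.basicOpen f) :=
      Algebra.EssFiniteType.of_isLocalization _ (Submonoid.powers f)
    exact Groth.L03.Japanese.isUniversallyJapanese_of_essFiniteType h Γ(X, X.basicOpen f)
  · refine Groth.L03.Japanese.isUniversallyJapanese_of_cover (fun f : s => f.1) (by rw [show Set.range (fun f : s => f.1) = (s : Set Γ(X, W.1)) from Subtype.range_coe]; exact hs) fun f => ?_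
    letI := W.2.isLocalization_basicOpen f.1
    letI := (IsLocalization.algEquiv (Submonoid.powers f.1) Γ(X, X.basicOpen f.1) (Localization.Away f.1)).toRingEquiv.toRingHom.toAlgebra
    haveI : Algebra.FiniteType Γ(X, X.basicOpen f.1) (Localization.Away f.1) :=
      Algebra.FiniteType.of_surjective (Algebra.ofId Γ(X, X.basicOpen f.1) (Localization.Away f.1))
        (RingEquiv.surjective (IsLocalization.algEquiv (Submonoid.powers f.1) Γ(X, X.basicOpen f.1) (Localization.Away f.1)).toRingEquiv)
    have h' : CAlg.IsUniversallyJapanese Γ(X, X.basicOpen f.1) := h f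
    exact Groth.L03.Japanese.isUniversallyJapanese_of_essFiniteType h' _

theorem isN2_affine [IsIntegral X] {ι : Type*} (U : ι → X.Opens) [∀ i, Nonempty (U i)] (hU : iSup U = ⊤)
    (haff : ∀ i, IsAffineOpen (U i)) (hJ : ∀ i, CAlg.IsN2 Γ(X, U i)) (V : X.Opens) [Nonempty V]
    (hV : IsAffineOpen V) : CAlg.IsN2 Γ(X, V) := by
  have key := of_affine_open_cover
    (P := fun W : X.affineOpens => ∀ [Nonempty W.1], CAlg.IsN2 Γ(X, W.1))
    (fun i => ⟨U i, haff i⟩) hU ⟨V, hV⟩ (fun W f h _ => ?_) (fun W s hs h _ => ?_) (fun i _ => hJ i)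
  · exact key
  · rename_i hne
    haveI : Nonempty (X.basicOpen f) := hne
    haveI : Nonempty W.1 := ⟨⟨(Classical.arbitrary (X.basicOpen f)).1, X.basicOpen_le f (Classical.arbitrary (X.basicOpen f)).2⟩⟩
    letI := W.2.isLocalization_basicOpen f
    exact Groth.L03.Japanese.isN2_localization (Submonoid.powers f) Γ(X, X.basicOpen f) h
  · classical
    let t := {f : s // f.1 ≠ 0}
    have hne : ∀ f : t, Nonempty (X.basicOpen f.1.1) := fun f => by
      rw [Scheme.Opens.nonempty_iff, ← TopologicalSpace.Opens.ne_bot_iff_nonempty]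
      exact fun e => f.2 ((basicOpen_eq_bot_iff f.1.1).mp e)
    haveI := hne
    have ht : Ideal.span (Set.range fun f : t => f.1.1) = ⊤ := by
      rw [eq_top_iff, ← hs, Ideal.span_le]
      intro f hf
      by_cases h0 : f = 0
      · rw [h0]; exact zero_mem _
      · exact Ideal.subset_span ⟨⟨⟨f, hf⟩, h0⟩, rfl⟩
    refine @Groth.L03.Japanese.isN2_of_cover _ _ _ t _ (fun f => f.1.1) ht (fun f : t => Γ(X, X.basicOpen f.1.1)) _ _
      (fun f => ((X.presheaf.map (homOfLE (X.basicOpen_le f.1.1)).op).hom).toAlgebra)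
      (fun f => W.2.isLocalization_basicOpen f.1.1) (fun f => @h f.1 (hne f))

end Groth.L18.AffLocal
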