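import Groth.Agent.L22.VeryAmple.Over
import Groth.Agent.L18.AmpleGG

/-!
Large powers of an ample module tensored with an invertible module are very ample over an affine base.
-/

set_option autoImplicit false
set_option backward.isDefEq.respectTransparency false
set_option linter.style.haveILetI false
universe u

open CategoryTheory CategoryTheory.Limits AlgebraicGeometry TopologicalSpace

noncomputable section

namespace Groth.L18.VeryAmpleTensor

open Groth.L18.Ample Groth.L00.Tensor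

variable {X : Scheme.{u}} {R : Type u} [CommRing R]

/-- Twists of `L^a ⊗ M`. -/
def twTensorPowTensor (L M : X.Modules) (a d : ℕ) :
    ∀ K, tw (CohB1.tensorMod (CohB1.tensorPow L a) M) (CohB1.tensorPow L d) K ≅
      CohB1.tensorMod (CohB1.tensorPow L (a + d * K)) M
  | 0 => tensorIso (eqToIso (congrArg (CohB1.tensorPow L) (by simp))) (Iso.refl _)
  | K + 1 => tensorIso (twTensorPowTensor L M a d K) (Iso.refl _) ≪≫ tensorAssoc _ _ _ ≪≫
      tensorIso (Iso.refl _) (tensorComm _ _) ≪≫ (tensorAssoc _ _ _).symm ≪≫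
      tensorIso (tensorPowAdd L (a + d * K) d ≪≫ eqToIso (congrArg (CohB1.tensorPow L) (by ring))) (Iso.refl _)

theorem exists_forall_immersion_tensor [QuasiSeparatedSpace X] (q : X ⟶ Spec (CommRingCat.of R))
    [LocallyOfFiniteType q] {L M : X.Modules} (hL : CohB1.IsAmple L) (hM : PicF.IsInvertible M) :
    ∃ N₀ : ℕ, ∀ N, N₀ ≤ N → ∃ (n : ℕ) (r : X ⟶ Groth.L18.PUP.P n R) (_ : r ≫ Groth.L18.PUP.pr n R = q),
      IsImmersion r ∧ Nonempty ((Scheme.Modules.pullback r).obj (Groth.L18.PUP.O1 n R) ≅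
        CohB1.tensorMod (CohB1.tensorPow L N) M) := by
  classical
  haveI := hL.2.1
  obtain ⟨d, hd, ι, hι, s, hcov, haff⟩ := Groth.L22.VeryAmple.exists_common_degree hL
  obtain ⟨n₁, -, hn₁⟩ := exists_forall_isAmple_gg hL hM
  have hb : ∀ j : Fin d, ∃ k : ℕ, ∀ K, k ≤ K → ∃ (n : ℕ) (r : X ⟶ Groth.L18.PUP.P n R)
      (_ : r ≫ Groth.L18.PUP.pr n R = q), IsImmersion r ∧
        Nonempty ((Scheme.Modules.pullback r).obj (Groth.L18.PUP.O1 n R) ≅
          tw (CohB1.tensorMod (CohB1.tensorPow L (n₁ + j)) M) (CohB1.tensorPow L d) K) := fun j => by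
    have hinv := Groth.L18.GenLoc.isInvertible_tensor (isInvertible_tensorPow hL.1 (n₁ + j)) hM
    choose v hv using fun x => exists_genLocus_mem_of_gg hinv (hn₁ (n₁ + j) (by omega)).2 x
    obtain ⟨T, hT⟩ := isCompact_univ.elim_finite_subcover
      (fun x : X => (CohB1.genLocus _ (v x) : Set X)) (fun x => (CohB1.genLocus _ (v x)).2)
      (fun x _ => Set.mem_iUnion.2 ⟨x, hv x⟩)
    refine Groth.L22.VeryAmple.exists_immersion_twist q (isInvertible_tensorPow hL.1 d) s hcov haff hinv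
      (σ := T) (fun x => v x.1) fun x => ?_
    obtain ⟨y, hy, hxy⟩ := Set.mem_iUnion₂.1 (hT (Set.mem_univ x))
    exact ⟨⟨y, hy⟩, hxy⟩
  choose k hk using hb
  refine ⟨n₁ + d * (Finset.univ.sup k + 1), fun N hN => ?_⟩
  let j : Fin d := ⟨(N - n₁) % d, Nat.mod_lt _ hd⟩
  have hK : k j ≤ (N - n₁) / d := by
    have h1 : Finset.univ.sup k + 1 ≤ (N - n₁) / d :=
      (Nat.le_div_iff_mul_le hd).2 (by rw [mul_comm]; omega)
    have h2 : k j ≤ Finset.univ.sup k := Finset.le_sup (Finset.mem_univ j)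
    omega
  obtain ⟨n, r, hr, hi, ⟨e⟩⟩ := hk j _ hK
  refine ⟨n, r, hr, hi, ⟨e ≪≫ twTensorPowTensor L M (n₁ + j) d _ ≪≫
    tensorIso (eqToIso (congrArg (CohB1.tensorPow L) ?_)) (Iso.refl _)⟩⟩
  have := Nat.div_add_mod (N - n₁) d
  have hj : (j : ℕ) = (N - n₁) % d := rfl
  omega

theorem exists_forall_isRelVeryAmplePn_tensor {Y : Scheme.{u}} [IsAffine Y] (q : X ⟶ Y) [IsSeparated q]
    [LocallyOfFiniteType q] {L M : X.Modules} (hL : CohB1.IsAmple L) (hM : PicF.IsInvertible M) :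
    ∃ n₀ : ℕ, ∀ n, n₀ ≤ n → RelAmple.IsRelVeryAmplePn q (CohB1.tensorMod (CohB1.tensorPow L n) M) := by
  haveI : X.IsSeparated := isSeparated_of_isAmple hL
  obtain ⟨n₀, h⟩ := exists_forall_immersion_tensor (R := Γ(Y, ⊤)) (q ≫ Y.isoSpec.hom) hL hM
  refine ⟨n₀, fun N hN => ?_⟩
  obtain ⟨n, r, hr, hi, ⟨τ⟩⟩ := h N hN
  obtain ⟨e, he, ⟨ε⟩⟩ := Groth.L22.VeryAmple.exists_iso_over n Y
  refine ⟨n, r ≫ e.hom, inferInstance, ?_, ⟨(((Scheme.Modules.pullbackComp r e.hom).app _).symm ≪≫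
    (Scheme.Modules.pullback r).mapIso ε ≪≫ τ).symm⟩⟩
  show (r ≫ e.hom) ≫ CohB1.ProjSpaceOver.toBase n Y = q
  rw [Category.assoc, he, ← Category.assoc, hr, Category.assoc, Iso.hom_inv_id, Category.comp_id]

end Groth.L18.VeryAmpleTensor
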