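import Groth.Agent.L18.CIProjChart

/-!
Dimension of complete intersections of projective space.
-/

set_option autoImplicit false
set_option backward.isDefEq.respectTransparency false
universe u

open CategoryTheory CategoryTheory.Limits AlgebraicGeometry TopologicalSpace MvPolynomial

noncomputable section

namespace Groth.L18.CIProj

open Groth.L22.ProjDict Groth.L18.CIProjRing

variable {k : Type u} [Field k] {n r : ℕ} {a : Fin r → ℕ}

/-- The support as a set of homogeneous primes. -/
abbrev zset (G : ∀ j, LefPen.Form n k (a j)) : Set (Pt k n) :=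
  {y | Ideal.span (Set.range (pols G)) ≤ y.asHomogeneousIdeal.toIdeal}

theorem exists_homeo (ha : ∀ j, 1 ≤ a j) (G : ∀ j, LefPen.Form n k (a j)) :
    Nonempty ((LefPen.ciIdeal G).subscheme ≃ₜ zset G) := by
  refine ⟨((LefPen.ciIdeal G).subschemeι.isEmbedding.toHomeomorph).trans (Homeomorph.setCongr ?_)⟩
  rw [Scheme.IdealSheafData.range_subschemeι]
  exact Set.ext (mem_support_ciIdeal ha G)

theorem isHomogeneous_pols (G : ∀ j, LefPen.Form n k (a j)) (j : Fin r) : (pols G j).IsHomogeneous (a j) :=
  (mem_homogeneousSubmodule _ _).1 (G j).2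

/-- A common zero locus of the expected dimension gives a complete intersection. -/
theorem isCI_pols (hr : r ≤ n) (ha : ∀ j, 1 ≤ a j) (G : ∀ j, LefPen.Form n k (a j))
    (hdim : topologicalKrullDim ↥(LefPen.ciIdeal G).subscheme ≤ ((n - r : ℕ) : WithBot ℕ∞)) :
    IsCI (pols G) := by
  obtain ⟨h⟩ := exists_homeo ha G
  rw [h.isHomeomorph.topologicalKrullDim_eq] at hdim
  refine isCI_of_minimal (a := a) (isHomogeneous_pols G) (by omega) fun P hP hPh hv hle => ?_
  haveI := hP
  haveI : (vertex k n).IsPrime := vertex_isMaximal.isPrime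
  have h1 := dim_lt (lt_of_le_of_ne (le_vertex hPh hP.ne_top) hv)
  rw [dim_vertex, zero_add] at h1
  let x := mkPt P hP hPh h1
  obtain ⟨e, he, he'⟩ := exists_dim_closure x
  have hc : IsClosed (zset G) := by
    have : zset G = ProjectiveSpectrum.zeroLocus (CohB1.polyGrading n k)
        (Ideal.span (Set.range (pols G)) : Set (MvPolynomial (Fin (n + 1)) k)) := by
      ext y; rw [ProjectiveSpectrum.mem_zeroLocus]; rfl
    rw [this]
    exact ProjectiveSpectrum.isClosed_zeroLocus _ _
  have h2 := (he.symm.le.trans (dim_closure_mono hc (show x ∈ zset G from hle))).trans hdim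
  have h3 : e ≤ n - r := by exact_mod_cast h2
  rw [show ringKrullDim (MvPolynomial (Fin (n + 1)) k ⧸ P) = ((e + 1 : ℕ) : WithBot ℕ∞) from he']
  exact_mod_cast (show e + 1 + r ≤ n + 1 by omega)

/-- Each component of a complete intersection has the expected dimension. -/
theorem dim_component_eq (hr : r ≤ n) (ha : ∀ j, 1 ≤ a j) (G : ∀ j, LefPen.Form n k (a j))
    (hdim : topologicalKrullDim ↥(LefPen.ciIdeal G).subscheme ≤ ((n - r : ℕ) : WithBot ℕ∞))
    {Z : Set ↥(LefPen.ciIdeal G).subscheme} (hZ : Z ∈ irreducibleComponents ↥(LefPen.ciIdeal G).subscheme) :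
    topologicalKrullDim ↥Z = ((n - r : ℕ) : WithBot ℕ∞) := by
  obtain ⟨h⟩ := exists_homeo ha G
  refine le_antisymm ((Groth.L22.SchemeDim.topologicalKrullDim_mono (Set.subset_univ Z)).trans
    (le_trans (le_of_eq (Homeomorph.Set.univ _).isHomeomorph.topologicalKrullDim_eq) hdim)) ?_
  have hC : h '' Z ∈ irreducibleComponents (zset G) := by
    have := preimage_mem_irreducibleComponents hZ h.symm.isOpenEmbedding ?_
    · rwa [← Homeomorph.image_eq_preimage_symm] at this
    · obtain ⟨z, hz⟩ := hZ.1.nonempty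
      exact ⟨z, hz, h.symm.surjective z⟩
  obtain ⟨x, hx, hmin, hd⟩ := component_minimalPrimes
    (span_isHomogeneous (isHomogeneous_pols G)) (Z := zset G) (fun y => Iff.rfl) hC
  rw [(h.isEmbedding.homeomorphImage Z).isHomeomorph.topologicalKrullDim_eq, hd]
  obtain ⟨e, he, he'⟩ := exists_dim_closure x
  have h1 := le_dim_minimal _ hmin
  rw [he'] at h1
  rw [he]
  have h2 : n + 1 ≤ e + 1 + r := by exact_mod_cast h1
  exact_mod_cast (show n - r ≤ e by omega)

end Groth.L18.CIProj
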