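import Groth.Prelude.Def_Pi1
import Mathlib.AlgebraicGeometry.FunctionField
import Mathlib.AlgebraicGeometry.Morphisms.Integral
import Mathlib.AlgebraicGeometry.Morphisms.Finite
import Mathlib.RingTheory.LocalProperties.IntegrallyClosed
import Mathlib.RingTheory.IntegralClosure.IntegrallyClosed

/-!
Rational maps from normal integral schemes to schemes integral over the target extend; function
fields under integral and finite dominant morphisms.
-/

noncomputable section

namespace Groth.L18

open CategoryTheory AlgebraicGeometry Limits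

universe u

variable {Y X X' : Scheme.{u}} [IsIntegral Y]

theorem isIntegrallyClosed_of_isNormalScheme (hY : Pi1.IsNormalScheme Y) {V : Y.Opens}
    (hV : IsAffineOpen V) [Nonempty V] : IsIntegrallyClosed Γ(Y, V) := by
  refine IsIntegrallyClosed.of_localization_maximal fun p _ hp => ?_
  let q : PrimeSpectrum Γ(Y, V) := ⟨p, hp.isPrime⟩
  have hyV : hV.fromSpec q ∈ V := hV.range_fromSpec.le ⟨q, rfl⟩
  let _ : Algebra Γ(Y, V) (Y.presheaf.stalk (hV.fromSpec q)) :=
    (Y.presheaf.germ V _ hyV).hom.toAlgebra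
  have : IsLocalization.AtPrime (Y.presheaf.stalk (hV.fromSpec q)) p :=
    hV.isLocalization_stalk' q hyV
  have := (hY (hV.fromSpec q)).2
  exact IsIntegrallyClosed.of_equiv
    (IsLocalization.algEquiv p.primeCompl (Y.presheaf.stalk (hV.fromSpec q))
      (Localization.AtPrime p)).toRingEquiv

theorem range_fromSpecStalk_generic_subset {V : Y.Opens} (hV : (V : Set Y).Nonempty) :
    Set.range (Y.fromSpecStalk (genericPoint Y)) ⊆ V := by
  rw [Scheme.range_fromSpecStalk]
  intro y hy
  exact hy.mem_open V.2 (((genericPoint_spec Y).mem_open_set_iff V.2).mpr (by simpa using hV))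

/-- Morphisms from a reduced open piece of an integral scheme to a scheme separated over another
agree as soon as they do at the generic point. -/
theorem ext_of_generic {Z : Scheme.{u}} (j : Z ⟶ Y) [IsOpenImmersion j] (g : X' ⟶ X) [IsSeparated g]
    (e : Spec (Y.presheaf.stalk (genericPoint Y)) ⟶ Z) (he : e ≫ j = Y.fromSpecStalk (genericPoint Y))
    {a b : Z ⟶ X'} (hg : a ≫ g = b ≫ g) (hab : e ≫ a = e ≫ b) : a = b := by
  have : IsReduced Z := isReduced_of_isOpenImmersion j
  have : IsDominant e := by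
    constructor
    let pt : ↥(Spec (Y.presheaf.stalk (genericPoint Y))) := IsLocalRing.closedPoint _
    have hz : j (e pt) = genericPoint Y := by
      rw [← Scheme.Hom.comp_apply, he]
      exact Y.fromSpecStalk_closedPoint
    intro z
    have hz' : e pt ⤳ z := by
      rw [← j.isOpenEmbedding.isInducing.specializes_iff, hz]
      exact (genericPoint_spec Y).specializes trivial
    exact closure_mono (Set.singleton_subset_iff.mpr (Set.mem_range_self pt)) (specializes_iff_mem_closure.mp hz')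
  exact ext_of_isDominant_of_isSeparated g hg e hab

/-- A rational map from a normal integral scheme, whose composite with an integral morphism is a
morphism, is a morphism. -/
theorem exists_extend_of_isIntegralHom (hY : Pi1.IsNormalScheme Y) (g : X' ⟶ X) [IsIntegralHom g]
    (U : Y.Opens) (hU : Dense (U : Set Y)) (f : (U : Scheme.{u}) ⟶ X') (h : Y ⟶ X)
    (hfh : f ≫ g = U.ι ≫ h) : ∃ f' : Y ⟶ X', U.ι ≫ f' = f ∧ f' ≫ g = h := by
  classical
  set ξ := genericPoint Y
  have hne : (U : Set Y).Nonempty := hU.nonempty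
  let eU : Spec (Y.presheaf.stalk ξ) ⟶ U := IsOpenImmersion.lift U.ι (Y.fromSpecStalk ξ)
    ((range_fromSpecStalk_generic_subset hne).trans_eq U.range_ι.symm)
  have heU : eU ≫ U.ι = Y.fromSpecStalk ξ := IsOpenImmersion.lift_fac _ _ _
  let m : Spec (Y.presheaf.stalk ξ) ⟶ X' := eU ≫ f
  have hm : m ≫ g = Y.fromSpecStalk ξ ≫ h := by
    rw [Category.assoc, hfh, ← Category.assoc, heU]
  have local_ext : ∀ (V : Y.Opens) (W : X.Opens), IsAffineOpen V → IsAffineOpen W →
      (V : Set Y).Nonempty → V ≤ h ⁻¹ᵁ W →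
      ∃ (fV : (V : Scheme.{u}) ⟶ X') (eV : Spec (Y.presheaf.stalk ξ) ⟶ V),
        eV ≫ V.ι = Y.fromSpecStalk ξ ∧ fV ≫ g = V.ι ≫ h ∧ eV ≫ fV = m := by
    intro V W hV hW hne hVW
    have : Nonempty V := hne.to_subtype
    have hξV : ξ ∈ V := ((genericPoint_spec Y).mem_open_set_iff V.2).mpr (by simpa using hne)
    have := isIntegrallyClosed_of_isNormalScheme hY hV
    have := functionField_isFractionRing_of_isAffineOpen Y V hV
    have hW' : IsAffineOpen (g ⁻¹ᵁ W) := hW.preimage g
    let lf : Spec (Y.presheaf.stalk ξ) ⟶ Spec Γ(X', g ⁻¹ᵁ W) := IsOpenImmersion.lift hW'.fromSpec m (by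
      rw [hW'.range_fromSpec]
      rintro _ ⟨p, rfl⟩
      show g (m p) ∈ W
      rw [← Scheme.Hom.comp_apply, hm, Scheme.Hom.comp_apply]
      exact hVW (range_fromSpecStalk_generic_subset hne ⟨p, rfl⟩))
    obtain ⟨β, hβ⟩ : ∃ β, m = Spec.map β ≫ hW'.fromSpec :=
      ⟨Spec.preimage lf, by rw [Spec.map_preimage]; exact (IsOpenImmersion.lift_fac _ _ _).symm⟩
    have hgerm : Y.fromSpecStalk ξ = Spec.map (Y.presheaf.germ V ξ hξV) ≫ hV.fromSpec :=
      (hV.fromSpecStalk_eq_fromSpecStalk hξV).symm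
    have hcomp : g.app W ≫ β = h.appLE W V hVW ≫ Y.presheaf.germ V ξ hξV := by
      apply Spec.map_injective
      rw [← cancel_mono hW.fromSpec, Spec.map_comp_assoc, Spec.map_comp_assoc,
        Scheme.Hom.app_eq_appLE, IsAffineOpen.SpecMap_appLE_fromSpec g hW hW',
        IsAffineOpen.SpecMap_appLE_fromSpec h hW hV, ← Category.assoc, ← hβ, hm, hgerm, Category.assoc]
    have hinj : Function.Injective (Y.presheaf.germ V ξ hξV).hom :=
      germ_injective_of_isIntegral Y ξ hξV
    have hmem : ∀ b, ∃ c, (Y.presheaf.germ V ξ hξV).hom c = β.hom b := by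
      intro b
      obtain ⟨P, hP, hPb⟩ := g.isIntegral_app W hW b
      have hint : _root_.IsIntegral Γ(Y, V) (show Y.functionField from β.hom b) := by
        refine ⟨P.map (h.appLE W V hVW).hom, hP.map _, ?_⟩
        rw [Polynomial.eval₂_map]
        have h2 := congrArg β.hom hPb
        rw [Polynomial.hom_eval₂, map_zero] at h2
        refine Eq.trans ?_ h2
        congr 1
        exact (CommRingCat.hom_ext_iff.mp hcomp).symm
      exact IsIntegrallyClosed.isIntegral_iff.mp hint
    choose γ hγ using hmem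
    let γh : Γ(X', g ⁻¹ᵁ W) ⟶ Γ(Y, V) := CommRingCat.ofHom
      { toFun := γ
        map_one' := hinj (by rw [hγ, map_one, map_one])
        map_mul' := fun a b => hinj (by rw [hγ, map_mul, map_mul, hγ, hγ])
        map_zero' := hinj (by rw [hγ, map_zero, map_zero])
        map_add' := fun a b => hinj (by rw [hγ, map_add, map_add, hγ, hγ]) }
    have hγh : γh ≫ Y.presheaf.germ V ξ hξV = β := by ext b; exact hγ b
    have hι : hV.isoSpec.hom ≫ hV.fromSpec = V.ι := by rw [IsAffineOpen.fromSpec, Iso.hom_inv_id_assoc]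
    refine ⟨hV.isoSpec.hom ≫ Spec.map γh ≫ hW'.fromSpec,
      Spec.map (Y.presheaf.germ V ξ hξV) ≫ hV.isoSpec.inv, ?_, ?_, ?_⟩
    · rw [Category.assoc, ← hι, Iso.inv_hom_id_assoc, hgerm]
    · have hc : g.app W ≫ γh = h.appLE W V hVW := by
        ext a
        exact hinj ((hγ _).trans congr($hcomp a))
      rw [Category.assoc, Category.assoc, ← IsAffineOpen.SpecMap_appLE_fromSpec g hW hW' le_rfl,
        ← Scheme.Hom.app_eq_appLE, ← Spec.map_comp_assoc, hc,
        IsAffineOpen.SpecMap_appLE_fromSpec h hW hV, ← Category.assoc, hι]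
    · rw [Category.assoc, Iso.inv_hom_id_assoc, ← Spec.map_comp_assoc, hγh, hβ]
  have hcov : ∀ y : Y, ∃ V : Y.Opens, y ∈ V ∧ ∃ (fV : (V : Scheme.{u}) ⟶ X')
      (eV : Spec (Y.presheaf.stalk ξ) ⟶ V),
        eV ≫ V.ι = Y.fromSpecStalk ξ ∧ fV ≫ g = V.ι ≫ h ∧ eV ≫ fV = m := by
    intro y
    obtain ⟨_, ⟨W, hW, rfl⟩, hyW, -⟩ :=
      X.isBasis_affineOpens.exists_subset_of_mem_open (Set.mem_univ (h y)) isOpen_univ
    obtain ⟨_, ⟨V, hV, rfl⟩, hyV, hVW⟩ :=
      Y.isBasis_affineOpens.exists_subset_of_mem_open (a := y) hyW (h ⁻¹ᵁ W).2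
    exact ⟨V, hyV, local_ext V W hV hW ⟨y, hyV⟩ hVW⟩
  choose V hyV fV eV heV hfV hmV using hcov
  let 𝒰 : Y.OpenCover := Y.openCoverOfIsOpenCover V
    (TopologicalSpace.IsOpenCover.mk (top_unique fun y _ =>
      TopologicalSpace.Opens.mem_iSup.mpr ⟨y, hyV y⟩))
  have hf' : ∀ a b, pullback.fst (𝒰.f a) (𝒰.f b) ≫ fV a = pullback.snd (𝒰.f a) (𝒰.f b) ≫ fV b := by
    intro a b
    refine ext_of_generic (pullback.fst (𝒰.f a) (𝒰.f b) ≫ 𝒰.f a) g
      (pullback.lift (eV a) (eV b) ((heV a).trans (heV b).symm)) ?_ ?_ ?_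
    · exact (pullback.lift_fst_assoc _ _ _ _).trans (heV a)
    · erw [Category.assoc, Category.assoc, hfV, hfV]
      exact pullback.condition_assoc h
    · exact ((pullback.lift_fst_assoc _ _ _ _).trans (hmV a)).trans
        ((pullback.lift_snd_assoc _ _ _ _).trans (hmV b)).symm
  refine ⟨𝒰.glueMorphisms fV hf', ?_, ?_⟩
  · have hg' : 𝒰.glueMorphisms fV hf' ≫ g = h := by
      refine 𝒰.hom_ext _ _ fun a => ?_
      rw [← Category.assoc]
      exact (congrArg (· ≫ g) (Scheme.Cover.ι_glueMorphisms 𝒰 fV hf' a)).trans (hfV a)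
    refine ext_of_generic U.ι g eU heU ?_ ?_
    · rw [Category.assoc, hg', hfh]
    · rw [← Category.assoc, heU, ← heV (genericPoint Y), Category.assoc]
      have := Scheme.Cover.ι_glueMorphisms 𝒰 fV hf' (genericPoint Y)
      exact (congrArg (eV (genericPoint Y) ≫ ·) this).trans (hmV _)
  · refine 𝒰.hom_ext _ _ fun a => ?_
    rw [← Category.assoc]
    exact (congrArg (· ≫ g) (Scheme.Cover.ι_glueMorphisms 𝒰 fV hf' a)).trans (hfV a)

/-- An integral morphism from an integral scheme onto a normal integral scheme with a rational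
section is an isomorphism. -/
theorem isIso_of_rational_section [IsIntegral X'] (hY : Pi1.IsNormalScheme Y) (g : X' ⟶ Y)
    [IsIntegralHom g] (U : Y.Opens) (hU : Dense (U : Set Y)) (s : (U : Scheme.{u}) ⟶ X')
    (hs : s ≫ g = U.ι) : IsIso g := by
  obtain ⟨s', -, hs'⟩ := exists_extend_of_isIntegralHom hY g U hU s (𝟙 Y) (by rw [hs, Category.comp_id])
  have : IsClosedImmersion (s' ≫ g) := by rw [hs']; infer_instance
  have : IsClosedImmersion s' := IsClosedImmersion.of_comp s' g
  set ξ := genericPoint Y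
  set ξ' := genericPoint X'
  have hpt : ∀ y, g (s' y) = y := fun y => by rw [← Scheme.Hom.comp_apply, hs']; rfl
  have hη : g ξ' = ξ := by
    have h1 : g ξ' ⤳ ξ := hpt ξ ▸ ((genericPoint_spec X').specializes trivial).map g.continuous
    exact (h1.antisymm ((genericPoint_spec Y).specializes trivial)).eq
  have heq : ξ' = s' ξ := by
    obtain ⟨_, ⟨V, hV, rfl⟩, hξV, -⟩ :=
      Y.isBasis_affineOpens.exists_subset_of_mem_open (Set.mem_univ ξ) isOpen_univ
    replace hV : IsAffineOpen V := hV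
    have hgV := hV.preimage g
    have h1 : ξ' ∈ g ⁻¹ᵁ V := show g ξ' ∈ V by rw [hη]; exact hξV
    have h2 : s' ξ ∈ g ⁻¹ᵁ V := show g (s' ξ) ∈ V by rw [hpt]; exact hξV
    let φ := (g.app V).hom
    let P := hgV.primeIdealOf ⟨ξ', h1⟩
    let Q := hgV.primeIdealOf ⟨s' ξ, h2⟩
    have hcomap : PrimeSpectrum.comap φ P = PrimeSpectrum.comap φ Q := by
      apply hV.fromSpec.isOpenEmbedding.injective
      have key : ∀ (z : X') (hz : z ∈ g ⁻¹ᵁ V), hV.fromSpec (PrimeSpectrum.comap φ
          (hgV.primeIdealOf ⟨z, hz⟩)) = g z := by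
        intro z hz
        show (Spec.map (g.app V) ≫ hV.fromSpec) (hgV.primeIdealOf ⟨z, hz⟩) = g z
        rw [Scheme.Hom.app_eq_appLE, IsAffineOpen.SpecMap_appLE_fromSpec g hV hgV]
        exact congrArg g (hgV.fromSpec_primeIdealOf ⟨z, hz⟩)
      exact (key _ h1).trans (hη.trans ((hpt ξ).symm.trans (key _ h2).symm))
    have hsp : P.asIdeal ≤ Q.asIdeal := by
      have h3 : hgV.fromSpec P ⤳ hgV.fromSpec Q := by
        rw [hgV.fromSpec_primeIdealOf, hgV.fromSpec_primeIdealOf]
        exact (genericPoint_spec X').specializes trivial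
      exact (PrimeSpectrum.le_iff_specializes P Q).mpr
        (hgV.fromSpec.isOpenEmbedding.isInducing.specializes_iff.mp h3)
    let _ : Algebra Γ(Y, V) Γ(X', g ⁻¹ᵁ V) := φ.toAlgebra
    have : Algebra.IsIntegral Γ(Y, V) Γ(X', g ⁻¹ᵁ V) := ⟨g.isIntegral_app V hV⟩
    have hPQ : P = Q := by
      rcases hsp.lt_or_eq with hlt | he
      · exact absurd (congrArg PrimeSpectrum.asIdeal hcomap) (Ideal.comap_lt_comap_of_integral_mem_sdiff
          (R := Γ(Y, V)) hlt.le ⟨(Set.exists_of_ssubset hlt).choose_spec.1,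
            (Set.exists_of_ssubset hlt).choose_spec.2⟩ (Algebra.IsIntegral.isIntegral _)).ne
      · exact PrimeSpectrum.ext he
    exact (hgV.fromSpec_primeIdealOf ⟨ξ', h1⟩).symm.trans
      ((congrArg _ hPQ).trans (hgV.fromSpec_primeIdealOf ⟨s' ξ, h2⟩))
  have : Surjective s' := ⟨fun z => ((genericPoint_spec X').specializes trivial).mem_closed
    s'.isClosedEmbedding.isClosed_range ⟨ξ, heq.symm⟩⟩
  have : IsIso s' := isIso_of_isClosedImmersion_of_surjective s'
  have : IsIso (s' ≫ g) := by rw [hs']; infer_instance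
  exact IsIso.of_isIso_comp_left s' g

/-- A dominant morphism of integral schemes sends the generic point to the generic point. -/
theorem apply_genericPoint_of_isDominant {S : Scheme.{u}} [IsIntegral S] (f : Y ⟶ S) [IsDominant f] :
    f (genericPoint Y) = genericPoint S := by
  have h1 : IsGenericPoint (f (genericPoint Y)) (Set.univ : Set S) := by
    have := (genericPoint_spec Y).image f.continuous
    rwa [Set.image_univ, f.denseRange.closure_range] at this
  exact h1.eq (genericPoint_spec S)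

theorem isIntegral_finite_stalkMap_generic {S : Scheme.{u}} [IsIntegral S] (f : Y ⟶ S) [IsDominant f] :
    (IsIntegralHom f → (f.stalkMap (genericPoint Y)).hom.IsIntegral) ∧
      (IsFinite f → (f.stalkMap (genericPoint Y)).hom.Finite) := by
  set ξ := genericPoint Y
  set φ := (f.stalkMap ξ).hom
  let _ : Algebra (S.presheaf.stalk (f ξ)) Y.functionField := φ.toAlgebra
  have hfield : IsField (S.presheaf.stalk (f ξ)) := by
    rw [apply_genericPoint_of_isDominant f]
    exact Field.toIsField S.functionField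
  obtain ⟨_, ⟨V, hV, rfl⟩, hV', -⟩ :=
    S.isBasis_affineOpens.exists_subset_of_mem_open (Set.mem_univ (f ξ)) isOpen_univ
  replace hV : IsAffineOpen V := hV
  have hξ : ξ ∈ f ⁻¹ᵁ V := hV'
  have : Nonempty (f ⁻¹ᵁ V : Y.Opens) := ⟨⟨ξ, hξ⟩⟩
  have key : IsAffineHom f → ∀ z : Y.functionField, ∃ a b : Γ(Y, f ⁻¹ᵁ V),
      z = (Y.presheaf.germ _ ξ hξ).hom a / (Y.presheaf.germ _ ξ hξ).hom b := by
    intro _ z
    have := functionField_isFractionRing_of_isAffineOpen Y (f ⁻¹ᵁ V) (hV.preimage f)
    obtain ⟨a, b, -, rfl⟩ := IsFractionRing.div_surjective Γ(Y, f ⁻¹ᵁ V) z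
    exact ⟨a, b, rfl⟩
  have hsq : ∀ a, φ ((S.presheaf.germ V (f ξ) hV').hom a) =
      (Y.presheaf.germ _ ξ hξ).hom ((f.app V).hom a) :=
    fun a => congr($(f.germ_stalkMap V ξ hV') a)
  have hcl : ∀ (T : Subalgebra (S.presheaf.stalk (f ξ)) Y.functionField),
      Algebra.IsIntegral (S.presheaf.stalk (f ξ)) T → IsAffineHom f →
      (∀ a, (Y.presheaf.germ _ ξ hξ).hom a ∈ T) → T = ⊤ := by
    intro T _ ha hT
    have hTf : IsField T := isField_of_isIntegral_of_isField' hfield
    refine top_unique fun z _ => ?_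
    obtain ⟨a, b, rfl⟩ := key ha z
    by_cases h0 : (Y.presheaf.germ _ ξ hξ).hom b = 0
    · rw [h0, div_zero]; exact zero_mem T
    obtain ⟨w, hw⟩ := hTf.mul_inv_cancel (a := ⟨_, hT b⟩) fun e => h0 (congrArg Subtype.val e)
    rw [div_eq_mul_inv, ← eq_inv_of_mul_eq_one_right (congrArg Subtype.val hw :)]
    exact mul_mem (hT a) w.2
  have hint : IsIntegralHom f → ∀ a, _root_.IsIntegral (S.presheaf.stalk (f ξ))
      (show Y.functionField from (Y.presheaf.germ _ ξ hξ).hom a) := by
    intro _ a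
    obtain ⟨P, hP, hPa⟩ := f.isIntegral_app V hV a
    refine ⟨P.map (S.presheaf.germ V (f ξ) hV').hom, hP.map _, ?_⟩
    rw [Polynomial.eval₂_map]
    have h2 := congrArg (Y.presheaf.germ _ ξ hξ).hom hPa
    rw [Polynomial.hom_eval₂, map_zero] at h2
    refine Eq.trans ?_ h2
    congr 1
    exact RingHom.ext hsq
  constructor
  · intro hI z
    have := hcl (integralClosure _ _) inferInstance inferInstance fun a => hint hI a
    exact this.ge Algebra.mem_top
  · intro hF
    let _ : Algebra Γ(S, V) Γ(Y, f ⁻¹ᵁ V) := (f.app V).hom.toAlgebra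
    obtain ⟨t, ht⟩ : (⊤ : Submodule Γ(S, V) Γ(Y, f ⁻¹ᵁ V)).FG := (f.finite_app V hV).1
    let T := Algebra.adjoin (S.presheaf.stalk (f ξ))
      ((Y.presheaf.germ _ ξ hξ).hom '' t : Set Y.functionField)
    have hfin : ∀ z ∈ ((Y.presheaf.germ _ ξ hξ).hom '' t : Set Y.functionField),
        _root_.IsIntegral (S.presheaf.stalk (f ξ)) z := by
      rintro _ ⟨a, -, rfl⟩
      exact hint inferInstance a
    have hTfg : (Subalgebra.toSubmodule T).FG :=
      fg_adjoin_of_finite (t.finite_toSet.image _) hfin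
    have : Module.Finite (S.presheaf.stalk (f ξ)) T := Module.Finite.of_fg hTfg
    have hTop := hcl T inferInstance inferInstance fun a => by
      have ha : a ∈ Submodule.span Γ(S, V) (t : Set Γ(Y, f ⁻¹ᵁ V)) := ht.ge Submodule.mem_top
      induction ha using Submodule.span_induction with
      | mem w hw => exact Algebra.subset_adjoin ⟨w, hw, rfl⟩
      | zero => rw [map_zero]; exact zero_mem T
      | add _ _ _ _ h1 h2 => rw [map_add]; exact add_mem h1 h2
      | smul r w _ h1 =>
        rw [Algebra.smul_def, map_mul]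
        refine mul_mem ?_ h1
        exact (hsq r).symm ▸ T.algebraMap_mem _
    have : (⊤ : Submodule (S.presheaf.stalk (f ξ)) Y.functionField).FG := by
      rw [hTop, Algebra.top_toSubmodule] at hTfg
      exact hTfg
    exact (RingHom.finite_algebraMap (A := S.presheaf.stalk (f ξ))).mpr ⟨this⟩

end Groth.L18
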