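import Groth.Agent.L18.CIProjRing
import Groth.Agent.L21.PlaneCurve.HypIdeal
import Groth.Agent.L16.ProjSpace.CoordSect
import Groth.Agent.L21.PlaneCurve.SmoothHyp

/-!
Complete intersections of projective space on the standard charts.
-/

set_option autoImplicit false
set_option backward.isDefEq.respectTransparency false
universe u

open CategoryTheory CategoryTheory.Limits AlgebraicGeometry TopologicalSpace MvPolynomial Opposite

noncomputable section

namespace Groth.L18.CIProj

open Groth.L16.ProjSpace (AwayX toAway fromAway dehomLoc awayEquiv)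
open Groth.L22.ProjDict (Pt)

variable {k : Type u} [Field k] {n : ℕ}

local notation "Rk" => MvPolynomial (Fin (n + 1)) k
local notation "𝒜" => CohB1.polyGrading n k
local notation "𝐏" => CohB1.ProjSpace n k

theorem isIso_awayToSection (i : Fin (n + 1)) :
    IsIso (Proj.awayToSection 𝒜 (X i : Rk)) := by
  have h : Proj.awayToSection 𝒜 (X i : Rk) =
      (Proj.basicOpenIsoAway 𝒜 (X i : Rk) (LefPen.X_mem n k i) one_pos).hom := rfl
  rw [h]
  infer_instance

/-- Dehomogenisation on chart `i`. -/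
def deh (i : Fin (n + 1)) : Rk →+* Γ(𝐏, LefPen.chart n k i) :=
  (Proj.awayToSection 𝒜 (X i : Rk)).hom.comp ((toAway n k i).comp (Groth.L16.ProjSpace.dehom n k i).toRingHom)

theorem deh_surjective (i : Fin (n + 1)) : Function.Surjective (deh (k := k) i) := by
  haveI := isIso_awayToSection (k := k) i
  refine (ConcreteCategory.bijective_of_isIso (Proj.awayToSection 𝒜 (X i : Rk))).2.comp
    ((Groth.L16.ProjSpace.toAway_surjective n k i).comp ?_)
  intro p
  refine ⟨MvPolynomial.rename Subtype.val p, ?_⟩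
  show ((Groth.L16.ProjSpace.dehom n k i).comp (rename Subtype.val)) p = AlgHom.id k _ p
  refine congrFun (congrArg DFunLike.coe ?_) p
  refine MvPolynomial.algHom_ext fun j => ?_
  simp [Groth.L16.ProjSpace.dehom_X_ne n k i j]

theorem deh_form {d : ℕ} (G : LefPen.Form n k d) (i : Fin (n + 1)) : deh i G.1 = LefPen.dehom G i := by
  refine congrArg (Proj.awayToSection 𝒜 (X i : Rk)).hom (HomogeneousLocalization.val_injective _ ?_)
  rw [HomogeneousLocalization.Away.val_mk, Localization.mk_eq_mk']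
  refine (IsLocalization.mk'_eq_iff_eq_mul.2 ?_).symm
  exact (Groth.L16.ProjSpace.toAway_dehom_mul n k i G.2).symm

variable {r : ℕ} {a : Fin r → ℕ}

/-- The forms as polynomials. -/
abbrev pols (G : ∀ j, LefPen.Form n k (a j)) : Fin r → Rk := fun j => (G j).1

theorem ciIdeal_chart (G : ∀ j, LefPen.Form n k (a j)) (i : Fin (n + 1)) :
    (LefPen.ciIdeal G).ideal ⟨LefPen.chart n k i, Groth.L21.PlaneCurve.isAffineOpen_chart i⟩ =
      Ideal.span (Set.range fun j => LefPen.dehom (G j) i) := by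
  rw [LefPen.ciIdeal, Scheme.IdealSheafData.ideal_iSup, iSup_apply]
  simp only [Groth.L21.PlaneCurve.hypIdeal_chart]
  rw [Ideal.span_range_eq_iSup]

theorem map_span_pols (G : ∀ j, LefPen.Form n k (a j)) (i : Fin (n + 1)) :
    (Ideal.span (Set.range (pols G))).map (deh i) = Ideal.span (Set.range fun j => LefPen.dehom (G j) i) := by
  rw [Ideal.map_span, ← Set.range_comp]
  exact congrArg Ideal.span (congrArg Set.range (funext fun j => deh_form (G j) i))

theorem mem_map_comp {A B C D : Type*} [CommRing A] [CommRing B] [CommRing C] [CommRing D] (f : A →+* B)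
    (g : B →+* C) (h : A →+* C) (t : C →+* D) (hfg : ∀ x, g (f x) = h x) {I : Ideal A} {z : B} (hz : z ∈ I.map f) :
    t (g z) ∈ I.map (t.comp h) := by
  have h1 := Ideal.mem_map_of_mem (t.comp g) hz
  rw [Ideal.map_map, RingHom.comp_assoc, show g.comp f = h from RingHom.ext hfg] at h1
  exact h1

theorem dehomLoc_algebraMap (i : Fin (n + 1)) (x : Rk) :
    dehomLoc n k i (algebraMap Rk (Localization.Away (X i : Rk)) x) = (Groth.L16.ProjSpace.dehom n k i).toRingHom x := by
  rw [dehomLoc, IsLocalization.Away.lift_eq]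

/-- A form regular modulo a homogeneous ideal stays regular on a chart. -/
theorem mem_of_mul_deh (i : Fin (n + 1)) {I : Ideal Rk} {d : ℕ} (g : LefPen.Form n k d)
    (hreg : ∀ y, g.1 * y ∈ I → y ∈ I) {z : Γ(𝐏, LefPen.chart n k i)}
    (h : LefPen.dehom g i * z ∈ I.map (deh i)) (hI : ∃ (r : ℕ) (a : Fin r → ℕ) (G : ∀ j, LefPen.Form n k (a j)),
      I = Ideal.span (Set.range (pols G))) : z ∈ I.map (deh i) := by
  obtain ⟨r, a, G, rfl⟩ := hI
  haveI := isIso_awayToSection (k := k) i
  set I := Ideal.span (Set.range (pols G))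
  let σ : AwayX n k i →+* Γ(𝐏, LefPen.chart n k i) := (Proj.awayToSection 𝒜 (X i : Rk)).hom
  have hσ : Function.Bijective σ := ConcreteCategory.bijective_of_isIso (Proj.awayToSection 𝒜 (X i : Rk))
  let ψ : Rk →+* AwayX n k i := (toAway n k i).comp (Groth.L16.ProjSpace.dehom n k i).toRingHom
  let L := Localization.Away (X i : Rk)
  let v : AwayX n k i →+* L := algebraMap _ _
  obtain ⟨w, rfl⟩ := hσ.2 z
  have hmap : I.map (deh i) = (I.map ψ).map σ := by rw [Ideal.map_map]; rfl
  rw [hmap] at h ⊢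
  refine Ideal.mem_map_of_mem σ ?_
  rw [← deh_form g i, show deh i g.1 = σ (ψ g.1) from rfl, ← map_mul] at h
  obtain ⟨w', hw', he⟩ := (Ideal.mem_map_iff_of_surjective σ hσ.2).1 h
  obtain rfl := hσ.1 he
  -- pass to the localisation, where forms and their dehomogenisations differ by units
  have hF : ∀ {e : ℕ} (f : LefPen.Form n k e), v (ψ f.1) * algebraMap Rk L (X i ^ e) = algebraMap Rk L f.1 :=
    fun f => Groth.L16.ProjSpace.toAway_dehom_mul n k i f.2
  have h1 : (I.map ψ).map v ≤ I.map (algebraMap Rk L) := by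
    simp only [I, Ideal.map_span]
    rw [Ideal.span_le]
    rintro _ ⟨_, ⟨_, ⟨j, rfl⟩, rfl⟩, rfl⟩
    have hu : IsUnit (algebraMap Rk L (X i ^ a j)) := by
      rw [map_pow]; exact (IsLocalization.Away.algebraMap_isUnit _).pow _
    obtain ⟨b, hb⟩ := hu.exists_left_inv
    have : v (ψ (pols G j)) = b * algebraMap Rk L (pols G j) := by
      rw [← hF (G j), mul_left_comm, hb, mul_one]
    rw [this]
    exact Ideal.mul_mem_left _ _ (Ideal.subset_span ⟨_, ⟨j, rfl⟩, rfl⟩)
  have h2 : algebraMap Rk L g.1 * v w ∈ I.map (algebraMap Rk L) := by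
    rw [← hF g]
    have := h1 (Ideal.mem_map_of_mem v hw')
    rw [map_mul] at this
    rw [mul_right_comm]
    exact Ideal.mul_mem_right _ _ this
  obtain ⟨⟨p, s⟩, hps⟩ := IsLocalization.surj (Submonoid.powers (X i : Rk)) (v w)
  have h3 : algebraMap Rk L (g.1 * p) ∈ I.map (algebraMap Rk L) := by
    rw [map_mul, ← hps, ← mul_assoc]
    exact Ideal.mul_mem_right _ _ h2
  rw [IsLocalization.algebraMap_mem_map_algebraMap_iff (Submonoid.powers (X i : Rk))] at h3
  obtain ⟨t, ht, htp⟩ := h3
  have h4 : t * p ∈ I := hreg _ (by rwa [mul_left_comm])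
  have h5 : v w ∈ I.map (algebraMap Rk L) := by
    obtain ⟨b, hb⟩ := ((IsLocalization.map_units L (⟨t, ht⟩ : Submonoid.powers (X i : Rk))).mul
      (IsLocalization.map_units L s)).exists_left_inv
    have : v w = b * algebraMap Rk L (t * p) := by
      rw [map_mul, ← hps, mul_comm (v w), ← mul_assoc _ _ (v w), ← mul_assoc, hb, one_mul]
    rw [this]
    exact Ideal.mul_mem_left _ _ (Ideal.mem_map_of_mem _ h4)
  have h7 : toAway n k i (dehomLoc n k i (v w)) ∈ I.map ψ :=
    mem_map_comp (algebraMap Rk L) (dehomLoc n k i) _ (toAway n k i) (dehomLoc_algebraMap i) h5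
  have h8 : toAway n k i (dehomLoc n k i (v w)) = w := by
    obtain ⟨q, rfl⟩ := Groth.L16.ProjSpace.toAway_surjective n k i w
    exact congrArg (toAway n k i) (congr($(Groth.L16.ProjSpace.fromAway_toAway n k i) q))
  rwa [h8] at h7

/-- Where the dehomogenisation of a form is invertible. -/
theorem basicOpen_dehom {d : ℕ} (hd : 1 ≤ d) (G : LefPen.Form n k d) (i : Fin (n + 1)) (x : 𝐏)
    (hx : x ∈ LefPen.chart n k i) :
    x ∈ (CohB1.ProjSpace n k).basicOpen (LefPen.dehom G i) ↔ x ∈ Proj.basicOpen 𝒜 G.1 := by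
  let c := Groth.L16.ProjSpace.chartAway n k i
  obtain ⟨q, rfl⟩ : ∃ q, c q = x := by
    exact (Groth.L16.ProjSpace.opensRange_chartAway n k i).ge hx
  have hW : (⊤ : (Spec (CommRingCat.of (AwayX n k i))).Opens) ≤ c ⁻¹ᵁ LefPen.chart n k i := fun z _ =>
    (Groth.L16.ProjSpace.opensRange_chartAway n k i).le ⟨z, rfl⟩
  set w : AwayX n k i := HomogeneousLocalization.Away.mk 𝒜 (LefPen.X_mem n k i) d G.1
    (by rw [smul_eq_mul, mul_one]; exact G.2) with hw
  have h1 : c.appLE (LefPen.chart n k i) ⊤ hW (LefPen.dehom G i) = (Scheme.ΓSpecIso (CommRingCat.of (AwayX n k i))).inv w :=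
    congr($(Groth.L16.ProjSpace.chartAway_appLE n k i hW) w)
  have h2 := congrArg (Spec (CommRingCat.of (AwayX n k i))).basicOpen h1
  rw [Scheme.basicOpen_appLE, top_inf_eq, basicOpen_eq_of_affine'] at h2
  have h3 : c ⁻¹ᵁ Proj.basicOpen 𝒜 G.1 = PrimeSpectrum.basicOpen w := by
    refine (Proj.awayι_preimage_basicOpen 𝒜 (LefPen.X_mem n k i) one_pos G.2 hd).trans
      (congrArg PrimeSpectrum.basicOpen (HomogeneousLocalization.val_injective _ ?_))
    simp only [HomogeneousLocalization.Away.isLocalizationElem, hw, HomogeneousLocalization.Away.val_mk, pow_one]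
  show q ∈ c ⁻¹ᵁ (CohB1.ProjSpace n k).basicOpen (LefPen.dehom G i) ↔ q ∈ c ⁻¹ᵁ Proj.basicOpen 𝒜 G.1
  rw [h2, h3]
  erw [show (Scheme.ΓSpecIso (CommRingCat.of (AwayX n k i))).hom ((Scheme.ΓSpecIso _).inv w) = w from
    congr($((Scheme.ΓSpecIso (CommRingCat.of (AwayX n k i))).inv_hom_id) w)]

/-- The support of a complete intersection. -/
theorem mem_support_ciIdeal (ha : ∀ j, 1 ≤ a j) (G : ∀ j, LefPen.Form n k (a j)) (x : 𝐏) :
    x ∈ (LefPen.ciIdeal G).support ↔
      Ideal.span (Set.range (pols G)) ≤ (show Pt k n from x).asHomogeneousIdeal.toIdeal := by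
  obtain ⟨i, hi⟩ := Groth.L21.PlaneCurve.exists_mem_chart x
  rw [Scheme.IdealSheafData.mem_support_iff_of_mem
    (U := ⟨_, Groth.L21.PlaneCurve.isAffineOpen_chart i⟩) hi, ciIdeal_chart, Scheme.zeroLocus_span,
    Scheme.mem_zeroLocus_iff, Ideal.span_le, Set.forall_mem_range, Set.range_subset_iff]
  refine forall_congr' fun j => ?_
  rw [basicOpen_dehom (ha j) (G j) i x hi]
  exact not_not

end Groth.L18.CIProj
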