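import Groth.Agent.L18.CounitQuot
import Groth.Agent.L18.ProjAlg.TwistAmple
import Groth.Agent.L18.RelTilde.MulIso
import Groth.Agent.L16.HomSh.Adjunction

/-!
# `p^* p_* F(n) → F(n)` is surjective for large `n` on a projective scheme
-/

set_option autoImplicit false
set_option linter.style.haveILetI false
set_option backward.isDefEq.respectTransparency false
universe u

open CategoryTheory CategoryTheory.Limits AlgebraicGeometry TopologicalSpace Opposite
open Groth.L00.Tensor (tensorIso tensorAssoc tensorUnitRight tensorMap)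

noncomputable section

namespace Groth.L18.RelCounit

theorem isSeparated_of_isRelAmple {X Y : Scheme.{u}} {f : X ⟶ Y} {L : X.Modules}
    (h : RelAmple.IsRelAmple f L) : IsSeparated f := by
  refine IsZariskiLocalAtTarget.of_iSup_eq_top (P := @IsSeparated) _ (iSup_affineOpens_eq_top Y) fun V => ?_
  haveI := Groth.L18.Ample.isSeparated_of_isAmple (h.2 V)
  infer_instance

theorem epi_tensorMap_right {X : Scheme.{u}} {A A' : X.Modules} (f : A ⟶ A') [Epi f] (B : X.Modules) :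
    Epi (tensorMap f (𝟙 B)) := by
  haveI : (Groth.L00.Tensor.tensorLeftF B).PreservesEpimorphisms :=
    Functor.preservesEpimorphisms_of_adjunction (Groth.L16.HomSh.tensorHomAdj B)
  haveI : (Groth.L00.Tensor.tensorRightF B).PreservesEpimorphisms :=
    Functor.PreservesEpimorphisms.of_iso (Groth.L00.Tensor.tensorFlipIso B).symm
  exact (Groth.L00.Tensor.tensorRightF B).map_epi f

theorem iso_of_frame {X : Scheme.{u}} {L : X.Modules} {e : Γ(L, ⊤)} (he : Groth.L18.Frame.IsFrame L ⊤ e) :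
    Nonempty (Coh.structureModule X ≅ L) := by
  haveI : IsIso (Groth.L16.homOfSection L e) :=
    IsoCover.isIso_of_bijective _ (fun _ : Unit => (⊤ : X.Opens)) (fun _ => ⟨(), trivial⟩) fun _ V hV => by
      rw [show ⇑((Groth.L16.homOfSection L e).app V) = fun r : Γ(X, V) => r • Groth.L18.Frame.rs L hV e from
        funext fun r => Groth.L16.homOfSection_app L e V r]
      exact he V hV
  exact ⟨asIso (Groth.L16.homOfSection L e)⟩

variable {S P : Scheme.{u}} {𝒮 : RelProj.QCGrAlg S} {p : P ⟶ S}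
  {chart : ∀ (U : S.Opens) (hU : IsAffineOpen U), (((p ⁻¹ᵁ U : P.Opens) : Scheme.{u}) ≅ Proj (𝒮.deg U hU))}

open RelTilde

/-- `O(1)^n ≅ O(n)`. -/
theorem nonempty_tensorPow_iso (hP : RelProj.IsRelProj 𝒮 p chart) (hgen : 𝒮.IsGenDegOne) {L1 : P.Modules}
    {lam1 : ∀ (U : S.Opens) (hU : IsAffineOpen U),
      L1 ⟶ (Scheme.Modules.pushforward (RelProj.emb p chart U hU)).obj (GrTwist.twist (𝒮.deg U hU) ((1 : ℕ) : ℤ))}
    (hL1 : RelProj.IsRelTwist 𝒮 p chart ((1 : ℕ) : ℤ) L1 lam1) (n : ℕ) :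
    ∀ {L : P.Modules} {lam : ∀ (U : S.Opens) (hU : IsAffineOpen U),
      L ⟶ (Scheme.Modules.pushforward (RelProj.emb p chart U hU)).obj (GrTwist.twist (𝒮.deg U hU) (n : ℤ))},
      RelProj.IsRelTwist 𝒮 p chart (n : ℤ) L lam → Nonempty (CohB1.tensorPow L1 n ≅ L) := by
  induction n with
  | zero =>
    intro L lam hL
    obtain ⟨e, he⟩ := exists_frame_zero hP (L₀ := L) (lam₀ := lam) hL
    exact iso_of_frame he
  | succ k ih =>
    intro L lam hL
    have h0 := (selfData 𝒮).isRel_glued p chart (k : ℤ) hP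
    obtain ⟨a⟩ := ih (isRelTwist_of_isRel h0)
    obtain ⟨b⟩ := nonempty_iso_mul hP hgen h0 hL1 (isRel_of_isRelTwist hL) (by push_cast; ring)
    exact ⟨tensorIso a (Iso.refl L1) ≪≫ b⟩

/-- `O(n) ⊗ O(-n) ≅ O`. -/
theorem nonempty_tensor_neg (hP : RelProj.IsRelProj 𝒮 p chart) (hgen : 𝒮.IsGenDegOne) {n : ℤ}
    {Lp Lm : P.Modules} {lamp : ∀ (U : S.Opens) (hU : IsAffineOpen U),
      Lp ⟶ (Scheme.Modules.pushforward (RelProj.emb p chart U hU)).obj (GrTwist.twist (𝒮.deg U hU) n)}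
    (hp : RelProj.IsRelTwist 𝒮 p chart n Lp lamp)
    {lamm : ∀ (U : S.Opens) (hU : IsAffineOpen U),
      Lm ⟶ (Scheme.Modules.pushforward (RelProj.emb p chart U hU)).obj (GrTwist.twist (𝒮.deg U hU) (-n))}
    (hm : RelProj.IsRelTwist 𝒮 p chart (-n) Lm lamm) :
    Nonempty (CohB1.tensorMod Lp Lm ≅ Coh.structureModule P) := by
  have h0 := (selfData 𝒮).isRel_glued p chart 0 hP
  obtain ⟨a⟩ := nonempty_iso_mul hP hgen (isRel_of_isRelTwist hp) hm h0 (by ring)
  obtain ⟨e, he⟩ := exists_frame_zero hP (isRelTwist_of_isRel h0)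
  obtain ⟨b⟩ := iso_of_frame he
  exact ⟨a ≪≫ b.symm⟩

theorem exists_counit_epi [CompactSpace S] (hP : RelProj.IsRelProj 𝒮 p chart) (hgen : 𝒮.IsGenDegOne)
    (hft : 𝒮.IsFTDeg 1) (F : P.Modules) (hFq : Coh.IsQCoh F) (hFt : CohB1.IsFT F) :
    ∃ n₀ : ℤ, ∀ (n : ℤ), n₀ ≤ n → ∀ (L : P.Modules) (lam : ∀ (U : S.Opens) (hU : IsAffineOpen U),
      L ⟶ (Scheme.Modules.pushforward (RelProj.emb p chart U hU)).obj (GrTwist.twist (𝒮.deg U hU) n)),
      RelProj.IsRelTwist 𝒮 p chart n L lam →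
        Epi ((Scheme.Modules.pullbackPushforwardAdjunction p).counit.app (CohB1.tensorMod F L)) := by
  haveI : QuasiCompact p := (RP.finiteType_of_genDegOne hP hgen hft).2
  haveI : CompactSpace P := QuasiCompact.compactSpace_of_compactSpace p
  have h1 := (selfData 𝒮).isRel_glued p chart ((1 : ℕ) : ℤ) hP
  have hL1 := isRelTwist_of_isRel h1
  obtain ⟨n₀, -, hn₀⟩ := Groth.L18.Ample.exists_isRelAmple_counit_epi p
    (Groth.L18.TwistAmp.isRelAmple hP hgen hft hL1) F ⟨hFq, hFt⟩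
  refine ⟨n₀, fun n hn L lam hL => ?_⟩
  obtain ⟨k, rfl⟩ := Int.eq_ofNat_of_zero_le (le_trans (Int.natCast_nonneg n₀) hn)
  obtain ⟨e⟩ := nonempty_tensorPow_iso hP hgen hL1 k hL
  let adj := Scheme.Modules.pullbackPushforwardAdjunction p
  let φ := tensorIso (Iso.refl F) e
  haveI := hn₀ k (by omega)
  have hn' := adj.counit.naturality φ.hom
  haveI : Epi ((Scheme.Modules.pushforward p ⋙ Scheme.Modules.pullback p).map φ.hom ≫ adj.counit.app _) := by
    rw [hn']; exact epi_comp _ _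
  exact epi_of_epi ((Scheme.Modules.pushforward p ⋙ Scheme.Modules.pullback p).map φ.hom) _

theorem exists_quotient (hS : CompactSpace S) [QuasiSeparatedSpace S] (hP : RelProj.IsRelProj 𝒮 p chart)
    (hgen : 𝒮.IsGenDegOne) (hft : 𝒮.IsFTDeg 1) (F : P.Modules) (hFq : Coh.IsQCoh F) (hFt : CohB1.IsFT F) :
    ∃ n₀ : ℤ, ∀ (n : ℤ), n₀ ≤ n → ∀ (L : P.Modules) (lam : ∀ (U : S.Opens) (hU : IsAffineOpen U),
      L ⟶ (Scheme.Modules.pushforward (RelProj.emb p chart U hU)).obj (GrTwist.twist (𝒮.deg U hU) (-n))),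
      RelProj.IsRelTwist 𝒮 p chart (-n) L lam →
        ∃ (G : S.Modules) (π : CohB1.tensorMod ((Scheme.Modules.pullback p).obj G) L ⟶ F),
          Coh.IsQCoh G ∧ CohB1.IsFT G ∧ Epi π := by
  haveI : QuasiCompact p := (RP.finiteType_of_genDegOne hP hgen hft).2
  haveI : IsSeparated p := RP.isSeparated hP
  have h1 := (selfData 𝒮).isRel_glued p chart ((1 : ℕ) : ℤ) hP
  have hL1 := isRelTwist_of_isRel h1
  have hL1i := (Groth.L18.TwistAmp.isRelAmple hP hgen hft hL1)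
  haveI : CompactSpace P := QuasiCompact.compactSpace_of_compactSpace p
  obtain ⟨n₀, hn₀⟩ := exists_counit_epi hP hgen hft F hFq hFt
  refine ⟨max n₀ 0, fun n hn L lam hL => ?_⟩
  have hpn := (selfData 𝒮).isRel_glued p chart n hP
  have hLp := isRelTwist_of_isRel hpn
  set Lp := (selfData 𝒮).glued p chart n hP
  haveI := hn₀ n ((le_max_left _ _).trans hn) _ _ hLp
  obtain ⟨k, rfl⟩ := Int.eq_ofNat_of_zero_le (le_trans (le_max_right _ _) hn)
  obtain ⟨e⟩ := nonempty_tensorPow_iso hP hgen hL1 k hLp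
  have hinv1 : PicF.IsInvertible ((selfData 𝒮).glued p chart ((1 : ℕ) : ℤ) hP) :=
    Groth.L18.Ample.isInvertible_of_cover fun x => by
      obtain ⟨V, hV, hx, -⟩ := Groth.L18.Ample.exists_affine_le (Opens.mem_top (p x))
      exact ⟨p ⁻¹ᵁ V, hx, (hL1i.2 ⟨V, hV⟩).1⟩
  have hpi := Groth.L18.Ample.isInvertible_of_iso e (Groth.L18.Ample.isInvertible_tensorPow hinv1 k)
  haveI : Coh.IsQCoh F := hFq
  haveI : Coh.IsQCoh Lp := Groth.L21.Extend.isQCoh_of_isInvertible hpi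
  haveI : Coh.IsQCoh (CohB1.tensorMod F Lp) := Groth.L00.Tensor.isQCoh_tensorMod F Lp
  obtain ⟨G, φ, hGq, hGft, hφ⟩ := Groth.L18.CounitQuot.exists_quotient_pullback p (CohB1.tensorMod F Lp)
    (Groth.L00.Tensor.isFT_tensorMod F Lp hFt (Groth.L18.Ample.isFT_of_isInvertible hpi))
  obtain ⟨u⟩ := nonempty_tensor_neg hP hgen hLp hL
  haveI := hφ
  haveI : Epi (tensorMap φ (𝟙 L)) := epi_tensorMap_right φ L
  exact ⟨G, tensorMap φ (𝟙 L) ≫ (tensorAssoc F Lp L ≪≫ tensorIso (Iso.refl F) u ≪≫ tensorUnitRight F).hom,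
    hGq, hGft, epi_comp _ _⟩

end Groth.L18.RelCounit
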