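import Groth.Agent.L18.RelAmpleCrit
import Groth.Agent.L17.Approx.Extend
import Groth.Agent.L17.ClosedPush
import Groth.Agent.L16.QcqsPush
import Groth.Agent.L20.ModStalk

/-!
# A relatively generated module of finite type is a quotient of the pull back of a module of finite type
-/

set_option autoImplicit false
set_option linter.style.haveILetI false
set_option backward.isDefEq.respectTransparency false
set_option backward.isDefEq.respectTransparency.types false
universe u

open CategoryTheory CategoryTheory.Limits AlgebraicGeometry TopologicalSpace Opposite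
open scoped TensorProduct

noncomputable section

namespace Groth.L18.CounitQuot

open Groth.L18.Frame (rs pull)
open Groth.L20.ModStalk (stalkModule germₗ isLocalizedModule_germ)

variable {X Y : Scheme.{u}} (f : X ⟶ Y) (M : X.Modules)

/-- Stalks are spanned by germs of sections over preimages when the counit is an epimorphism. -/
theorem span_germ_eq_top [Epi ((Scheme.Modules.pullbackPushforwardAdjunction f).counit.app M)] (x : X) :
    Submodule.span (X.presheaf.stalk x)
      {z : M.presheaf.stalk x | ∃ (W : Y.Opens) (hx : x ∈ f ⁻¹ᵁ W) (t : Γ(M, f ⁻¹ᵁ W)),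
        z = M.presheaf.germ (f ⁻¹ᵁ W) x hx t} = ⊤ := by
  let adj := Scheme.Modules.pullbackPushforwardAdjunction f
  let N := (Scheme.Modules.pushforward f).obj M
  let P := (Scheme.Modules.pullback f).obj N
  let ct : (Groth.L00.Stk.F X x).obj P ⟶ (Groth.L00.Stk.F X x).obj M :=
    (Groth.L00.Stk.F X x).map (adj.counit.app M)
  letI : Algebra (Y.presheaf.stalk (f x)) (X.presheaf.stalk x) := (f.stalkMap x).hom.toAlgebra
  let ε : P.presheaf.stalk x ≃ₗ[X.presheaf.stalk x]
      X.presheaf.stalk x ⊗[Y.presheaf.stalk (f x)] N.presheaf.stalk (f x) :=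
    ((Groth.L00.PullStalk.stalkIso f x).app N).toLinearEquiv
  refine eq_top_iff.2 fun z hzt => ?_
  clear hzt
  obtain ⟨y, rfl⟩ := (Groth.L21.Mod.epi_iff_stalk_surjective (adj.counit.app M)).1 inferInstance x z
  obtain ⟨w, rfl⟩ := ε.symm.surjective y
  induction w using TensorProduct.induction_on with
  | zero =>
    rw [map_zero]
    erw [map_zero]
    exact zero_mem _
  | add a b ha hb =>
    rw [map_add]
    erw [map_add]
    exact add_mem ha hb
  | tmul c n =>
    obtain ⟨W, hxW, t, rfl⟩ := TopCat.Presheaf.exists_germ_eq N.presheaf n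
    have e1 : ε.symm (c ⊗ₜ[Y.presheaf.stalk (f x)] N.presheaf.germ W (f x) hxW t) =
        c • P.presheaf.germ (f ⁻¹ᵁ W) x hxW (pull f N W t) := by
      apply ε.injective
      rw [ε.apply_symm_apply, map_smul]
      have h := Groth.L17.ClosedPush.stalkIso_unit_germ f N x hxW t
      refine Eq.trans ?_ (congrArg (c • ·) h.symm)
      show c ⊗ₜ[Y.presheaf.stalk (f x)] _ = c • ((1 : X.presheaf.stalk x) ⊗ₜ[Y.presheaf.stalk (f x)] _)
      rw [TensorProduct.smul_tmul', smul_eq_mul, mul_one]
      rfl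
    rw [e1]
    show ct.hom (c • _) ∈ _
    rw [map_smul]
    refine Submodule.smul_mem _ c (Submodule.subset_span ⟨W, hxW, t, ?_⟩)
    refine (Groth.L21.Mod.stalkF_map_germ (adj.counit.app M) (f ⁻¹ᵁ W) x hxW (pull f N W t)).trans ?_
    refine congrArg (M.presheaf.germ (f ⁻¹ᵁ W) x hxW) ?_
    exact congr(($(adj.right_triangle_components (Y := M))).app W t)

/-- A map killing the germs of finitely many generators at a point vanishes near the point. -/
theorem exists_nhd_of_germ_eq_zero [Coh.IsQCoh M] {U : X.Opens} (hU : IsAffineOpen U)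
    [Module.Finite Γ(X, U) Γ(M, U)] {x : X} (hx : x ∈ U) {G : X.Modules} (g : M ⟶ G)
    (h : ∀ m : Γ(M, U), (Groth.L21.Mod.stalkF X x).map g (M.presheaf.germ U x hx m) = 0) :
    ∃ W : X.Opens, x ∈ W ∧ ∀ y ∈ W, (Groth.L21.Mod.stalkF X y).map g = 0 := by
  classical
  obtain ⟨s, hs⟩ := (inferInstance : Module.Finite Γ(X, U) Γ(M, U)).fg_top
  have hnb : ∀ m : Γ(M, U), ∃ (V : X.Opens) (i : V ⟶ U), x ∈ V ∧ g.app V (M.presheaf.map i.op m) = 0 := by
    intro m
    have h0 : G.presheaf.germ U x hx (g.app U m) = G.presheaf.germ U x hx 0 := by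
      rw [map_zero, ← Groth.L21.Mod.stalkF_map_germ]
      exact h m
    obtain ⟨V, hxV, i₁, i₂, he⟩ := TopCat.Presheaf.germ_eq G.presheaf x hx hx _ _ h0
    refine ⟨V, i₁, hxV, ?_⟩
    rw [map_zero] at he
    exact (ConcreteCategory.congr_hom (g.mapPresheaf.naturality i₁.op) m).trans he
  choose V i hxV hV using hnb
  let W : X.Opens := s.inf V ⊓ U
  have hxW : x ∈ W := by
    refine ⟨?_, hx⟩
    have : ∀ t : Finset Γ(M, U), x ∈ t.inf V := by
      intro t
      induction t using Finset.induction with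
      | empty => simp
      | insert m t _ ih => rw [Finset.inf_insert]; exact ⟨hxV m, ih⟩
    exact this s
  refine ⟨W, hxW, fun y hy => ?_⟩
  have hgen : ∀ m ∈ s, (Groth.L21.Mod.stalkF X y).map g (M.presheaf.germ U y hy.2 m) = 0 := by
    intro m hm
    have hyV : y ∈ V m := (Finset.inf_le hm : s.inf V ≤ V m) hy.1
    rw [← TopCat.Presheaf.germ_res_apply M.presheaf (i m) y hyV m, Groth.L21.Mod.stalkF_map_germ, hV m, map_zero]
  let gs := (Groth.L00.Stk.F X y).map g
  letI := stalkModule M hy.2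
  haveI := isLocalizedModule_germ M hU hy.2
  letI := stalkModule G hy.2
  let gl : M.presheaf.stalk y →ₗ[Γ(X, U)] G.presheaf.stalk y :=
    { toFun := fun z => gs z
      map_add' := fun a b => map_add _ a b
      map_smul' := fun a z => gs.hom.map_smul _ z }
  have h1 : ∀ m : Γ(M, U), gl (germₗ M hy.2 m) = 0 := fun m => by
    have hm : m ∈ Submodule.span Γ(X, U) (s : Set Γ(M, U)) := hs ▸ Submodule.mem_top
    induction hm using Submodule.span_induction with
    | mem a ha => exact hgen a ha
    | zero => rw [map_zero, map_zero]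
    | add a b _ _ ha hb => rw [map_add, map_add, ha, hb, add_zero]
    | smul c a _ ha => rw [map_smul, map_smul, ha, smul_zero]
  ext z
  show gl z = 0
  obtain ⟨⟨m, c⟩, hc⟩ := IsLocalizedModule.surj (hU.primeIdealOf ⟨y, hy.2⟩).asIdeal.primeCompl (germₗ M hy.2) z
  have h2 : (c : Γ(X, U)) • gl z = 0 := by rw [← map_smul, ← Submonoid.smul_def, hc]; exact h1 m
  have hu : IsUnit (X.presheaf.germ U y hy.2 (c : Γ(X, U))) := by
    letI := X.presheaf.algebra_section_stalk ⟨y, hy.2⟩
    haveI := hU.isLocalization_stalk ⟨y, hy.2⟩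
    exact IsLocalization.map_units (X.presheaf.stalk y) c
  exact hu.smul_eq_zero.1 h2

/-- Finitely generated sections on small affine opens. -/
theorem exists_affine_finite [Coh.IsQCoh M] (hM : CohB1.IsFT M) (x : X) :
    ∃ U : X.Opens, IsAffineOpen U ∧ x ∈ U ∧ Module.Finite Γ(X, U) Γ(M, U) := by
  obtain ⟨_, ⟨U, hU, rfl⟩, hxU, -⟩ := X.isBasis_affineOpens.exists_subset_of_mem_open (Set.mem_univ x) isOpen_univ
  haveI : Coh.IsQCoh (M.restrict hU.fromSpec) := Scheme.Modules.isQuasicoherent_restrictFunctor _ M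
  obtain ⟨σ, hσ⟩ := Groth.L16.CohKernel.exists_finite_generators (M.restrict hU.fromSpec)
    (Groth.L16.CohKernel.isFT_restrict _ M hM)
  haveI := hσ
  exact ⟨U, hU, hxU, Groth.L20.ModStalk.finite_sections_affine M hU σ⟩

/-- A relatively generated module of finite type is a quotient of some `f^* G`, `G` of finite type. -/
theorem exists_quotient_pullback [CompactSpace Y] [QuasiSeparatedSpace Y] [QuasiCompact f] [QuasiSeparated f]
    [Coh.IsQCoh M] (hM : CohB1.IsFT M)
    [Epi ((Scheme.Modules.pullbackPushforwardAdjunction f).counit.app M)] :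
    ∃ (G : Y.Modules) (φ : (Scheme.Modules.pullback f).obj G ⟶ M), Coh.IsQCoh G ∧ CohB1.IsFT G ∧ Epi φ := by
  classical
  haveI : CompactSpace X := QuasiCompact.compactSpace_of_compactSpace f
  let N := (Scheme.Modules.pushforward f).obj M
  haveI : Coh.IsQCoh N := Groth.L16.QcqsPush.isQCoh_push M f
  let adj := Scheme.Modules.pullbackPushforwardAdjunction f
  -- germs of sections of `N` at `x`
  let ι := Σ V : Y.affineOpens, Γ(N, V.1)
  have hpt : ∀ x : X, ∃ (T : Finset ι) (W : X.Opens), x ∈ W ∧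
      ∀ (G : X.Modules) (g : M ⟶ G), (∀ q ∈ T, g.app (f ⁻¹ᵁ q.1.1) q.2 = 0) →
        (Groth.L21.Mod.stalkF X x).map g = 0 := by
    intro x
    obtain ⟨U, hU, hxU, hfin⟩ := exists_affine_finite M hM x
    obtain ⟨s, hs⟩ := hfin.fg_top
    have hsp : ∀ m : Γ(M, U), ∃ T : Finset ι, ∀ (G : X.Modules) (g : M ⟶ G),
        (∀ q ∈ T, g.app (f ⁻¹ᵁ q.1.1) q.2 = 0) →
          (Groth.L21.Mod.stalkF X x).map g (M.presheaf.germ U x hxU m) = 0 := by
      intro m
      have hm : M.presheaf.germ U x hxU m ∈ Submodule.span (X.presheaf.stalk x) _ :=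
        (span_germ_eq_top f M x).ge Submodule.mem_top
      generalize M.presheaf.germ U x hxU m = z₀ at hm ⊢
      induction hm using Submodule.span_induction with
      | mem z hz =>
        obtain ⟨W, hxW, t, rfl⟩ := hz
        obtain ⟨_, ⟨V, hV, rfl⟩, hxV, hVW⟩ :=
          Y.isBasis_affineOpens.exists_subset_of_mem_open (show f x ∈ W from hxW) W.2
        let t' : Γ(M, f ⁻¹ᵁ V) := M.presheaf.map (homOfLE (f.preimage_mono hVW)).op t
        refine ⟨{⟨⟨V, hV⟩, t'⟩}, fun G g hg => ?_⟩
        rw [← TopCat.Presheaf.germ_res_apply M.presheaf (homOfLE (f.preimage_mono hVW)) x hxV t]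
        show (Groth.L21.Mod.stalkF X x).map g (M.presheaf.germ (f ⁻¹ᵁ V) x hxV t') = 0
        rw [Groth.L21.Mod.stalkF_map_germ, show g.app (f ⁻¹ᵁ V) t' = 0 from hg _ (Finset.mem_singleton_self _), map_zero]
      | zero => exact ⟨∅, fun G g _ => map_zero _⟩
      | add a b _ _ ha hb =>
        obtain ⟨Ta, hTa⟩ := ha
        obtain ⟨Tb, hTb⟩ := hb
        refine ⟨Ta ∪ Tb, fun G g hg => ?_⟩
        rw [map_add, hTa G g fun q hq => hg q (Finset.mem_union_left _ hq),
          hTb G g fun q hq => hg q (Finset.mem_union_right _ hq), add_zero]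
      | smul c a _ ha =>
        obtain ⟨Ta, hTa⟩ := ha
        refine ⟨Ta, fun G g hg => ?_⟩
        show ((Groth.L00.Stk.F X x).map g).hom (c • a) = 0
        rw [map_smul]
        exact smul_eq_zero_of_right c (hTa G g hg)
    choose T hT using hsp
    refine ⟨s.biUnion T, U, hxU, fun G g hg => ?_⟩
    letI := stalkModule M hxU
    haveI := isLocalizedModule_germ M hU hxU
    letI := stalkModule G hxU
    let gs := (Groth.L00.Stk.F X x).map g
    let gl : M.presheaf.stalk x →ₗ[Γ(X, U)] G.presheaf.stalk x :=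
      { toFun := fun z => gs z
        map_add' := fun a b => map_add _ a b
        map_smul' := fun a z => gs.hom.map_smul _ z }
    have h1 : ∀ m : Γ(M, U), gl (germₗ M hxU m) = 0 := fun m => by
      have hm : m ∈ Submodule.span Γ(X, U) (s : Set Γ(M, U)) := hs ▸ Submodule.mem_top
      induction hm using Submodule.span_induction with
      | mem a ha => exact hT a G g fun q hq => hg q (Finset.mem_biUnion.2 ⟨a, ha, hq⟩)
      | zero => rw [map_zero, map_zero]
      | add a b _ _ ha hb => rw [map_add, map_add, ha, hb, add_zero]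
      | smul c a _ ha => rw [map_smul, map_smul, ha, smul_zero]
    ext z
    show gl z = 0
    obtain ⟨⟨m, c⟩, hc⟩ := IsLocalizedModule.surj (hU.primeIdealOf ⟨x, hxU⟩).asIdeal.primeCompl (germₗ M hxU) z
    have h2 : (c : Γ(X, U)) • gl z = 0 := by rw [← map_smul, ← Submonoid.smul_def, hc]; exact h1 m
    have hu : IsUnit (X.presheaf.germ U x hxU (c : Γ(X, U))) := by
      letI := X.presheaf.algebra_section_stalk ⟨x, hxU⟩
      haveI := hU.isLocalization_stalk ⟨x, hxU⟩
      exact IsLocalization.map_units (X.presheaf.stalk x) c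
    exact hu.smul_eq_zero.1 h2
  choose T _ _ hT using hpt
  -- the quotient attached to a finite set of sections
  have hG : ∀ S : Finset ι, ∃ (G : Y.Modules) (i : G ⟶ N), Coh.IsCoh G ∧
      ∀ q ∈ S, q.2 ∈ Set.range (i.app q.1.1) := by
    intro S
    obtain ⟨G, i, -, hG, hq⟩ := Groth.L17.Approx.exists_submodule_finset N (fun q : ι => q.1.1)
      (fun q => q.1.2.isCompact) (fun _ => PUnit.{u + 1}) (fun q _ => q.2) S
    exact ⟨G, i, hG, fun q hq' => hq q hq' PUnit.unit⟩
  choose Gs is hGc hGt using hG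
  let φ : ∀ S, (Scheme.Modules.pullback f).obj (Gs S) ⟶ M := fun S => (adj.homEquiv _ _).symm (is S)
  have hkill : ∀ (S : Finset ι) (G : X.Modules) (g : M ⟶ G), φ S ≫ g = 0 →
      ∀ q ∈ S, g.app (f ⁻¹ᵁ q.1.1) q.2 = 0 := by
    intro S G g hg q hq
    obtain ⟨w, hw⟩ := hGt S q hq
    have h0 : is S ≫ (Scheme.Modules.pushforward f).map g = 0 := by
      have := adj.homEquiv_naturality_right (φ S) g
      rw [hg, Adjunction.homEquiv_unit, Functor.map_zero, comp_zero, Equiv.apply_symm_apply] at this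
      exact this.symm
    rw [← hw]
    exact congr(($h0).app q.1.1 w)
  have hnhd : ∀ x : X, ∃ W : X.Opens, x ∈ W ∧
      ∀ y ∈ W, (Groth.L21.Mod.stalkF X y).map (cokernel.π (φ (T x))) = 0 := by
    intro x
    have h0 := hT x _ (cokernel.π (φ (T x))) (hkill _ _ _ (cokernel.condition _))
    obtain ⟨U, hU, hxU, hfin⟩ := exists_affine_finite M hM x
    exact exists_nhd_of_germ_eq_zero M hU hxU _ fun m => by rw [h0]; rfl
  choose W hxW hW using hnhd
  obtain ⟨s, hs⟩ := isCompact_univ.elim_finite_subcover (fun x : X => (W x : Set X))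
    (fun x => (W x).2) (fun x _ => Set.mem_iUnion.2 ⟨x, hxW x⟩)
  -- one module containing all
  have hsup : ∀ t : Finset X, ∃ (G : Y.Modules) (i : G ⟶ N), Coh.IsCoh G ∧
      ∀ x ∈ t, ∃ a : Gs (T x) ⟶ G, a ≫ i = is (T x) := by
    intro t
    induction t using Finset.induction with
    | empty => exact ⟨Gs ∅, is ∅, hGc ∅, by simp⟩
    | insert x t _ ih =>
      obtain ⟨G, i, hG, ha⟩ := ih
      obtain ⟨C, c, a', b', -, hC, h1, h2⟩ := Groth.L17.Approx.exists_sup i (is (T x)) hG (hGc (T x))
      refine ⟨C, c, hC, fun z hz => ?_⟩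
      rcases Finset.mem_insert.1 hz with rfl | hz
      · exact ⟨b', h2⟩
      · obtain ⟨a, haa⟩ := ha z hz
        exact ⟨a ≫ a', by rw [Category.assoc, h1, haa]⟩
  obtain ⟨G, i, hG, ha⟩ := hsup s
  refine ⟨G, (adj.homEquiv _ _).symm i, hG.1, hG.2, ?_⟩
  refine Preadditive.epi_of_cancel_zero _ fun {K : X.Modules} (g : M ⟶ K) hg => ?_
  refine (Groth.L21.Mod.eq_zero_iff_stalk g).2 fun y => ?_
  obtain ⟨x, hx, hy⟩ := Set.mem_iUnion₂.1 (hs (Set.mem_univ y))
  obtain ⟨a, hai⟩ := ha x hx
  have h1 : φ (T x) ≫ g = 0 := by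
    show (adj.homEquiv _ _).symm (is (T x)) ≫ g = 0
    rw [← hai, Adjunction.homEquiv_naturality_left_symm, Category.assoc, hg, comp_zero]
  rw [← cokernel.π_desc (φ (T x)) g h1, Functor.map_comp, hW x y hy, zero_comp]

end Groth.L18.CounitQuot
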