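import Groth.Agent.L18.ParaFPic
import Groth.Agent.L29.Dual.InvertibleChart
import Groth.Agent.L29.Formal.CechSect
import Groth.Agent.L08.Cube.Inverse
import Groth.Agent.L06.RegularPow
import Groth.Agent.S11975
import Groth.Agent.L16.Existence.Vanishing

/-!
# Invertible modules on a punctured spectrum trivial along an ideal with free graded pieces
-/

set_option autoImplicit false
set_option linter.style.haveILetI false
set_option linter.unusedSectionVars false
set_option backward.isDefEq.respectTransparency.types false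
set_option backward.isDefEq.respectTransparency false
universe u

open CategoryTheory CategoryTheory.Limits AlgebraicGeometry Opposite TopologicalSpace
open IsLocalRing Groth.L16
open Groth.L04.PunctLin (tM tg)
open Groth.L18.Frame (IsFrame rs ro rs_rs rs_self rs_smul pull pull_rs pull_smul)
open AffineBC (scal)

noncomputable section

namespace Groth.L18.GrFreePic

variable {A : Type u} [CommRing A]

theorem specQuot_cart (J : Ideal A) (U : (Spec (CommRingCat.of A)).Opens) :
    ∃ π : (↑(Spec.map (CommRingCat.ofHom (Ideal.Quotient.mk J)) ⁻¹ᵁ U) : Scheme.{u}) ⟶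
        Spec (CommRingCat.of (A ⧸ J ^ (0 + 1))),
      IsPullback (Spec.map (CommRingCat.ofHom (Ideal.Quotient.mk J)) ∣_ U) π U.ι (CohB1.specQuot J 0) := by
  let g₀ := Spec.map (CommRingCat.ofHom (Ideal.Quotient.mk J))
  let q₀ : A ⧸ J ^ (0 + 1) ≃+* A ⧸ J := Ideal.quotEquivOfEq (by rw [zero_add, pow_one])
  let ξ : Spec (CommRingCat.of (A ⧸ J)) ≅ Spec (CommRingCat.of (A ⧸ J ^ (0 + 1))) :=
    Scheme.Spec.mapIso q₀.toCommRingCatIso.op
  have hξ : ξ.hom ≫ CohB1.specQuot J 0 = g₀ := by
    show Spec.map _ ≫ Spec.map _ = Spec.map _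
    rw [← Spec.map_comp]
    congr 1
  exact ⟨(g₀ ⁻¹ᵁ U).ι ≫ ξ.hom, (isPullback_morphismRestrict g₀ U).of_iso (Iso.refl _) (Iso.refl _) ξ (Iso.refl _)
    (by simp [g₀]) (by simp [g₀]) (by simp) (by simp [hξ, g₀])⟩

theorem exists_iso_subscheme (J : Ideal A) (U : (Spec (CommRingCat.of A)).Opens) :
    ∃ ℓ : (↑(Spec.map (CommRingCat.ofHom (Ideal.Quotient.mk J)) ⁻¹ᵁ U) : Scheme.{u}) ≅
        ((Spec.map (CommRingCat.ofHom (Ideal.Quotient.mk J))).ker.comap U.ι).subscheme,
      ℓ.hom ≫ ((Spec.map (CommRingCat.ofHom (Ideal.Quotient.mk J))).ker.comap U.ι).subschemeι =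
        Spec.map (CommRingCat.ofHom (Ideal.Quotient.mk J)) ∣_ U := by
  let g := Spec.map (CommRingCat.ofHom (Ideal.Quotient.mk J))
  haveI : IsClosedImmersion g := IsClosedImmersion.spec_of_surjective _ Ideal.Quotient.mk_surjective
  haveI : IsClosedImmersion (g ∣_ U) := inferInstance
  have hk : (g ∣_ U).ker = g.ker.comap U.ι := by
    have h := isPullback_morphismRestrict g U
    rw [← h.isoPullback_hom_fst, Scheme.Hom.ker_comp_of_isIso,
      Scheme.IdealSheafData.ker_fst_of_isClosedImmersion]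
  have hk' : ((g.ker.comap U.ι).subschemeι).ker = (g ∣_ U).ker :=
    (Scheme.IdealSheafData.ker_subschemeι _).trans hk.symm
  haveI := IsClosedImmersion.isIso_lift _ _ hk'
  exact ⟨asIso (IsClosedImmersion.lift _ (g ∣_ U) hk'.le), IsClosedImmersion.lift_fac _ _ _⟩

variable [IsNoetherianRing A]

/-- A lift of a frame of the reduction generates along the closed subscheme. -/
theorem mem_genLocus_of_lift (J : Ideal A) {U : (Spec (CommRingCat.of A)).Opens}
    [IsLocallyNoetherian (U : Scheme.{u})] {P : Scheme.{u}} (ι : P ⟶ (U : Scheme.{u})) [IsClosedImmersion ι]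
    {L : (U : Scheme.{u}).Modules} (hL : PicF.IsInvertible L)
    (q : Formal.modPow J (0 + 1) L ≅ (Coh.push ι).obj ((Scheme.Modules.pullback ι).obj L))
    (hq : Formal.modPowπ J (0 + 1) L ≫ q.hom = (Scheme.Modules.pullbackPushforwardAdjunction ι).unit.app L)
    (φ : (Scheme.Modules.pullback ι).obj L ≅ Coh.structureModule P) (z : Γ(L, ⊤))
    (hz : (Formal.modPowπ J (0 + 1) L).app ⊤ z = q.inv.app ⊤ (show Γ((Coh.push ι).obj ((Scheme.Modules.pullback ι).obj L), ⊤)
      from φ.inv.app ⊤ (show Γ(Coh.structureModule P, ⊤) from (1 : Γ(P, ⊤)))))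
    (x : (U : Scheme.{u})) (hxι : x ∈ Set.range ι) (hx : J ≤ (U.ι x).asIdeal) :
    x ∈ CohB1.genLocus L (Groth.L16.homOfSection L z) := by
  let X : Scheme.{u} := U
  have hLc : Coh.IsCoh L := ProperFinite.isCoh_of_isInvertible hL
  haveI : Coh.IsQCoh L := hLc.1
  let g : Γ((Scheme.Modules.pullback ι).obj L, ⊤) :=
    φ.inv.app ⊤ (show Γ(Coh.structureModule P, ⊤) from (1 : Γ(P, ⊤)))
  have hg : IsFrame _ ⊤ g := Groth.L18.PicWitt.isFrame_of_iso φ
  let y : Γ(Formal.modPow J (0 + 1) L, ⊤) :=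
    q.inv.app ⊤ (show Γ((Coh.push ι).obj ((Scheme.Modules.pullback ι).obj L), ⊤) from g)
  let s := Groth.L16.homOfSection L z
  have hs : Groth.L18.GenLoc.secOf s = z := Groth.L18.GenLoc.secOf_homOfSection z
  have hx' : (X ↘ Spec (CommRingCat.of A)) x ∈ PrimeSpectrum.zeroLocus (J : Set A) := hx
  obtain ⟨W, e, hW, hxW, he⟩ := Groth.L18.GenLoc.exists_affine_frame hL x
  obtain ⟨b', hb'⟩ := ((HomSh.modPow_spec J hLc (0 + 1)).2 W hW).1 (rs (Formal.modPow J (0 + 1) L) le_top y)
  obtain ⟨b, rfl⟩ : ∃ b : Γ(X, W), b • e = b' := by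
    obtain ⟨b, hb⟩ := he.exists_coeff le_rfl b'
    exact ⟨b, by rwa [rs_self] at hb⟩
  obtain ⟨a, ha⟩ : ∃ a : Γ(X, W), a • e = rs L le_top z := by
    obtain ⟨a, ha⟩ := he.exists_coeff le_rfl (rs L le_top z)
    exact ⟨a, by rwa [rs_self] at ha⟩
  have hpb : pull ι L W (b • e) = rs _ (ι.preimage_mono le_top) g := by
    have h1 : ((Scheme.Modules.pullbackPushforwardAdjunction ι).unit.app L).app W (b • e) =
        q.hom.app W ((Formal.modPowπ J (0 + 1) L).app W (b • e)) := by
      rw [← hq]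
      rfl
    refine h1.trans ((congrArg (q.hom.app W) hb').trans ?_)
    refine (congr($(q.hom.mapPresheaf.naturality (homOfLE (le_top : W ≤ ⊤)).op) y)).trans ?_
    show rs _ _ (q.hom.app ⊤ (q.inv.app ⊤ _)) = _
    rw [← ConcreteCategory.comp_apply, ← Scheme.Modules.Hom.comp_app, Iso.inv_hom_id]
    rfl
  have hunit : IsUnit (ι.app W b) := by
    refine Groth.L18.Frame.isUnit_of_isFrame (he.pullback ι L) ?_
    rw [← pull_smul, hpb]
    exact hg.mono _
  have hab : a - b ∈ J.map (scal A X W) := by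
    have h0 : (Formal.modPowπ J (0 + 1) L).app W (rs L le_top z - b • e) = 0 := by
      rw [map_sub, hb', sub_eq_zero]
      refine (congr($((Formal.modPowπ J (0 + 1) L).mapPresheaf.naturality (homOfLE (le_top : W ≤ ⊤)).op) z)).trans ?_
      show rs _ _ ((Formal.modPowπ J (0 + 1) L).app ⊤ z) = _
      rw [hz]
    have h1 := (((HomSh.modPow_spec J hLc (0 + 1)).2 W hW).2 _).1 h0
    rw [zero_add, pow_one, ← ha, ← sub_smul] at h1
    have key : ∀ v ∈ (J.map (scal A X W)) • (⊤ : Submodule Γ(X, W) Γ(L, W)),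
        ∃ r ∈ J.map (scal A X W), r • e = v := by
      intro v hv
      refine Submodule.smul_induction_on hv (fun r hr m _ => ?_) ?_
      · obtain ⟨d, hd⟩ := he.exists_coeff le_rfl m
        rw [rs_self] at hd
        exact ⟨r * d, Ideal.mul_mem_right _ _ hr, by rw [mul_smul, hd]⟩
      · rintro v v' ⟨r, hr, rfl⟩ ⟨r', hr', rfl⟩
        exact ⟨r + r', add_mem hr hr', add_smul _ _ _⟩
    obtain ⟨r, hr, hre⟩ := key _ h1
    rwa [← he.inj le_rfl (show r • rs L le_rfl e = (a - b) • rs L le_rfl e by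
      rw [rs_self]; exact hre)]
  have hbx : x ∈ X.basicOpen b := by
    obtain ⟨w, rfl⟩ := hxι
    show w ∈ ι ⁻¹ᵁ X.basicOpen b
    rw [Scheme.preimage_basicOpen, Scheme.basicOpen_of_isUnit _ hunit]
    exact hxW
  have hax : x ∈ X.basicOpen a := by
    rw [Scheme.mem_basicOpen _ _ _ hxW] at hbx ⊢
    by_contra hn
    have hd := Groth.L18.PicWitt.germ_mem_maximal (I := J) hxW hx' hab
    rw [map_sub] at hd
    have := (IsLocalRing.maximalIdeal (X.presheaf.stalk x)).sub_mem (a := X.presheaf.germ W x hxW a) hn hd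
    rw [sub_sub_cancel] at this
    exact this hbx
  have h5 := Groth.L18.GenLoc.genLocus_inf_eq s he (a := a) (by rw [hs]; exact ha)
  rw [← h5] at hax
  exact hax.1

/-- The module behind an invertible sheaf has rank one near each point. -/
theorem exists_rankOne {R : CommRingCat.{u}} {U : (Spec R).Opens} {N : ModuleCat.{u} R}
    (hgen : Groth.L21.Extend.GenOn (tilde N) U) {q : PrimeSpectrum R} (hq : q ∈ U) :
    ∃ x : N, (∀ y : N, ∃ (s a : R), s ∉ q.asIdeal ∧ s • y = a • x) ∧
      ∀ a : R, a • x = 0 → ∃ s : R, s ∉ q.asIdeal ∧ s * a = 0 := by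
  obtain ⟨O, hqO, -, e, he⟩ := hgen q hq
  obtain ⟨_, ⟨g, rfl⟩, hgq, hgO⟩ := PrimeSpectrum.isTopologicalBasis_basic_opens.exists_subset_of_mem_open hqO O.2
  let V : (Spec R).Opens := PrimeSpectrum.basicOpen g
  have hVO : V ≤ O := hgO
  let e' : Γ(tilde N, V) := rs (tilde N) hVO e
  have hbij : Function.Bijective fun c : Γ(Spec R, V) => c • e' := he V hVO
  let l : N →ₗ[R] Γ(tilde N, V) := (tilde.toOpen N V).hom
  haveI : IsLocalizedModule (Submonoid.powers g) l := Groth.L29.CechSect.isLocalized_basic g N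
  haveI : IsLocalization.Away g Γ(Spec R, V) :=
    inferInstanceAs (IsLocalization.Away g Γ(Spec R, PrimeSpectrum.basicOpen g))
  let α : R →+* Γ(Spec R, V) := algebraMap R Γ(Spec R, V)
  have hsm : ∀ (a : R) (v : Γ(tilde N, V)), a • v = α a • v := fun a v => (algebraMap_smul _ a v).symm
  have hgpow : ∀ j : ℕ, g ^ j ∉ q.asIdeal := fun j h => hgq (q.2.mem_of_pow_mem j h)
  obtain ⟨⟨x, ⟨_, k, rfl⟩⟩, hx⟩ := IsLocalizedModule.surj (Submonoid.powers g) l e'
  have hxe : l x = α (g ^ k) • e' := by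
    rw [← hsm]
    exact hx.symm
  refine ⟨x, fun y => ?_, fun a ha => ?_⟩
  · obtain ⟨c, hc⟩ := hbij.2 (l y)
    obtain ⟨⟨a, ⟨_, j, rfl⟩⟩, hca⟩ := IsLocalization.surj (Submonoid.powers g) c
    have h1 : l ((g ^ (j + k)) • y) = l (a • x) := by
      rw [map_smul, map_smul, hsm, hsm, hxe, ← hc, smul_smul, smul_smul]
      congr 1
      rw [pow_add, map_mul, show α a = c * α (g ^ j) from hca.symm]
      ring
    obtain ⟨⟨_, m, rfl⟩, hm⟩ := (IsLocalizedModule.eq_iff_exists (Submonoid.powers g) l).1 h1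
    refine ⟨g ^ m * g ^ (j + k), g ^ m * a, fun h => ?_, ?_⟩
    · rw [← pow_add] at h
      exact hgpow _ h
    · rw [mul_smul, mul_smul]
      exact hm
  · have h1 : α (a * g ^ k) • e' = (0 : Γ(Spec R, V)) • e' := by
      rw [zero_smul, map_mul, mul_smul, ← hxe, ← hsm, ← map_smul, ha, map_zero]
    obtain ⟨⟨_, m, rfl⟩, hm⟩ :=
      (IsLocalization.map_eq_zero_iff (Submonoid.powers g) Γ(Spec R, V) _).1 (hbij.1 h1)
    exact ⟨g ^ m * g ^ k, fun h => hgpow _ (by rwa [← pow_add] at h), by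
      rw [mul_assoc, mul_comm _ a]; exact hm⟩

/-- The kernel of a transition map, compared with copies of the reduction. -/
theorem exists_comparison (J : Ideal A) (N : ModuleCat.{u} A) (n : ℕ)
    (hgr : Module.Free (A ⧸ J) (↥(J ^ (n + 1)) ⧸ (J • (⊤ : Submodule A ↥(J ^ (n + 1)))))) :
    ∃ (r : ℕ) (Φ : (Fin r → Formal2.quotPow A J N 0) →ₗ[A] LinearMap.ker (Formal2.quotPowTrans A J N n)),
      Function.Surjective Φ ∧ ∀ (q : Ideal A) [q.IsPrime],
        (∃ x : N, (∀ y : N, ∃ (s a : A), s ∉ q ∧ s • y = a • x) ∧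
          ∀ a : A, a • x = 0 → ∃ s : A, s ∉ q ∧ s * a = 0) →
        ∀ v, Φ v = 0 → ∃ s : A, s ∉ q ∧ s • v = 0 := by
  classical
  let P := ↥(J ^ (n + 1))
  let G := P ⧸ (J • (⊤ : Submodule A P))
  haveI : Module.Free (A ⧸ J) G := hgr
  haveI : IsScalarTower A (A ⧸ J) G := IsScalarTower.of_algebraMap_smul fun _ _ => rfl
  haveI : Module.Finite A P := Module.IsNoetherian.finite _ _
  haveI : Module.Finite (A ⧸ J) G := Module.Finite.of_restrictScalars_finite A _ _
  let b₀ := Module.Free.chooseBasis (A ⧸ J) G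
  haveI : Finite (Module.Free.ChooseBasisIndex (A ⧸ J) G) := inferInstance
  obtain ⟨r, ⟨ε⟩⟩ := Finite.exists_equiv_fin (Module.Free.ChooseBasisIndex (A ⧸ J) G)
  let b := b₀.reindex ε
  choose ev hev using fun i => Submodule.mkQ_surjective (J • (⊤ : Submodule A P)) (b i)
  have hJP : ∀ w : P, w ∈ J • (⊤ : Submodule A P) ↔ (w : A) ∈ J ^ (n + 1 + 1) := by
    intro w
    have h : (J • (⊤ : Submodule A P)).map (J ^ (n + 1) : Submodule A A).subtype = J ^ (n + 1 + 1) := by
      rw [Submodule.map_smul'', Submodule.map_top, Submodule.range_subtype, pow_succ' J (n + 1)]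
      rfl
    rw [← h]
    exact ⟨fun hw => ⟨w, hw, rfl⟩, fun ⟨w', hw', he⟩ => Subtype.ext he ▸ hw'⟩
  let QN := Formal2.quotPow A J N (n + 1)
  let π₁ : N →ₗ[A] QN := Formal2.quotPowπ A J N (n + 1)
  have hπ0 : ∀ (a : A) (y : N), a ∈ J ^ (n + 1 + 1) → a • π₁ y = 0 := fun a y ha => by
    rw [← map_smul]
    exact (Submodule.Quotient.mk_eq_zero _).2 (Submodule.smul_mem_smul ha trivial)
  let term : Fin r → (Formal2.quotPow A J N 0 →ₗ[A] QN) := fun i =>
    Submodule.liftQ _ ((ev i : A) • π₁) (Submodule.smul_le.2 fun a ha y _ => by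
      show (ev i : A) • π₁ (a • y) = 0
      rw [map_smul, smul_smul]
      refine hπ0 _ _ ?_
      rw [zero_add, pow_one] at ha
      rw [pow_succ]
      exact Ideal.mul_mem_mul (ev i).2 ha)
  let Φ₀ : (Fin r → Formal2.quotPow A J N 0) →ₗ[A] QN := LinearMap.lsum A (fun _ => Formal2.quotPow A J N 0) A term
  have hΦ₀ : ∀ v : Fin r → N, Φ₀ (fun i => Formal2.quotPowπ A J N 0 (v i)) = π₁ (∑ i, (ev i : A) • v i) := by
    intro v
    simp only [Φ₀, LinearMap.lsum_apply, LinearMap.sum_apply, LinearMap.comp_apply, LinearMap.proj_apply, map_sum,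
      map_smul]
    rfl
  have hlift : ∀ v, ∃ v' : Fin r → N, v = fun i => Formal2.quotPowπ A J N 0 (v' i) := fun v => by
    choose v' hv' using fun i => Submodule.mkQ_surjective _ (v i)
    exact ⟨v', funext fun i => (hv' i).symm⟩
  have hmem : ∀ v, Φ₀ v ∈ LinearMap.ker (Formal2.quotPowTrans A J N n) := by
    intro v
    obtain ⟨v, rfl⟩ := hlift v
    rw [hΦ₀, LinearMap.mem_ker]
    have h : (∑ i, (ev i : A) • v i) ∈ J ^ (n + 1) • (⊤ : Submodule A N) :=
      Submodule.sum_mem _ fun i _ => Submodule.smul_mem_smul (ev i).2 (Submodule.mem_top : v i ∈ (⊤ : Submodule A N))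
    exact (Submodule.Quotient.mk_eq_zero _).2 h
  refine ⟨r, LinearMap.codRestrict _ Φ₀ hmem, ?_, ?_⟩
  · rintro ⟨w, hw⟩
    obtain ⟨y, rfl⟩ := Submodule.mkQ_surjective _ w
    have hy : y ∈ J ^ (n + 1) • (⊤ : Submodule A N) := (Submodule.Quotient.mk_eq_zero _).1 (LinearMap.mem_ker.1 hw)
    suffices h : π₁ y ∈ LinearMap.range Φ₀ by
      obtain ⟨v, hv⟩ := h
      exact ⟨v, Subtype.ext hv⟩
    clear hw
    refine Submodule.smul_induction_on hy (fun a ha m _ => ?_) fun m m' hm hm' => ?_
    · let w : P := ⟨a, ha⟩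
      let c : Fin r → A := fun i => (Ideal.Quotient.mk_surjective (b.repr (Submodule.Quotient.mk w) i)).choose
      have hc : ∀ i, Ideal.Quotient.mk J (c i) = b.repr (Submodule.Quotient.mk w) i := fun i =>
        (Ideal.Quotient.mk_surjective (b.repr (Submodule.Quotient.mk w) i)).choose_spec
      have hdiff : w - ∑ i, c i • ev i ∈ J • (⊤ : Submodule A P) := by
        rw [← Submodule.Quotient.mk_eq_zero, Submodule.Quotient.mk_sub, sub_eq_zero]
        refine (b.sum_repr (Submodule.Quotient.mk w)).symm.trans ?_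
        show _ = (J • (⊤ : Submodule A P)).mkQ _
        rw [map_sum]
        refine Finset.sum_congr rfl fun i _ => ?_
        rw [map_smul, hev, ← hc i]
        rfl
      refine ⟨fun i => Formal2.quotPowπ A J N 0 (c i • m), ?_⟩
      rw [hΦ₀ fun i => c i • m, ← sub_eq_zero, ← map_sub]
      have h1 := (hJP _).1 hdiff
      rw [AddSubgroupClass.coe_sub, Submodule.coe_sum] at h1
      refine (Submodule.Quotient.mk_eq_zero _).2 ?_
      have h2 : (∑ i, (ev i : A) • (c i • m)) - a • m = -((a - ∑ i, c i * (ev i : A)) • m) := by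
        rw [sub_smul, Finset.sum_smul, neg_sub]
        congr 1
        exact Finset.sum_congr rfl fun i _ => by rw [smul_smul, mul_comm]
      rw [h2]
      exact Submodule.neg_mem _ (Submodule.smul_mem_smul h1 trivial)
    · rw [map_add]
      exact add_mem hm hm'
  · intro q _ ⟨x, hgen, hann⟩ v hv
    obtain ⟨v, rfl⟩ := hlift v
    choose s a hs hsa using fun i => hgen (v i)
    let S : A := ∏ i, s i
    have hS : S ∉ q := fun h => by
      obtain ⟨i, -, hi⟩ := Ideal.IsPrime.prod_mem_iff.1 h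
      exact hs i hi
    let a' : Fin r → A := fun i => (∏ j ∈ Finset.univ.erase i, s j) * a i
    have ha' : ∀ i, S • v i = a' i • x := fun i => by
      rw [mul_smul, ← hsa i, ← mul_smul, mul_comm _ (s i), Finset.mul_prod_erase _ _ (Finset.mem_univ i)]
    have hv0 : π₁ (∑ i, (ev i : A) • v i) = 0 := by
      rw [← hΦ₀]
      exact congrArg Subtype.val hv
    have hv1 : (∑ i, (ev i : A) • v i) ∈ J ^ (n + 1 + 1) • (⊤ : Submodule A N) := (Submodule.Quotient.mk_eq_zero _).1 hv0
    -- elements of `J^{n+2} N` are multiples of `x` near `q`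
    have hmult : ∀ w ∈ J ^ (n + 1 + 1) • (⊤ : Submodule A N),
        ∃ (t d : A), t ∉ q ∧ d ∈ J ^ (n + 1 + 1) ∧ t • w = d • x := by
      intro w hw
      refine Submodule.smul_induction_on hw (fun c hc m _ => ?_) ?_
      · obtain ⟨t, d, ht, htd⟩ := hgen m
        exact ⟨t, c * d, ht, Ideal.mul_mem_right _ _ hc, by rw [smul_comm, htd, smul_smul]⟩
      · rintro w w' ⟨t, d, ht, hd, htd⟩ ⟨t', d', ht', hd', htd'⟩
        refine ⟨t * t', t' * d + t * d', fun h => (Ideal.IsPrime.mem_or_mem ‹q.IsPrime› h).elim ht ht',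
          add_mem (Ideal.mul_mem_left _ _ hd) (Ideal.mul_mem_left _ _ hd'), ?_⟩
        rw [smul_add, add_smul]
        conv_lhs => arg 1; rw [mul_comm, mul_smul, htd, smul_smul]
        congr 1
        rw [mul_smul, htd', smul_smul]
    obtain ⟨t, d, ht, hd, htd⟩ := hmult _ hv1
    have hz : (t * (∑ i, (ev i : A) * a' i) - S * d) • x = 0 := by
      rw [sub_smul, sub_eq_zero, mul_smul, mul_smul, Finset.sum_smul, ← htd, smul_comm S t]
      congr 1
      rw [Finset.smul_sum]
      exact Finset.sum_congr rfl fun i _ => by rw [mul_smul, ← ha', smul_comm]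
    obtain ⟨u', hu', hu0⟩ := hann _ hz
    have hmemJ : u' * t * (∑ i, (ev i : A) * a' i) ∈ J ^ (n + 1 + 1) := by
      rw [mul_sub, sub_eq_zero] at hu0
      rw [mul_assoc, hu0]
      exact Ideal.mul_mem_left _ _ (Ideal.mul_mem_left _ _ hd)
    have hcoef : ∀ i, u' * t * a' i ∈ J := by
      have h0 : ∑ i, Ideal.Quotient.mk J (u' * t * a' i) • b i = 0 := by
        have h1 : (∑ i, (u' * t * a' i) • ev i) ∈ J • (⊤ : Submodule A P) := by
          refine (hJP _).2 ?_
          rw [Submodule.coe_sum]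
          have h := hmemJ
          rw [Finset.mul_sum] at h
          convert h using 2 with i
          show (u' * t * a' i) * (ev i : A) = _
          ring
        rw [← Submodule.Quotient.mk_eq_zero, ← Submodule.mkQ_apply, map_sum] at h1
        refine Eq.trans (Finset.sum_congr rfl fun i _ => ?_) h1
        rw [map_smul, hev]
        rfl
      intro i
      exact Ideal.Quotient.eq_zero_iff_mem.1 (Fintype.linearIndependent_iff.1 b.linearIndependent _ h0 i)
    refine ⟨S * (u' * t), fun h => (Ideal.IsPrime.mem_or_mem ‹q.IsPrime› h).elim hS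
      fun h' => (Ideal.IsPrime.mem_or_mem ‹q.IsPrime› h').elim hu' ht, funext fun i => ?_⟩
    show (S * (u' * t)) • Formal2.quotPowπ A J N 0 (v i) = 0
    rw [← map_smul, mul_comm, mul_smul, ha', smul_smul]
    exact (Submodule.Quotient.mk_eq_zero _).2 (Submodule.smul_mem_smul (by rw [zero_add, pow_one]; exact hcoef i) trivial)

section Cohom

variable (U : (Spec (CommRingCat.of A)).Opens)

theorem subsingleton_HH_iso {X : Scheme.{u}} {M N : X.Modules} (e : M ≅ N) (i : ℕ)
    (h : Subsingleton (Coh.HH X M i)) : Subsingleton (Coh.HH X N i) :=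
  @Equiv.subsingleton _ _
    ((SheafOfModules.toSheaf _ ⋙ Sheaf.functorH _ i).mapIso e.symm).addCommGroupIsoToAddEquiv.toEquiv h

theorem subsingleton_HH_middle {S : ShortComplex (U : Scheme.{u}).Modules} (hS : S.ShortExact) (i : ℕ)
    (h₁ : Subsingleton (Coh.HH (U : Scheme.{u}) S.X₁ i)) (h₃ : Subsingleton (Coh.HH (U : Scheme.{u}) S.X₃ i)) :
    Subsingleton (Coh.HH (U : Scheme.{u}) S.X₂ i) := by
  refine subsingleton_of_forall_eq 0 fun w => ?_
  obtain ⟨v, rfl⟩ := (CohLinear.exact_hmap_hmap hS i w).1 (@Subsingleton.elim _ h₃ _ _)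
  rw [@Subsingleton.elim _ h₁ v 0, map_zero]

/-- Finite powers of an acyclic module are acyclic. -/
theorem subsingleton_HH_pow (M : Type u) [AddCommGroup M] [Module A M] (i : ℕ)
    (h : Subsingleton (Coh.HH (U : Scheme.{u}) (tM U (ModuleCat.of A M)) i)) :
    ∀ r : ℕ, Subsingleton (Coh.HH (U : Scheme.{u}) (tM U (ModuleCat.of A (Fin r → M))) i) := by
  intro r
  induction r with
  | zero =>
    let S := ShortComplex.mk (0 : ModuleCat.of A M ⟶ ModuleCat.of A (Fin 0 → M))
      (0 : ModuleCat.of A (Fin 0 → M) ⟶ ModuleCat.of A (Fin 0 → M)) (by simp)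
    haveI : Subsingleton (Coh.HH (U : Scheme.{u}) (tM U (ModuleCat.of A M)) i) := h
    refine subsingleton_of_forall_eq 0 fun w => ?_
    have h0 : 𝟙 (ModuleCat.of A (Fin 0 → M)) = (0 : _ ⟶ ModuleCat.of A M) ≫ (0 : ModuleCat.of A M ⟶ _) := by
      refine ModuleCat.hom_ext (LinearMap.ext fun v => Subsingleton.elim _ _)
    have h1 := CohLinear.hmap_id (X := (U : Scheme.{u})) i w
    have e : 𝟙 (tM U (ModuleCat.of A (Fin 0 → M))) =
        tg U (0 : ModuleCat.of A (Fin 0 → M) ⟶ ModuleCat.of A M) ≫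
          tg U (0 : ModuleCat.of A M ⟶ ModuleCat.of A (Fin 0 → M)) := by
      refine Eq.trans ?_ ((tilde.functor (CommRingCat.of A) ⋙ Scheme.Modules.restrictFunctor U.ι).map_comp _ _)
      rw [← h0]
      exact ((tilde.functor (CommRingCat.of A) ⋙ Scheme.Modules.restrictFunctor U.ι).map_id _).symm
    refine h1.symm.trans ?_
    rw [e, CohLinear.hmap_comp]
    exact (congrArg _ (Subsingleton.elim _ (0 : Coh.HH (U : Scheme.{u}) (tM U (ModuleCat.of A M)) i))).trans (map_zero _)
  | succ r ih =>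
    let f : (Fin r → M) →ₗ[A] (Fin (r + 1) → M) :=
      { toFun := fun v => Fin.cons 0 v
        map_add' := fun v w => by funext j; refine Fin.cases ?_ (fun k => ?_) j <;> simp
        map_smul' := fun c v => by funext j; refine Fin.cases ?_ (fun k => ?_) j <;> simp }
    let g : (Fin (r + 1) → M) →ₗ[A] M := LinearMap.proj 0
    let S := ShortComplex.mk (ModuleCat.ofHom f) (ModuleCat.ofHom g)
      (ModuleCat.hom_ext (LinearMap.ext fun v => by simp [f, g]))
    have hS : S.ShortExact :=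
      { exact := (ShortComplex.moduleCat_exact_iff S).2 fun v hv => ⟨fun k => v k.succ, by
          funext j
          refine Fin.cases ?_ (fun k => ?_) j
          · exact (hv : v 0 = 0).symm
          · simp [S, f]⟩
        mono_f := (ModuleCat.mono_iff_injective _).2 fun v w hvw => funext fun k => by
          simpa [S, f] using congrFun hvw k.succ
        epi_g := (ModuleCat.epi_iff_surjective _).2 fun m => ⟨fun _ => m, rfl⟩ }
    exact subsingleton_HH_middle U (Groth.L04.PunctLin.sS_shortExact U hS) i ih h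

/-- The kernels of the transition maps are acyclic on the open. -/
theorem subsingleton_HH_kernel (J : Ideal A) (N : ModuleCat.{u} A) [Module.Finite A N]
    (hgen : Groth.L21.Extend.GenOn (tilde (R := CommRingCat.of A) N) U) (n : ℕ)
    (hgr : Module.Free (A ⧸ J) (↥(J ^ (n + 1)) ⧸ (J • (⊤ : Submodule A ↥(J ^ (n + 1))))))
    (h0 : Subsingleton (Coh.HH (U : Scheme.{u}) (tM U (ModuleCat.of A (Formal2.quotPow A J N 0))) 1)) :
    Subsingleton (Coh.HH (U : Scheme.{u})
      (tM U (ModuleCat.of A (LinearMap.ker (Formal2.quotPowTrans A J N n)))) 1) := by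
  obtain ⟨r, Φ, hsur, hinj⟩ := exists_comparison J N n hgr
  let f := ModuleCat.ofHom Φ
  haveI : Epi f := (ModuleCat.epi_iff_surjective _).2 hsur
  haveI := Groth.L29.InvChart.isIso_restrict_tilde (R := CommRingCat.of A) f U (fun q hq => by
      rw [Module.notMem_support_iff']
      intro m
      obtain ⟨s, hs, hsm⟩ := hinj q.asIdeal (exists_rankOne hgen hq) ((kernel.ι f).hom m)
        (ConcreteCategory.congr_hom (kernel.condition f) m)
      refine ⟨s, hs, (ModuleCat.mono_iff_injective (kernel.ι f)).1 inferInstance ?_⟩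
      rw [map_smul, map_zero]
      exact hsm)
    (fun q hq => by
      haveI : Subsingleton (cokernel f : ModuleCat.{u} A) := ModuleCat.subsingleton_of_isZero (isZero_cokernel_of_epi f)
      rw [Module.notMem_support_iff']
      exact fun m => ⟨1, fun h => q.2.ne_top ((Ideal.eq_top_iff_one _).2 h), Subsingleton.elim _ _⟩)
  exact subsingleton_HH_iso (asIso ((Scheme.Modules.restrictFunctor U.ι).map
    ((tilde.functor (CommRingCat.of A)).map f))) 1 (subsingleton_HH_pow U _ 1 h0 r)

end Cohom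

section Local

variable [IsLocalRing A]

theorem subsingleton_HH_quot (J : Ideal A) [IsLocalRing (A ⧸ J)]
    (hd : (3 : ℕ∞) ≤ LocCoh.depth (A ⧸ J) (A ⧸ J)) (U : (Spec (CommRingCat.of A)).Opens)
    (hU : U = LocCoh.puncturedOpen A (maximalIdeal A)) :
    Subsingleton (Coh.HH (U : Scheme.{u}) (tM U (ModuleCat.of A (Formal2.quotPow A J A 0))) 1) := by
  subst hU
  have hm : (maximalIdeal A).map (algebraMap A (A ⧸ J)) = maximalIdeal (A ⧸ J) :=
    IsLocalRing.map_maximalIdeal_of_surjective _ Ideal.Quotient.mk_surjective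
  have hH : Subsingleton (LocCoh.H (maximalIdeal A) 2 (A ⧸ J)) := by
    refine (Groth.L04.LC.le_idealDepth_iff_H _ _ 3).1 ?_ 2 (by norm_num)
    rw [Groth.L04.idealDepth_eq_idealDepth_map_of_finite (B := A ⧸ J) (maximalIdeal A), hm]
    exact hd
  let e : Formal2.quotPow A J A 0 ≃ₗ[A] A ⧸ J :=
    Submodule.quotEquivOfEq _ _ (by rw [zero_add, pow_one, smul_eq_mul, Ideal.mul_top])
  have hH' : Subsingleton ((localCohomology (maximalIdeal A) 2).obj (ModuleCat.of A (Formal2.quotPow A J A 0))) :=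
    @Equiv.subsingleton _ _ ((localCohomology (maximalIdeal A) 2).mapIso e.toModuleIso).toLinearEquiv.toEquiv hH
  obtain ⟨l⟩ := Groth.L04.PunctLin.nonempty_equiv (maximalIdeal A) 0 (ModuleCat.of A (Formal2.quotPow A J A 0))
  exact @Equiv.subsingleton _ _ l.toEquiv hH'

/-- An invertible module on the punctured spectrum has a section lifting a frame of the reduction. -/
theorem exists_lift (J : Ideal A) [IsAdicComplete J A] [IsLocalRing (A ⧸ J)]
    (hd : (3 : ℕ∞) ≤ LocCoh.depth (A ⧸ J) (A ⧸ J)) (hdA : (2 : ℕ∞) ≤ LocCoh.depth A A)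
    (hgr : ∀ n : ℕ, Module.Free (A ⧸ J) (↥(J ^ n) ⧸ (J • (⊤ : Submodule A ↥(J ^ n)))))
    (L : (FEt.puncturedSpec A : Scheme.{u}).Modules) (hL : PicF.IsInvertible L)
    (φ : (Scheme.Modules.pullback (Spec.map (CommRingCat.ofHom (Ideal.Quotient.mk J)) ∣_ FEt.puncturedSpec A)).obj L ≅
      Coh.structureModule _) :
    ∃ z : Γ(L, ⊤), ∀ x : (FEt.puncturedSpec A : Scheme.{u}), J ≤ ((FEt.puncturedSpec A).ι x).asIdeal →
      x ∈ CohB1.genLocus L (Groth.L16.homOfSection L z) := by
  let U := FEt.puncturedSpec A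
  let X : Scheme.{u} := U
  haveI : IsLocallyNoetherian X := LocallyOfFiniteType.isLocallyNoetherian U.ι
  obtain ⟨N, hN, hgen, ⟨ε⟩⟩ := Groth.L14.PicSurj.exists_tilde_extension (S := CommRingCat.of A) U L hL
  haveI : Module.Finite A N := hN
  let F : X.Modules := tM U N
  have hFinv : PicF.IsInvertible F := Groth.L18.Ample.isInvertible_of_iso ε.symm hL
  haveI : IsClosedImmersion (Spec.map (CommRingCat.ofHom (Ideal.Quotient.mk J))) :=
    IsClosedImmersion.spec_of_surjective _ Ideal.Quotient.mk_surjective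
  let g₀ := Spec.map (CommRingCat.ofHom (Ideal.Quotient.mk J))
  let P : Scheme.{u} := g₀ ⁻¹ᵁ U
  let ι : P ⟶ X := g₀ ∣_ U
  haveI : IsClosedImmersion ι := inferInstanceAs (IsClosedImmersion (g₀ ∣_ U))
  letI : P.Over (Spec (CommRingCat.of A)) := ⟨ι ≫ U.ι⟩
  obtain ⟨π, hcart⟩ := specQuot_cart J U
  obtain ⟨q, hq⟩ := Groth.L16.Exist.Adic.exists_modPow_iso_unit (I := J) (k := 0) (f := ι)
    hcart (by rw [← hcart.w]; rfl) (ProperFinite.isCoh_of_isInvertible hFinv)
  obtain ⟨qO, -⟩ := Groth.L16.Exist.Adic.exists_modPow_iso_unit (I := J) (k := 0) (f := ι)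
    hcart (by rw [← hcart.w]; rfl)
    (ProperFinite.isCoh_of_isInvertible (Groth.L18.Ample.isInvertible_structureModule X))
  let φF : (Scheme.Modules.pullback ι).obj F ≅ Coh.structureModule P :=
    (Scheme.Modules.pullback ι).mapIso ε ≪≫ φ
  choose e he using Groth.L29.Bridge.exists_modPowIso U J (N : Type u)
  obtain ⟨eA, -⟩ := Groth.L29.Bridge.exists_modPowIso U J A 0
  -- the kernels are acyclic
  let eO : Coh.structureModule X ≅ tM U (ModuleCat.of A A) :=
    (Scheme.Modules.restrictUnitIso U.ι).symm ≪≫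
      (Scheme.Modules.restrictFunctor U.ι).mapIso (tildeSelf (R := CommRingCat.of A)).symm
  let eP : Formal.modPow J (0 + 1) (Coh.structureModule X) ≅ Formal.modPow J (0 + 1) (tM U (ModuleCat.of A A)) :=
    { hom := Exist.redMap J (0 + 1) eO.hom
      inv := Exist.redMap J (0 + 1) eO.inv
      hom_inv_id := by rw [Exist.redMap_comp, eO.hom_inv_id, Exist.redMap_id]
      inv_hom_id := by rw [Exist.redMap_comp, eO.inv_hom_id, Exist.redMap_id] }
  have h0 : Subsingleton (Coh.HH X (tM U (ModuleCat.of A (Formal2.quotPow A J N 0))) 1) :=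
    subsingleton_HH_iso (eA.symm ≪≫ eP.symm ≪≫ qO ≪≫
        (Coh.push ι).mapIso (Groth.L29.LocFree.pullbackUnitIso ι ≪≫ φF.symm) ≪≫ q.symm ≪≫ e 0) 1
      (subsingleton_HH_quot J hd U Groth.L18.ParaFPic.puncturedSpec_eq)
  -- lifting along the levels
  have hsurj : ∀ (n : ℕ) (w : Coh.HH X (Formal.modPow J (n + 1) F) 0),
      ∃ w', Formal.HHmodPowTrans J F 0 n w' = w := by
    intro n w
    let K := LinearMap.ker (Formal2.quotPowTrans A J N n)
    let tr := Formal2.quotPowTrans A J N n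
    let S := ShortComplex.mk (ModuleCat.ofHom K.subtype) (ModuleCat.ofHom tr)
      (ModuleCat.hom_ext (LinearMap.ext fun v => v.2))
    have hS : S.ShortExact :=
      { exact := (ShortComplex.moduleCat_exact_iff S).2 fun v hv => ⟨⟨v, hv⟩, rfl⟩
        mono_f := (ModuleCat.mono_iff_injective _).2 Subtype.val_injective
        epi_g := (ModuleCat.epi_iff_surjective _).2 fun v => by
          obtain ⟨y, rfl⟩ := Submodule.mkQ_surjective _ v
          exact ⟨Submodule.Quotient.mk y, rfl⟩ }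
    have hK := subsingleton_HH_kernel U J N hgen n (hgr (n + 1)) h0
    obtain ⟨v, hv⟩ := (CohLinear.exact_hmap_delta (Groth.L04.PunctLin.sS_shortExact U hS) 0
      (CohLinear.hmap (e n).hom 0 w)).1 (@Subsingleton.elim _ hK _ _)
    refine ⟨CohLinear.hmap (e (n + 1)).inv 0 v, ?_⟩
    haveI : Epi (Formal.modPowπ J (n + 1 + 1) F) := by unfold Formal.modPowπ; infer_instance
    have htg : Formal.modPowTrans J (n + 1) F ≫ (e n).hom =
        (e (n + 1)).hom ≫ tg U (ModuleCat.ofHom (Formal2.quotPowTrans A J N n)) := by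
      rw [← cancel_epi (Formal.modPowπ J (n + 1 + 1) F), reassoc_of% he (n + 1), ← Category.assoc,
        Formal.modPowπ_trans, he, ← Functor.map_comp, ← Functor.map_comp]
      rfl
    show CohLinear.hmap (Formal.modPowTrans J (n + 1) F) 0 (CohLinear.hmap (e (n + 1)).inv 0 v) = w
    rw [← CohLinear.hmap_comp]
    have h1 : (e (n + 1)).inv ≫ Formal.modPowTrans J (n + 1) F =
        tg U (ModuleCat.ofHom (Formal2.quotPowTrans A J N n)) ≫ (e n).inv := by
      rw [Iso.inv_comp_eq, ← Category.assoc, ← htg, Category.assoc, Iso.hom_inv_id, Category.comp_id]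
    rw [h1, CohLinear.hmap_comp]
    refine (congrArg _ hv).trans ?_
    rw [← CohLinear.hmap_comp, Iso.hom_inv_id, CohLinear.hmap_id]
  -- the family
  let g : Γ((Scheme.Modules.pullback ι).obj F, ⊤) :=
    φF.inv.app ⊤ (show Γ(Coh.structureModule P, ⊤) from (1 : Γ(P, ⊤)))
  let y : Γ(Formal.modPow J (0 + 1) F, ⊤) :=
    q.inv.app ⊤ (show Γ((Coh.push ι).obj ((Scheme.Modules.pullback ι).obj F), ⊤) from g)
  choose up hup using hsurj
  let fam : ∀ n, Coh.HH X (Formal.modPow J (n + 1) F) 0 := fun n =>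
    n.rec ((Groth.L16.HomSh.h0Equiv _).symm y) fun m w => up m w
  have hJm : J ≤ maximalIdeal A := IsLocalRing.le_maximalIdeal (fun h => by
    haveI := (Ideal.Quotient.subsingleton_iff (I := J)).2 h
    exact not_subsingleton (A ⧸ J) inferInstance)
  have hY : IsClosed ({closedPoint A} : Set (PrimeSpectrum A)) := IsLocalRing.isClosed_singleton_closedPoint A
  have hmap : ∀ (x : PrimeSpectrum A), x.asIdeal = maximalIdeal A →
      Function.Bijective (algebraMap A (Localization.AtPrime x.asIdeal)) := fun x hx =>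
    (IsLocalization.atUnits A x.asIdeal.primeCompl fun a ha => IsLocalRing.notMem_maximalIdeal.1 (hx ▸ ha)).bijective
  have hbij := Groth.Agent.S11975.result A J (fun n => by
      let e' : (↥(J ^ n • (⊤ : Submodule A A)) ⧸ (J • (⊤ : Submodule A ↥(J ^ n • (⊤ : Submodule A A))))) ≃ₗ[A]
          (↥(J ^ n) ⧸ (J • (⊤ : Submodule A ↥(J ^ n)))) :=
        Submodule.Quotient.equiv _ _ (LinearEquiv.ofEq _ _ (by rw [smul_eq_mul, Ideal.mul_top]))
          (by rw [Submodule.map_smul'', Submodule.map_top, LinearEquiv.range])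
      haveI := hgr n
      exact Module.Flat.of_linearEquiv (LinearEquiv.extendScalarsOfSurjective
        (S := A ⧸ J) Ideal.Quotient.mk_surjective e'))
    {closedPoint A} hY (fun x hx _ => by
      have hx' : x.asIdeal = maximalIdeal A := congrArg PrimeSpectrum.asIdeal hx
      let E : A ≃+* Localization.AtPrime x.asIdeal := RingEquiv.ofBijective _ (hmap x hx')
      let Am := Localization.AtPrime x.asIdeal
      haveI : IsNoetherianRing Am := IsLocalization.isNoetherianRing x.asIdeal.primeCompl _ inferInstance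
      let K := J.map (algebraMap A Am)
      let e₂ : (A ⧸ J) ≃+* Am ⧸ K := Ideal.quotientEquiv J K E rfl
      haveI : IsLocalRing (Am ⧸ K) := e₂.isLocalRing
      have hm : (maximalIdeal Am).map (algebraMap Am (Am ⧸ K)) = maximalIdeal (Am ⧸ K) :=
        IsLocalRing.map_maximalIdeal_of_surjective _ Ideal.Quotient.mk_surjective
      show (2 : ℕ∞) ≤ LocCoh.depth Am (Am ⧸ K)
      rw [LocCoh.depth, Groth.L04.idealDepth_eq_idealDepth_map_of_finite (B := Am ⧸ K) (maximalIdeal Am), hm]
      exact ((show (2 : ℕ∞) ≤ 3 by norm_num).trans hd).trans (Groth.L06.FlatFibre.depth_eq_of_ringEquiv e₂).ge)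
    (fun x hx => by
      have hx' : x.asIdeal = maximalIdeal A := congrArg PrimeSpectrum.asIdeal hx
      exact hdA.trans (Groth.L06.FlatFibre.depth_eq_of_ringEquiv
        (RingEquiv.ofBijective (algebraMap A (Localization.AtPrime x.asIdeal)) (hmap x hx'))).ge)
    F (Groth.L16.Existence.isFinLocFree_of_isInvertible hFinv)
  obtain ⟨w, hw⟩ := hbij.2 ⟨fam, fun n => hup n (fam n)⟩
  let z₀ : Γ(F, ⊤) := Groth.L16.HomSh.h0Equiv F w
  have hz₀ : (Formal.modPowπ J (0 + 1) F).app ⊤ z₀ = y := by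
    have h1 := Groth.L16.HomSh.h0Equiv_map (Formal.modPowπ J (0 + 1) F) w
    refine h1.symm.trans ?_
    exact (congrArg _ (congrFun (congrArg Subtype.val hw) 0)).trans (AddEquiv.apply_symm_apply _ _)
  refine ⟨ε.hom.app ⊤ z₀, fun x hx => ?_⟩
  have hxι : x ∈ Set.range ι := by
    obtain ⟨v, hv⟩ : U.ι x ∈ Set.range g₀ := by
      rw [show Set.range g₀ = Set.range (PrimeSpectrum.comap (Ideal.Quotient.mk J)) from rfl,
        range_comap_of_surjective _ _ Ideal.Quotient.mk_surjective, Ideal.mk_ker]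
      exact hx
    have hvU : v ∈ g₀ ⁻¹ᵁ U := by
      show g₀ v ∈ U
      rw [hv]
      exact x.2
    refine ⟨⟨v, hvU⟩, U.ι.isOpenEmbedding.injective ?_⟩
    show ((g₀ ∣_ U) ≫ U.ι) ⟨v, hvU⟩ = _
    rw [morphismRestrict_ι]
    exact hv
  have hmemF := mem_genLocus_of_lift J ι hFinv q hq φF z₀ hz₀ x hxι hx
  have hfr := (Groth.L18.GenLoc.isFrame_genLocus (Groth.L16.homOfSection F z₀))
  rw [Groth.L18.GenLoc.secOf_homOfSection] at hfr
  refine (Groth.L18.GenLoc.le_genLocus _ ?_) hmemF
  rw [Groth.L18.GenLoc.secOf_homOfSection]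
  intro V hV
  have h2 := hfr V hV
  have h3 : (fun a : Γ(X, V) => a • rs L hV (rs L le_top (ε.hom.app ⊤ z₀))) =
      (fun v : Γ(F, V) => ε.hom.app V v) ∘ fun a : Γ(X, V) => a • rs F hV (rs F le_top z₀) := by
    funext a
    simp only [Function.comp_apply, rs_rs, Scheme.Modules.Hom.app_smul]
    exact congrArg (a • ·) (congr($(ε.hom.mapPresheaf.naturality (homOfLE (le_top : V ≤ ⊤)).op) z₀)).symm
  rw [h3]
  exact (ConcreteCategory.bijective_of_isIso (ε.hom.app V)).comp h2

end Local

section Global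

variable [IsLocalRing A]

theorem bijective_restrict (hdepth : (2 : ℕ∞) ≤ LocCoh.depth A A) :
    Function.Bijective ((Spec (CommRingCat.of A)).presheaf.map
      (homOfLE (le_top : FEt.puncturedSpec A ≤ ⊤)).op) := by
  let R := CommRingCat.of A
  let U := FEt.puncturedSpec A
  have hb : Groth.L14.ParaF.Bij (Coh.structureModule (Spec R)) ⊤ U := by
    refine ⟨le_top, ?_⟩
    haveI := Groth.Agent.S0291.result A A (fun m hm => ?_)
    · have he : Spec.map (CommRingCat.ofHom (algebraMap A A)) ⁻¹ᵁ U = U := by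
        rw [Algebra.algebraMap_self]
        erw [Spec.map_id]
        rfl
      have h2 := CategoryTheory.ConcreteCategory.bijective_of_isIso ((Spec R).presheaf.map (CategoryTheory.homOfLE (le_top :
        Spec.map (CommRingCat.ofHom (algebraMap A A)) ⁻¹ᵁ U ≤ ⊤)).op)
      exact (Groth.L14.ParaF.Bij.congr (M := Coh.structureModule (Spec R)) ⟨le_top, h2⟩ rfl he).2
    · obtain rfl := IsLocalRing.eq_maximalIdeal hm
      have e : A ≃+* Localization.AtPrime (IsLocalRing.maximalIdeal A) :=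
        (IsLocalization.atUnits A (IsLocalRing.maximalIdeal A).primeCompl
          (fun a ha => IsLocalRing.notMem_maximalIdeal.1 ha)).toRingEquiv
      exact hdepth.trans (Groth.L06.FlatFibre.depth_eq_of_ringEquiv e).ge
  exact hb.2

attribute [local instance] Groth.Agent.AV.InterPic.picLaw in
/-- An invertible module trivial along an ideal with free graded pieces is trivial, in the complete case. -/
theorem nonempty_iso_of_complete (J : Ideal A) [IsAdicComplete J A] [IsLocalRing (A ⧸ J)]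
    (hd : (3 : ℕ∞) ≤ LocCoh.depth (A ⧸ J) (A ⧸ J)) (hdA : (2 : ℕ∞) ≤ LocCoh.depth A A)
    (hgr : ∀ n : ℕ, Module.Free (A ⧸ J) (↥(J ^ n) ⧸ (J • (⊤ : Submodule A ↥(J ^ n)))))
    (L : (FEt.puncturedSpec A : Scheme.{u}).Modules) (hL : PicF.IsInvertible L)
    (φ : (Scheme.Modules.pullback (Spec.map (CommRingCat.ofHom (Ideal.Quotient.mk J)) ∣_ FEt.puncturedSpec A)).obj L ≅
      Coh.structureModule _) :
    Nonempty (L ≅ Coh.structureModule (FEt.puncturedSpec A : Scheme.{u})) := by
  let U := FEt.puncturedSpec A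
  let X : Scheme.{u} := U
  let i := Spec.map (CommRingCat.ofHom (Ideal.Quotient.mk J)) ∣_ U
  let a : PicLoc.PicSet X := PicGrp.cls L hL
  have hia : Groth.L18.PicWitt.res i a = 1 :=
    (Subtype.ext rfl : Groth.L18.PicWitt.res i a =
      PicGrp.cls ((Scheme.Modules.pullback i).obj L) (PicLoc.isInvertible_pullback i hL)).trans
      ((PicGrp.cls_eq_one_iff _).2 ⟨φ⟩)
  obtain ⟨N, hN, hNa⟩ := PicGrp.exists_eq_cls a⁻¹
  obtain ⟨e⟩ : Nonempty (CohB1.tensorMod L N ≅ Coh.structureModule X) :=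
    (PicGrp.cls_mul_cls_eq_one_iff hL hN).1 (by rw [← hNa]; exact mul_inv_cancel a)
  obtain ⟨ψ⟩ : Nonempty ((Scheme.Modules.pullback i).obj N ≅ Coh.structureModule _) := by
    refine (PicGrp.cls_eq_one_iff (PicLoc.isInvertible_pullback i hN)).1 ?_
    rw [← show Groth.L18.PicWitt.res i (PicGrp.cls N hN) =
      PicGrp.cls ((Scheme.Modules.pullback i).obj N) (PicLoc.isInvertible_pullback i hN) from Subtype.ext rfl,
      ← hNa, map_inv, hia, inv_one]
  obtain ⟨z, hz⟩ := exists_lift J hd hdA hgr L hL φ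
  obtain ⟨w, hw⟩ := exists_lift J hd hdA hgr N hN ψ
  let s := Groth.L16.homOfSection L z
  let t := Groth.L16.homOfSection N w
  let τ := Groth.L18.GenLoc.tensHom s t
  let g : Γ(CohB1.tensorMod L N, ⊤) := e.inv.app ⊤ (show Γ(Coh.structureModule X, ⊤) from (1 : Γ(X, ⊤)))
  have hg : IsFrame _ ⊤ g := Groth.L18.PicWitt.isFrame_of_iso e
  obtain ⟨c, hc⟩ := hg.exists_coeff le_rfl (rs (CohB1.tensorMod L N) le_top (Groth.L18.GenLoc.secOf τ))
  rw [rs_self] at hc
  have hloc : CohB1.genLocus _ τ = X.basicOpen c := by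
    rw [← Groth.L18.GenLoc.genLocus_inf_eq τ hg hc, inf_top_eq]
  rw [Groth.L18.GenLoc.genLocus_tensHom hL hN s t] at hloc
  -- the coefficient comes from a unit of the ring
  have htop : U.ι ''ᵁ (⊤ : X.Opens) = U := U.ι_image_top
  obtain ⟨c₁, hc₁⟩ := (bijective_restrict (A := A) hdA).2
    ((Spec (CommRingCat.of A)).presheaf.map (eqToHom htop.symm).op c)
  let a₀ : A := (Scheme.ΓSpecIso (CommRingCat.of A)).hom c₁
  have hbas : ∀ x : X, x ∈ X.basicOpen c ↔ a₀ ∉ (U.ι x).asIdeal := by
    intro x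
    have h1 : U.ι ''ᵁ X.basicOpen c =
        (Spec (CommRingCat.of A)).basicOpen ((Spec (CommRingCat.of A)).presheaf.map (eqToHom htop.symm).op c) := by
      rw [Scheme.basicOpen_res_eq]
      refine (Scheme.image_basicOpen U.ι c).trans ?_
      rw [Scheme.Opens.ι_appIso]
      rfl
    rw [← hc₁, Scheme.basicOpen_res] at h1
    have h2 : x ∈ X.basicOpen c ↔ U.ι x ∈ U.ι ''ᵁ X.basicOpen c :=
      ⟨fun h => ⟨x, h, rfl⟩, fun ⟨y, hy, hyx⟩ => U.ι.isOpenEmbedding.injective hyx ▸ hy⟩
    rw [h2, h1]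
    constructor
    · rintro ⟨-, h⟩
      rw [basicOpen_eq_of_affine'] at h
      exact h
    · intro h
      refine ⟨x.2, ?_⟩
      rw [basicOpen_eq_of_affine']
      exact h
  have hspec : ∀ x : X, J ≤ (U.ι x).asIdeal → a₀ ∉ (U.ι x).asIdeal := fun x hx => by
    rw [← hbas, ← hloc]
    exact ⟨hz x hx, hw x hx⟩
  have hunit : a₀ ∉ maximalIdeal A := by
    intro ha₀
    let B := A ⧸ J
    let π := Ideal.Quotient.mk J
    have hmin : maximalIdeal B ∈ (Ideal.span {π a₀}).minimalPrimes := by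
      refine ⟨⟨(maximalIdeal.isMaximal B).isPrime, (Ideal.span_singleton_le_iff_mem _).2 ?_⟩, fun Q hQ hQm => ?_⟩
      · rw [← IsLocalRing.map_maximalIdeal_of_surjective π Ideal.Quotient.mk_surjective]
        exact Ideal.mem_map_of_mem _ ha₀
      · haveI := hQ.1
        let p : PrimeSpectrum A := ⟨Q.comap π, Ideal.IsPrime.comap π⟩
        have hJp : J ≤ p.asIdeal := fun b hb => by
          show π b ∈ Q
          rw [Ideal.Quotient.eq_zero_iff_mem.2 hb]
          exact zero_mem _
        by_cases hp : p = closedPoint A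
        · rw [← IsLocalRing.map_maximalIdeal_of_surjective π Ideal.Quotient.mk_surjective,
            ← Ideal.map_comap_of_surjective π Ideal.Quotient.mk_surjective Q]
          exact (congrArg (Ideal.map π) (congrArg PrimeSpectrum.asIdeal hp)).ge
        · exact absurd (hQ.2 (Ideal.mem_span_singleton_self _)) (hspec ⟨p, hp⟩ hJp)
    have h1 := Ideal.height_le_one_of_isPrincipal_of_mem_minimalPrimes _ _ hmin
    have h2 := Groth.L04.depth_le_supportDim (R := B) (M := B)
    rw [Module.supportDim_self_eq_ringKrullDim, ← IsLocalRing.maximalIdeal_height_eq_ringKrullDim] at h2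
    exact absurd (hd.trans ((WithBot.coe_le_coe.1 h2).trans h1)) (by norm_num)
  have hall : CohB1.genLocus L s = ⊤ := by
    refine top_le_iff.1 fun x _ => ?_
    have hx : x ∈ X.basicOpen c := (hbas x).2 fun h => hunit (IsLocalRing.le_maximalIdeal (U.ι x).2.ne_top h)
    rw [← hloc] at hx
    exact hx.1
  have hfr := Groth.L18.GenLoc.isFrame_genLocus s
  rw [hall] at hfr
  haveI : IsIso s := by
    rw [Scheme.Modules.Hom.isIso_iff_isIso_app]
    intro V
    refine (ConcreteCategory.isIso_iff_bijective _).2 ?_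
    have := hfr V le_top
    rw [show (fun r : Γ(X, V) => r • rs L le_top (rs L le_top (Groth.L18.GenLoc.secOf s))) = s.app V from
      funext fun r => by rw [rs_rs]; exact (Groth.L18.GenLoc.app_eq s V r).symm] at this
    exact this
  exact ⟨(asIso s).symm⟩

/-- A regular sequence on the reduction. -/
theorem exists_regular (J : Ideal A) [IsLocalRing (A ⧸ J)] (hd : (3 : ℕ∞) ≤ LocCoh.depth (A ⧸ J) (A ⧸ J)) :
    ∃ rs : List A, rs.length = 3 ∧ (∀ r ∈ rs, r ∈ maximalIdeal A) ∧
      RingTheory.Sequence.IsWeaklyRegular (A ⧸ J) rs := by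
  have hm : (maximalIdeal A).map (algebraMap A (A ⧸ J)) = maximalIdeal (A ⧸ J) :=
    IsLocalRing.map_maximalIdeal_of_surjective _ Ideal.Quotient.mk_surjective
  have h : ((3 : ℕ) : ℕ∞) ≤ LocCoh.idealDepth (maximalIdeal A) (A ⧸ J) := by
    rw [Groth.L04.idealDepth_eq_idealDepth_map_of_finite (B := A ⧸ J) (maximalIdeal A), hm]
    exact hd
  obtain ⟨rs, hlen, hrs, hI⟩ := Groth.L04.exists_of_le_idealDepth
    (Groth.L04.smul_top_ne_top_of_nontrivial (maximalIdeal.isMaximal A).ne_top) h
  exact ⟨rs, hlen, hI, hrs⟩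

open RingTheory.Sequence in
/-- A regular sequence on the reduction is regular on the ring when the graded pieces are free. -/
theorem isWeaklyRegular_self (J : Ideal A) (hJ : J ≤ maximalIdeal A)
    (hgr : ∀ n : ℕ, Module.Free (A ⧸ J) (↥(J ^ n) ⧸ (J • (⊤ : Submodule A ↥(J ^ n)))))
    (rs : List A) (hm : ∀ r ∈ rs, r ∈ maximalIdeal A) (hrs : IsWeaklyRegular (A ⧸ J) rs) : IsWeaklyRegular A rs := by
  have hall : ∀ n : ℕ, IsWeaklyRegular (A ⧸ (J ^ n : Ideal A)) rs := by
    intro n
    induction n with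
    | zero =>
      haveI : Subsingleton (A ⧸ (J ^ 0 : Ideal A)) :=
        Ideal.Quotient.subsingleton_iff.2 (by rw [pow_zero, Ideal.one_eq_top])
      exact (isWeaklyRegular_iff_Fin _ _).2 fun i => by
        haveI : Subsingleton ((A ⧸ (J ^ 0 : Ideal A)) ⧸ (Ideal.ofList (rs.take i) • ⊤ : Submodule A (A ⧸ (J ^ 0 : Ideal A)))) :=
          (Submodule.Quotient.mk_surjective _).subsingleton
        exact fun a b _ => Subsingleton.elim a b
    | succ n ih =>
      let P := ↥(J ^ n)
      let G := P ⧸ (J • (⊤ : Submodule A P))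
      haveI : Module.Free (A ⧸ J) G := hgr n
      haveI : IsScalarTower A (A ⧸ J) G := IsScalarTower.of_algebraMap_smul fun _ _ => rfl
      have hG : IsWeaklyRegular G rs := by
        rw [← isWeaklyRegular_map_algebraMap_iff (S := A ⧸ J)]
        have h1 : IsWeaklyRegular (A ⧸ J) (rs.map (algebraMap A (A ⧸ J))) :=
          (isWeaklyRegular_map_algebraMap_iff _ _ _).2 hrs
        exact ((TensorProduct.rid (A ⧸ J) G).isWeaklyRegular_congr _).1 (h1.isWeaklyRegular_lTensor (M₂ := G))
      have hle : J ^ (n + 1) ≤ J ^ n := Ideal.pow_le_pow_right (Nat.le_succ n)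
      have hmem : ∀ w : P, w ∈ J • (⊤ : Submodule A P) ↔ (w : A) ∈ J ^ (n + 1) := by
        intro w
        have h : (J • (⊤ : Submodule A P)).map (J ^ n : Submodule A A).subtype = J ^ (n + 1) := by
          rw [Submodule.map_smul'', Submodule.map_top, Submodule.range_subtype, pow_succ' J n]
          rfl
        rw [← h]
        exact ⟨fun hw => ⟨w, hw, rfl⟩, fun ⟨w', hw', he⟩ => Subtype.ext he ▸ hw'⟩
      let f : G →ₗ[A] A ⧸ (J ^ (n + 1) : Ideal A) :=
        Submodule.mapQ _ (J ^ (n + 1) : Ideal A) (J ^ n : Submodule A A).subtype fun w hw => (hmem w).1 hw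
      refine Groth.L06.RegularPow.isWeaklyRegular_of_exact rs f (Submodule.factor hle) ?_ ?_
        (Submodule.factor_surjective hle) hG ih
      · refine (injective_iff_map_eq_zero f).2 fun z hz => ?_
        obtain ⟨z, rfl⟩ := Submodule.Quotient.mk_surjective _ z
        exact (Submodule.Quotient.mk_eq_zero _).2 ((hmem z).2 ((Submodule.Quotient.mk_eq_zero _).1 hz))
      · intro z
        obtain ⟨b, rfl⟩ := Submodule.Quotient.mk_surjective _ z
        constructor
        · intro hz
          exact ⟨Submodule.Quotient.mk ⟨b, (Submodule.Quotient.mk_eq_zero _).1 hz⟩, rfl⟩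
        · rintro ⟨w, hw⟩
          obtain ⟨w, rfl⟩ := Submodule.Quotient.mk_surjective _ w
          rw [← hw]
          exact (Submodule.Quotient.mk_eq_zero _).2 w.2
  refine (isWeaklyRegular_iff _ _).2 fun i hi x y hxy => ?_
  let I : Ideal A := Ideal.ofList (rs.take i)
  obtain ⟨x, rfl⟩ := Submodule.Quotient.mk_surjective _ x
  obtain ⟨y, rfl⟩ := Submodule.Quotient.mk_surjective _ y
  rw [Submodule.Quotient.eq, smul_eq_mul, Ideal.mul_top]
  have hxy' : rs[i] * (x - y) ∈ I := by
    have h := (Submodule.Quotient.eq _).1 hxy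
    rw [smul_eq_mul, Ideal.mul_top, ← smul_sub] at h
    exact h
  -- so the difference is in `I + Jⁿ` for all `n`
  have hn : ∀ n, x - y ∈ I ⊔ J ^ n := by
    intro n
    have h := (isWeaklyRegular_iff _ _).1 (hall n) i hi
    have h2 : Submodule.Quotient.mk (p := (I • ⊤ : Submodule A (A ⧸ (J ^ n : Ideal A))))
        (Ideal.Quotient.mk (J ^ n) (x - y)) = 0 := by
      refine h.right_eq_zero_of_smul ?_
      rw [← Submodule.Quotient.mk_smul, Submodule.Quotient.mk_eq_zero]
      have : rs[i] • Ideal.Quotient.mk (J ^ n) (x - y) = (rs[i] * (x - y)) • (1 : A ⧸ (J ^ n : Ideal A)) := by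
        rw [mul_smul, Algebra.smul_def, Algebra.smul_def, Algebra.smul_def]
        simp
      rw [this]
      exact Submodule.smul_mem_smul hxy' trivial
    rw [Submodule.Quotient.mk_eq_zero] at h2
    have h3 : (I • ⊤ : Submodule A (A ⧸ (J ^ n : Ideal A))) ≤ Submodule.map (Submodule.mkQ (J ^ n : Submodule A A)) I := by
      refine Submodule.smul_le.2 fun a ha m _ => ?_
      obtain ⟨m, rfl⟩ := Submodule.mkQ_surjective _ m
      exact ⟨a * m, Ideal.mul_mem_right _ _ ha, rfl⟩
    obtain ⟨v, hv, hvx⟩ := h3 h2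
    have h4 : v - (x - y) ∈ J ^ n := (Submodule.Quotient.eq _).1 hvx
    rw [show x - y = v + -(v - (x - y)) by ring]
    exact Submodule.add_mem_sup hv (neg_mem h4)
  have hIm : I ≤ maximalIdeal A := Ideal.span_le.2 fun r hr => hm r (List.mem_of_mem_take hr)
  haveI : Nontrivial (A ⧸ I) := Ideal.Quotient.nontrivial_iff.2 (ne_top_of_le_ne_top (maximalIdeal.isMaximal A).ne_top hIm)
  have h0 : Ideal.Quotient.mk I (x - y) ∈ ⨅ n : ℕ, J ^ n • (⊤ : Submodule A (A ⧸ I)) := by
    refine (Submodule.mem_iInf _).2 fun n => ?_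
    obtain ⟨v, hv, w, hw, hvw⟩ := Submodule.mem_sup.1 (hn n)
    rw [← hvw, map_add, Ideal.Quotient.eq_zero_iff_mem.2 hv, zero_add,
      show Ideal.Quotient.mk I w = w • (1 : A ⧸ I) by rw [Algebra.smul_def, mul_one]; rfl]
    exact Submodule.smul_mem_smul hw trivial
  rw [Ideal.iInf_pow_smul_eq_bot_of_le_jacobson _ (hJ.trans (IsLocalRing.maximalIdeal_le_jacobson _)),
    Submodule.mem_bot, Ideal.Quotient.eq_zero_iff_mem] at h0
  exact h0

theorem three_le_depth (J : Ideal A) [IsLocalRing (A ⧸ J)] (hd : (3 : ℕ∞) ≤ LocCoh.depth (A ⧸ J) (A ⧸ J))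
    (hgr : ∀ n : ℕ, Module.Free (A ⧸ J) (↥(J ^ n) ⧸ (J • (⊤ : Submodule A ↥(J ^ n))))) :
    (3 : ℕ∞) ≤ LocCoh.depth A A := by
  have hJm : J ≤ maximalIdeal A := IsLocalRing.le_maximalIdeal (fun h => by
    haveI := (Ideal.Quotient.subsingleton_iff (I := J)).2 h
    exact not_subsingleton (A ⧸ J) inferInstance)
  obtain ⟨rs, hlen, hm, hrs⟩ := exists_regular J hd
  have h := Groth.L04.length_le_idealDepth (isWeaklyRegular_self J hJm hgr rs hm hrs) hm
  rw [hlen] at h
  exact h

end Global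

section BaseChange

open TensorProduct

variable {B : Type u} [CommRing B] [Algebra A B] [Module.Flat A B]

/-- Free graded pieces are preserved by flat base change. -/
theorem free_gr_map (J : Ideal A) (n : ℕ) (hgr : Module.Free (A ⧸ J) (↥(J ^ n) ⧸ (J • (⊤ : Submodule A ↥(J ^ n))))) :
    Module.Free (B ⧸ J.map (algebraMap A B))
      (↥((J.map (algebraMap A B)) ^ n) ⧸ (J.map (algebraMap A B) • (⊤ : Submodule B ↥((J.map (algebraMap A B)) ^ n)))) := by
  classical
  let P := ↥(J ^ n)
  let G := P ⧸ (J • (⊤ : Submodule A P))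
  haveI : Module.Free (A ⧸ J) G := hgr
  haveI : IsScalarTower A (A ⧸ J) G := IsScalarTower.of_algebraMap_smul fun _ _ => rfl
  haveI : Module.Finite A P := Module.IsNoetherian.finite _ _
  haveI : Module.Finite (A ⧸ J) G := Module.Finite.of_restrictScalars_finite A _ _
  let b₀ := Module.Free.chooseBasis (A ⧸ J) G
  haveI : Finite (Module.Free.ChooseBasisIndex (A ⧸ J) G) := inferInstance
  obtain ⟨r, ⟨ε⟩⟩ := Finite.exists_equiv_fin (Module.Free.ChooseBasisIndex (A ⧸ J) G)
  let b := b₀.reindex ε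
  choose ev hev using fun i => Submodule.mkQ_surjective (J • (⊤ : Submodule A P)) (b i)
  have hJP : ∀ w : P, w ∈ J • (⊤ : Submodule A P) ↔ (w : A) ∈ J ^ (n + 1) := by
    intro w
    have h : (J • (⊤ : Submodule A P)).map (J ^ n : Submodule A A).subtype = J ^ (n + 1) := by
      rw [Submodule.map_smul'', Submodule.map_top, Submodule.range_subtype, pow_succ' J n]
      rfl
    rw [← h]
    exact ⟨fun hw => ⟨w, hw, rfl⟩, fun ⟨w', hw', he⟩ => Subtype.ext he ▸ hw'⟩
  -- the kernel of the comparison map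
  let ψ : (Fin r → A) →ₗ[A] A ⧸ (J ^ (n + 1) : Ideal A) :=
    (Submodule.mkQ (J ^ (n + 1) : Submodule A A)).comp (Fintype.linearCombination A fun i => (ev i : A))
  have hψ : ∀ c, ψ c = 0 → ∀ i, c i ∈ J := by
    intro c hc i
    have h0 : ∑ i, c i • ev i ∈ J • (⊤ : Submodule A P) := by
      refine (hJP _).2 ?_
      rw [Submodule.coe_sum]
      have h := (Submodule.Quotient.mk_eq_zero _).1 hc
      exact h
    have h1 : ∑ i, Ideal.Quotient.mk J (c i) • b i = 0 := by
      rw [← Submodule.Quotient.mk_eq_zero, ← Submodule.mkQ_apply, map_sum] at h0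
      refine Eq.trans (Finset.sum_congr rfl fun i _ => ?_) h0
      rw [map_smul, hev]
      rfl
    exact Ideal.Quotient.eq_zero_iff_mem.1 (Fintype.linearIndependent_iff.1 b.linearIndependent _ h1 i)
  let JB := J.map (algebraMap A B)
  let P' := ↥(JB ^ n)
  let G' := P' ⧸ (JB • (⊤ : Submodule B P'))
  haveI : IsScalarTower B (B ⧸ JB) G' := IsScalarTower.of_algebraMap_smul fun _ _ => rfl
  have hmem : ∀ x ∈ J ^ n, algebraMap A B x ∈ JB ^ n := fun x hx => by
    rw [← Ideal.map_pow]; exact Ideal.mem_map_of_mem _ hx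
  have hJP' : ∀ w : P', w ∈ JB • (⊤ : Submodule B P') ↔ (w : B) ∈ JB ^ (n + 1) := by
    intro w
    have h : (JB • (⊤ : Submodule B P')).map (JB ^ n : Submodule B B).subtype = JB ^ (n + 1) := by
      rw [Submodule.map_smul'', Submodule.map_top, Submodule.range_subtype, pow_succ' JB n]
      rfl
    rw [← h]
    exact ⟨fun hw => ⟨w, hw, rfl⟩, fun ⟨w', hw', he⟩ => Subtype.ext he ▸ hw'⟩
  let v : Fin r → G' := fun i => Submodule.Quotient.mk ⟨algebraMap A B (ev i), hmem _ (ev i).2⟩
  have hindep : LinearIndependent (B ⧸ JB) v := by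
    rw [Fintype.linearIndependent_iff]
    intro c hc i
    choose c' hc' using fun i => Ideal.Quotient.mk_surjective (c i)
    rw [← hc' i, Ideal.Quotient.eq_zero_iff_mem]
    have h0 : (∑ i, c' i * algebraMap A B (ev i)) ∈ JB ^ (n + 1) := by
      let w : P' := ∑ i, c' i • (⟨algebraMap A B (ev i), hmem _ (ev i).2⟩ : P')
      have hw : (JB • (⊤ : Submodule B P')).mkQ w = 0 := by
        rw [← hc, map_sum]
        refine Finset.sum_congr rfl fun i _ => ?_
        rw [map_smul, ← hc' i]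
        rfl
      have := (hJP' _).1 ((Submodule.Quotient.mk_eq_zero _).1 hw)
      rw [Submodule.coe_sum] at this
      exact this
    let z : B ⊗[A] (Fin r → A) := ∑ i, c' i ⊗ₜ[A] Pi.single i (1 : A)
    have hz : ψ.lTensor B z = 0 := by
      refine (Algebra.TensorProduct.quotIdealMapEquivTensorQuot B (J ^ (n + 1))).symm.injective ?_
      rw [map_zero]
      have hterm : ∀ i, (Algebra.TensorProduct.quotIdealMapEquivTensorQuot B (J ^ (n + 1))).symm
          (ψ.lTensor B (c' i ⊗ₜ[A] Pi.single i (1 : A))) = Ideal.Quotient.mk _ (c' i * algebraMap A B (ev i)) := by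
        intro i
        rw [LinearMap.lTensor_tmul, show ψ (Pi.single i (1 : A)) = Ideal.Quotient.mk _ (ev i : A) by
          show Submodule.mkQ _ (Fintype.linearCombination A (fun i => (ev i : A)) (Pi.single i 1)) = _
          rw [Fintype.linearCombination_apply_single, one_smul]
          rfl]
        exact Algebra.TensorProduct.quotIdealMapEquivTensorQuot_symm_tmul B (J ^ (n + 1)) (c' i) (ev i : A) |>.trans
          (by rw [mul_comm, Algebra.smul_def]; rfl)
      simp only [z, map_sum, hterm]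
      rw [← map_sum, Ideal.Quotient.eq_zero_iff_mem, Ideal.map_pow]
      exact h0
    obtain ⟨y, hy⟩ := (Module.Flat.lTensor_exact B (LinearMap.exact_subtype_ker_map ψ) z).1 hz
    let pr : B ⊗[A] (Fin r → A) →ₗ[A] B :=
      (TensorProduct.rid A B).toLinearMap.comp ((LinearMap.proj i : (Fin r → A) →ₗ[A] A).lTensor B)
    have hzi : pr z = c' i := by
      simp [pr, z, Pi.single_apply, map_sum]
    rw [← hzi, ← hy]
    clear hy hzi
    induction y using TensorProduct.induction_on with
    | zero => simp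
    | tmul β w =>
      show pr (β ⊗ₜ[A] (w : Fin r → A)) ∈ JB
      simp only [pr, LinearMap.comp_apply, LinearMap.lTensor_tmul, LinearMap.proj_apply, LinearEquiv.coe_coe,
        TensorProduct.rid_tmul, Algebra.smul_def]
      exact Ideal.mul_mem_right _ _ (Ideal.mem_map_of_mem _ (hψ _ w.2 i))
    | add y y' h h' => rw [map_add, map_add]; exact add_mem h h'
  have hspan : ⊤ ≤ Submodule.span (B ⧸ JB) (Set.range v) := by
    rintro q -
    obtain ⟨⟨w, hw⟩, rfl⟩ := Submodule.Quotient.mk_surjective _ q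
    suffices h : ∀ w ∈ JB ^ n, ∃ c : Fin r → B, w - ∑ i, c i * algebraMap A B (ev i) ∈ JB ^ (n + 1) by
      obtain ⟨c, hc⟩ := h w hw
      have h2 : (⟨w, hw⟩ : P') - ∑ i, c i • (⟨algebraMap A B (ev i), hmem _ (ev i).2⟩ : P') ∈
          JB • (⊤ : Submodule B P') := by
        refine (hJP' _).2 ?_
        rw [AddSubgroupClass.coe_sub, Submodule.coe_sum]
        exact hc
      rw [← Submodule.Quotient.mk_eq_zero, Submodule.Quotient.mk_sub, sub_eq_zero] at h2
      rw [h2, ← Submodule.mkQ_apply, map_sum]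
      refine Submodule.sum_mem _ fun i _ => ?_
      rw [map_smul, show c i • (JB • (⊤ : Submodule B P')).mkQ ⟨algebraMap A B (ev i), hmem _ (ev i).2⟩ =
        Ideal.Quotient.mk JB (c i) • v i from rfl]
      exact Submodule.smul_mem _ _ (Submodule.subset_span ⟨i, rfl⟩)
    intro w hw
    rw [← Ideal.map_pow] at hw
    refine Submodule.span_induction ?_ ⟨0, by simp⟩ ?_ ?_ hw
    · rintro _ ⟨x, hx, rfl⟩
      let w' : P := ⟨x, hx⟩
      choose c hc using fun i => Ideal.Quotient.mk_surjective (b.repr (Submodule.Quotient.mk w') i)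
      have hdiff : w' - ∑ i, c i • ev i ∈ J • (⊤ : Submodule A P) := by
        rw [← Submodule.Quotient.mk_eq_zero, Submodule.Quotient.mk_sub, sub_eq_zero]
        refine (b.sum_repr (Submodule.Quotient.mk w')).symm.trans ?_
        show _ = (J • (⊤ : Submodule A P)).mkQ _
        rw [map_sum]
        refine Finset.sum_congr rfl fun i _ => ?_
        rw [map_smul, hev, ← hc i]
        rfl
      have h1 := (hJP _).1 hdiff
      rw [AddSubgroupClass.coe_sub, Submodule.coe_sum] at h1
      refine ⟨fun i => algebraMap A B (c i), ?_⟩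
      have h2 := Ideal.mem_map_of_mem (algebraMap A B) h1
      rw [Ideal.map_pow, map_sub, map_sum] at h2
      convert h2 using 3 with i
      exact (map_mul (algebraMap A B) (c i) (ev i : A)).symm
    · rintro x y - - ⟨c, hc⟩ ⟨c', hc'⟩
      refine ⟨c + c', ?_⟩
      rw [show x + y - ∑ i, (c + c') i * algebraMap A B (ev i) =
        (x - ∑ i, c i * algebraMap A B (ev i)) + (y - ∑ i, c' i * algebraMap A B (ev i)) by
          simp [add_mul, Finset.sum_add_distrib]; abel]
      exact add_mem hc hc'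
    · rintro a x - ⟨c, hc⟩
      refine ⟨fun i => a * c i, ?_⟩
      rw [show a • x - ∑ i, a * c i * algebraMap A B (ev i) = a * (x - ∑ i, c i * algebraMap A B (ev i)) by
        rw [smul_eq_mul, mul_sub, Finset.mul_sum]; simp [mul_assoc]]
      exact Ideal.mul_mem_left _ _ hc
  exact Module.Free.of_basis (Module.Basis.mk hindep hspan)

open RingTheory.Sequence in
theorem le_depth_quot_map [IsLocalRing A] [IsLocalRing B] [IsNoetherianRing B] [IsLocalHom (algebraMap A B)]
    (J : Ideal A) [IsLocalRing (A ⧸ J)] (hd : (3 : ℕ∞) ≤ LocCoh.depth (A ⧸ J) (A ⧸ J))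
    [IsLocalRing (B ⧸ J.map (algebraMap A B))] :
    (3 : ℕ∞) ≤ LocCoh.depth (B ⧸ J.map (algebraMap A B)) (B ⧸ J.map (algebraMap A B)) := by
  obtain ⟨rs, hlen, hm, hrs⟩ := exists_regular J hd
  let BJ := B ⧸ J.map (algebraMap A B)
  have h1 : IsWeaklyRegular BJ rs :=
    (((Algebra.TensorProduct.quotIdealMapEquivTensorQuot B J).toLinearEquiv.restrictScalars A).isWeaklyRegular_congr
      rs).2 (hrs.isWeaklyRegular_lTensor (M₂ := B))
  have h2 : IsWeaklyRegular BJ (rs.map (algebraMap A B)) := (isWeaklyRegular_map_algebraMap_iff _ _ _).2 h1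
  have hmB : ∀ r ∈ rs.map (algebraMap A B), r ∈ maximalIdeal B := fun r hr => by
    obtain ⟨x, hx, rfl⟩ := List.mem_map.1 hr
    exact IsLocalRing.map_maximalIdeal_le (algebraMap A B) (Ideal.mem_map_of_mem _ (hm x hx))
  have h3 := Groth.L04.length_le_idealDepth h2 hmB
  have hmax : (maximalIdeal B).map (algebraMap B BJ) = maximalIdeal BJ :=
    IsLocalRing.map_maximalIdeal_of_surjective _ Ideal.Quotient.mk_surjective
  rw [List.length_map, hlen, Groth.L04.idealDepth_eq_idealDepth_map_of_finite (B := BJ) (maximalIdeal B),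
    hmax] at h3
  exact h3

end BaseChange

section Completion

theorem isAdicComplete_of_le {B : Type u} [CommRing B] [IsNoetherianRing B] (I : Ideal B) [IsAdicComplete I B]
    (J : Ideal B) (hJ : J ≤ I) : IsAdicComplete J B where
  haus' x hx := IsHausdorff.haus (I := I) inferInstance x fun n =>
    SModEq.mono (Submodule.smul_mono_left (pow_le_pow_left' hJ n)) (hx n)
  prec' := by
    obtain ⟨s, hs⟩ := (IsNoetherian.noetherian J : J.FG)
    have h := Groth.L04.RGamma.isPrecomplete_of_tzMod (A := B) (M := B) s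
      fun g hg => Groth.L04.RGamma.tzMod_of_isAdicComplete I (hJ (hs ▸ Ideal.subset_span hg))
    rw [show Ideal.span (s : Set B) = J from hs] at h
    exact h.prec'

variable [IsLocalRing A]

attribute [local instance] Groth.Agent.AV.InterPic.picLaw in
/-- An invertible module trivial along an ideal with free graded pieces is trivial. -/
theorem nonempty_iso_of_trivial (J : Ideal A) [IsLocalRing (A ⧸ J)]
    (hd : (3 : ℕ∞) ≤ LocCoh.depth (A ⧸ J) (A ⧸ J))
    (hgr : ∀ n : ℕ, Module.Free (A ⧸ J) (↥(J ^ n) ⧸ (J • (⊤ : Submodule A ↥(J ^ n)))))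
    (L : (FEt.puncturedSpec A : Scheme.{u}).Modules) (hL : PicF.IsInvertible L)
    (φ : (Scheme.Modules.pullback (Spec.map (CommRingCat.ofHom (Ideal.Quotient.mk J)) ∣_ FEt.puncturedSpec A)).obj L ≅
      Coh.structureModule _) :
    Nonempty (L ≅ Coh.structureModule (FEt.puncturedSpec A : Scheme.{u})) := by
  have hdA : (2 : ℕ∞) ≤ LocCoh.depth A A := (show (2 : ℕ∞) ≤ 3 by norm_num).trans (three_le_depth J hd hgr)
  refine Groth.Agent.S0813.result A hdA L hL ?_
  haveI := Groth.L01.AnalUnram.isNoetherianRing_completion A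
  haveI := Groth.L01.CompletionExt.faithfullyFlat A
  let Ah := AdicCompletion (maximalIdeal A) A
  have hmap : (maximalIdeal A).map (algebraMap A Ah) = maximalIdeal Ah :=
    Groth.L01.AnalUnram.completion_map_maximalIdeal A
  haveI : IsLocalHom (algebraMap A Ah) :=
    ((IsLocalRing.local_hom_TFAE (algebraMap A Ah)).out 2 0).1 hmap.le
  haveI : IsAdicComplete (maximalIdeal Ah) Ah := by
    rw [← hmap]
    exact AdicCompletion.isAdicComplete_self _ (IsNoetherian.noetherian _)
  let Jh := J.map (algebraMap A Ah)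
  have hJm : J ≤ maximalIdeal A := IsLocalRing.le_maximalIdeal (fun h => by
    haveI := (Ideal.Quotient.subsingleton_iff (I := J)).2 h
    exact not_subsingleton (A ⧸ J) inferInstance)
  have hJh : Jh ≤ maximalIdeal Ah := (Ideal.map_mono hJm).trans hmap.le
  haveI := isAdicComplete_of_le (maximalIdeal Ah) Jh hJh
  haveI : IsLocalRing (Ah ⧸ Jh) :=
    Groth.L01.isLocalRing_quotient (ne_top_of_le_ne_top (maximalIdeal.isMaximal Ah).ne_top hJh)
  have hdh := le_depth_quot_map (B := Ah) J hd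
  have hgrh := fun n => free_gr_map (B := Ah) J n (hgr n)
  have hdAh : (2 : ℕ∞) ≤ LocCoh.depth Ah Ah := (show (2 : ℕ∞) ≤ 3 by norm_num).trans (three_le_depth Jh hdh hgrh)
  let θ := Spec.map (CommRingCat.ofHom (algebraMap A Ah))
  have hpre : θ ⁻¹ᵁ FEt.puncturedSpec A = FEt.puncturedSpec Ah := by
    refine Groth.L18.LocPic.preimage_punctured _ (fun P hP => ?_) ?_
    · refine ((maximalIdeal.isMaximal Ah).eq_of_le P.2.ne_top ?_).symm
      exact hmap.symm.le.trans (Ideal.map_le_iff_le_comap.2 hP.ge)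
    · refine ((maximalIdeal.isMaximal A).eq_of_le (Ideal.comap_ne_top _ (maximalIdeal.isMaximal Ah).ne_top) ?_).symm
      rw [← hmap]
      exact Ideal.le_comap_map
  -- the statement on the completion, with the open as a parameter
  suffices H : ∀ (V : (Spec (CommRingCat.of Ah)).Opens), V = FEt.puncturedSpec Ah → ∀ (M : (V : Scheme.{u}).Modules),
      PicF.IsInvertible M →
      Nonempty ((Scheme.Modules.pullback (Spec.map (CommRingCat.ofHom (Ideal.Quotient.mk Jh)) ∣_ V)).obj M ≅
        Coh.structureModule _) → Nonempty (M ≅ Coh.structureModule (V : Scheme.{u})) by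
    refine H _ hpre _ (PicLoc.isInvertible_pullback _ hL) ?_
    let gA := Spec.map (CommRingCat.ofHom (Ideal.Quotient.mk J))
    let gh := Spec.map (CommRingCat.ofHom (Ideal.Quotient.mk Jh))
    let U := FEt.puncturedSpec A
    let V := θ ⁻¹ᵁ U
    let σ := Spec.map (CommRingCat.ofHom (Ideal.quotientMap Jh (algebraMap A Ah) Ideal.le_comap_map))
    have hσ : σ ≫ gA = gh ≫ θ := by
      show Spec.map _ ≫ Spec.map _ = Spec.map _ ≫ Spec.map _
      rw [← Spec.map_comp, ← Spec.map_comp]
      congr 1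
    have hle : gh ⁻¹ᵁ V ≤ σ ⁻¹ᵁ (gA ⁻¹ᵁ U) := by
      rw [← Scheme.Hom.comp_preimage, ← Scheme.Hom.comp_preimage, hσ]
    let σ' : (↑(gh ⁻¹ᵁ V) : Scheme.{u}) ⟶ ↑(gA ⁻¹ᵁ U) := σ.resLE _ _ hle
    have hsq : (gh ∣_ V) ≫ (θ ∣_ U) = σ' ≫ (gA ∣_ U) := by
      rw [← cancel_mono U.ι, Category.assoc, Category.assoc, morphismRestrict_ι, morphismRestrict_ι,
        ← Category.assoc, morphismRestrict_ι, Category.assoc, ← hσ, ← Category.assoc, ← Category.assoc]
      congr 1
      exact (Scheme.Hom.resLE_comp_ι _ _).symm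
    exact ⟨(Scheme.Modules.pullbackComp (gh ∣_ V) (θ ∣_ U)).app L ≪≫ (Scheme.Modules.pullbackCongr hsq).app L ≪≫
      ((Scheme.Modules.pullbackComp σ' (gA ∣_ U)).app L).symm ≪≫ (Scheme.Modules.pullback σ').mapIso φ ≪≫
      Groth.L29.LocFree.pullbackUnitIso σ'⟩
  rintro V rfl M hM ⟨ψ⟩
  exact nonempty_iso_of_complete Jh hdh hdAh hgrh M hM ψ

/-- The punctured spectrum has trivial Picard group when that of the reduction has. -/
theorem picTrivial_of_quot (J : Ideal A) [IsLocalRing (A ⧸ J)]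
    (hd : (3 : ℕ∞) ≤ LocCoh.depth (A ⧸ J) (A ⧸ J))
    (hgr : ∀ n : ℕ, Module.Free (A ⧸ J) (↥(J ^ n) ⧸ (J • (⊤ : Submodule A ↥(J ^ n)))))
    (h0 : Formal2.PicTrivial (↑(FEt.puncturedSpec (A ⧸ J)) : Scheme.{u})) :
    Formal2.PicTrivial (↑(FEt.puncturedSpec A) : Scheme.{u}) := by
  intro L hL
  have hpre : Spec.map (CommRingCat.ofHom (Ideal.Quotient.mk J)) ⁻¹ᵁ FEt.puncturedSpec A =
      FEt.puncturedSpec (A ⧸ J) := by
    refine Groth.L18.LocPic.preimage_punctured _ (fun P hP => ?_)
      (Groth.L18.LocPic.comap_maximal_of_surjective _ Ideal.Quotient.mk_surjective)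
    rw [← Ideal.map_comap_of_surjective _ Ideal.Quotient.mk_surjective P.asIdeal, hP,
      IsLocalRing.map_maximalIdeal_of_surjective _ Ideal.Quotient.mk_surjective]
  have hP : Formal2.PicTrivial
      (↑(Spec.map (CommRingCat.ofHom (Ideal.Quotient.mk J)) ⁻¹ᵁ FEt.puncturedSpec A) : Scheme.{u}) := by
    rw [hpre]; exact h0
  obtain ⟨φ⟩ := hP _ (PicLoc.isInvertible_pullback _ hL)
  exact nonempty_iso_of_trivial J hd hgr L hL φ

end Completion

end Groth.L18.GrFreePic
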