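import Mathlib.LinearAlgebra.Matrix.Charpoly.Eigs
import Mathlib.LinearAlgebra.Charpoly.ToMatrix
import Mathlib.LinearAlgebra.Charpoly.BaseChange
import Mathlib.LinearAlgebra.Matrix.Charpoly.LinearMap
import Mathlib.FieldTheory.IsAlgClosed.AlgebraicClosure
import Mathlib.FieldTheory.IsAlgClosed.Spectrum
import Mathlib.RingTheory.IntegralClosure.IsIntegral.Basic
import Mathlib.RingTheory.Localization.BaseChange
import Mathlib.RingTheory.Ideal.MinimalPrime.Noetherian
import Mathlib.Algebra.Polynomial.Lifts

/-!
Integrality of the coefficients of characteristic polynomials.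
-/

set_option autoImplicit false
set_option linter.style.haveILetI false
universe u

open Polynomial

namespace Groth.L18.Charpoly

theorem isIntegral_coeff_of_aeval_field {A K : Type u} [CommRing A] [Field K] [Algebra A K]
    {n : Type u} [Fintype n] [DecidableEq n] (M : Matrix n n K) {p : A[X]} (hp : p.Monic)
    (hM : aeval M p = 0) (i : ℕ) : IsIntegral A (M.charpoly.coeff i) := by
  let L := AlgebraicClosure K
  let φ : K →ₐ[A] L := IsScalarTower.toAlgHom A K L
  let N : Matrix n n L := φ.mapMatrix M
  have hN : aeval N p = 0 := by rw [aeval_algHom_apply, hM, map_zero]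
  have hcp : N.charpoly = M.charpoly.map (algebraMap K L) := Matrix.charpoly_map M (algebraMap K L)
  have hroots : ∀ r ∈ N.charpoly.roots, r ∈ integralClosure A L := by
    intro r hr
    rw [mem_roots (Matrix.charpoly_monic N).ne_zero] at hr
    have h1 : r ∈ spectrum L N := Matrix.mem_spectrum_of_isRoot_charpoly hr
    have h2 := spectrum.subset_polynomial_aeval N (p.map (algebraMap A L)) ⟨r, h1, rfl⟩
    rw [aeval_map_algebraMap, hN, spectrum.mem_iff, sub_zero] at h2
    refine ⟨p, hp, ?_⟩
    by_contra hne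
    refine h2 ((IsUnit.mk0 _ ?_).map (algebraMap L (Matrix n n L)))
    simpa [eval_map] using hne
  have hlift : N.charpoly ∈ lifts (algebraMap (integralClosure A L) L) := by
    rw [(IsAlgClosed.splits N.charpoly).eq_prod_roots_of_monic (Matrix.charpoly_monic N)]
    refine multiset_prod_mem _ fun q hq => ?_
    obtain ⟨r, hr, rfl⟩ := Multiset.mem_map.mp hq
    exact ⟨X - C ⟨r, hroots r hr⟩, by simp⟩
  obtain ⟨⟨y, hy⟩, hye⟩ := (lifts_iff_coeff_lifts _).mp hlift i
  have hy2 : IsIntegral A (N.charpoly.coeff i) := hye ▸ hy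
  rw [hcp, coeff_map] at hy2
  exact (isIntegral_algHom_iff φ (algebraMap K L).injective).mp hy2

theorem isIntegral_coeff_of_aeval {A K : Type u} [CommRing A] [CommRing K] [IsNoetherianRing K]
    [IsReduced K] [Algebra A K]
    {n : Type u} [Fintype n] [DecidableEq n] (M : Matrix n n K) {p : A[X]} (hp : p.Monic)
    (hM : aeval M p = 0) (i : ℕ) : IsIntegral A (M.charpoly.coeff i) := by
  classical
  haveI : Fintype (minimalPrimes K) := (minimalPrimes.finite_of_isNoetherianRing K).fintype
  haveI : ∀ P : minimalPrimes K, P.1.IsPrime := fun P => Ideal.minimalPrimes_isPrime P.2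
  have key : ∀ P : minimalPrimes K, ∃ q : A[X], q.Monic ∧ aeval (M.charpoly.coeff i) q ∈ P.1 := by
    intro P
    let F := FractionRing (K ⧸ P.1)
    let ψ : K →ₐ[A] F := (IsScalarTower.toAlgHom A (K ⧸ P.1) F).comp (Ideal.Quotient.mkₐ A P.1)
    have h0 : aeval (ψ.mapMatrix M) p = 0 := by rw [aeval_algHom_apply, hM, map_zero]
    obtain ⟨q, hq, hq0⟩ := isIntegral_coeff_of_aeval_field (ψ.mapMatrix M) hp h0 i
    refine ⟨q, hq, Ideal.Quotient.eq_zero_iff_mem.mp (IsFractionRing.injective (K ⧸ P.1) F ?_)⟩
    rw [map_zero]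
    refine Eq.trans ?_ hq0
    change ψ (aeval (M.charpoly.coeff i) q) = _
    rw [← aeval_algHom_apply, AlgHom.mapMatrix_apply,
      show M.map ψ = M.map ψ.toRingHom from rfl, Matrix.charpoly_map, coeff_map]
    rfl
  choose q hq hqP using key
  refine ⟨∏ P, q P, monic_prod_of_monic _ _ fun P _ => hq P, ?_⟩
  rw [← aeval_def, map_prod]
  have hmem : ∏ P, aeval (M.charpoly.coeff i) (q P) ∈ sInf (minimalPrimes K) := by
    rw [Submodule.mem_sInf]
    intro Q hQ
    exact Ideal.prod_mem _ (Finset.mem_univ ⟨Q, hQ⟩) (hqP ⟨Q, hQ⟩)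
  have h0 : sInf (minimalPrimes K) = (⊥ : Ideal K).radical := Ideal.sInf_minimalPrimes
  rw [h0] at hmem
  exact (show IsNilpotent (∏ P, aeval (M.charpoly.coeff i) (q P)) from hmem).eq_zero

theorem aeval_baseChange {A : Type u} (K : Type u) [CommRing A] [CommRing K] [Algebra A K] {E : Type u}
    [AddCommGroup E] [Module A E] (u : E →ₗ[A] E) (q : A[X]) :
    aeval (u.baseChange K) q = (aeval u q).baseChange K :=
  aeval_algHom_apply (Module.End.baseChangeHom A K E) u q

theorem isIntegral_coeff {A K : Type u} [CommRing A] [CommRing K] [IsNoetherianRing K] [IsReduced K]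
    [Algebra A K] {E : Type u} [AddCommGroup E] [Module A E] [Module.Finite A E]
    [Module.Free K (TensorProduct A K E)] (u : E →ₗ[A] E) (i : ℕ) :
    IsIntegral A ((u.baseChange K).charpoly.coeff i) := by
  classical
  rcases subsingleton_or_nontrivial K with hK | hK
  · exact ⟨X, monic_X, Subsingleton.elim _ _⟩
  obtain ⟨p, hp, hpu⟩ := LinearMap.exists_monic_and_aeval_eq_zero A u
  let b := Module.Free.chooseBasis K (TensorProduct A K E)
  rw [← LinearMap.charpoly_toMatrix (u.baseChange K) b]
  refine isIntegral_coeff_of_aeval (LinearMap.toMatrix b b (u.baseChange K)) hp ?_ i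
  have h : aeval (u.baseChange K) p = 0 := by rw [aeval_baseChange, hpu, LinearMap.baseChange_zero]
  have h2 := aeval_algHom_apply ((LinearMap.toMatrixAlgEquiv b).toAlgHom.restrictScalars A) (u.baseChange K) p
  rw [h, map_zero] at h2
  exact h2

theorem coeff_prod_mem {A R : Type u} [CommRing A] [CommRing R] [Algebra A R] {V : Submodule A R}
    {ι : Type u} (s : Finset ι) (f : ι → R[X]) (hf : ∀ i ∈ s, ∀ d, (f i).coeff d ∈ V) (d : ℕ) :
    (∏ i ∈ s, f i).coeff d ∈ V ^ s.card := by
  classical
  induction s using Finset.induction_on generalizing d with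
  | empty =>
    rw [Finset.prod_empty, Finset.card_empty, pow_zero, coeff_one]
    split_ifs
    · exact Submodule.mem_one.mpr ⟨1, map_one _⟩
    · exact zero_mem _
  | @insert a s ha ih =>
    rw [Finset.prod_insert ha, Finset.card_insert_of_notMem ha, pow_succ', coeff_mul]
    exact sum_mem fun x _ => Submodule.mul_mem_mul (hf a (Finset.mem_insert_self a s) _)
      (ih (fun i hi => hf i (Finset.mem_insert_of_mem hi)) _)

theorem coeff_charpoly_mem {A R : Type u} [CommRing A] [CommRing R] [Algebra A R] {V : Submodule A R}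
    {n : Type u} [Fintype n] [DecidableEq n] (M : Matrix n n R) (hM : ∀ i j, M i j ∈ V) (h1 : (1 : R) ∈ V)
    (d : ℕ) : M.charpoly.coeff d ∈ V ^ Fintype.card n := by
  rw [Matrix.charpoly, Matrix.det_apply, finsetSum_coeff]
  refine sum_mem fun σ _ => ?_
  have h : (∏ i, M.charmatrix (σ i) i).coeff d ∈ V ^ Fintype.card n := by
    refine coeff_prod_mem Finset.univ _ (fun i _ e => ?_) d
    rcases eq_or_ne (σ i) i with he | he
    · rw [he, Matrix.charmatrix_apply_eq, coeff_sub, coeff_X, coeff_C]
      refine sub_mem ?_ ?_ <;> split_ifs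
      exacts [h1, zero_mem _, hM _ _, zero_mem _]
    · rw [Matrix.charmatrix_apply_ne _ _ _ he, coeff_neg, coeff_C]
      refine neg_mem ?_
      split_ifs
      exacts [hM _ _, zero_mem _]
  rcases Int.units_eq_one_or (Equiv.Perm.sign σ) with hs | hs <;> rw [hs]
  · simpa using h
  · simpa using h

theorem fg_adjoin_charpoly_coeffs {A K : Type u} [CommRing A] [IsNoetherianRing A] [CommRing K]
    [IsNoetherianRing K] [IsReduced K] [Algebra A K] {E : Type u} [AddCommGroup E] [Module A E]
    [Module.Finite A E] [Module.Free K (TensorProduct A K E)] :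
    (Algebra.adjoin A {c : K | ∃ (v : E →ₗ[A] E) (j : ℕ),
      c = ((v.baseChange K).charpoly).coeff j}).toSubmodule.FG := by
  classical
  set S := {c : K | ∃ (v : E →ₗ[A] E) (j : ℕ), c = ((v.baseChange K).charpoly).coeff j} with hS
  rcases subsingleton_or_nontrivial K with hK | hK
  · exact ⟨∅, SetLike.ext fun x => by simp [Subsingleton.elim x 0]⟩
  let b := Module.Free.chooseBasis K (TensorProduct A K E)
  obtain ⟨T, hT⟩ := (Module.Finite.fg_top : (⊤ : Submodule A E).FG)
  -- coordinates of elements of `E`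
  let C0 : Submodule A K := Submodule.span A
    (Set.range fun x : Module.Free.ChooseBasisIndex K (TensorProduct A K E) × T =>
      b.repr ((1 : K) ⊗ₜ[A] (x.2 : E)) x.1)
  have hC0 : ∀ j (e : E), b.repr ((1 : K) ⊗ₜ[A] e) j ∈ C0 := by
    intro j e
    have he : e ∈ Submodule.span A (T : Set E) := hT ▸ Submodule.mem_top
    induction he using Submodule.span_induction with
    | mem x hx => exact Submodule.subset_span ⟨⟨j, x, hx⟩, rfl⟩
    | zero => simp
    | add x y _ _ hx hy => rw [TensorProduct.tmul_add, map_add, Finsupp.add_apply]; exact add_mem hx hy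
    | smul a x _ hx =>
      rw [TensorProduct.tmul_smul, ← algebraMap_smul K a, map_smul, Finsupp.smul_apply, algebraMap_smul]
      exact Submodule.smul_mem _ _ hx
  have hrep : ∀ x : TensorProduct A K E, ∃ D : Submodule A K, D.FG ∧
      ∀ (v : E →ₗ[A] E) (r : Module.Free.ChooseBasisIndex K (TensorProduct A K E)),
        b.repr (v.baseChange K x) r ∈ D := fun x => by
    induction x using TensorProduct.induction_on with
    | zero => exact ⟨⊥, Submodule.fg_bot, fun v r => by simp⟩
    | tmul c e =>
      refine ⟨Submodule.span A {c} * C0, (Submodule.fg_span_singleton c).mul (Submodule.fg_span (Set.finite_range _)),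
        fun v r => ?_⟩
      rw [LinearMap.baseChange_tmul, show c ⊗ₜ[A] v e = c • ((1 : K) ⊗ₜ[A] v e) by
        rw [TensorProduct.smul_tmul', smul_eq_mul, mul_one], map_smul, Finsupp.smul_apply, smul_eq_mul]
      exact Submodule.mul_mem_mul (Submodule.mem_span_singleton_self c) (hC0 _ _)
    | add x y hx hy =>
      obtain ⟨D, hD, hD'⟩ := hx
      obtain ⟨D', hD2, hD2'⟩ := hy
      exact ⟨D ⊔ D', hD.sup hD2, fun v r => by
        rw [map_add, map_add, Finsupp.add_apply]
        exact Submodule.add_mem_sup (hD' v r) (hD2' v r)⟩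
  choose D hD hD' using fun i => hrep (b i)
  let V : Submodule A K := 1 ⊔ ⨆ i, D i
  have hV : V.FG := Submodule.FG.sup
    (by rw [Submodule.one_eq_span]; exact Submodule.fg_span_singleton _) (Submodule.fg_iSup D hD)
  have hW : (V ^ Fintype.card (Module.Free.ChooseBasisIndex K (TensorProduct A K E))).FG := hV.pow _
  have hsub : S ⊆ ↑(V ^ Fintype.card (Module.Free.ChooseBasisIndex K (TensorProduct A K E))) := by
    rintro _ ⟨v, j, rfl⟩
    rw [← LinearMap.charpoly_toMatrix (v.baseChange K) b]
    refine coeff_charpoly_mem _ (fun r s => ?_) (Submodule.mem_sup_left (Submodule.mem_one.mpr ⟨1, map_one _⟩)) j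
    rw [LinearMap.toMatrix_apply]
    exact Submodule.mem_sup_right (Submodule.mem_iSup_of_mem s (hD' s v r))
  haveI : IsNoetherian A ↥(V ^ Fintype.card (Module.Free.ChooseBasisIndex K (TensorProduct A K E))) :=
    isNoetherian_of_fg_of_noetherian _ hW
  have hspan : (Submodule.span A S).FG := by
    have := IsNoetherian.noetherian ((Submodule.span A S).comap
      (V ^ Fintype.card (Module.Free.ChooseBasisIndex K (TensorProduct A K E))).subtype)
    have h2 := this.map (V ^ Fintype.card (Module.Free.ChooseBasisIndex K (TensorProduct A K E))).subtype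
    rwa [Submodule.map_comap_subtype, inf_eq_right.mpr (Submodule.span_le.mpr hsub)] at h2
  obtain ⟨t, htS, ht⟩ := Submodule.fg_span_iff_fg_span_finset_subset _ |>.mp hspan
  have hadj : Algebra.adjoin A S = Algebra.adjoin A (t : Set K) := by
    refine le_antisymm (Algebra.adjoin_le fun x hx => ?_) (Algebra.adjoin_mono htS)
    exact Algebra.span_le_adjoin A _ (ht ▸ Submodule.subset_span hx)
  rw [hadj]
  refine fg_adjoin_of_finite t.finite_toSet fun x hx => ?_
  obtain ⟨v, j, rfl⟩ := htS hx
  exact isIntegral_coeff v j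

end Groth.L18.Charpoly
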