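import Groth.Agent.L18.WeakNorm
import Groth.Agent.L18.NormFlat
import Groth.Agent.L18.CharpolyIntegral
import Groth.Agent.L21.Curve.SmoothDescent
import Groth.Agent.L19.LocFreeDescent
import Mathlib.Topology.Sober
import Mathlib.AlgebraicGeometry.Noetherian

/-!
The weak norm of a finite surjective morphism onto a Noetherian reduced scheme whose points are normal or free.
-/

set_option autoImplicit false
set_option backward.isDefEq.respectTransparency false
set_option backward.isDefEq.respectTransparency.types false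
set_option linter.style.haveILetI false
universe u

open CategoryTheory CategoryTheory.Limits AlgebraicGeometry TopologicalSpace Opposite Polynomial

noncomputable section

namespace Groth.L18.NormMixed

open Groth.L18.Frame (rs ro ro_ro ro_self ro_mul)
open Groth.L18.NormFree

/-- Coefficients integral over a ring whose localisation at a prime is normal, up to one denominator. -/
theorem exists_denominator {A R : Type u} [CommRing A] [IsDomain A] [CommRing R] [Algebra A R] {r : A} (hr : r ≠ 0)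
    [IsLocalization.Away r R] (p : Ideal A) [p.IsPrime] [IsIntegrallyClosed (Localization.AtPrime p)]
    {n : Type u} [Fintype n] [DecidableEq n] (M : Matrix n n R) {p₀ : A[X]} (hp₀ : p₀.Monic)
    (hM : aeval M p₀ = 0) :
    ∃ t : A, t ∉ p ∧ ∀ i, ∃ a : A, algebraMap A R a = algebraMap A R t * M.charpoly.coeff i := by
  classical
  let K := FractionRing A
  have hunit : IsUnit (algebraMap A K r) :=
    IsUnit.mk0 _ ((map_ne_zero_iff _ (IsFractionRing.injective A K)).2 hr)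
  let ψ₀ : R →+* K := IsLocalization.Away.lift r hunit
  have hψ : Function.Injective ψ₀ := by
    rw [injective_iff_map_eq_zero]
    intro z hz
    obtain ⟨k, a, hka⟩ := IsLocalization.Away.surj r z
    have h1 := congrArg ψ₀ hka
    rw [map_mul, hz, zero_mul, IsLocalization.Away.lift_eq r hunit] at h1
    rw [(map_eq_zero_iff _ (IsFractionRing.injective A K)).1 h1.symm, map_zero] at hka
    exact ((IsLocalization.Away.algebraMap_isUnit (S := R) r).pow k).mul_left_eq_zero.1 hka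
  let ψ : R →ₐ[A] K := { ψ₀ with commutes' := fun a => IsLocalization.Away.lift_eq r hunit a }
  have hint : ∀ i, IsIntegral A (ψ (M.charpoly.coeff i)) := by
    intro i
    have h0 : aeval (ψ.mapMatrix M) p₀ = 0 := by rw [aeval_algHom_apply, hM, map_zero]
    have := Groth.L18.Charpoly.isIntegral_coeff_of_aeval_field (ψ.mapMatrix M) hp₀ h0 i
    rwa [AlgHom.mapMatrix_apply, show M.map ψ = M.map ψ.toRingHom from rfl, Matrix.charpoly_map, coeff_map] at this
  letI : Algebra (Localization.AtPrime p) K :=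
    IsLocalization.localizationAlgebraOfSubmonoidLe (Localization.AtPrime p) K p.primeCompl (nonZeroDivisors A)
      (fun x hx => mem_nonZeroDivisors_of_ne_zero fun h => hx (h ▸ p.zero_mem))
  haveI : IsScalarTower A (Localization.AtPrime p) K :=
    IsLocalization.localization_isScalarTower_of_submonoid_le (Localization.AtPrime p) K p.primeCompl
      (nonZeroDivisors A) (fun x hx => mem_nonZeroDivisors_of_ne_zero fun h => hx (h ▸ p.zero_mem))
  haveI : IsFractionRing (Localization.AtPrime p) K :=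
    IsFractionRing.isFractionRing_of_isDomain_of_isLocalization p.primeCompl (Localization.AtPrime p) K
  have key : ∀ i, ∃ t : A, t ∉ p ∧ ∃ a : A, algebraMap A R a = algebraMap A R t * M.charpoly.coeff i := by
    intro i
    obtain ⟨z, hz⟩ := IsIntegrallyClosed.isIntegral_iff.1 ((hint i).tower_top (A := Localization.AtPrime p))
    obtain ⟨⟨a, t⟩, hat⟩ := IsLocalization.surj p.primeCompl z
    refine ⟨t.1, t.2, a, hψ ?_⟩
    have h1 := congrArg (algebraMap (Localization.AtPrime p) K) hat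
    rw [map_mul, hz, ← IsScalarTower.algebraMap_apply, ← IsScalarTower.algebraMap_apply] at h1
    rw [show ψ₀ = (ψ : R →+* K) from rfl]
    simp only [RingHom.coe_coe, map_mul, AlgHom.commutes]
    rw [← h1, mul_comm]
  choose t ht a ha using key
  refine ⟨∏ i ∈ Finset.range (M.charpoly.natDegree + 1), t i,
    fun h => (Ideal.IsPrime.prod_mem_iff.1 h).elim fun i hi => ht i hi.2, fun i => ?_⟩
  by_cases hi : i ∈ Finset.range (M.charpoly.natDegree + 1)
  · refine ⟨(∏ j ∈ (Finset.range (M.charpoly.natDegree + 1)).erase i, t j) * a i, ?_⟩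
    rw [map_mul, ha, ← Finset.mul_prod_erase _ _ hi, map_mul]
    ring
  · refine ⟨0, ?_⟩
    rw [Finset.mem_range, not_lt] at hi
    rw [coeff_eq_zero_of_natDegree_lt (by omega), mul_zero, map_zero]

/-- Elements forming a basis after inverting a nonzero element of a Noetherian domain. -/
theorem exists_basisAway_domain {A B : Type u} [CommRing A] [IsDomain A] [IsNoetherianRing A] [CommRing B]
    [Algebra A B] [Module.Finite A B] :
    ∃ (n : ℕ) (r : A) (x : Fin n → B), r ≠ 0 ∧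
      (∀ z : B, ∃ (N : ℕ) (a : Fin n → A), r ^ N • z = ∑ k, a k • x k) ∧
      ∀ a : Fin n → A, ∑ k, a k • x k = 0 → ∃ N : ℕ, ∀ k, r ^ N * a k = 0 := by
  haveI : Module.FinitePresentation A B := Module.finitePresentation_of_finite A B
  haveI : Module.Free (FractionRing A) (LocalizedModule (nonZeroDivisors A) B) := Module.Free.of_divisionRing _ _
  obtain ⟨r, hr, hfree, hrank⟩ := Module.FinitePresentation.exists_free_localizedModule_powers
    (nonZeroDivisors A) (LocalizedModule.mkLinearMap (nonZeroDivisors A) B) (FractionRing A)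
  haveI : Nontrivial (Localization (Submonoid.powers r)) :=
    (show Localization (Submonoid.powers r) →+* FractionRing A from
      IsLocalization.map (M := Submonoid.powers r) (T := nonZeroDivisors A) _ (RingHom.id _)
        (Submonoid.powers_le.mpr hr)).domain_nontrivial
  let f := LocalizedModule.mkLinearMap (Submonoid.powers r) B
  let b : Module.Basis (Fin (Module.finrank (FractionRing A) (LocalizedModule (nonZeroDivisors A) B)))
      (Localization (Submonoid.powers r)) (LocalizedModule.Away r B) := Module.finBasisOfFinrankEq _ _ hrank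
  obtain ⟨⟨_, e, rfl⟩, hxs⟩ := IsLocalizedModule.exist_integer_multiples_of_finite (Submonoid.powers r) f b
  choose x hx using hxs
  have hx' : ∀ k, f (x k) = (r ^ e) • b k := hx
  refine ⟨_, r, x, nonZeroDivisors.ne_zero hr, fun z => ?_, fun a ha => ?_⟩
  · obtain ⟨⟨_, M, rfl⟩, hM⟩ := IsLocalization.exist_integer_multiples_of_finite (Submonoid.powers r)
      (fun k => b.repr (f z) k)
    choose c hc' using hM
    have hc : ∀ k, algebraMap A (Localization (Submonoid.powers r)) (c k) = r ^ M • b.repr (f z) k := hc'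
    have h1 : f (r ^ (M + e) • z) = f (∑ k, c k • x k) := by
      rw [map_smul, map_sum]
      conv_lhs => rw [← b.sum_repr (f z)]
      rw [Finset.smul_sum]
      refine Finset.sum_congr rfl fun k _ => ?_
      rw [map_smul, hx', ← algebraMap_smul (Localization (Submonoid.powers r)) (c k),
        hc k, smul_assoc, pow_add, mul_smul]
      exact congrArg _ (smul_comm _ _ _)
    obtain ⟨⟨_, K, rfl⟩, hK⟩ := IsLocalizedModule.exists_of_eq (S := Submonoid.powers r) h1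
    refine ⟨K + (M + e), fun k => r ^ K * c k, ?_⟩
    rw [pow_add, mul_smul]
    refine hK.trans ?_
    rw [Submonoid.smul_def, Finset.smul_sum]
    simp only [smul_smul]
  · have h1 : ∑ k, algebraMap A (Localization (Submonoid.powers r)) (r ^ e * a k) • b k = 0 := by
      rw [← map_zero f, ← ha, map_sum]
      refine Finset.sum_congr rfl fun k _ => ?_
      rw [map_smul, hx', algebraMap_smul, ← mul_smul, mul_comm]
    have h2 := fun k => Fintype.linearIndependent_iff.1 b.linearIndependent _ h1 k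
    have h4 : ∀ k, ∃ N : ℕ, r ^ N * (r ^ e * a k) = 0 := fun k => by
      obtain ⟨⟨_, N, rfl⟩, hN⟩ :=
        (IsLocalization.map_eq_zero_iff (Submonoid.powers r) (Localization (Submonoid.powers r)) _).1 (h2 k)
      exact ⟨N, hN⟩
    choose N hN using h4
    refine ⟨Finset.univ.sup N + e, fun k => ?_⟩
    obtain ⟨l, hl⟩ := Nat.exists_eq_add_of_le (Finset.le_sup (f := N) (Finset.mem_univ k))
    rw [hl, show r ^ (N k + l + e) * a k = r ^ l * (r ^ N k * (r ^ e * a k)) by ring, hN, mul_zero]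

variable {X Y : Scheme.{u}} {π : X ⟶ Y}

theorem exists_genericPoint_specializes (y : Y) : ∃ η ∈ genericPoints Y, η ⤳ y := by
  let C : irreducibleComponents Y := ⟨irreducibleComponent y, irreducibleComponent_mem_irreducibleComponents y⟩
  exact ⟨_, (genericPoints.ofComponent C).2,
    (genericPoints.isGenericPoint_ofComponent C).specializes (mem_irreducibleComponent)⟩

theorem eq_of_specializes_genericPoint {η z : Y} (hη : η ∈ genericPoints Y) (h : z ⤳ η) : z = η := by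
  have h1 : closure {η} ⊆ closure ({z} : Set Y) :=
    isClosed_closure.closure_subset_iff.2 (Set.singleton_subset_iff.2 (specializes_iff_mem_closure.1 h))
  have h2 : closure ({z} : Set Y) ⊆ closure {η} := hη.2 (isIrreducible_singleton.closure) h1
  exact (h.antisymm (specializes_iff_mem_closure.2 (h2 (subset_closure rfl)))).eq

theorem finite_genericPoints [IsNoetherian Y] : (genericPoints Y).Finite := by
  haveI : Finite (irreducibleComponents Y) := NoetherianSpace.finite_irreducibleComponents.to_subtype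
  exact @Set.toFinite _ _ (Finite.of_injective genericPoints.component genericPoints.component_injective)

theorem exists_domain_nhd [IsLocallyNoetherian Y] {y : Y} [IsDomain (Y.presheaf.stalk y)] {U : Y.Opens}
    (hy : y ∈ U) : ∃ W : Y.Opens, IsAffineOpen W ∧ y ∈ W ∧ W ≤ U ∧ IsDomain Γ(Y, W) := by
  obtain ⟨V, hV, hyV, hd⟩ := Groth.L21.SmoothDescent.exists_isAffineOpen_isDomain y
  obtain ⟨g, hg, hyg⟩ := hV.exists_basicOpen_le ⟨y, hy⟩ hyV
  haveI := hV.isLocalization_basicOpen g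
  refine ⟨_, hV.basicOpen g, hyg, hg, IsLocalization.isDomain_of_le_nonZeroDivisors (R := Γ(Y, V))
    (M := Submonoid.powers g) Γ(Y, Y.basicOpen g) (Submonoid.powers_le.2 (mem_nonZeroDivisors_of_ne_zero ?_))⟩
  rintro rfl
  rw [Scheme.basicOpen_zero] at hyg
  exact hyg.elim

theorem mem_of_nonempty {W : Y.Opens} (hW : IsAffineOpen W) [IsDomain Γ(Y, W)] {r : Γ(Y, W)} (hr : r ≠ 0)
    {η : Y} (hη : η ∈ genericPoints Y) (hηW : η ∈ W) : η ∈ Y.basicOpen r := by
  have h1 : hW.fromSpec ⟨⊥, Ideal.isPrime_bot⟩ ⤳ hW.fromSpec (hW.primeIdealOf ⟨η, hηW⟩) := by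
    refine Specializes.map ?_ hW.fromSpec.continuous
    exact (PrimeSpectrum.le_iff_specializes _ _).1 (bot_le (a := (hW.primeIdealOf ⟨η, hηW⟩).asIdeal))
  rw [hW.fromSpec_primeIdealOf] at h1
  rw [← eq_of_specializes_genericPoint hη h1]
  have : (⟨⊥, Ideal.isPrime_bot⟩ : PrimeSpectrum Γ(Y, W)) ∈ hW.fromSpec ⁻¹ᵁ Y.basicOpen r := by
    rw [hW.fromSpec_preimage_basicOpen]
    exact fun h => hr h
  exact this

theorem exists_goodBasis_domain [IsLocallyNoetherian Y] [IsFinite π] {W : Y.Opens} (hW : IsAffineOpen W)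
    [IsDomain Γ(Y, W)] :
    ∃ (r : Γ(Y, W)) (n : ℕ) (c : Fin n → Γ(X, π ⁻¹ᵁ Y.basicOpen r)), r ≠ 0 ∧ IsGoodBasis π c := by
  haveI : IsNoetherianRing Γ(Y, W) := IsLocallyNoetherian.component_noetherian ⟨W, hW⟩
  letI := (π.app W).hom.toAlgebra
  haveI : Module.Finite Γ(Y, W) Γ(X, π ⁻¹ᵁ W) := IsFinite.finite_app π W hW
  obtain ⟨n, r, x, hr, h1, h2⟩ := exists_basisAway_domain (A := Γ(Y, W)) (B := Γ(X, π ⁻¹ᵁ W))
  exact ⟨r, n, _, hr, IsBasisAway.isGoodBasis hW (x := x) (r := r) ⟨h1, h2⟩⟩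

theorem exists_goodBasis_genericPoint [IsLocallyNoetherian Y] [IsReduced Y] [IsFinite π] {η : Y}
    (hη : η ∈ genericPoints Y) :
    ∃ (V : Y.Opens) (n : ℕ) (c : Fin n → Γ(X, π ⁻¹ᵁ V)), η ∈ V ∧ IsGoodBasis π c := by
  haveI : IsDomain (Y.presheaf.stalk η) := (isField_stalk_of_closure_mem_irreducibleComponents Y η hη).isDomain
  obtain ⟨W, hW, hηW, -, hd⟩ := exists_domain_nhd (Opens.mem_top η)
  obtain ⟨r, n, c, hr, hc⟩ := exists_goodBasis_domain (π := π) hW
  exact ⟨_, n, c, mem_of_nonempty hW hr hη hηW, hc⟩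

theorem exists_goodBasis_of_restrict {T : Y.Opens} {y : Y} (hy : y ∈ T)
    (h : FlatMod.IsFinLocFree (((Coh.push π).obj (Coh.structureModule X)).restrict T.ι)) :
    ∃ (V : Y.Opens) (n : ℕ) (c : Fin n → Γ(X, π ⁻¹ᵁ V)), y ∈ V ∧ IsGoodBasis π c := by
  obtain ⟨U, n, hyU, ⟨e⟩⟩ := h ⟨y, hy⟩
  obtain ⟨e'⟩ := Groth.L19.PullChart.exists_free_of_chart ((Coh.push π).obj (Coh.structureModule X))
    (U.ι ≫ T.ι) ((Scheme.Modules.restrictFunctorComp U.ι T.ι).app _ ≪≫ e)
  obtain ⟨s, hs⟩ := Groth.L17.FinLocBases.exists_isBasis _ e'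
  refine ⟨(U.ι ≫ T.ι).opensRange.ι ''ᵁ ⊤, n, _, ?_, isGoodBasis_of_isBasis hs⟩
  exact ⟨⟨y, ⟨⟨⟨y, hy⟩, hyU⟩, rfl⟩⟩, trivial, rfl⟩

/-- The defining property of the norm of a function. -/
def IsNorm (π : X ⟶ Y) (m : ℕ) (U : Y.Opens) (s : Γ(X, π ⁻¹ᵁ U)) (a : Γ(Y, U)) : Prop :=
  ∀ (V : Y.Opens) (h : V ≤ U) (n : ℕ) (c : Fin n → Γ(X, π ⁻¹ᵁ V)), IsGoodBasis π c →
    ro h a = nrmHom π V (ro (fun _ hx => h hx : π ⁻¹ᵁ V ≤ π ⁻¹ᵁ U) s) ^ (m / n)

theorem IsNorm.res {m : ℕ} {U V : Y.Opens} {s : Γ(X, π ⁻¹ᵁ U)} {a : Γ(Y, U)} (ha : IsNorm π m U s a) (h : V ≤ U) :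
    IsNorm π m V (ro (fun _ hx => h hx : π ⁻¹ᵁ V ≤ π ⁻¹ᵁ U) s) (ro h a) := fun V' h' n c hc => by
  rw [ro_ro, ha V' (h'.trans h) n c hc, ro_ro]

theorem goodBasis_res {W : Y.Opens} {n : ℕ} {c : Fin n → Γ(X, π ⁻¹ᵁ W)} (hc : IsGoodBasis π c) {V : Y.Opens}
    (h : V ≤ W) : IsGoodBasis π fun i => ro (fun _ hx => h hx : π ⁻¹ᵁ V ≤ π ⁻¹ᵁ W) (c i) := fun V' h' => by
  simp only [ro_ro]
  exact hc V' (h'.trans h)

theorem nrm_pow_congr {W W' : Y.Opens} {n n' : ℕ} {c : Fin n → Γ(X, π ⁻¹ᵁ W)} {c' : Fin n' → Γ(X, π ⁻¹ᵁ W')}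
    (hc : IsGoodBasis π c) (hc' : IsGoodBasis π c') {V : Y.Opens} (h : V ≤ W) (h' : V ≤ W') (m : ℕ)
    (z : Γ(X, π ⁻¹ᵁ V)) : nrmHom π V z ^ (m / n) = nrmHom π V z ^ (m / n') := by
  rcases subsingleton_or_nontrivial Γ(Y, V) with hV | hV
  · exact Subsingleton.elim _ _
  · rw [eq_rank hc hc' h h']

section
variable [IsNoetherian Y] [IsReduced Y] [IsFinite π]

theorem IsNorm.unique {m : ℕ} {U : Y.Opens} {s : Γ(X, π ⁻¹ᵁ U)} {a b : Γ(Y, U)} (ha : IsNorm π m U s a)
    (hb : IsNorm π m U s b) : a = b := by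
  refine sub_eq_zero.1 ((basicOpen_eq_bot_iff _).1 (le_bot_iff.1 fun y hy => ?_))
  obtain ⟨η, hη, hηy⟩ := exists_genericPoint_specializes y
  obtain ⟨V, n, c, hηV, hc⟩ := exists_goodBasis_genericPoint (π := π) hη
  let W : Y.Opens := V ⊓ Y.basicOpen (a - b)
  have hW : W ≤ U := inf_le_right.trans (Y.basicOpen_le _)
  have hηW : η ∈ W := ⟨hηV, hηy.mem_open (Y.basicOpen (a - b)).2 hy⟩
  have h0 : ro hW (a - b) = 0 := by
    rw [show ro hW (a - b) = ro hW a - ro hW b from map_sub _ _ _, ha W hW n _ (goodBasis_res hc inf_le_left),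
      hb W hW n _ (goodBasis_res hc inf_le_left), sub_self]
  have h1 := congrArg Y.basicOpen h0
  rw [Scheme.basicOpen_zero, Scheme.basicOpen_res] at h1
  exact (h1.le ⟨hηW, hηW.2⟩).elim

omit [IsReduced Y] in
/-- The norm near a point with free direct image. -/
theorem exists_norm_free (m : ℕ) (hm : ∀ (V : Y.Opens) (n : ℕ) (c : Fin n → Γ(X, π ⁻¹ᵁ V)),
      IsGoodBasis π c → (V : Set Y).Nonempty → 0 < m / n)
    {U : Y.Opens} (s : Γ(X, π ⁻¹ᵁ U)) {y : Y} (hyU : y ∈ U)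
    {V : Y.Opens} {n : ℕ} {c : Fin n → Γ(X, π ⁻¹ᵁ V)} (hyV : y ∈ V) (hc : IsGoodBasis π c) :
    ∃ (O : Y.Opens) (h : O ≤ U) (a : Γ(Y, O)), y ∈ O ∧
      IsNorm π m O (ro (fun _ hx => h hx : π ⁻¹ᵁ O ≤ π ⁻¹ᵁ U) s) a ∧
      ∀ x, π x = y → y ∈ Y.basicOpen a → x ∈ X.basicOpen s := by
  let O : Y.Opens := V ⊓ U
  refine ⟨O, inf_le_right, nrmHom π O (ro (fun _ hx => hx.2 : π ⁻¹ᵁ O ≤ π ⁻¹ᵁ U) s) ^ (m / n), ⟨hyV, hyU⟩,
    fun V' h n' c' hc' => ?_, fun x hx hy => ?_⟩
  · rw [show ro h (nrmHom π O _ ^ (m / n)) = ro h (nrmHom π O _) ^ (m / n) from map_pow _ _ _,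
      nrmHom_ro hc inf_le_left h]
    exact nrm_pow_congr hc hc' (h.trans inf_le_left) le_rfl m _
  · subst hx
    set a₀ := nrmHom π O (ro (fun _ hx => hx.2 : π ⁻¹ᵁ O ≤ π ⁻¹ᵁ U) s)
    rw [Scheme.basicOpen_pow _ _ (hm V n c hc ⟨_, hyV⟩)] at hy
    let O' := Y.basicOpen a₀
    have hO' : O' ≤ O := Y.basicOpen_le _
    have hu : IsUnit (ro hO' a₀) := RingedSpace.isUnit_res_basicOpen Y.toRingedSpace a₀
    rw [nrmHom_ro hc inf_le_left hO', ro_ro] at hu
    have h2 := isUnit_of_nrmHom hc (hO'.trans inf_le_left) _ hu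
    have h3 := X.basicOpen_of_isUnit h2
    rw [Scheme.basicOpen_res] at h3
    exact (h3.ge hy).2

/-- The norm near a normal point. -/
theorem exists_norm_normal (m : ℕ) (hm : ∀ (V : Y.Opens) (n : ℕ) (c : Fin n → Γ(X, π ⁻¹ᵁ V)),
      IsGoodBasis π c → (V : Set Y).Nonempty → 0 < m / n)
    {U : Y.Opens} (s : Γ(X, π ⁻¹ᵁ U)) {y : Y} (hyU : y ∈ U) [IsDomain (Y.presheaf.stalk y)]
    [IsIntegrallyClosed (Y.presheaf.stalk y)] :
    ∃ (O : Y.Opens) (h : O ≤ U) (a : Γ(Y, O)), y ∈ O ∧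
      IsNorm π m O (ro (fun _ hx => h hx : π ⁻¹ᵁ O ≤ π ⁻¹ᵁ U) s) a ∧
      ∀ x ∈ closure (π ⁻¹' genericPoints Y), π x = y → y ∈ Y.basicOpen a → x ∈ X.basicOpen s := by
  classical
  obtain ⟨W, hW, hyW, hWU, hd⟩ := exists_domain_nhd (y := y) hyU
  obtain ⟨r, n, c, hr, hc⟩ := exists_goodBasis_domain (π := π) hW
  set V₀ := Y.basicOpen r
  have hV₀W : V₀ ≤ W := Y.basicOpen_le r
  haveI : IsNoetherianRing Γ(Y, W) := IsLocallyNoetherian.component_noetherian ⟨W, hW⟩
  haveI : IsLocalization.Away r Γ(Y, V₀) := hW.isLocalization_basicOpen r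
  let p := (hW.primeIdealOf ⟨y, hyW⟩).asIdeal
  letI := Y.presheaf.algebra_section_stalk ⟨y, hyW⟩
  haveI := hW.isLocalization_stalk ⟨y, hyW⟩
  haveI : IsIntegrallyClosed (Localization.AtPrime p) :=
    IsIntegrallyClosed.of_equiv
      (IsLocalization.algEquiv p.primeCompl (Y.presheaf.stalk y) (Localization.AtPrime p)).toRingEquiv
  letI := (π.app W).hom.toAlgebra
  haveI : Module.Finite Γ(Y, W) Γ(X, π ⁻¹ᵁ W) := IsFinite.finite_app π W hW
  letI := (π.app V₀).hom.toAlgebra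
  obtain ⟨b, -⟩ := hc.basis (le_refl V₀)
  letI : Algebra Γ(Y, W) Γ(X, π ⁻¹ᵁ V₀) := ((π.app V₀).hom.comp (algebraMap Γ(Y, W) Γ(Y, V₀))).toAlgebra
  haveI : IsScalarTower Γ(Y, W) Γ(Y, V₀) Γ(X, π ⁻¹ᵁ V₀) := IsScalarTower.of_algebraMap_eq fun _ => rfl
  let sW : Γ(X, π ⁻¹ᵁ W) := ro (fun _ hx => hWU hx : π ⁻¹ᵁ W ≤ π ⁻¹ᵁ U) s
  let s₀ : Γ(X, π ⁻¹ᵁ V₀) := ro (fun _ hx => hV₀W hx : π ⁻¹ᵁ V₀ ≤ π ⁻¹ᵁ W) sW
  let e : Γ(X, π ⁻¹ᵁ W) →ₐ[Γ(Y, W)] Γ(X, π ⁻¹ᵁ V₀) :=
    { (X.presheaf.map (homOfLE (fun _ hx => hV₀W hx : π ⁻¹ᵁ V₀ ≤ π ⁻¹ᵁ W)).op).hom with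
      commutes' := fun a => (app_ro (π := π) hV₀W a).symm }
  obtain ⟨p₀, hp₀, hp₀s⟩ := IsIntegral.of_finite Γ(Y, W) sW
  have h0 : aeval s₀ p₀ = 0 := by
    rw [show s₀ = e sW from rfl, aeval_algHom_apply, aeval_def, hp₀s, map_zero]
  let lm := ((Algebra.leftMulMatrix b).restrictScalars Γ(Y, W))
  let M : Matrix (Fin n) (Fin n) Γ(Y, V₀) := lm s₀
  let M' : Matrix (ULift.{u} (Fin n)) (ULift.{u} (Fin n)) Γ(Y, V₀) := M.submatrix Equiv.ulift Equiv.ulift
  have hM' : aeval M' p₀ = 0 := by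
    have h1 : aeval M p₀ = 0 := by rw [aeval_algHom_apply, h0, map_zero]
    have h2 := aeval_algHom_apply
      (Matrix.reindexAlgEquiv Γ(Y, W) Γ(Y, V₀) (Equiv.ulift.{u}.symm : Fin n ≃ ULift.{u} (Fin n))).toAlgHom M p₀
    rw [h1, map_zero] at h2
    exact h2
  have hMM : M'.charpoly = M.charpoly := Matrix.charpoly_reindex (Equiv.ulift.{u}.symm) M
  obtain ⟨t, htp, hta⟩ := exists_denominator hr p M' hp₀ hM'
  rw [hMM] at hta
  choose α hα using hta
  set χ := M.charpoly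
  let O := Y.basicOpen t
  have hOW : O ≤ W := Y.basicOpen_le t
  have hyO : y ∈ O := by
    have h : hW.primeIdealOf ⟨y, hyW⟩ ∈ hW.fromSpec ⁻¹ᵁ Y.basicOpen t := by
      rw [hW.fromSpec_preimage_basicOpen]; exact htp
    have h' : hW.fromSpec (hW.primeIdealOf ⟨y, hyW⟩) ∈ Y.basicOpen t := h
    rwa [hW.fromSpec_primeIdealOf] at h'
  obtain ⟨τ, hτ⟩ := (show IsUnit (ro hOW t) from RingedSpace.isUnit_res_basicOpen Y.toRingedSpace t).exists_right_inv
  let γ : ℕ → Γ(Y, O) := fun i => ro hOW (α i) * τ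
  have hγ : ∀ i, ro (inf_le_left : O ⊓ V₀ ≤ O) (γ i) = ro (inf_le_right : O ⊓ V₀ ≤ V₀) (χ.coeff i) := by
    intro i
    have h1 := congrArg (ro (inf_le_right : O ⊓ V₀ ≤ V₀)) (hα i)
    change ro _ (ro hV₀W (α i)) = ro _ (ro hV₀W t * χ.coeff i) at h1
    rw [ro_mul, ro_ro, ro_ro] at h1
    have h2 := congrArg (ro (inf_le_left : O ⊓ V₀ ≤ O)) hτ
    rw [ro_mul, ro_ro, show ro (inf_le_left : O ⊓ V₀ ≤ O) (1 : Γ(Y, O)) = 1 from map_one _] at h2
    show ro inf_le_left (ro hOW (α i) * τ) = _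
    rw [ro_mul, ro_ro, h1, mul_right_comm, h2, one_mul]
  have hOU : O ≤ U := hOW.trans hWU
  refine ⟨O, hOU, ((-1) ^ n * γ 0) ^ (m / n), hyO, fun V h n' c' hc' => ?_, fun x hxD hx hy => ?_⟩
  · -- the defining property
    have key : ∀ (V' : Y.Opens) (h1 : V' ≤ O) (h2 : V' ≤ V₀),
        ro h1 (((-1) ^ n * γ 0) ^ (m / n)) =
          nrmHom π V' (ro (fun _ hx => (hOU (h1 hx)) : π ⁻¹ᵁ V' ≤ π ⁻¹ᵁ U) s) ^ (m / n) := by
      intro V' h1 h2
      have e1 : ro h1 (((-1) ^ n * γ 0) ^ (m / n)) = ((-1) ^ n * ro h1 (γ 0)) ^ (m / n) := by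
        show Y.presheaf.map (homOfLE h1).op _ = _
        rw [map_pow, map_mul, map_pow, map_neg, map_one]
      have e2 : ro h1 (γ 0) = ro h2 (χ.coeff 0) := by
        rw [← ro_ro (inf_le_left : O ⊓ V₀ ≤ O) (le_inf h1 h2), hγ, ro_ro]
      have e3 : nrmHom π V₀ s₀ = (-1) ^ n * χ.coeff 0 := by
        show Algebra.norm Γ(Y, V₀) s₀ = _
        rw [Algebra.norm_eq_matrix_det b, Matrix.det_eq_sign_charpoly_coeff, Fintype.card_fin]
        rfl
      have e4 : nrmHom π V' (ro (fun _ hx => (hOU (h1 hx)) : π ⁻¹ᵁ V' ≤ π ⁻¹ᵁ U) s) = ro h2 (nrmHom π V₀ s₀) := by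
        rw [nrmHom_ro hc le_rfl h2]
        simp only [s₀, sW, ro_ro]
      rw [e1, e2, e4, e3]
      show _ = Y.presheaf.map (homOfLE h2).op _ ^ _
      rw [map_mul, map_pow, map_neg, map_one]
    refine sub_eq_zero.1 ((basicOpen_eq_bot_iff _).1 (le_bot_iff.1 fun z hz => ?_))
    obtain ⟨η, hη, hηz⟩ := exists_genericPoint_specializes z
    have hzV : z ∈ V := Y.basicOpen_le _ hz
    have hηW : η ∈ W := hOW (h (hηz.mem_open V.2 hzV))
    set δ := ro h (((-1) ^ n * γ 0) ^ (m / n)) -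
      nrmHom π V (ro (fun _ hx => h hx : π ⁻¹ᵁ V ≤ π ⁻¹ᵁ O) (ro (fun _ hx => hOU hx : π ⁻¹ᵁ O ≤ π ⁻¹ᵁ U) s)) ^ (m / n')
    let V' : Y.Opens := Y.basicOpen δ ⊓ V₀
    have hV'V : V' ≤ V := inf_le_left.trans (Y.basicOpen_le δ)
    have h0 : ro hV'V δ = 0 := by
      show Y.presheaf.map (homOfLE hV'V).op _ = _
      rw [map_sub, map_pow]
      show ro hV'V (ro h _) - ro hV'V (nrmHom π V _) ^ (m / n') = 0
      rw [ro_ro, key V' (hV'V.trans h) inf_le_right, nrmHom_ro hc' le_rfl hV'V, ro_ro, ro_ro,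
        nrm_pow_congr hc hc' (inf_le_right : V' ≤ V₀) hV'V m, sub_self]
    have h1 := congrArg Y.basicOpen h0
    rw [Scheme.basicOpen_zero, Scheme.basicOpen_res] at h1
    have hηV' : η ∈ V' := ⟨hηz.mem_open (Y.basicOpen δ).2 hz, mem_of_nonempty hW hr hη hηW⟩
    exact (h1.le ⟨hηV', hηV'.1⟩).elim
  · -- detection
    by_contra hxs
    subst hx
    rw [Scheme.basicOpen_pow _ _ (hm _ n _ hc ?ne)] at hy
    case ne =>
      obtain ⟨η, hη, hηy⟩ := exists_genericPoint_specializes (π x)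
      exact ⟨η, mem_of_nonempty hW hr hη (hOW (hηy.mem_open O.2 hyO))⟩
    have hxO : x ∈ π ⁻¹ᵁ O := hyO
    let sO : Γ(X, π ⁻¹ᵁ O) := ro (fun _ hx => hOW hx : π ⁻¹ᵁ O ≤ π ⁻¹ᵁ W) sW
    let Pγ : Polynomial Γ(Y, O) := ∑ i ∈ Finset.range (χ.natDegree + 1), C (γ i) * Polynomial.X ^ i
    let hh : Γ(X, π ⁻¹ᵁ O) := Pγ.eval₂ (π.app O).hom sO
    -- it vanishes over `O ⊓ V₀`
    let j : Γ(X, π ⁻¹ᵁ O) →+* Γ(X, π ⁻¹ᵁ (O ⊓ V₀)) :=
      (X.presheaf.map (homOfLE (fun _ hx => hx.1 : π ⁻¹ᵁ (O ⊓ V₀) ≤ π ⁻¹ᵁ O)).op).hom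
    let j₀ : Γ(X, π ⁻¹ᵁ V₀) →+* Γ(X, π ⁻¹ᵁ (O ⊓ V₀)) :=
      (X.presheaf.map (homOfLE (fun _ hx => hx.2 : π ⁻¹ᵁ (O ⊓ V₀) ≤ π ⁻¹ᵁ V₀)).op).hom
    have hcayley : χ.eval₂ (π.app V₀).hom s₀ = 0 := by
      have h1 : aeval M χ = 0 := Matrix.aeval_self_charpoly M
      rw [show aeval M χ = aeval ((Algebra.leftMulMatrix b) s₀) χ from rfl, aeval_algHom_apply] at h1
      exact (map_eq_zero_iff _ (Algebra.leftMulMatrix_injective b)).1 h1
    have hjh : j hh = 0 := by
      show j (Pγ.eval₂ (π.app O).hom sO) = 0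
      rw [Polynomial.hom_eval₂]
      have e1 : j.comp (π.app O).hom = (π.app (O ⊓ V₀)).hom.comp (Y.presheaf.map (homOfLE (inf_le_left : O ⊓ V₀ ≤ O)).op).hom :=
        RingHom.ext fun a => (app_ro (π := π) inf_le_left a).symm
      have e2 : j₀.comp (π.app V₀).hom = (π.app (O ⊓ V₀)).hom.comp (Y.presheaf.map (homOfLE (inf_le_right : O ⊓ V₀ ≤ V₀)).op).hom :=
        RingHom.ext fun a => (app_ro (π := π) inf_le_right a).symm
      have e3 : Pγ.map (Y.presheaf.map (homOfLE (inf_le_left : O ⊓ V₀ ≤ O)).op).hom =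
          χ.map (Y.presheaf.map (homOfLE (inf_le_right : O ⊓ V₀ ≤ V₀)).op).hom := by
        conv_rhs => rw [χ.as_sum_range_C_mul_X_pow, Polynomial.map_sum]
        rw [Polynomial.map_sum]
        refine Finset.sum_congr rfl fun i _ => ?_
        rw [Polynomial.map_mul, Polynomial.map_mul, Polynomial.map_pow, Polynomial.map_pow, map_X, map_X, map_C, map_C]
        exact congrArg (fun z => C z * Polynomial.X ^ i) (hγ i)
      have e4 : j sO = j₀ s₀ := by
        show ro _ (ro _ sW) = ro _ (ro _ sW)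
        simp only [sW, ro_ro]
      rw [e1, ← Polynomial.eval₂_map, e3, Polynomial.eval₂_map, ← e2, e4, ← Polynomial.hom_eval₂, hcayley, map_zero]
    -- hence at `x`
    obtain ⟨ξ, hξ, hξx⟩ : ∃ ξ ∈ π ⁻¹' genericPoints Y, ξ ⤳ x := by
      have hfin : (π ⁻¹' genericPoints Y).Finite :=
        finite_genericPoints.preimage' fun y _ => π.finite_preimage_singleton y
      rw [← Set.biUnion_of_singleton (π ⁻¹' genericPoints Y), hfin.closure_biUnion] at hxD
      obtain ⟨ξ, hξ, hx'⟩ := Set.mem_iUnion₂.1 hxD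
      exact ⟨ξ, hξ, specializes_iff_mem_closure.2 hx'⟩
    have hxh : x ∉ X.basicOpen hh := by
      intro hx'
      have hξO : π ξ ∈ O := (hξx.map π.continuous).mem_open O.2 hyO
      have hξV : ξ ∈ π ⁻¹ᵁ (O ⊓ V₀) := ⟨hξO, mem_of_nonempty hW hr hξ (hOW hξO)⟩
      have h1 := congrArg X.basicOpen hjh
      rw [Scheme.basicOpen_zero, show X.basicOpen (j hh) = _ from Scheme.basicOpen_res X hh _] at h1
      exact h1.le ⟨hξV, hξx.mem_open (X.basicOpen hh).2 hx'⟩
    -- evaluate in the residue field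
    let φ : Γ(X, π ⁻¹ᵁ O) →+* X.residueField x :=
      (IsLocalRing.residue _).comp (X.presheaf.germ (π ⁻¹ᵁ O) x hxO).hom
    have hφh : φ hh = 0 :=
      (IsLocalRing.residue_eq_zero_iff _).2 ((IsLocalRing.mem_maximalIdeal _).2 fun hu => hxh ((X.mem_basicOpen hh x hxO).2 hu))
    have hφs : φ sO = 0 := by
      refine (IsLocalRing.residue_eq_zero_iff _).2 ((IsLocalRing.mem_maximalIdeal _).2 fun hu => hxs ?_)
      have h1 := (X.mem_basicOpen sO x hxO).2 hu
      rw [show X.basicOpen sO = _ from Scheme.basicOpen_res X sW _] at h1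
      have h2 := h1.2
      rw [show X.basicOpen sW = _ from Scheme.basicOpen_res X s _] at h2
      exact h2.2
    have hγ0 : φ (π.app O (γ 0)) = 0 := by
      change φ (Pγ.eval₂ (π.app O).hom sO) = 0 at hφh
      rw [Polynomial.hom_eval₂, hφs, Polynomial.eval₂_at_zero] at hφh
      rw [show Pγ.coeff 0 = γ 0 by
        simp only [Pγ, finsetSum_coeff, coeff_C_mul, coeff_X_pow]
        rw [Finset.sum_eq_single 0]
        · simp
        · intro b _ hb; simp [Ne.symm hb]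
        · simp] at hφh
      exact hφh
    have h5 := (IsLocalRing.residue_eq_zero_iff _).1 hγ0
    have h6 : π x ∈ Y.basicOpen (γ 0) := by
      rw [Scheme.basicOpen_mul] at hy
      exact hy.2
    have h7 : x ∈ X.basicOpen (π.app O (γ 0)) := by
      rw [← Scheme.preimage_basicOpen π (γ 0)]; exact h6
    exact (IsLocalRing.mem_maximalIdeal _).1 h5 ((X.mem_basicOpen _ x hxO).1 h7)

/-- A weak norm when every point is normal or free. -/
theorem exists_weakNorm [Surjective π]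
    (H : ∀ y : Y, (IsDomain (Y.presheaf.stalk y) ∧ IsIntegrallyClosed (Y.presheaf.stalk y)) ∨
      ∃ T : Y.Opens, y ∈ T ∧ FlatMod.IsFinLocFree (((Coh.push π).obj (Coh.structureModule X)).restrict T.ι)) :
    ∃ d, Nonempty (Groth.L18.NormDesc.WeakNorm π d) := by
  classical
  choose Vg ng cg hηg hcg using fun η : genericPoints Y => exists_goodBasis_genericPoint (π := π) η.2
  haveI : Fintype (genericPoints Y) := finite_genericPoints.fintype
  let m := ∏ η, ng η
  have hpos : ∀ η, 0 < ng η := fun η => by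
    obtain ⟨x, hx⟩ := π.surjective η.1
    exact pos_rank (hcg η) (show π x ∈ Vg η by rw [hx]; exact hηg η)
  have hm0 : 0 < m := Finset.prod_pos fun η _ => hpos η
  have hdvd : ∀ (V : Y.Opens) (n : ℕ) (c : Fin n → Γ(X, π ⁻¹ᵁ V)), IsGoodBasis π c → (V : Set Y).Nonempty →
      0 < n ∧ n ∣ m := by
    rintro V n c hc ⟨z, hz⟩
    obtain ⟨η, hη, hηz⟩ := exists_genericPoint_specializes z
    have hηV : η ∈ V := hηz.mem_open V.2 hz
    haveI : Nonempty (V ⊓ Vg ⟨η, hη⟩ : Y.Opens) := ⟨⟨η, hηV, hηg ⟨η, hη⟩⟩⟩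
    haveI : Nontrivial Γ(Y, V ⊓ Vg ⟨η, hη⟩) := by
      refine ⟨⟨0, 1, fun h => ?_⟩⟩
      have h1 := congrArg Y.basicOpen h
      rw [Scheme.basicOpen_zero, Y.basicOpen_of_isUnit isUnit_one] at h1
      exact (h1.ge ⟨hηV, hηg ⟨η, hη⟩⟩).elim
    rw [eq_rank hc (hcg ⟨η, hη⟩) (V := V ⊓ Vg ⟨η, hη⟩) inf_le_left inf_le_right]
    exact ⟨hpos _, Finset.dvd_prod_of_mem _ (Finset.mem_univ _)⟩
  have hm : ∀ (V : Y.Opens) (n : ℕ) (c : Fin n → Γ(X, π ⁻¹ᵁ V)), IsGoodBasis π c → (V : Set Y).Nonempty → 0 < m / n :=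
    fun V n c hc hV => Nat.div_pos (Nat.le_of_dvd hm0 (hdvd V n c hc hV).2) (hdvd V n c hc hV).1
  have loc : ∀ (U : Y.Opens) (s : Γ(X, π ⁻¹ᵁ U)) (y : U), ∃ (O : Y.Opens) (h : O ≤ U) (a : Γ(Y, O)), y.1 ∈ O ∧
      IsNorm π m O (ro (fun _ hx => h hx : π ⁻¹ᵁ O ≤ π ⁻¹ᵁ U) s) a ∧
      ∀ x ∈ closure (π ⁻¹' genericPoints Y), π x = y.1 → y.1 ∈ Y.basicOpen a → x ∈ X.basicOpen s := by
    intro U s y
    rcases H y.1 with ⟨h1, h2⟩ | ⟨T, hyT, hT⟩
    · exact exists_norm_normal m hm s y.2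
    · obtain ⟨V, n, c, hyV, hc⟩ := exists_goodBasis_of_restrict hyT hT
      obtain ⟨O, h, a, hyO, ha, hmem⟩ := exists_norm_free m hm s y.2 hyV hc
      exact ⟨O, h, a, hyO, ha, fun x _ => hmem x⟩
  choose O hOU aO hyO haO hmem using loc
  have glue : ∀ (U : Y.Opens) (s : Γ(X, π ⁻¹ᵁ U)), ∃ a : Γ(Y, U),
      (∀ y, ro (hOU U s y) a = aO U s y) ∧ IsNorm π m U s a := by
    intro U s
    have hcov : U ≤ ⨆ y, O U s y := fun y hy => Opens.mem_iSup.2 ⟨⟨y, hy⟩, hyO U s ⟨y, hy⟩⟩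
    obtain ⟨a, ha⟩ : ∃ a : Γ(Y, U), ∀ y, ro (hOU U s y) a = aO U s y :=
      (Y.sheaf.existsUnique_gluing' (O U s) U (fun y => homOfLE (hOU U s y)) hcov (aO U s)
        fun y z => by
          show ro (inf_le_left : O U s y ⊓ O U s z ≤ O U s y) (aO U s y) = ro inf_le_right (aO U s z)
          have h1 := (haO U s y).res (inf_le_left : O U s y ⊓ O U s z ≤ O U s y)
          have h2 := (haO U s z).res (inf_le_right : O U s y ⊓ O U s z ≤ O U s z)
          rw [ro_ro] at h1 h2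
          exact h1.unique h2).exists
    refine ⟨a, ha, fun V hV n c hc => ?_⟩
    refine Y.sheaf.eq_of_locally_eq' (fun y => V ⊓ O U s y) V (fun y => homOfLE inf_le_left)
      (fun y hy => Opens.mem_iSup.2 ⟨⟨y, hV hy⟩, hy, hyO U s ⟨y, hV hy⟩⟩) _ _ fun y => ?_
    show ro (inf_le_left : V ⊓ O U s y ≤ V) (ro hV a) = ro _ (_ ^ (m / n))
    rw [ro_ro, show ro (inf_le_left : V ⊓ O U s y ≤ V) (nrmHom π V _ ^ (m / n)) =
      ro (inf_le_left : V ⊓ O U s y ≤ V) (nrmHom π V _) ^ (m / n) from map_pow _ _ _,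
      nrmHom_ro hc le_rfl inf_le_left, ro_ro, ← ro_ro (hOU U s y) (inf_le_right : V ⊓ O U s y ≤ O U s y), ha y,
      haO U s y _ inf_le_right n _ (goodBasis_res hc inf_le_left), ro_ro]
  choose N hN hNn using glue
  refine ⟨m, ⟨{
    D := closure (π ⁻¹' genericPoints Y)
    exists_mem := fun y => ?_
    one_le := hm0
    norm := fun U =>
      { toFun := N U
        map_one' := (hNn U 1).unique fun V h n c hc => by
          rw [show ro h (1 : Γ(Y, U)) = 1 from map_one _, show ro _ (1 : Γ(X, π ⁻¹ᵁ U)) = 1 from map_one _, map_one,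
            one_pow]
        map_mul' := fun a b => (hNn U (a * b)).unique fun V h n c hc => by
          rw [ro_mul, ro_mul, map_mul, mul_pow, hNn U a V h n c hc, hNn U b V h n c hc] }
    norm_res := fun {U V} h s => ((hNn U s).res h).unique (hNn V _)
    norm_app := fun U g => (hNn U _).unique fun V h n c hc => ?_
    mem_of_mem := fun U s x hxD hx => ?_ }⟩⟩
  · obtain ⟨η, hη, hηy⟩ := exists_genericPoint_specializes y
    obtain ⟨ξ, hξ⟩ := π.surjective η
    have h1 : y ∈ π '' closure ({ξ} : Set X) := by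
      rw [← π.isClosedMap.closure_image_eq_of_continuous π.continuous, Set.image_singleton, hξ]
      exact specializes_iff_mem_closure.1 hηy
    obtain ⟨x, hx, rfl⟩ := h1
    exact ⟨x, closure_mono (Set.singleton_subset_iff.2 (show ξ ∈ π ⁻¹' genericPoints Y by show π ξ ∈ genericPoints Y; rw [hξ]; exact hη)) hx, rfl⟩
  · rw [show ro h (g ^ m) = ro h g ^ m from map_pow _ _ _, ← app_ro h g, nrmHom_app hc le_rfl, ← pow_mul]
    rcases (V : Set Y).eq_empty_or_nonempty with he | he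
    · obtain rfl : V = ⊥ := Opens.ext he
      exact Subsingleton.elim _ _
    · rw [Nat.mul_div_cancel' (hdvd V n c hc he).2]
  · refine hmem U s ⟨π x, Y.basicOpen_le _ hx⟩ x hxD rfl ?_
    rw [← hN U s ⟨π x, Y.basicOpen_le _ hx⟩, Scheme.basicOpen_res]
    exact ⟨hyO U s ⟨π x, Y.basicOpen_le _ hx⟩, hx⟩

end

end Groth.L18.NormMixed
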