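import Groth.Prelude.Def_Cone
import Groth.Prelude.Def_PCone
import Groth.Agent.L18.ProjMap
import Mathlib.AlgebraicGeometry.Morphisms.Affine

/-!
# The retractions of the pointed cones
-/

set_option autoImplicit false
universe u

open CategoryTheory CategoryTheory.Limits AlgebraicGeometry HomogeneousLocalization
open GradedFunLike (map_mem)

namespace Groth.L18.Cones

/-- Gluing along a family of affine charts closed under intersection. -/
lemma existsUnique_glue {T P : Scheme.{u}} {ι : Type*} (C : ι → CommRingCat.{u}) (c : ∀ i, Spec (C i) ⟶ T)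
    [∀ i, IsOpenImmersion (c i)] (hcov : ∀ z, ∃ i, z ∈ Set.range (c i)) (g : ∀ i, Spec (C i) ⟶ P)
    (H : ∀ i j, ∃ (k : ι) (α : C i ⟶ C k) (β : C j ⟶ C k),
      Spec.map α ≫ c i = c k ∧ Spec.map β ≫ c j = c k ∧
      Set.range (c i) ∩ Set.range (c j) ⊆ Set.range (c k) ∧ Spec.map α ≫ g i = Spec.map β ≫ g j) :
    ∃! π : T ⟶ P, ∀ i, c i ≫ π = g i := by
  choose σ hσ using hcov
  let 𝒰 : T.AffineOpenCover := { I₀ := T, X := fun z => C (σ z), f := fun z => c (σ z), idx := id, covers := hσ }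
  have compat : ∀ i j, pullback.fst (c i) (c j) ≫ g i = pullback.snd (c i) (c j) ≫ g j := by
    intro i j
    obtain ⟨k, α, β, hα, hβ, hr, hg⟩ := H i j
    have hsub : Set.range (pullback.fst (c i) (c j) ≫ c i) ⊆ Set.range (c k) := by
      rw [IsOpenImmersion.range_pullback_to_base_of_left]
      exact hr
    let l := IsOpenImmersion.lift (c k) (pullback.fst (c i) (c j) ≫ c i) hsub
    have e1 : pullback.fst (c i) (c j) = l ≫ Spec.map α := by
      rw [← cancel_mono (c i), Category.assoc, hα, IsOpenImmersion.lift_fac]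
    have e2 : pullback.snd (c i) (c j) = l ≫ Spec.map β := by
      rw [← cancel_mono (c j), Category.assoc, hβ, IsOpenImmersion.lift_fac, pullback.condition]
    rw [e1, e2, Category.assoc, Category.assoc, hg]
  refine ⟨𝒰.openCover.glueMorphisms (fun z => g (σ z)) (fun z w => compat _ _), fun i => ?_, fun π hπ => ?_⟩
  · refine Scheme.Cover.hom_ext (𝒰.openCover.pullback₁ (c i)) _ _ ?_
    intro z
    show pullback.fst (c i) (c (σ z)) ≫ c i ≫ _ = pullback.fst (c i) (c (σ z)) ≫ g i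
    rw [compat, pullback.condition_assoc]
    congr 1
    exact Scheme.Cover.ι_glueMorphisms 𝒰.openCover _ _ z
  · apply 𝒰.openCover.hom_ext
    intro z
    rw [Scheme.Cover.ι_glueMorphisms]
    exact hπ (σ z)

/-- Preimages of opens are checked on charts. -/
lemma preimage_eq_of_charts {T P : Scheme.{u}} {ι : Type*} {C : ι → Scheme.{u}} (c : ∀ i, C i ⟶ T)
    (hcov : ∀ z, ∃ i, z ∈ Set.range (c i)) (π : T ⟶ P) (U : P.Opens) (V : T.Opens)
    (h : ∀ i, c i ⁻¹ᵁ (π ⁻¹ᵁ U) = c i ⁻¹ᵁ V) : π ⁻¹ᵁ U = V := by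
  apply TopologicalSpace.Opens.ext
  ext z
  obtain ⟨i, w, rfl⟩ := hcov z
  exact SetLike.ext_iff.mp (h i) w

variable {R A B : Type u} [CommRing R] [CommRing A] [Algebra R A] {𝒜 : ℕ → Submodule R A} [GradedAlgebra 𝒜]
  [CommRing B] [Algebra R B] {ℬ : ℕ → Submodule R B} [GradedAlgebra ℬ] (φ : 𝒜 →+*ᵍ ℬ)

/-- Indices of the charts. -/
abbrev Idx (𝒜 : ℕ → Submodule R A) : Type u := {q : ℕ × A // 0 < q.1 ∧ q.2 ∈ 𝒜 q.1}

/-- The product index. -/
def Idx.mul (i j : Idx 𝒜) : Idx 𝒜 :=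
  ⟨(i.1.1 + j.1.1, i.1.2 * j.1.2), Nat.add_pos_left i.2.1 _, SetLike.mul_mem_graded i.2.2 j.2.2⟩

lemma exists_idx_notMem (P : ProjectiveSpectrum 𝒜) :
    ∃ q : Idx 𝒜, q.1.2 ∉ P.asHomogeneousIdeal := by
  classical
  by_contra hc
  push Not at hc
  refine P.not_irrelevant_le fun x hx => ?_
  rw [← DirectSum.sum_support_decompose 𝒜 x]
  refine Submodule.sum_mem _ fun d hd => ?_
  rcases Nat.eq_zero_or_pos d with rfl | hd0
  · rw [HomogeneousIdeal.mem_irrelevant_iff, GradedRing.proj_apply] at hx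
    rw [hx]; exact zero_mem _
  · exact hc ⟨(d, _), hd0, SetLike.coe_mem _⟩

/-- A homogeneous prime not containing the irrelevant ideal is determined by its positive degrees. -/
lemma ext_of_pos_degree {P Q : HomogeneousIdeal 𝒜} (hP : P.toIdeal.IsPrime) (hQ : Q.toIdeal.IsPrime)
    {d : ℕ} (hd : 0 < d) {f : A} (hf : f ∈ 𝒜 d) (hfP : f ∉ P.toIdeal) (hfQ : f ∉ Q.toIdeal)
    (h : ∀ (e : ℕ) (a : A), 0 < e → a ∈ 𝒜 e → (a ∈ P.toIdeal ↔ a ∈ Q.toIdeal)) : P = Q := by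
  classical
  have hh : ∀ (e : ℕ) (a : A), a ∈ 𝒜 e → (a ∈ P.toIdeal ↔ a ∈ Q.toIdeal) := by
    intro e a ha
    have h1 := h (e + d) (a * f) (Nat.add_pos_right _ hd) (SetLike.mul_mem_graded ha hf)
    constructor
    · intro haP
      exact (hQ.mem_or_mem (h1.mp (Ideal.mul_mem_right _ _ haP))).resolve_right hfQ
    · intro haQ
      exact (hP.mem_or_mem (h1.mpr (Ideal.mul_mem_right _ _ haQ))).resolve_right hfP
  apply HomogeneousIdeal.ext
  ext x
  constructor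
  · intro hx
    rw [← DirectSum.sum_support_decompose 𝒜 x]
    exact Submodule.sum_mem _ fun e _ => (hh e _ (SetLike.coe_mem _)).mp (P.isHomogeneous e hx)
  · intro hx
    rw [← DirectSum.sum_support_decompose 𝒜 x]
    exact Submodule.sum_mem _ fun e _ => (hh e _ (SetLike.coe_mem _)).mpr (Q.isHomogeneous e hx)

/-! ## The pointed projective cone -/

section PCone

lemma away_map_surjective_of_eventually {i : ℕ} (hi : 0 < i) {s : A} (hs : s ∈ 𝒜 i) (d₀ : ℕ)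
    (hbij : ∀ d : ℕ, d₀ ≤ d → Set.BijOn φ (𝒜 d) (ℬ d)) : Function.Surjective (Away.map φ s) := by
  intro x
  obtain ⟨n, b, hb, rfl⟩ := Away.mk_surjective ℬ (map_mem φ hs) x
  have hmem : φ s ^ d₀ * b ∈ ℬ ((d₀ + n) • i) := by
    rw [add_smul]
    exact SetLike.mul_mem_graded (SetLike.pow_mem_graded _ (map_mem φ hs)) hb
  have hle : d₀ ≤ (d₀ + n) • i := by
    rw [smul_eq_mul]
    exact le_trans (Nat.le_add_right _ _) (Nat.le_mul_of_pos_right _ hi)
  obtain ⟨a, ha, hab⟩ := (hbij _ hle).surjOn hmem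
  refine ⟨Away.mk 𝒜 hs (d₀ + n) a ha, ?_⟩
  rw [Away.map_mk]
  apply HomogeneousLocalization.val_injective
  rw [Away.val_mk, Away.val_mk, Localization.mk_eq_mk_iff, Localization.r_iff_exists]
  refine ⟨1, ?_⟩
  simp only [hab, OneMemClass.coe_one, one_mul]
  ring

lemma away_map_injective_of_eventually {i : ℕ} (hi : 0 < i) {s : A} (hs : s ∈ 𝒜 i) (d₀ : ℕ)
    (hbij : ∀ d : ℕ, d₀ ≤ d → Set.BijOn φ (𝒜 d) (ℬ d)) : Function.Injective (Away.map φ s) := by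
  rw [injective_iff_map_eq_zero]
  intro x hx
  obtain ⟨n, a, ha, rfl⟩ := Away.mk_surjective 𝒜 hs x
  rw [Away.map_mk] at hx
  have hx' := congrArg HomogeneousLocalization.val hx
  rw [Away.val_mk, HomogeneousLocalization.val_zero, Localization.mk_eq_mk',
    IsLocalization.mk'_eq_zero_iff] at hx'
  obtain ⟨⟨_, N, rfl⟩, hN⟩ := hx'
  simp only at hN
  have hmem : s ^ (N + d₀) * a ∈ 𝒜 ((N + d₀) • i + n • i) :=
    SetLike.mul_mem_graded (SetLike.pow_mem_graded _ hs) ha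
  have hle : d₀ ≤ (N + d₀) • i + n • i := by
    rw [smul_eq_mul, smul_eq_mul]
    exact le_trans (le_trans (Nat.le_add_left _ N) (Nat.le_mul_of_pos_right _ hi)) (Nat.le_add_right _ _)
  have h0 : s ^ (N + d₀) * a = 0 := (hbij _ hle).injOn hmem (zero_mem _) (by
    rw [map_mul, map_pow, map_zero, pow_add, mul_comm (φ s ^ N), mul_assoc, hN, mul_zero])
  apply HomogeneousLocalization.val_injective
  rw [Away.val_mk, HomogeneousLocalization.val_zero, Localization.mk_eq_mk',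
    IsLocalization.mk'_eq_zero_iff]
  exact ⟨⟨s ^ (N + d₀), N + d₀, rfl⟩, h0⟩

lemma pchart_ι {d : ℕ} {f : A} (hf : f ∈ 𝒜 d) (hd : 0 < d) :
    PCone.chart φ hf hd ≫ (PCone.dom φ).ι = Proj.awayι ℬ (φ f) (φ.2 hf) hd :=
  IsOpenImmersion.lift_fac _ _ _

instance {d : ℕ} {f : A} (hf : f ∈ 𝒜 d) (hd : 0 < d) : IsOpenImmersion (PCone.chart φ hf hd) :=
  haveI : IsOpenImmersion (PCone.chart φ hf hd ≫ (PCone.dom φ).ι) := by
    rw [pchart_ι]; infer_instance
  IsOpenImmersion.of_comp _ (PCone.dom φ).ι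

lemma mem_range_pchart {d : ℕ} {f : A} (hf : f ∈ 𝒜 d) (hd : 0 < d) (z : ↥(PCone.dom φ).toScheme) :
    z ∈ Set.range (PCone.chart φ hf hd) ↔ (PCone.dom φ).ι z ∈ Proj.basicOpen ℬ (φ f) := by
  rw [← Proj.opensRange_awayι ℬ (φ f) (φ.2 hf) hd]
  constructor
  · rintro ⟨w, rfl⟩
    exact ⟨w, by rw [← pchart_ι φ hf hd, Scheme.Hom.comp_apply]⟩
  · rintro ⟨w, hw⟩
    refine ⟨w, (PCone.dom φ).ι.isOpenEmbedding.injective ?_⟩
    rw [← Scheme.Hom.comp_apply, pchart_ι]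
    exact hw

lemma pchart_cover (z : ↥(PCone.dom φ).toScheme) :
    ∃ q : Idx 𝒜, z ∈ Set.range (PCone.chart φ q.2.2 q.2.1) := by
  have hz : z.1 ∈ PCone.dom φ := z.2
  obtain ⟨⟨f, d, hd, hf⟩, hfz⟩ := TopologicalSpace.Opens.mem_iSup.mp hz
  exact ⟨⟨(d, f), hd, hf⟩, (mem_range_pchart φ hf hd z).mpr hfz⟩

lemma compat_aux {d e : ℕ} {f g : A} (hd : 0 < d) (hf : f ∈ 𝒜 d) (hg : g ∈ 𝒜 e) {x : A} (hxA : x = f * g)
    (hx : φ x = φ f * φ g) (hmem : x ∈ 𝒜 (d + e)) :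
    Spec.map (CommRingCat.ofHom (awayMap ℬ (map_mem φ hg) hx)) ≫
      Spec.map (CommRingCat.ofHom (Away.map φ f)) ≫ Proj.awayι 𝒜 f hf hd =
    Spec.map (CommRingCat.ofHom (Away.map φ x)) ≫
      Proj.awayι 𝒜 x hmem (Nat.add_pos_left hd e) := by
  have h1 : CommRingCat.ofHom (Away.map φ f) ≫ CommRingCat.ofHom (awayMap ℬ (map_mem φ hg) hx) =
      CommRingCat.ofHom (awayMap 𝒜 hg hxA) ≫ CommRingCat.ofHom (Away.map φ x) := by
    refine CommRingCat.hom_ext (RingHom.ext fun z => ?_)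
    obtain ⟨n, a, ha, rfl⟩ := Away.mk_surjective 𝒜 hf z
    simp only [CommRingCat.hom_comp, CommRingCat.hom_ofHom, RingHom.comp_apply]
    rw [Away.map_mk, awayMap_mk, awayMap_mk, Away.map_mk]
    apply HomogeneousLocalization.val_injective
    simp only [Away.val_mk, map_mul, map_pow]
  rw [← Spec.map_comp_assoc, h1, Spec.map_comp_assoc, Proj.SpecMap_awayMap_awayι 𝒜 hf hd hg hxA]

theorem existsUnique_pmap :
    ∃! p : (PCone.dom φ : Scheme.{u}) ⟶ Proj 𝒜,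
      ∀ (d : ℕ) (f : A) (hd : 0 < d) (hf : f ∈ 𝒜 d), PCone.chart φ hf hd ≫ p =
        Spec.map (CommRingCat.ofHom (Away.map φ f)) ≫ Proj.awayι 𝒜 f hf hd := by
  obtain ⟨p, hp, huniq⟩ := existsUnique_glue (fun q : Idx 𝒜 => CommRingCat.of (Away ℬ (φ q.1.2)))
    (fun q => PCone.chart φ q.2.2 q.2.1) (pchart_cover φ)
    (fun q => Spec.map (CommRingCat.ofHom (Away.map φ q.1.2)) ≫ Proj.awayι 𝒜 q.1.2 q.2.2 q.2.1)
    (fun i j => by
      have hx : φ (i.1.2 * j.1.2) = φ i.1.2 * φ j.1.2 := map_mul φ _ _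
      have hx' : φ (i.1.2 * j.1.2) = φ j.1.2 * φ i.1.2 := hx.trans (mul_comm _ _)
      refine ⟨Idx.mul i j, CommRingCat.ofHom (awayMap ℬ (map_mem φ j.2.2) hx),
        CommRingCat.ofHom (awayMap ℬ (map_mem φ i.2.2) hx'), ?_, ?_, ?_, ?_⟩
      · rw [← cancel_mono (PCone.dom φ).ι, Category.assoc, pchart_ι, pchart_ι]
        exact Proj.SpecMap_awayMap_awayι ℬ (map_mem φ i.2.2) i.2.1 (map_mem φ j.2.2) hx
      · rw [← cancel_mono (PCone.dom φ).ι, Category.assoc, pchart_ι, pchart_ι]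
        exact Proj.SpecMap_awayMap_awayι ℬ (map_mem φ j.2.2) j.2.1 (map_mem φ i.2.2) hx'
      · rintro z ⟨hz1, hz2⟩
        rw [mem_range_pchart] at hz1 hz2 ⊢
        show _ ∈ Proj.basicOpen ℬ (φ (i.1.2 * j.1.2))
        rw [hx, Proj.basicOpen_mul]
        exact ⟨hz1, hz2⟩
      · exact (compat_aux φ i.2.1 i.2.2 j.2.2 rfl hx (SetLike.mul_mem_graded i.2.2 j.2.2)).trans
          (compat_aux φ j.2.1 j.2.2 i.2.2 (mul_comm _ _) hx'
            (by rw [add_comm]; exact SetLike.mul_mem_graded i.2.2 j.2.2)).symm)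
  exact ⟨p, fun d f hd hf => hp ⟨(d, f), hd, hf⟩, fun p' hp' => huniq p' fun q => hp' _ _ q.2.1 q.2.2⟩

variable (p : (PCone.dom φ : Scheme.{u}) ⟶ Proj 𝒜) (hp : ∀ (d : ℕ) (f : A) (hd : 0 < d) (hf : f ∈ 𝒜 d),
  PCone.chart φ hf hd ≫ p = Spec.map (CommRingCat.ofHom (Away.map φ f)) ≫ Proj.awayι 𝒜 f hf hd)

include hp

lemma pmap_preimage {d : ℕ} {f : A} (hd : 0 < d) (hf : f ∈ 𝒜 d) :
    p ⁻¹ᵁ Proj.basicOpen 𝒜 f = (PCone.chart φ hf hd).opensRange := by
  refine preimage_eq_of_charts (fun q : Idx 𝒜 => PCone.chart φ q.2.2 q.2.1) (pchart_cover φ) p _ _ fun q => ?_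
  have hr : (PCone.chart φ hf hd).opensRange = (PCone.dom φ).ι ⁻¹ᵁ Proj.basicOpen ℬ (φ f) := by
    apply TopologicalSpace.Opens.ext
    ext z
    exact mem_range_pchart φ hf hd z
  rw [← Scheme.Hom.comp_preimage, hp _ _ q.2.1 q.2.2, hr, ← Scheme.Hom.comp_preimage, pchart_ι,
    Scheme.Hom.comp_preimage, Proj.awayι_preimage_basicOpen 𝒜 q.2.2 q.2.1 hf hd]
  refine Eq.trans ?_ (Proj.awayι_preimage_basicOpen ℬ (map_mem φ q.2.2) q.2.1 (map_mem φ hf) hd).symm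
  refine (PrimeSpectrum.comap_basicOpen (Away.map φ q.1.2) _).trans ?_
  congr 1
  rw [Away.isLocalizationElem, Away.map_mk]
  ext
  simp only [Away.val_mk, map_pow]

lemma pmap_isPullback {d : ℕ} {f : A} (hd : 0 < d) (hf : f ∈ 𝒜 d) :
    IsPullback (Spec.map (CommRingCat.ofHom (Away.map φ f))) (PCone.chart φ hf hd)
      (Proj.awayι 𝒜 f hf hd) p :=
  IsOpenImmersion.isPullback _ _ _ _ (hp d f hd hf)
    (by rw [Proj.opensRange_awayι, pmap_preimage φ p hp hd hf])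

lemma pmap_isAffineHom : IsAffineHom p := by
  refine IsZariskiLocalAtTarget.of_openCover (P := @IsAffineHom) (Proj.affineOpenCover 𝒜).openCover fun j => ?_
  have hpb := (pmap_isPullback φ p hp j.1.2 j.2.2).flip
  refine ((MorphismProperty.arrow_mk_iso_iff (P := @IsAffineHom) ?_).mp
    (inferInstance : IsAffineHom (Spec.map (CommRingCat.ofHom (Away.map φ (j.2 : A))))))
  exact Arrow.isoMk hpb.isoPullback (Iso.refl _) (by exact hpb.isoPullback_hom_snd.trans (Category.comp_id _).symm)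

lemma pmap_dom_top_and_isIso (d₀ : ℕ) (hbij : ∀ d : ℕ, d₀ ≤ d → Set.BijOn φ (𝒜 d) (ℬ d)) :
    PCone.dom φ = ⊤ ∧ IsIso p := by
  refine ⟨eq_top_iff.mpr fun z _ => ?_, ?_⟩
  · obtain ⟨⟨⟨e, h⟩, he, hh⟩, hz⟩ := exists_idx_notMem (𝒜 := ℬ) z
    have hm : h ^ (d₀ + 1) ∈ ℬ ((d₀ + 1) * e) := by
      simpa [smul_eq_mul] using SetLike.pow_mem_graded (d₀ + 1) hh
    have hle : d₀ ≤ (d₀ + 1) * e := le_trans (Nat.le_succ d₀) (Nat.le_mul_of_pos_right _ he)
    obtain ⟨a, ha, hab⟩ := (hbij _ hle).surjOn hm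
    refine TopologicalSpace.Opens.mem_iSup.mpr ⟨⟨a, (d₀ + 1) * e, Nat.mul_pos (Nat.succ_pos _) he, ha⟩, ?_⟩
    show φ a ∉ z.asHomogeneousIdeal
    rw [hab]
    exact fun hc => hz (z.isPrime.mem_of_pow_mem _ hc)
  · refine IsZariskiLocalAtTarget.of_openCover (P := MorphismProperty.isomorphisms Scheme.{u})
      (Proj.affineOpenCover 𝒜).openCover fun j => ?_
    have hpb := (pmap_isPullback φ p hp j.1.2 j.2.2).flip
    have hb : Function.Bijective (Away.map φ (j.2 : A)) :=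
      ⟨away_map_injective_of_eventually φ j.1.2 j.2.2 d₀ hbij,
        away_map_surjective_of_eventually φ j.1.2 j.2.2 d₀ hbij⟩
    haveI : IsIso (CommRingCat.ofHom (Away.map φ (j.2 : A))) :=
      (ConcreteCategory.isIso_iff_bijective _).mpr hb
    refine ((MorphismProperty.arrow_mk_iso_iff (P := MorphismProperty.isomorphisms Scheme.{u}) ?_).mp
      (MorphismProperty.isomorphisms.infer_property (Spec.map (CommRingCat.ofHom (Away.map φ (j.2 : A))))))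
    exact Arrow.isoMk hpb.isoPullback (Iso.refl _) (by exact hpb.isoPullback_hom_snd.trans (Category.comp_id _).symm)

end PCone

section Section'

variable (ψ : ℬ →+*ᵍ 𝒜) (hψφ : ∀ a : A, ψ (φ a) = a)
  (hψ : HomogeneousIdeal.irrelevant 𝒜 ≤ (HomogeneousIdeal.irrelevant ℬ).map ψ)

lemma map_mem_dom (hψφ : ∀ a : A, ψ (φ a) = a) (x : Proj 𝒜) : Proj.map ψ hψ x ∈ PCone.dom φ := by
  obtain ⟨⟨⟨d, f⟩, hd, hf⟩, hx⟩ := exists_idx_notMem (𝒜 := 𝒜) x
  refine TopologicalSpace.Opens.mem_iSup.mpr ⟨⟨f, d, hd, hf⟩, ?_⟩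
  show x ∈ Proj.map ψ hψ ⁻¹ᵁ Proj.basicOpen ℬ (φ f)
  rw [Proj.map_preimage_basicOpen, hψφ]
  exact hx

lemma comp_eq_awayMap {d : ℕ} {f : A} (hf : f ∈ 𝒜 d) (hψφ : ∀ a : A, ψ (φ a) = a)
    (hx : ψ (φ f) = f * 1) (z : Away 𝒜 f) :
    Away.map ψ (φ f) (Away.map φ f z) = awayMap 𝒜 (SetLike.one_mem_graded 𝒜) hx z := by
  obtain ⟨n, a, ha, rfl⟩ := Away.mk_surjective 𝒜 hf z
  rw [Away.map_mk, Away.map_mk, awayMap_mk]
  apply HomogeneousLocalization.val_injective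
  simp only [Away.val_mk, hψφ, one_pow, mul_one]

theorem exists_section (p : (PCone.dom φ : Scheme.{u}) ⟶ Proj 𝒜)
    (hp : ∀ (d : ℕ) (f : A) (hd : 0 < d) (hf : f ∈ 𝒜 d),
      PCone.chart φ hf hd ≫ p = Spec.map (CommRingCat.ofHom (Away.map φ f)) ≫ Proj.awayι 𝒜 f hf hd)
    (hψφ : ∀ a : A, ψ (φ a) = a) :
    Surjective p ∧ ∃ j : Proj 𝒜 ⟶ (PCone.dom φ : Scheme.{u}),
      j ≫ (PCone.dom φ).ι = Proj.map ψ hψ ∧ j ≫ p = 𝟙 (Proj 𝒜) := by
  have hr : Set.range (Proj.map ψ hψ) ⊆ Set.range (PCone.dom φ).ι := by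
    rintro _ ⟨x, rfl⟩
    rw [Scheme.Opens.range_ι]
    exact map_mem_dom φ ψ hψ hψφ x
  let j := IsOpenImmersion.lift (PCone.dom φ).ι (Proj.map ψ hψ) hr
  have hj : j ≫ (PCone.dom φ).ι = Proj.map ψ hψ := IsOpenImmersion.lift_fac _ _ _
  have key : ∀ (d : ℕ) (f : A) (hd : 0 < d) (hf : f ∈ 𝒜 d),
      Proj.awayι 𝒜 f hf hd ≫ j ≫ p = Proj.awayι 𝒜 f hf hd ≫ 𝟙 _ := by
    intro d f hd hf
    have hx : ψ (φ f) = f * 1 := (hψφ f).trans (mul_one f).symm
    have hm : ψ (φ f) ∈ 𝒜 d := map_mem ψ (map_mem φ hf)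
    have hsm := Proj.SpecMap_awayMap_awayι 𝒜 hf hd (SetLike.one_mem_graded 𝒜) hx
    let χ : Spec (.of (Away 𝒜 (ψ (φ f)))) ⟶ Spec (.of (Away 𝒜 f)) :=
      Spec.map (CommRingCat.ofHom (awayMap 𝒜 (SetLike.one_mem_graded 𝒜) hx))
    have hsm' : χ ≫ Proj.awayι 𝒜 f hf hd = Proj.awayι 𝒜 (ψ (φ f)) hm hd := hsm
    have hjc : Proj.awayι 𝒜 (ψ (φ f)) hm hd ≫ j =
        Spec.map (CommRingCat.ofHom (Away.map ψ (φ f))) ≫ PCone.chart φ hf hd := by
      rw [← cancel_mono (PCone.dom φ).ι, Category.assoc, hj, Category.assoc, pchart_ι]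
      exact Proj.awayι_comp_map ψ hψ hd (φ f) (map_mem φ hf)
    haveI : IsIso χ := by
      haveI : IsOpenImmersion χ := by
        haveI : IsOpenImmersion (χ ≫ Proj.awayι 𝒜 f hf hd) := by rw [hsm']; infer_instance
        exact IsOpenImmersion.of_comp χ (Proj.awayι 𝒜 f hf hd)
      haveI : Epi χ.base := (TopCat.epi_iff_surjective _).mpr fun y => by
        have hy : Proj.awayι 𝒜 f hf hd y ∈ (Proj.awayι 𝒜 (ψ (φ f)) hm hd).opensRange := by
          rw [Proj.opensRange_awayι, hψφ, ← Proj.opensRange_awayι 𝒜 f hf hd]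
          exact ⟨y, rfl⟩
        obtain ⟨w, hw⟩ := hy
        refine ⟨w, (Proj.awayι 𝒜 f hf hd).isOpenEmbedding.injective ?_⟩
        rw [← Scheme.Hom.comp_apply, hsm']
        exact hw
      exact IsOpenImmersion.isIso χ
    rw [Category.comp_id, ← cancel_epi χ, ← Category.assoc χ, hsm', ← Category.assoc, hjc,
      Category.assoc, hp d f hd hf, ← Spec.map_comp_assoc]
    refine Eq.trans (congrArg (fun t => Spec.map t ≫ Proj.awayι 𝒜 f hf hd) ?_) hsm'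
    refine CommRingCat.hom_ext (RingHom.ext fun z => ?_)
    exact comp_eq_awayMap φ ψ hf hψφ hx z
  have hjp : j ≫ p = 𝟙 (Proj 𝒜) :=
    Scheme.Cover.hom_ext (Proj.affineOpenCover 𝒜).openCover _ _ fun q => key _ _ q.1.2 q.2.2
  refine ⟨⟨fun x => ⟨j x, ?_⟩⟩, j, hj, hjp⟩
  rw [← Scheme.Hom.comp_apply, hjp]
  rfl

end Section'

/-! ## The pointed affine cone -/

section Cone

lemma cchart_ι {d : ℕ} {f : A} (hf : f ∈ 𝒜 d) (hd : 0 < d) :
    Cone.chart hf hd ≫ (Cone.pointed 𝒜).ι =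
      Spec.map (CommRingCat.ofHom (algebraMap A (Localization.Away f))) :=
  IsOpenImmersion.lift_fac _ _ _

instance {d : ℕ} {f : A} (hf : f ∈ 𝒜 d) (hd : 0 < d) : IsOpenImmersion (Cone.chart hf hd) :=
  haveI : IsOpenImmersion (Cone.chart hf hd ≫ (Cone.pointed 𝒜).ι) := by
    rw [cchart_ι]; exact IsOpenImmersion.of_isLocalization f
  IsOpenImmersion.of_comp _ (Cone.pointed 𝒜).ι

lemma mem_range_cchart {d : ℕ} {f : A} (hf : f ∈ 𝒜 d) (hd : 0 < d) (z : ↥(Cone.pointed 𝒜).toScheme) :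
    z ∈ Set.range (Cone.chart hf hd) ↔ (Cone.pointed 𝒜).ι z ∈ Cone.coneOpen f := by
  have hr := PrimeSpectrum.localization_away_comap_range (Localization.Away f) f
  constructor
  · rintro ⟨w, rfl⟩
    rw [← Scheme.Hom.comp_apply, cchart_ι]
    exact hr.le ⟨w, rfl⟩
  · intro hz
    obtain ⟨w, hw⟩ := hr.ge hz
    refine ⟨w, (Cone.pointed 𝒜).ι.isOpenEmbedding.injective ?_⟩
    rw [← Scheme.Hom.comp_apply, cchart_ι]
    exact hw

lemma exists_idx_notMem_pointed (z : ↥(Cone.pointed 𝒜).toScheme) :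
    ∃ q : Idx 𝒜, q.1.2 ∉ ((Cone.pointed 𝒜).ι z).asIdeal := by
  classical
  by_contra hc
  push Not at hc
  refine z.2 ((PrimeSpectrum.mem_zeroLocus _ _).mpr fun x hx => ?_)
  show x ∈ ((Cone.pointed 𝒜).ι z).asIdeal
  rw [← DirectSum.sum_support_decompose 𝒜 x]
  refine Submodule.sum_mem _ fun d hd => ?_
  rcases Nat.eq_zero_or_pos d with rfl | hd0
  · have hx' : x ∈ HomogeneousIdeal.irrelevant 𝒜 := hx
    rw [HomogeneousIdeal.mem_irrelevant_iff, GradedRing.proj_apply] at hx'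
    rw [hx']; exact zero_mem _
  · exact hc ⟨(d, _), hd0, SetLike.coe_mem _⟩

lemma cchart_cover (z : ↥(Cone.pointed 𝒜).toScheme) :
    ∃ q : Idx 𝒜, z ∈ Set.range (Cone.chart q.2.2 q.2.1) := by
  obtain ⟨q, hq⟩ := exists_idx_notMem_pointed z
  exact ⟨q, (mem_range_cchart q.2.2 q.2.1 z).mpr hq⟩

/-- Restriction to a smaller standard open. -/
noncomputable def locAlpha {f g x : A} (hx : x = f * g) :
    Localization.Away f →+* Localization.Away x :=
  IsLocalization.Away.lift (S := Localization.Away f) (g := algebraMap A (Localization.Away x)) f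
    (isUnit_of_dvd_unit (map_dvd (algebraMap A (Localization.Away x)) (Dvd.intro g hx.symm))
      (IsLocalization.Away.algebraMap_isUnit (S := Localization.Away x) x))

lemma locAlpha_comp {f g x : A} (hx : x = f * g) :
    (locAlpha hx).comp (algebraMap A (Localization.Away f)) = algebraMap A (Localization.Away x) :=
  IsLocalization.Away.lift_comp (S := Localization.Away f) f _

lemma locAlpha_ι {d e : ℕ} {f g x : A} (hf : f ∈ 𝒜 d) (hd : 0 < d) (hx : x = f * g) (hxm : x ∈ 𝒜 e)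
    (he : 0 < e) :
    Spec.map (CommRingCat.ofHom (locAlpha hx)) ≫ Cone.chart hf hd = Cone.chart hxm he := by
  rw [← cancel_mono (Cone.pointed 𝒜).ι, Category.assoc, cchart_ι, cchart_ι, ← Spec.map_comp,
    ← CommRingCat.ofHom_comp, locAlpha_comp]

lemma locAlpha_awayι {d e : ℕ} {f g x : A} (hf : f ∈ 𝒜 d) (hd : 0 < d) (hg : g ∈ 𝒜 e) (hx : x = f * g)
    (hxm : x ∈ 𝒜 (d + e)) :
    Spec.map (CommRingCat.ofHom (locAlpha hx)) ≫
      Spec.map (CommRingCat.ofHom (algebraMap (Away 𝒜 f) (Localization.Away f))) ≫ Proj.awayι 𝒜 f hf hd =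
    Spec.map (CommRingCat.ofHom (algebraMap (Away 𝒜 x) (Localization.Away x))) ≫
      Proj.awayι 𝒜 x hxm (Nat.add_pos_left hd e) := by
  have h1 : CommRingCat.ofHom (algebraMap (Away 𝒜 f) (Localization.Away f)) ≫ CommRingCat.ofHom (locAlpha hx) =
      CommRingCat.ofHom (awayMap 𝒜 hg hx) ≫ CommRingCat.ofHom (algebraMap (Away 𝒜 x) (Localization.Away x)) := by
    refine CommRingCat.hom_ext (RingHom.ext fun z => ?_)
    simp only [CommRingCat.hom_comp, CommRingCat.hom_ofHom, RingHom.comp_apply,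
      HomogeneousLocalization.algebraMap_apply, val_awayMap, locAlpha]
  rw [← Spec.map_comp_assoc, h1, Spec.map_comp_assoc, Proj.SpecMap_awayMap_awayι 𝒜 hf hd hg hx]

theorem existsUnique_cmap :
    ∃! π : (Cone.pointed 𝒜 : Scheme.{u}) ⟶ Proj 𝒜,
      ∀ (d : ℕ) (f : A) (hd : 0 < d) (hf : f ∈ 𝒜 d), Cone.chart hf hd ≫ π =
        Spec.map (CommRingCat.ofHom (algebraMap (Away 𝒜 f) (Localization.Away f))) ≫ Proj.awayι 𝒜 f hf hd := by
  obtain ⟨π, hπ, huniq⟩ := existsUnique_glue (fun q : Idx 𝒜 => CommRingCat.of (Localization.Away q.1.2))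
    (fun q => Cone.chart q.2.2 q.2.1) cchart_cover
    (fun q => Spec.map (CommRingCat.ofHom (algebraMap (Away 𝒜 q.1.2) (Localization.Away q.1.2))) ≫
      Proj.awayι 𝒜 q.1.2 q.2.2 q.2.1)
    (fun i j => by
      have hx : i.1.2 * j.1.2 = i.1.2 * j.1.2 := rfl
      have hx' : i.1.2 * j.1.2 = j.1.2 * i.1.2 := mul_comm _ _
      refine ⟨Idx.mul i j, CommRingCat.ofHom (locAlpha hx), CommRingCat.ofHom (locAlpha hx'), ?_, ?_, ?_, ?_⟩
      · exact locAlpha_ι i.2.2 i.2.1 hx _ _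
      · exact locAlpha_ι j.2.2 j.2.1 hx' _ _
      · rintro z ⟨hz1, hz2⟩
        rw [mem_range_cchart] at hz1 hz2 ⊢
        show (Cone.pointed 𝒜).ι z ∈ PrimeSpectrum.basicOpen (i.1.2 * j.1.2)
        rw [PrimeSpectrum.basicOpen_mul]
        exact ⟨hz1, hz2⟩
      · exact (locAlpha_awayι i.2.2 i.2.1 j.2.2 hx (SetLike.mul_mem_graded i.2.2 j.2.2)).trans
          (locAlpha_awayι j.2.2 j.2.1 i.2.2 hx' (by rw [add_comm]; exact SetLike.mul_mem_graded i.2.2 j.2.2)).symm)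
  exact ⟨π, fun d f hd hf => hπ ⟨(d, f), hd, hf⟩, fun π' h' => huniq π' fun q => h' _ _ q.2.1 q.2.2⟩

variable (π : (Cone.pointed 𝒜 : Scheme.{u}) ⟶ Proj 𝒜)
  (hπ : ∀ (d : ℕ) (f : A) (hd : 0 < d) (hf : f ∈ 𝒜 d), Cone.chart hf hd ≫ π =
    Spec.map (CommRingCat.ofHom (algebraMap (Away 𝒜 f) (Localization.Away f))) ≫ Proj.awayι 𝒜 f hf hd)

include hπ

lemma cmap_preimage {d : ℕ} {f : A} (hd : 0 < d) (hf : f ∈ 𝒜 d) :
    π ⁻¹ᵁ Proj.basicOpen 𝒜 f = (Cone.pointed 𝒜).ι ⁻¹ᵁ Cone.coneOpen f := by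
  refine preimage_eq_of_charts (fun q : Idx 𝒜 => Cone.chart q.2.2 q.2.1) cchart_cover π _ _ fun q => ?_
  rw [← Scheme.Hom.comp_preimage, hπ _ _ q.2.1 q.2.2, ← Scheme.Hom.comp_preimage, cchart_ι,
    Scheme.Hom.comp_preimage, Proj.awayι_preimage_basicOpen 𝒜 q.2.2 q.2.1 hf hd]
  refine (PrimeSpectrum.comap_basicOpen _ _).trans ?_
  refine Eq.trans ?_ (PrimeSpectrum.comap_basicOpen _ _).symm
  ext w
  show _ ∉ w.asIdeal ↔ algebraMap A (Localization.Away q.1.2) f ∉ w.asIdeal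
  refine not_congr ?_
  have hq : q.1.2 ^ d ∈ Submonoid.powers q.1.2 := ⟨d, rfl⟩
  have hd' : algebraMap (Away 𝒜 q.1.2) (Localization.Away q.1.2) (Away.isLocalizationElem q.2.2 hf) *
      algebraMap A (Localization.Away q.1.2) (q.1.2 ^ d) = algebraMap A (Localization.Away q.1.2) (f ^ q.1.1) := by
    rw [HomogeneousLocalization.algebraMap_apply, Away.isLocalizationElem, Away.val_mk, Localization.mk_eq_mk',
      IsLocalization.mk'_spec]
  have hu : IsUnit (algebraMap A (Localization.Away q.1.2) (q.1.2 ^ d)) :=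
    IsLocalization.map_units (Localization.Away q.1.2) ⟨_, hq⟩
  constructor
  · intro h
    have := Ideal.mul_mem_right (algebraMap A (Localization.Away q.1.2) (q.1.2 ^ d)) w.asIdeal h
    erw [hd'] at this
    rw [map_pow] at this
    exact w.isPrime.mem_of_pow_mem _ this
  · intro h
    have : algebraMap A (Localization.Away q.1.2) (f ^ q.1.1) ∈ w.asIdeal := by
      rw [map_pow]; exact Ideal.pow_mem_of_mem _ h _ q.2.1
    erw [← hd'] at this
    exact (Ideal.mul_unit_mem_iff_mem _ hu).mp this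

lemma cmap_mem_iff (z : ↥(Cone.pointed 𝒜).toScheme) {d : ℕ} {f : A} (hd : 0 < d) (hf : f ∈ 𝒜 d) :
    f ∈ (π z).asHomogeneousIdeal.toIdeal ↔ f ∈ ((Cone.pointed 𝒜).ι z).asIdeal :=
  not_iff_not.mp (SetLike.ext_iff.mp (cmap_preimage π hπ hd hf) z)

lemma cmap_asHomogeneousIdeal (z : ↥(Cone.pointed 𝒜).toScheme) :
    (π z).asHomogeneousIdeal = ((Cone.pointed 𝒜).ι z).asIdeal.homogeneousCore 𝒜 := by
  obtain ⟨⟨⟨d, f⟩, hd, hf⟩, hz⟩ := exists_idx_notMem_pointed z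
  have hmem : ∀ (e : ℕ) (a : A), a ∈ 𝒜 e → (a ∈ (((Cone.pointed 𝒜).ι z).asIdeal.homogeneousCore 𝒜).toIdeal ↔
      a ∈ ((Cone.pointed 𝒜).ι z).asIdeal) := fun e a ha =>
    ⟨fun h => Ideal.toIdeal_homogeneousCore_le 𝒜 _ h, fun h => Ideal.mem_homogeneousCore_of_homogeneous_of_mem ⟨e, ha⟩ h⟩
  refine ext_of_pos_degree (π z).isPrime (((Cone.pointed 𝒜).ι z).isPrime.homogeneousCore) hd hf
    (fun h => hz ((cmap_mem_iff π hπ z hd hf).mp h)) (fun h => hz ((hmem d f hf).mp h)) fun e a he ha => ?_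
  rw [cmap_mem_iff π hπ z he ha, hmem e a ha]

lemma cmap_surjective : Surjective π := by
  refine ⟨fun P => ?_⟩
  let w : PrimeSpectrum A := ⟨P.asHomogeneousIdeal.toIdeal, P.isPrime⟩
  have hw : w ∈ Cone.pointed 𝒜 := fun hc => P.not_irrelevant_le ((PrimeSpectrum.mem_zeroLocus _ _).mp hc)
  refine ⟨⟨w, hw⟩, ProjectiveSpectrum.ext ?_⟩
  rw [cmap_asHomogeneousIdeal π hπ]
  apply HomogeneousIdeal.ext
  show (P.asHomogeneousIdeal.toIdeal.homogeneousCore 𝒜).toIdeal = _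
  rw [P.asHomogeneousIdeal.toIdeal_homogeneousCore_eq_self]

lemma cmap_isAffineHom : IsAffineHom π := by
  refine isAffineHom_of_forall_exists_isAffineOpen _ fun P => ?_
  obtain ⟨⟨⟨d, f⟩, hd, hf⟩, hP⟩ := exists_idx_notMem (𝒜 := 𝒜) P
  refine ⟨_, hP, Proj.isAffineOpen_basicOpen _ _ hf hd, ?_⟩
  rw [cmap_preimage π hπ hd hf]
  have : (Cone.pointed 𝒜).ι ⁻¹ᵁ Cone.coneOpen f = (Cone.chart hf hd).opensRange := by
    apply TopologicalSpace.Opens.ext
    ext z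
    exact (mem_range_cchart hf hd z).symm
  rw [this]
  exact isAffineOpen_opensRange _

end Cone

end Groth.L18.Cones
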