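import Groth.Agent.L08.SymTenFlat
import Mathlib.RingTheory.IsTensorProduct
import Mathlib.LinearAlgebra.TensorProduct.Finiteness
import Mathlib.LinearAlgebra.TensorProduct.RightExactness
import Mathlib.LinearAlgebra.TensorProduct.Basis

/-! Forming symmetric tensors of a flat module commutes with arbitrary base change. -/

set_option autoImplicit false
universe u

open scoped TensorProduct
open Module Groth.L22.Gamma

noncomputable section

namespace Groth.L18.SymTenBC

variable {A : Type u} [CommRing A] {d : ℕ} {N : Type u} [AddCommGroup N] [Module A N]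

/-- The coefficient of a pure tensor in `N ⊗ ⊗^d P`, with values in `N`. -/
def coef {P : Type u} [AddCommGroup P] [Module A P] {ι : Type u} (e : Basis ι A P) (c : Fin d → ι) :
    N ⊗[A] TP A P d →ₗ[A] N :=
  (TensorProduct.rid A N).toLinearMap ∘ₗ (Finsupp.lapply c ∘ₗ (tbasis d e).repr.toLinearMap).lTensor N

theorem coef_ext {P : Type u} [AddCommGroup P] [Module A P] {ι : Type u} (e : Basis ι A P)
    {x y : N ⊗[A] TP A P d} (h : ∀ c, coef e c x = coef e c y) : x = y := by
  classical
  refine (TensorProduct.equivFinsuppOfBasisRight (tbasis d e)).injective (Finsupp.ext fun c => ?_)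
  have key : Finsupp.lapply c ∘ₗ (TensorProduct.equivFinsuppOfBasisRight (M := N) (tbasis d e)).toLinearMap =
      coef e c := by
    refine TensorProduct.ext' fun n t => ?_
    simp [coef, TensorProduct.equivFinsuppOfBasisRight_apply_tmul_apply]
  exact (LinearMap.congr_fun key x).trans ((h c).trans (LinearMap.congr_fun key y).symm)

/-- On a free module a fixed element is in the image of the symmetric tensors. -/
theorem symLift_lTensor_self {P : Type u} [AddCommGroup P] [Module A P] {ι : Type u} (e : Basis ι A P)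
    {z : N ⊗[A] TP A P d}
    (hz : ∀ σ : Equiv.Perm (Fin d),
      (PiTensorProduct.reindex A (fun _ : Fin d => P) σ).toLinearMap.lTensor N z = z) :
    (symLift d e (sym A d e)).lTensor N z = z := by
  classical
  refine coef_ext e fun c => ?_
  have hex : ∃ c' : Fin d → ι, cnt c' = cnt c := ⟨c, rfl⟩
  have h1 : (Finsupp.lapply c ∘ₗ (tbasis d e).repr.toLinearMap) ∘ₗ symLift d e (sym A d e) =
      Finsupp.lapply hex.choose ∘ₗ (tbasis d e).repr.toLinearMap := by
    refine (tbasis d e).ext fun c' => ?_
    simp only [LinearMap.comp_apply, symLift, Basis.constr_basis, LinearEquiv.coe_coe, Finsupp.lapply_apply,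
      Basis.repr_self, Finsupp.single_apply]
    have hc' : ∃ c'' : Fin d → ι, cnt c'' = cnt c' := ⟨c', rfl⟩
    simp only [dif_pos hc']
    by_cases h : c' = hex.choose
    · have e1 : cnt c' = cnt c := h ▸ hex.choose_spec
      have e2 : hc'.choose = c' := by
        have : hc'.choose = hex.choose := by congr 1; funext c''; rw [e1]
        rw [this, ← h]
      rw [if_pos e2, if_pos h, repr_sym, if_pos e1.symm]
    · rw [if_neg h]
      split_ifs with h'
      · rw [repr_sym, if_neg fun e1 => h ?_]
        rw [← h']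
        congr 1
        funext c''
        rw [← e1]
      · simp
  obtain ⟨σ, hσ⟩ := exists_perm_of_cnt_eq hex.choose_spec.symm
  have h2 : (Finsupp.lapply c ∘ₗ (tbasis d e).repr.toLinearMap) ∘ₗ
      (PiTensorProduct.reindex A (fun _ : Fin d => P) σ).toLinearMap =
        Finsupp.lapply hex.choose ∘ₗ (tbasis d e).repr.toLinearMap := by
    refine LinearMap.ext fun t => ?_
    simp [repr_reindex, hσ]
  conv_rhs => rw [← hz σ]
  simp only [coef, LinearMap.comp_apply]
  rw [← LinearMap.lTensor_comp_apply, ← LinearMap.lTensor_comp_apply, h1, h2]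

variable {M : Type u} [AddCommGroup M] [Module A M] [Module.Flat A M]

/-- A finite family in `N ⊗ ⊗^d P` killed in `N ⊗ ⊗^d M` is killed in a free module between. -/
theorem exists_killing {P : Type u} [AddCommGroup P] [Module A P] {ι : Type u} (e : Basis ι A P)
    {π : P →ₗ[A] M} (hπ : Function.Surjective π) {κ : Type} [Fintype κ] (z : κ → N ⊗[A] TP A P d)
    (hz : ∀ k, (tmapL d π).lTensor N (z k) = 0) :
    ∃ (ι' : Type u) (F' : Type u) (_ : AddCommGroup F') (_ : Module A F') (_ : Basis ι' A F')
      (g : P →ₗ[A] F') (π' : F' →ₗ[A] M), π' ∘ₗ g = π ∧ ∀ k, (tmapL d g).lTensor N (z k) = 0 := by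
  classical
  have hex : Function.Exact (LinearMap.ker (tmapL d π)).subtype (tmapL d π) :=
    LinearMap.exact_subtype_ker_map _
  choose w hw using fun k => ((lTensor_exact N hex (tmapL_surjective hπ)) (z k)).1 (hz k)
  choose S hS using fun k => TensorProduct.exists_finset (R := A) (w k)
  obtain ⟨ι', F', _, _, e', g, π', hg, hker⟩ := exists_free_killing e (π := π) hπ
    (fun p : Σ k, ↥(S k) => (p.2.1.2 : TP A P d)) (fun p => p.2.1.2.2)
  refine ⟨ι', F', _, _, e', g, π', hg, fun k => ?_⟩
  rw [← hw k, hS k, map_sum, map_sum]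
  refine Finset.sum_eq_zero fun p hp => ?_
  rw [LinearMap.lTensor_tmul, LinearMap.lTensor_tmul, Submodule.subtype_apply, hker ⟨k, p, hp⟩,
    TensorProduct.tmul_zero]

variable (N M d)

/-- Symmetric tensors of a flat module inject after tensoring. -/
theorem lTensor_subtype_injective : Function.Injective ((symT A M d).subtype.lTensor N) := by
  classical
  let e : Basis M A (M →₀ A) := Finsupp.basisSingleOne
  let π : (M →₀ A) →ₗ[A] M := Finsupp.linearCombination A id
  have hπ : Function.Surjective π := Groth.L08.SymTenFlat.pres_surjective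
  let πS : symT A (M →₀ A) d →ₗ[A] symT A M d :=
    ((tmapL d π) ∘ₗ (symT A (M →₀ A) d).subtype).codRestrict _ fun t => tmapL_mem π t.2
  have hπS : Function.Surjective πS := fun y => by
    obtain ⟨u, hu, hu'⟩ := Groth.L08.SymTenFlat.exists_lift e hπ y.2
    exact ⟨⟨u, hu⟩, Subtype.ext hu'⟩
  rw [injective_iff_map_eq_zero]
  intro x hx
  obtain ⟨x', rfl⟩ := LinearMap.lTensor_surjective N hπS x
  obtain ⟨ι', F', _, _, e', g, π', hg, hker⟩ := exists_killing e hπ
    (fun _ : Fin 1 => (symT A (M →₀ A) d).subtype.lTensor N x') (fun _ => by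
      rw [← LinearMap.lTensor_comp_apply] at hx ⊢
      exact hx)
  let gS : symT A (M →₀ A) d →ₗ[A] symT A F' d :=
    ((tmapL d g) ∘ₗ (symT A (M →₀ A) d).subtype).codRestrict _ fun t => tmapL_mem g t.2
  let πS' : symT A F' d →ₗ[A] symT A M d :=
    ((tmapL d π') ∘ₗ (symT A F' d).subtype).codRestrict _ fun t => tmapL_mem π' t.2
  let r : TP A F' d →ₗ[A] symT A F' d :=
    (symLift d e' (sym A d e')).codRestrict (symT A F' d) fun t =>
      symLift_mem e' _ _ (fun ν => sym_mem _ ν) t
  have h0 : gS.lTensor N x' = 0 := by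
    have h := congrArg (r.lTensor N) (hker 0)
    rw [map_zero, ← LinearMap.lTensor_comp_apply, ← LinearMap.lTensor_comp_apply] at h
    convert h using 3
    exact LinearMap.ext fun t => Subtype.ext (symLift_self e' (tmapL_mem g t.2)).symm
  have hfac : πS = πS' ∘ₗ gS := LinearMap.ext fun t => Subtype.ext (by
    show tmapL d π t.1 = tmapL d π' (tmapL d g t.1)
    rw [← LinearMap.comp_apply, ← tmapL_comp, hg])
  rw [hfac, LinearMap.lTensor_comp_apply, h0, map_zero]

/-- An element of `N ⊗ ⊗^d M` fixed by the permutations comes from `N ⊗ symT`. -/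
theorem mem_range_of_fixed {z : N ⊗[A] TP A M d}
    (hz : ∀ σ : Equiv.Perm (Fin d),
      (PiTensorProduct.reindex A (fun _ : Fin d => M) σ).toLinearMap.lTensor N z = z) :
    z ∈ Set.range ((symT A M d).subtype.lTensor N) := by
  classical
  let e : Basis M A (M →₀ A) := Finsupp.basisSingleOne
  let π : (M →₀ A) →ₗ[A] M := Finsupp.linearCombination A id
  have hπ : Function.Surjective π := Groth.L08.SymTenFlat.pres_surjective
  obtain ⟨z', rfl⟩ := LinearMap.lTensor_surjective N (tmapL_surjective (d := d) hπ) z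
  have hre : ∀ {P Q : Type u} [AddCommGroup P] [Module A P] [AddCommGroup Q] [Module A Q] (h : P →ₗ[A] Q)
      (σ : Equiv.Perm (Fin d)), tmapL d h ∘ₗ (PiTensorProduct.reindex A (fun _ : Fin d => P) σ).toLinearMap =
        (PiTensorProduct.reindex A (fun _ : Fin d => Q) σ).toLinearMap ∘ₗ tmapL d h :=
    fun h σ => LinearMap.ext fun t => tmapL_reindex h σ t
  let κ : Type := Fin (Fintype.card (Equiv.Perm (Fin d)))
  let en : κ ≃ Equiv.Perm (Fin d) := (Fintype.equivFin _).symm
  obtain ⟨ι', F', _, _, e', g, π', hg, hker⟩ := exists_killing e hπ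
    (fun k : κ => (PiTensorProduct.reindex A (fun _ : Fin d => M →₀ A) (en k)).toLinearMap.lTensor N z' - z')
    (fun k => by
      rw [map_sub, ← LinearMap.lTensor_comp_apply, hre, LinearMap.lTensor_comp_apply, hz, sub_self])
  have hfix : ∀ σ : Equiv.Perm (Fin d), (PiTensorProduct.reindex A (fun _ : Fin d => F') σ).toLinearMap.lTensor N
      ((tmapL d g).lTensor N z') = (tmapL d g).lTensor N z' := fun σ => by
    rw [← sub_eq_zero, ← LinearMap.lTensor_comp_apply, ← hre, LinearMap.lTensor_comp_apply, ← map_sub]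
    simpa using hker (en.symm σ)
  let rM : TP A F' d →ₗ[A] symT A M d :=
    (tmapL d π' ∘ₗ symLift d e' (sym A d e')).codRestrict (symT A M d) fun t =>
      tmapL_mem π' (symLift_mem e' _ (symT A F' d) (fun ν => sym_mem _ ν) t)
  refine ⟨rM.lTensor N ((tmapL d g).lTensor N z'), ?_⟩
  rw [← LinearMap.lTensor_comp_apply, show (symT A M d).subtype ∘ₗ rM = tmapL d π' ∘ₗ symLift d e' (sym A d e')
      from LinearMap.ext fun _ => rfl, LinearMap.lTensor_comp_apply, symLift_lTensor_self e' hfix,
    ← LinearMap.lTensor_comp_apply, ← tmapL_comp, hg]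

end Groth.L18.SymTenBC
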