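import Groth.Agent.L18.SymPowAffine
import Groth.Agent.L18.SymTenBaseChange
import Groth.Agent.L27.Quot.Local
import Mathlib.RingTheory.IsTensorProduct
import Mathlib.AlgebraicGeometry.Morphisms.Flat
import Mathlib.AlgebraicGeometry.Morphisms.Affine

/-! Symmetric powers of flat schemes commute with base change. -/

set_option autoImplicit false
set_option backward.isDefEq.respectTransparency false

universe u

open CategoryTheory CategoryTheory.Limits AlgebraicGeometry
open scoped TensorProduct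
open Groth.L22.Gamma

noncomputable section

namespace Groth.L18.SymPow

/-- The linear algebra of the base change of invariants. -/
theorem invariants_of_isBaseChange {A A' B : Type u} [CommRing A] [CommRing A'] [Algebra A A']
    [AddCommGroup B] [Module A B] [Module.Flat A B] {d : ℕ}
    {C T C' T' : Type u} [AddCommGroup C] [Module A C] [AddCommGroup T] [Module A T]
    [AddCommGroup C'] [Module A C'] [Module A' C'] [IsScalarTower A A' C']
    [AddCommGroup T'] [Module A T'] [Module A' T'] [IsScalarTower A A' T']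
    {u : C →ₗ[A] C'} (hu : IsBaseChange A' u) {w : T →ₗ[A] T'} (hw : IsBaseChange A' w)
    (j : C →ₗ[A] T) (j' : C' →ₗ[A'] T') (hj : ∀ c, j' (u c) = w (j c))
    (e : T ≃ₗ[A] TP A B d) (hinj : Function.Injective j)
    (hrange : ∀ t, e t ∈ symT A B d ↔ ∃ c, j c = t)
    (σ : Equiv.Perm (Fin d) → (T →ₗ[A] T)) (σ' : Equiv.Perm (Fin d) → (T' →ₗ[A'] T'))
    (hσ : ∀ τ t, σ' τ (w t) = w (σ τ t))
    (hσe : ∀ τ t, e (σ τ t) = PiTensorProduct.reindex A (fun _ : Fin d => B) τ (e t)) :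
    Function.Injective j' ∧ ∀ s, (∀ τ, σ' τ s = s) → s ∈ Set.range j' := by
  let eC : C →ₗ[A] symT A B d := (e.toLinearMap ∘ₗ j).codRestrict _ fun c => (hrange _).2 ⟨c, rfl⟩
  have heC : Function.Bijective eC := by
    refine ⟨fun c c' h => hinj (e.injective (congrArg Subtype.val h)), fun y => ?_⟩
    obtain ⟨c, hc⟩ := (hrange (e.symm y.1)).1 (by rw [e.apply_symm_apply]; exact y.2)
    exact ⟨c, Subtype.ext (show e (j c) = y.1 by rw [hc, e.apply_symm_apply])⟩
  let eC' : C ≃ₗ[A] symT A B d := LinearEquiv.ofBijective eC heC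
  have key : ∀ x, j' (hu.equiv x) = hw.equiv (j.lTensor A' x) := by
    intro x
    induction x using TensorProduct.induction_on with
    | zero => simp
    | tmul a c => rw [LinearMap.lTensor_tmul, hu.equiv_tmul, hw.equiv_tmul, map_smul, hj]
    | add x y hx hy => simp [hx, hy]
  have hfac : e.toLinearMap ∘ₗ j = (symT A B d).subtype ∘ₗ eC'.toLinearMap := LinearMap.ext fun c => rfl
  have hJ : ∀ x, e.toLinearMap.lTensor A' (j.lTensor A' x) =
      (symT A B d).subtype.lTensor A' (eC'.toLinearMap.lTensor A' x) := fun x => by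
    rw [← LinearMap.lTensor_comp_apply, hfac, LinearMap.lTensor_comp_apply]
  refine ⟨fun a b h => ?_, fun s hs => ?_⟩
  · obtain ⟨x, rfl⟩ := hu.equiv.surjective a
    obtain ⟨y, rfl⟩ := hu.equiv.surjective b
    rw [key, key] at h
    have h1 := congrArg (e.toLinearMap.lTensor A') (hw.equiv.injective h)
    rw [hJ, hJ] at h1
    have h2 := SymTenBC.lTensor_subtype_injective d A' B h1
    exact congrArg _ ((eC'.lTensor A').injective h2)
  · obtain ⟨z, rfl⟩ := hw.equiv.surjective s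
    have hσw : ∀ τ x, σ' τ (hw.equiv x) = hw.equiv ((σ τ).lTensor A' x) := by
      intro τ x
      induction x using TensorProduct.induction_on with
      | zero => simp
      | tmul a t => rw [LinearMap.lTensor_tmul, hw.equiv_tmul, hw.equiv_tmul, map_smul, hσ]
      | add x y hx hy => simp [hx, hy]
    have hfix : ∀ τ, (σ τ).lTensor A' z = z := fun τ => hw.equiv.injective (by rw [← hσw, hs τ])
    obtain ⟨x, hx⟩ := SymTenBC.mem_range_of_fixed d A' B (z := e.toLinearMap.lTensor A' z) fun τ => by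
      rw [← LinearMap.lTensor_comp_apply]
      have : (PiTensorProduct.reindex A (fun _ : Fin d => B) τ).toLinearMap ∘ₗ e.toLinearMap =
          e.toLinearMap ∘ₗ σ τ := LinearMap.ext fun t => (hσe τ t).symm
      rw [this, LinearMap.lTensor_comp_apply, hfix]
    obtain ⟨y, rfl⟩ := (eC'.lTensor A').surjective x
    refine ⟨hu.equiv y, ?_⟩
    rw [key]
    congr 1
    apply (e.lTensor A').injective
    show e.toLinearMap.lTensor A' _ = e.toLinearMap.lTensor A' z
    rw [hJ, ← hx]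
    rfl

variable {X S S' Y : Scheme.{u}}

/-- Sections of a base change over affine opens form a pushout. -/
theorem isPushout_appLE {X' Y' X₀ Y₀ : Scheme.{u}} {u : X' ⟶ X₀} {p' : X' ⟶ Y'} {p : X₀ ⟶ Y₀} {t : Y' ⟶ Y₀}
    (H : IsPullback u p' p t) {US : Y₀.Opens} (hUS : IsAffineOpen US) {UT : Y'.Opens} (hUT : IsAffineOpen UT)
    {UX : X₀.Opens} (hUX : IsAffineOpen UX) (e : UT ≤ t ⁻¹ᵁ US) (eX : UX ≤ p ⁻¹ᵁ US)
    {W : X'.Opens} (hW : W = u ⁻¹ᵁ UX ⊓ p' ⁻¹ᵁ UT) :
    IsAffineOpen W ∧ IsPushout (p.appLE US UX eX) (t.appLE US UT e)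
      (u.appLE UX W (hW ▸ inf_le_left)) (p'.appLE UT W (hW ▸ inf_le_right)) := by
  have hpb := Scheme.Hom.isPullback_resLE H (US := US) (UT := UT) e (UX := UX) eX hW
  haveI : IsAffine US.toScheme := hUS
  haveI : IsAffine UT.toScheme := hUT
  haveI : IsAffine UX.toScheme := hUX
  haveI : IsAffine W.toScheme := IsAffine.of_isIso hpb.isoPullback.hom
  refine ⟨inferInstanceAs (IsAffine W.toScheme), ?_⟩
  refine (isPushout_appTop_of_isPullback hpb).of_iso US.topIso UX.topIso UT.topIso W.topIso ?_ ?_ ?_ ?_ <;>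
    simp only [Scheme.Hom.appTop, Scheme.Hom.resLE_app_top, Category.assoc, Iso.inv_hom_id, Category.comp_id]

variable (f : X ⟶ S) {n : ℕ}

/-- The fibre powers of a base change are the base change of the fibre powers. -/
theorem isPullback_fibPow (b : S' ⟶ S) (c : SymProd.fibPow (pullback.snd f b) n ⟶ SymProd.fibPow f n)
    (hcπ : ∀ i : Fin n, c ≫ WidePullback.π (fun _ => f) i =
      WidePullback.π (fun _ => pullback.snd f b) i ≫ pullback.fst f b)
    (hcb : c ≫ WidePullback.base (fun _ => f) = WidePullback.base (fun _ => pullback.snd f b) ≫ b) :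
    IsPullback c (WidePullback.base (fun _ : Fin n => pullback.snd f b))
      (WidePullback.base (fun _ : Fin n => f)) b := by
  refine ⟨⟨hcb⟩, ⟨PullbackCone.IsLimit.mk hcb (fun s => WidePullback.lift s.snd
    (fun i => pullback.lift (s.fst ≫ WidePullback.π _ i) s.snd
      (by rw [Category.assoc, WidePullback.π_arrow, s.condition]))
    (fun i => pullback.lift_snd _ _ _)) (fun s => ?_) (fun s => WidePullback.lift_base _ _ _ _)
    (fun s m hm₁ hm₂ => ?_)⟩⟩
  · apply WidePullback.hom_ext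
    · intro i
      rw [Category.assoc, hcπ, WidePullback.lift_π_assoc, pullback.lift_fst]
    · rw [Category.assoc, hcb, WidePullback.lift_base_assoc, s.condition]
  · apply WidePullback.hom_ext
    · intro i
      rw [WidePullback.lift_π]
      apply pullback.hom_ext
      · rw [Category.assoc, ← hcπ, reassoc_of% hm₁, pullback.lift_fst]
      · rw [Category.assoc, WidePullback.π_arrow, hm₂, pullback.lift_snd]
    · rw [WidePullback.lift_base, hm₂]

/-- Symmetric powers of flat schemes commute with base change. -/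
theorem isSymProd_baseChange [Flat f] (hAF : SymProd.IsAF f) (q : SymProd.fibPow f n ⟶ Y) (g : Y ⟶ S)
    (hq : SymProd.IsSymProd f n q g) (b : S' ⟶ S)
    (c : SymProd.fibPow (pullback.snd f b) n ⟶ SymProd.fibPow f n)
    (hcπ : ∀ i : Fin n, c ≫ WidePullback.π (fun _ => f) i =
      WidePullback.π (fun _ => pullback.snd f b) i ≫ pullback.fst f b)
    (hcb : c ≫ WidePullback.base (fun _ => f) = WidePullback.base (fun _ => pullback.snd f b) ≫ b)
    (q' : SymProd.fibPow (pullback.snd f b) n ⟶ pullback g b)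
    (hq'₁ : q' ≫ pullback.fst g b = c ≫ q)
    (hq'₂ : q' ≫ pullback.snd g b = WidePullback.base (fun _ => pullback.snd f b)) :
    SymProd.IsSymProd (pullback.snd f b) n q' (pullback.snd g b) := by
  refine ⟨?_, hq'₂⟩
  haveI : Finite (ULift.{u} (Equiv.Perm (Fin n))) := inferInstance
  let f' := pullback.snd f b
  have Hbig := isPullback_fibPow f b c hcπ hcb
  have H : IsPullback c q' q (pullback.fst g b) := by
    refine IsPullback.of_bot ?_ hq'₁.symm (IsPullback.of_hasPullback g b)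
    rw [hq'₂, hq.over]
    exact Hbig
  have haff : IsAffineHom q' := MorphismProperty.of_isPullback (P := @IsAffineHom) H hq.isQuot.affine
  have hu : ∀ σ, SymProd.permHom f' n σ ≫ c = c ≫ SymProd.permHom f n σ := by
    intro σ
    apply WidePullback.hom_ext
    · intro i
      rw [Category.assoc, Category.assoc, hcπ, SymProd.permHom_π_assoc, SymProd.permHom_π, hcπ]
    · rw [Category.assoc, Category.assoc, hcb, SymProd.permHom_base_assoc, SymProd.permHom_base, hcb]
  have hinv : ∀ x, (SymProd.permActU f' n x).hom ≫ q' = q' := by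
    intro x
    rw [SymProd.permActU_hom]
    apply pullback.hom_ext
    · rw [Category.assoc, hq'₁, reassoc_of% (hu x.down)]
      have := hq.isQuot.inv x
      rw [SymProd.permActU_hom] at this
      rw [this]
    · rw [Category.assoc, hq'₂, SymProd.permHom_base]
  refine Groth.L27.Quot.isQuot_of_affine_cover haff hinv fun y => ?_
  obtain ⟨V, U, W', hV, hU, hUV, hy, hW', hle, hbox⟩ := exists_chart f hAF q g hq (pullback.fst g b y)
  have hyV : pullback.snd g b y ∈ b ⁻¹ᵁ V := by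
    show b (pullback.snd g b y) ∈ V
    rw [← Scheme.Hom.comp_apply, ← pullback.condition, Scheme.Hom.comp_apply]
    exact hle hy
  obtain ⟨V', hV', hyV', eV⟩ := exists_isAffineOpen_mem_and_subset (U := b ⁻¹ᵁ V) hyV
  let U'' : (pullback g b).Opens := pullback.fst g b ⁻¹ᵁ W' ⊓ pullback.snd g b ⁻¹ᵁ V'
  let P := SymProd.fibPow f n
  let W : P.Opens := q ⁻¹ᵁ W'
  have hWaff : IsAffineOpen W := by
    show IsAffineOpen (q ⁻¹ᵁ W')
    rw [hbox]
    exact Groth.L16.SymProd.isAffineOpen_box f n hU hV hUV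
  have eW : W ≤ (WidePullback.base (fun _ : Fin n => f)) ⁻¹ᵁ V := by
    rw [← hq.over, Scheme.Hom.comp_preimage]
    exact q.preimage_mono hle
  have hW'' : q' ⁻¹ᵁ U'' = c ⁻¹ᵁ W ⊓ (WidePullback.base (fun _ : Fin n => f')) ⁻¹ᵁ V' := by
    show q' ⁻¹ᵁ (pullback.fst g b ⁻¹ᵁ W' ⊓ pullback.snd g b ⁻¹ᵁ V') = _
    rw [Scheme.Hom.preimage_inf]
    rw [← Scheme.Hom.comp_preimage, ← Scheme.Hom.comp_preimage, hq'₁, hq'₂, Scheme.Hom.comp_preimage]
  obtain ⟨hU'', poC⟩ := isPushout_appLE (IsPullback.of_hasPullback g b) hV hV' hW' eV hle (W := U'') rfl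
  obtain ⟨-, poT⟩ := isPushout_appLE Hbig hV hV' hWaff eV eW hW''
  refine ⟨U'', hU'', ⟨hy, hyV'⟩, ?_⟩
  obtain ⟨φ, hφa, -, hφσ⟩ := exists_boxRingEquiv f hV hU hUV hWaff hbox
  letI : Algebra ↑Γ(S, V) ↑Γ(X, U) := (f.appLE V U hUV).hom.toAlgebra
  haveI : Module.Flat ↑Γ(S, V) ↑Γ(X, U) := Flat.flat_appLE f hV hU hUV
  letI : Algebra ↑Γ(S, V) ↑Γ(S', V') := (b.appLE V V' eV).hom.toAlgebra
  letI : Algebra ↑Γ(S, V) ↑Γ(Y, W') := (g.appLE V W' hle).hom.toAlgebra
  letI : Algebra ↑Γ(S, V) ↑Γ(P, W) :=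
    ((WidePullback.base (fun _ : Fin n => f)).appLE V W eW).hom.toAlgebra
  let eC : U'' ≤ pullback.fst g b ⁻¹ᵁ W' := inf_le_left
  let eC' : U'' ≤ pullback.snd g b ⁻¹ᵁ V' := inf_le_right
  let eT : q' ⁻¹ᵁ U'' ≤ c ⁻¹ᵁ W := hW'' ▸ inf_le_left
  let eT' : q' ⁻¹ᵁ U'' ≤ (WidePullback.base (fun _ : Fin n => f')) ⁻¹ᵁ V' := hW'' ▸ inf_le_right
  letI : Algebra ↑Γ(S', V') ↑Γ(pullback g b, U'') := ((pullback.snd g b).appLE V' U'' eC').hom.toAlgebra
  letI : Algebra ↑Γ(Y, W') ↑Γ(pullback g b, U'') := ((pullback.fst g b).appLE W' U'' eC).hom.toAlgebra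
  letI : Algebra ↑Γ(S, V) ↑Γ(pullback g b, U'') :=
    (((pullback.fst g b).appLE W' U'' eC).hom.comp (g.appLE V W' hle).hom).toAlgebra
  haveI : IsScalarTower ↑Γ(S, V) ↑Γ(Y, W') ↑Γ(pullback g b, U'') := IsScalarTower.of_algebraMap_eq fun _ => rfl
  haveI : IsScalarTower ↑Γ(S, V) ↑Γ(S', V') ↑Γ(pullback g b, U'') :=
    IsScalarTower.of_algebraMap_eq' (congrArg CommRingCat.Hom.hom poC.w)
  haveI hpoC : Algebra.IsPushout ↑Γ(S, V) ↑Γ(Y, W') ↑Γ(S', V') ↑Γ(pullback g b, U'') :=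
    CommRingCat.isPushout_iff_isPushout.mp poC
  let P' := SymProd.fibPow f' n
  letI : Algebra ↑Γ(S', V') ↑Γ(P', q' ⁻¹ᵁ U'') :=
    ((WidePullback.base (fun _ : Fin n => f')).appLE V' (q' ⁻¹ᵁ U'') eT').hom.toAlgebra
  letI : Algebra ↑Γ(P, W) ↑Γ(P', q' ⁻¹ᵁ U'') := (c.appLE W (q' ⁻¹ᵁ U'') eT).hom.toAlgebra
  letI : Algebra ↑Γ(S, V) ↑Γ(P', q' ⁻¹ᵁ U'') :=
    ((c.appLE W (q' ⁻¹ᵁ U'') eT).hom.comp ((WidePullback.base (fun _ : Fin n => f)).appLE V W eW).hom).toAlgebra
  haveI : IsScalarTower ↑Γ(S, V) ↑Γ(P, W) ↑Γ(P', q' ⁻¹ᵁ U'') := IsScalarTower.of_algebraMap_eq fun _ => rfl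
  haveI : IsScalarTower ↑Γ(S, V) ↑Γ(S', V') ↑Γ(P', q' ⁻¹ᵁ U'') :=
    IsScalarTower.of_algebraMap_eq' (congrArg CommRingCat.Hom.hom poT.w)
  haveI hpoT : Algebra.IsPushout ↑Γ(S, V) ↑Γ(P, W) ↑Γ(S', V') ↑Γ(P', q' ⁻¹ᵁ U'') :=
    CommRingCat.isPushout_iff_isPushout.mp poT
  have hbC : IsBaseChange ↑Γ(S', V')
      (IsScalarTower.toAlgHom ↑Γ(S, V) ↑Γ(Y, W') ↑Γ(pullback g b, U'')).toLinearMap :=
    Algebra.IsPushout.out (self := Algebra.IsPushout.symm hpoC)
  have hbT : IsBaseChange ↑Γ(S', V')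
      (IsScalarTower.toAlgHom ↑Γ(S, V) ↑Γ(P, W) ↑Γ(P', q' ⁻¹ᵁ U'')).toLinearMap :=
    Algebra.IsPushout.out (self := Algebra.IsPushout.symm hpoT)
  let j : ↑Γ(Y, W') →ₐ[↑Γ(S, V)] ↑Γ(P, W) :=
    { (q.app W').hom with
      commutes' := fun a => by
        show (g.appLE V W' hle ≫ q.app W').hom a = ((WidePullback.base (fun _ : Fin n => f)).appLE V W eW).hom a
        rw [Scheme.Hom.app_eq_appLE, Scheme.Hom.appLE_comp_appLE]
        congr 3
        exact hq.over }
  let j' : ↑Γ(pullback g b, U'') →ₐ[↑Γ(S', V')] ↑Γ(P', q' ⁻¹ᵁ U'') :=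
    { (q'.app U'').hom with
      commutes' := fun a => by
        show ((pullback.snd g b).appLE V' U'' eC' ≫ q'.app U'').hom a =
          ((WidePullback.base (fun _ : Fin n => f')).appLE V' (q' ⁻¹ᵁ U'') eT').hom a
        rw [Scheme.Hom.app_eq_appLE, Scheme.Hom.appLE_comp_appLE]
        congr 3 }
  let φA : (⨂[↑Γ(S, V)] _ : Fin n, ↑Γ(X, U)) ≃ₐ[↑Γ(S, V)] ↑Γ(P, W) := AlgEquiv.ofRingEquiv (f := φ) hφa
  let act : Equiv.Perm (Fin n) → (↑Γ(P, W) →ₐ[↑Γ(S, V)] ↑Γ(P, W)) := fun τ =>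
    { ((SymProd.permHom f n τ⁻¹).appLE W W (le_perm f hbox τ⁻¹)).hom with
      commutes' := fun a => by
        show ((WidePullback.base (fun _ : Fin n => f)).appLE V W eW ≫
          (SymProd.permHom f n τ⁻¹).appLE W W (le_perm f hbox τ⁻¹)).hom a =
            ((WidePullback.base (fun _ : Fin n => f)).appLE V W eW).hom a
        rw [Scheme.Hom.appLE_comp_appLE]
        congr 3
        exact SymProd.permHom_base f n τ⁻¹ }
  let act' : Equiv.Perm (Fin n) → (↑Γ(P', q' ⁻¹ᵁ U'') →ₐ[↑Γ(S', V')] ↑Γ(P', q' ⁻¹ᵁ U'')) := fun τ =>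
    { (Groth.L27.Quot.act hinv ⟨τ⁻¹⟩ U'').hom with
      commutes' := fun a => by
        show ((WidePullback.base (fun _ : Fin n => f')).appLE V' (q' ⁻¹ᵁ U'') eT' ≫
          Groth.L27.Quot.act hinv ⟨τ⁻¹⟩ U'').hom a =
            ((WidePullback.base (fun _ : Fin n => f')).appLE V' (q' ⁻¹ᵁ U'') eT').hom a
        rw [Groth.L27.Quot.act, Scheme.Hom.appLE_comp_appLE]
        congr 3
        exact SymProd.permHom_base f' n τ⁻¹ }
  have hrange : ∀ t : ↑Γ(P, W), φA.symm.toLinearEquiv t ∈ symT ↑Γ(S, V) ↑Γ(X, U) n ↔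
      ∃ y, j.toLinearMap y = t := by
    intro t
    show (∀ σ : Equiv.Perm (Fin n), _) ↔ ∃ y, (q.app W').hom y = t
    rw [← Set.mem_range, hq.isQuot.range_iff]
    constructor
    · intro h x
      simp only [SymProd.permActU_hom]
      obtain ⟨t', rfl⟩ := φ.surjective t
      rw [hφσ x.down t', SymTen.perm_apply]
      have := h x.down.symm
      rw [show φA.symm.toLinearEquiv (φ t') = t' from φ.symm_apply_apply t'] at this
      rw [this]
    · intro h σ
      obtain ⟨t', rfl⟩ := φ.surjective t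
      rw [show φA.symm.toLinearEquiv (φ t') = t' from φ.symm_apply_apply t']
      have h1 := h ⟨σ.symm⟩
      simp only [SymProd.permActU_hom] at h1
      rw [hφσ σ.symm t', Equiv.symm_symm] at h1
      rw [← SymTen.perm_apply]
      exact φ.injective h1
  obtain ⟨h1, h2⟩ := invariants_of_isBaseChange hbC hbT j.toLinearMap j'.toLinearMap (fun y => by
      show ((pullback.fst g b).appLE W' U'' eC ≫ q'.app U'').hom y =
        (q.app W' ≫ c.appLE W (q' ⁻¹ᵁ U'') eT).hom y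
      rw [Scheme.Hom.app_eq_appLE, Scheme.Hom.app_eq_appLE, Scheme.Hom.appLE_comp_appLE,
        Scheme.Hom.appLE_comp_appLE]
      congr 3) φA.symm.toLinearEquiv (hq.isQuot.injective W') hrange (fun τ => (act τ).toLinearMap)
    (fun τ => (act' τ).toLinearMap)
    (fun τ t => by
      show (c.appLE W (q' ⁻¹ᵁ U'') eT ≫ Groth.L27.Quot.act hinv ⟨τ⁻¹⟩ U'').hom t =
        ((SymProd.permHom f n τ⁻¹).appLE W W (le_perm f hbox τ⁻¹) ≫ c.appLE W (q' ⁻¹ᵁ U'') eT).hom t
      rw [Groth.L27.Quot.act, Scheme.Hom.appLE_comp_appLE, Scheme.Hom.appLE_comp_appLE]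
      congr 3
      exact hu τ⁻¹)
    (fun τ t => by
      obtain ⟨t', rfl⟩ := φ.surjective t
      show φ.symm (((SymProd.permHom f n τ⁻¹).appLE W W (le_perm f hbox τ⁻¹)).hom (φ t')) =
        PiTensorProduct.reindex _ _ τ (φ.symm (φ t'))
      rw [hφσ τ⁻¹ t', RingEquiv.symm_apply_apply, RingEquiv.symm_apply_apply, SymTen.perm_apply,
        show (τ⁻¹).symm = τ from inv_inv τ])
  exact ⟨h1, fun s hs => h2 s fun τ => hs ⟨τ⁻¹⟩⟩

end Groth.L18.SymPow
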