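import Groth.Agent.L18.RelSpecGlue
import Groth.Prelude.Def_RelSpec2
import Mathlib.AlgebraicGeometry.Morphisms.ClosedImmersion

/-!
# The affine cone: vertex section and pointed cone
-/

noncomputable section

namespace Groth.L18.Cone

open CategoryTheory CategoryTheory.Limits AlgebraicGeometry TopologicalSpace Opposite HomogeneousIdeal
open Groth.L18

universe u

variable {S : Scheme.{u}}

theorem unit_ι_π (U : S.Opens) (hU : IsAffineOpen U) :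
    (RelSpec.QCAlg.unit S).ι U hU ≫ (RelSpec.QCAlg.unit S).π = hU.fromSpec :=
  ((RelSpec.QCAlg.unit S).ι_π U hU).trans ((congrArg (· ≫ hU.fromSpec) (Spec.map_id _)).trans (Category.id_comp _))

theorem isIso_unit_π : IsIso (RelSpec.QCAlg.unit S).π := by
  refine (IsZariskiLocalAtTarget.iff_of_iSup_eq_top (P := MorphismProperty.isomorphisms Scheme.{u})
    (fun U : S.affineOpens => U.1) (iSup_affineOpens_eq_top S)).mpr fun U => ?_
  let A := RelSpec.QCAlg.unit S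
  let e := (A.ι U.1 U.2).isoOpensRange ≪≫ A.spec.isoOfEq (A.π_preimage U.1 U.2).symm
  have he : e.hom ≫ A.π ∣_ U.1 = U.2.isoSpec.inv := by
    rw [← cancel_mono U.1.ι, Category.assoc, morphismRestrict_ι]
    refine Eq.trans ?_ U.2.isoSpec_inv_ι.symm
    simp only [e, Iso.trans_hom, Category.assoc, Scheme.isoOfEq_hom_ι_assoc]
    rw [← Category.assoc, show (A.ι U.1 U.2).isoOpensRange.hom ≫ (A.ι U.1 U.2).opensRange.ι = A.ι U.1 U.2 from by simp]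
    exact unit_ι_π U.1 U.2
  show IsIso (A.π ∣_ U.1)
  rw [← isIso_comp_left_iff e.hom, he]
  infer_instance

variable (𝒮 : RelProj.QCGrAlg S) (aug : 𝒮.toQCAlg ⟶ RelSpec.QCAlg.unit S)

theorem existsUnique_isVertex : ∃! ε : S ⟶ 𝒮.toQCAlg.spec, RelCone.IsVertex 𝒮 aug ε := by
  haveI := isIso_unit_π (S := S)
  refine ⟨inv (RelSpec.QCAlg.unit S).π ≫ RelSpec.QCAlg.specMap aug, ⟨?_, fun U hU => ?_⟩, fun ε hε => ?_⟩
  · rw [Category.assoc, RelSpec.QCAlg.specMap_π, IsIso.inv_hom_id]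
  · have h : hU.fromSpec ≫ inv (RelSpec.QCAlg.unit S).π = (RelSpec.QCAlg.unit S).ι U hU := by
      exact (IsIso.comp_inv_eq _).mpr (unit_ι_π U hU).symm
    exact (Category.assoc _ _ _).symm.trans ((congrArg (· ≫ RelSpec.QCAlg.specMap aug) h).trans
      (RelSpec.QCAlg.ι_specMap U hU aug))
  · rw [IsIso.eq_inv_comp]
    refine RSGlue.hom_ext_of_range _ _ fun x => ?_
    obtain ⟨⟨U, hU⟩, hx⟩ := Opens.mem_iSup.mp
      ((iSup_affineOpens_eq_top S).ge (trivial : (RelSpec.QCAlg.unit S).π.base x ∈ (⊤ : S.Opens)))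
    refine ⟨_, (RelSpec.QCAlg.unit S).ι U hU, inferInstance, RSGlue.exists_ι_eq _ U hU x hx, ?_⟩
    exact ((Category.assoc _ _ _).symm.trans ((congrArg (· ≫ ε) (unit_ι_π U hU)).trans (hε.chart U hU))).trans
      (RelSpec.QCAlg.ι_specMap U hU aug).symm

variable {𝒮 aug}

theorem isClosedImmersion_vertex {ε : S ⟶ 𝒮.toQCAlg.spec} (hε : RelCone.IsVertex 𝒮 aug ε) :
    IsClosedImmersion ε := by
  haveI : IsClosedImmersion (ε ≫ 𝒮.toQCAlg.π) := by rw [hε.comp_π]; infer_instance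
  exact IsClosedImmersion.of_comp ε 𝒮.toQCAlg.π

theorem aug_str (aug : 𝒮.toQCAlg ⟶ RelSpec.QCAlg.unit S) (U : S.Opens) (r : Γ(S, U)) :
    (aug.hom.app (op U)).hom ((𝒮.str.app (op U)).hom r) = r :=
  ConcreteCategory.congr_hom (NatTrans.congr_app aug.comm (op U)) r

theorem ker_aug (h0 : RelCone.StrZeroBij 𝒮) (haug : RelCone.IsAugmentation 𝒮 aug) (U : S.Opens) (hU : IsAffineOpen U) :
    RingHom.ker (aug.hom.app (op U)).hom = (HomogeneousIdeal.irrelevant (𝒮.deg U hU)).toIdeal := by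
  classical
  ext x
  rw [RingHom.mem_ker]
  show _ ↔ x ∈ HomogeneousIdeal.irrelevant (𝒮.deg U hU)
  rw [HomogeneousIdeal.mem_irrelevant_iff, GradedRing.proj_apply]
  obtain ⟨r, hr⟩ := (h0 U hU).2 (DirectSum.decompose (𝒮.deg U hU) x 0)
  have hr' : (𝒮.str.app (op U)).hom r = (DirectSum.decompose (𝒮.deg U hU) x 0 : 𝒮.presheaf.obj (op U)) :=
    congrArg Subtype.val hr
  have hx : (aug.hom.app (op U)).hom x = r := by
    conv_lhs => rw [← DirectSum.sum_support_decompose (𝒮.deg U hU) x]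
    rw [map_sum, Finset.sum_eq_single 0]
    · rw [← hr']
      exact aug_str aug U r
    · intro i _ hi
      obtain ⟨j, rfl⟩ := Nat.exists_eq_succ_of_ne_zero hi
      exact haug U hU j _ (SetLike.coe_mem _)
    · intro h
      rw [DFinsupp.notMem_support_iff.mp h, ZeroMemClass.coe_zero, map_zero]
  constructor
  · intro h
    rw [← hr', show r = 0 from hx.symm.trans h, map_zero]
  · intro h
    rw [hx]
    have : (𝒮.str.app (op U)).hom r = 0 := hr'.trans h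
    refine (aug_str aug U r).symm.trans ?_
    rw [this]
    exact map_zero _

theorem preimage_range_vertex (h0 : RelCone.StrZeroBij 𝒮) (haug : RelCone.IsAugmentation 𝒮 aug)
    {ε : S ⟶ 𝒮.toQCAlg.spec} (hε : RelCone.IsVertex 𝒮 aug ε) (U : S.Opens) (hU : IsAffineOpen U)
    (z : (Spec (𝒮.presheaf.obj (op U)) :)) :
    (𝒮.toQCAlg.ι U hU).base z ∈ Set.range ε.base ↔ z ∉ RelCone.vertexCompl (𝒮.deg U hU) := by
  have key : Set.range (Spec.map (aug.hom.app (op U))).base =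
      PrimeSpectrum.zeroLocus ((HomogeneousIdeal.irrelevant (𝒮.deg U hU)).toIdeal : Set (𝒮.presheaf.obj (op U))) := by
    have hsurj : Function.Surjective (aug.hom.app (op U)).hom := fun r => ⟨_, aug_str aug U r⟩
    rw [← ker_aug h0 haug U hU]
    exact range_comap_of_surjective _ _ hsurj
  have hcompl : z ∉ RelCone.vertexCompl (𝒮.deg U hU) ↔ z ∈ Set.range (Spec.map (aug.hom.app (op U))).base := by
    rw [key]
    exact not_not
  rw [hcompl]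
  constructor
  · rintro ⟨y, hy⟩
    have hyU : y ∈ U := by
      have h1 : 𝒮.toQCAlg.π.base (ε.base y) ∈ U := hy ▸ RSGlue.π_mem 𝒮.toQCAlg U hU z
      rwa [← Scheme.Hom.comp_apply, hε.comp_π] at h1
    obtain ⟨w, rfl⟩ : y ∈ Set.range hU.fromSpec.base := by rw [hU.range_fromSpec]; exact hyU
    refine ⟨w, (𝒮.toQCAlg.ι U hU).isOpenEmbedding.injective ?_⟩
    rw [← hy, ← Scheme.Hom.comp_apply, ← Scheme.Hom.comp_apply, hε.chart U hU]
    rfl
  · rintro ⟨w, rfl⟩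
    refine ⟨hU.fromSpec.base w, ?_⟩
    rw [← Scheme.Hom.comp_apply, ← Scheme.Hom.comp_apply, hε.chart U hU]
    rfl

theorem pointedCone_eq_compl (h0 : RelCone.StrZeroBij 𝒮) (haug : RelCone.IsAugmentation 𝒮 aug)
    {ε : S ⟶ 𝒮.toQCAlg.spec} (hε : RelCone.IsVertex 𝒮 aug ε) :
    ((RelCone.pointedCone 𝒮 : 𝒮.toQCAlg.spec.Opens) : Set 𝒮.toQCAlg.spec) = (Set.range ε.base)ᶜ := by
  ext x
  rw [Set.mem_compl_iff]
  constructor
  · intro hx
    obtain ⟨⟨U, hU⟩, z, hz, rfl⟩ := Opens.mem_iSup.mp hx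
    exact fun h => (preimage_range_vertex h0 haug hε U hU z).mp h hz
  · intro hx
    obtain ⟨⟨U, hU⟩, hU'⟩ := Opens.mem_iSup.mp
      ((iSup_affineOpens_eq_top S).ge (trivial : 𝒮.toQCAlg.π.base x ∈ (⊤ : S.Opens)))
    obtain ⟨z, rfl⟩ := RSGlue.exists_ι_eq 𝒮.toQCAlg U hU x hU'
    exact Opens.mem_iSup.mpr ⟨⟨U, hU⟩, z, by_contra fun h => hx ((preimage_range_vertex h0 haug hε U hU z).mpr h), rfl⟩

theorem map_mem_irrelevant {A B σ τ : Type u} [CommRing A] [CommRing B] [SetLike σ A] [AddSubgroupClass σ A]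
    [SetLike τ B] [AddSubgroupClass τ B] {𝒜 : ℕ → σ} [GradedRing 𝒜] {ℬ : ℕ → τ} [GradedRing ℬ]
    (ψ : 𝒜 →+*ᵍ ℬ) {x : A} (hx : x ∈ HomogeneousIdeal.irrelevant 𝒜) : ψ x ∈ HomogeneousIdeal.irrelevant ℬ := by
  rw [HomogeneousIdeal.mem_irrelevant_iff, GradedRing.proj_apply] at hx ⊢
  rw [← ψ.map_directSumDecompose, hx, map_zero]

theorem mem_vertexCompl_of_comap {R R' : CommRingCat.{u}} {𝒜 : ℕ → AddSubgroup R} [GradedRing 𝒜]
    {ℬ : ℕ → AddSubgroup R'} [GradedRing ℬ] (f : R ⟶ R') (ψ : 𝒜 →+*ᵍ ℬ) (hψ : ∀ x, ψ x = f.hom x)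
    (z : (Spec R' :)) (hz : (Spec.map f).base z ∈ RelCone.vertexCompl 𝒜) : z ∈ RelCone.vertexCompl ℬ := by
  have hz' : ¬ (((HomogeneousIdeal.irrelevant 𝒜).toIdeal : Set R) ⊆ (((Spec.map f).base z).asIdeal : Set R)) := hz
  obtain ⟨x, hx, hxz⟩ := Set.not_subset.mp hz'
  exact fun h => hxz (show f.hom x ∈ z.asIdeal from hψ x ▸ h (map_mem_irrelevant ψ hx))

theorem preimage_pointedCone_le {S' : Scheme.{u}} (q : S' ⟶ S) (𝒯 : RelProj.QCGrAlg S')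
    (u : 𝒮.presheaf ⟶ q.base _* 𝒯.presheaf)
    (hu : 𝒮.str ≫ u = q.c ≫ (TopCat.Presheaf.pushforward CommRingCat.{u} q.base).map 𝒯.str)
    (φ : ∀ (U : S.Opens) (hU : IsAffineOpen U) (U' : S'.Opens) (hU' : IsAffineOpen U') (_ : U' ≤ q ⁻¹ᵁ U),
      𝒮.deg U hU →+*ᵍ 𝒯.deg U' hU')
    (hφ : ∀ (U : S.Opens) (hU : IsAffineOpen U) (U' : S'.Opens) (hU' : IsAffineOpen U') (hle : U' ≤ q ⁻¹ᵁ U),
      (φ U hU U' hU' hle).toRingHom =
        ((u.app (op U) : 𝒮.presheaf.obj (op U) ⟶ 𝒯.presheaf.obj (op (q ⁻¹ᵁ U))) ≫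
          𝒯.presheaf.map (homOfLE hle).op).hom)
    (Φ : 𝒯.toQCAlg.spec ⟶ 𝒮.toQCAlg.spec)
    (hΦ : ∀ (U : S.Opens) (hU : IsAffineOpen U) (U' : S'.Opens) (hU' : IsAffineOpen U') (hle : U' ≤ q ⁻¹ᵁ U),
      𝒯.toQCAlg.ι U' hU' ≫ Φ =
        Spec.map ((u.app (op U) : 𝒮.presheaf.obj (op U) ⟶ 𝒯.presheaf.obj (op (q ⁻¹ᵁ U))) ≫
          𝒯.presheaf.map (homOfLE hle).op) ≫ 𝒮.toQCAlg.ι U hU) :
    Φ ⁻¹ᵁ RelCone.pointedCone 𝒮 ≤ RelCone.pointedCone 𝒯 := by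
  intro x hx
  obtain ⟨⟨U, hU⟩, z, hz, hzx⟩ := Opens.mem_iSup.mp hx
  have hcomm := RSGlue.qmap_π q 𝒯.toQCAlg 𝒮.toQCAlg u hu Φ hΦ
  have hy : q.base (𝒯.toQCAlg.π.base x) ∈ U := by
    have h := RSGlue.π_mem 𝒮.toQCAlg U hU z
    rw [show (𝒮.toQCAlg.ι U hU).base z = Φ.base x from hzx] at h
    rwa [← Scheme.Hom.comp_apply, hcomm] at h
  obtain ⟨p, hp, hpU, -⟩ := RSGlue.exists_pair_le q (𝒯.toQCAlg.π.base x) U ⊤ trivial hy
  obtain ⟨z', rfl⟩ := RSGlue.exists_ι_eq 𝒯.toQCAlg p.U' p.hU' x hp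
  let f := (u.app (op p.U) : 𝒮.presheaf.obj (op p.U) ⟶ 𝒯.presheaf.obj (op (q ⁻¹ᵁ p.U))) ≫
    𝒯.presheaf.map (homOfLE p.hle).op
  refine Opens.mem_iSup.mpr ⟨⟨p.U', p.hU'⟩, z', ?_, rfl⟩
  refine mem_vertexCompl_of_comap (𝒜 := 𝒮.deg U hU) (𝒮.presheaf.map (homOfLE hpU).op ≫ f)
    ((φ p.U p.hU p.U' p.hU' p.hle).comp (𝒮.res hU p.hU hpU)) (fun a => ?_) z' ?_
  · exact RingHom.congr_fun (hφ p.U p.hU p.U' p.hU' p.hle) _
  · have e : (Spec.map (𝒮.presheaf.map (homOfLE hpU).op ≫ f)).base z' = z := by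
      refine (𝒮.toQCAlg.ι U hU).isOpenEmbedding.injective ?_
      refine Eq.trans ?_ hzx.symm
      rw [← Scheme.Hom.comp_apply, Spec.map_comp, Category.assoc, RSGlue.ι_res 𝒮.toQCAlg hU p.hU hpU,
        ← hΦ p.U p.hU p.U' p.hU' p.hle]
      rfl
    rw [e]
    exact hz

end Groth.L18.Cone
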