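import Groth.Agent.L18.ProjCone
import Groth.Agent.L18.RelCone
import Groth.Prelude.Def_RelSpec2

/-!
# The projective cone: complement of infinity and of the vertex
-/

noncomputable section

namespace Groth.L18.PConeImm

open CategoryTheory CategoryTheory.Limits AlgebraicGeometry TopologicalSpace Opposite HomogeneousIdeal
open HomogeneousLocalization
open Groth.L18

universe u

section Points

variable {A B σ τ : Type u} [CommRing A] [CommRing B] [SetLike σ A] [AddSubgroupClass σ A]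
  [SetLike τ B] [AddSubgroupClass τ B] {𝒜 : ℕ → σ} [GradedRing 𝒜] {ℬ : ℕ → τ} [GradedRing ℬ]

theorem exists_homogeneous_not_mem {p : Ideal A} :
    (∃ f ∈ (HomogeneousIdeal.irrelevant 𝒜).toIdeal, f ∉ p) ↔ ∃ n, 0 < n ∧ ∃ f ∈ 𝒜 n, f ∉ p := by
  classical
  constructor
  · rintro ⟨f, hf, hfp⟩
    by_contra hcon
    push Not at hcon
    refine hfp ?_
    change f ∈ 𝒜₊ at hf
    rw [HomogeneousIdeal.mem_irrelevant_iff, GradedRing.proj_apply] at hf
    rw [← DirectSum.sum_support_decompose 𝒜 f]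
    refine Ideal.sum_mem _ fun n _ => ?_
    rcases Nat.eq_zero_or_pos n with rfl | hn
    · rw [hf]; exact zero_mem _
    · exact hcon n hn _ (SetLike.coe_mem _)
  · rintro ⟨n, hn, f, hf, hfp⟩
    exact ⟨f, HomogeneousIdeal.mem_irrelevant_of_mem _ hn hf, hfp⟩

variable (ι : 𝒜 →+*ᵍ ℬ) (z : B) (hz : z ∈ ℬ 1)
  (hsurj : Function.Surjective (Polynomial.eval₂RingHom (ι : A →+* B) z))

include hz hsurj

theorem exists_not_mem_of_z_mem (x : Proj ℬ) (hzx : z ∈ x.asHomogeneousIdeal) :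
    ∃ f ∈ (HomogeneousIdeal.irrelevant 𝒜).toIdeal, ι f ∉ x.asHomogeneousIdeal := by
  classical
  by_contra hcon
  push Not at hcon
  refine x.not_irrelevant_le ((HomogeneousIdeal.irrelevant_le _).mpr fun m hm b hb => ?_)
  have hmem := ConeAlg.mem_closure_of_mem (𝒜 := 𝒜) (ℬ := ℬ) (ι : A →+* B) (fun i a (ha : a ∈ 𝒜 i) => ι.2 ha) z hz hsurj m (show b ∈ ℬ m from hb)
  refine (AddSubgroup.closure_le (K := x.asHomogeneousIdeal.toIdeal.toAddSubgroup)).mpr ?_ hmem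
  rintro _ ⟨i, j, a, hij, ha, rfl⟩
  show _ ∈ x.asHomogeneousIdeal.toIdeal
  rcases Nat.eq_zero_or_pos j with rfl | hj
  · exact Ideal.mul_mem_right _ _ (hcon a (HomogeneousIdeal.mem_irrelevant_of_mem _ (by omega) ha))
  · exact Ideal.mul_mem_left _ _ (Ideal.pow_mem_of_mem _ hzx j hj)

theorem range_map_retraction (θ : ℬ →+*ᵍ 𝒜) (hθι : ∀ a, θ (ι a) = a) (hθz : θ z = 0)
    (hθ : 𝒜₊ ≤ ℬ₊.map θ) (x : Proj ℬ) :
    x ∈ Set.range (Proj.map θ hθ).base ↔ z ∈ x.asHomogeneousIdeal := by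
  constructor
  · rintro ⟨p, rfl⟩
    show θ z ∈ p.asHomogeneousIdeal
    rw [hθz]
    exact zero_mem p.asHomogeneousIdeal.toIdeal
  · intro hzx
    let p : ProjectiveSpectrum 𝒜 :=
      { asHomogeneousIdeal := x.asHomogeneousIdeal.comap ι
        isPrime := x.isPrime.comap ι
        not_irrelevant_le := fun h => by
          obtain ⟨f, hf, hfx⟩ := exists_not_mem_of_z_mem ι z hz hsurj x hzx
          exact hfx (h hf) }
    refine ⟨p, ProjectiveSpectrum.ext (HomogeneousIdeal.ext (Ideal.ext fun b => ?_))⟩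
    show ι (θ b) ∈ x.asHomogeneousIdeal.toIdeal ↔ b ∈ x.asHomogeneousIdeal.toIdeal
    obtain ⟨q, rfl⟩ := hsurj b
    have hcomp : (ι : A →+* B) (θ (Polynomial.eval₂RingHom (ι : A →+* B) z q)) = (ι : A →+* B) (q.coeff 0) := by
      congr 1
      show (θ : B →+* A) (Polynomial.eval₂ (ι : A →+* B) z q) = _
      rw [Polynomial.hom_eval₂, show (θ : B →+* A) z = 0 from hθz, Polynomial.eval₂_at_zero]
      exact hθι _
    have hdiff : Polynomial.eval₂RingHom (ι : A →+* B) z q - (ι : A →+* B) (q.coeff 0) ∈ x.asHomogeneousIdeal.toIdeal := by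
      conv => enter [2, 1]; rw [← Polynomial.X_mul_divX_add q]
      rw [map_add, map_mul, Polynomial.coe_eval₂RingHom, Polynomial.eval₂_C, Polynomial.eval₂_X, add_sub_cancel_right]
      exact Ideal.mul_mem_right _ _ hzx
    change (ι : A →+* B) (θ _) ∈ _ ↔ _
    rw [hcomp]
    exact ⟨fun h => by simpa using Ideal.add_mem _ hdiff h, fun h => by simpa using Ideal.sub_mem _ h hdiff⟩

end Points

variable {S : Scheme.{u}} {𝒜 : RelSpec.QCAlg S}
  {dA : ∀ (U : S.Opens) (_ : IsAffineOpen U), ℕ → AddSubgroup (𝒜.presheaf.obj (op U))}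
  [∀ (U : S.Opens) (hU : IsAffineOpen U), GradedRing (dA U hU)]
  {Sh : RelProj.QCGrAlg S}
  {ι : 𝒜 ⟶ Sh.toQCAlg} {z : Sh.presheaf.obj (op ⊤)}
  {θ : ∀ (U : S.Opens) (hU : IsAffineOpen U),
      CommRingCat.of (Away (Sh.deg U hU) ((Sh.presheaf.map (homOfLE le_top).op).hom z)) ⟶
        𝒜.presheaf.obj (op U)}
  (D : Data ι z dA θ)
  {PC : Scheme.{u}} {pC : PC ⟶ S}
  {chartC : ∀ (U : S.Opens) (hU : IsAffineOpen U), (((pC ⁻¹ᵁ U : PC.Opens) : Scheme.{u}) ≅ Proj (Sh.deg U hU))}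
  (hPC : RelProj.IsRelProj Sh pC chartC)
  {i : 𝒜.spec ⟶ PC}
  (hi : ∀ (U : S.Opens) (hU : IsAffineOpen U), 𝒜.ι U hU ≫ i = chartMap D PC pC chartC U hU)

include D hPC hi

theorem emb_mem (U : S.Opens) (hU : IsAffineOpen U) (v : Proj (Sh.deg U hU)) :
    pC.base ((RelProj.emb pC chartC U hU).base v) ∈ U := ((chartC U hU).inv.base v).2

theorem exists_point_of_mem (U : S.Opens) (hU : IsAffineOpen U) (v : Proj (Sh.deg U hU)) (y : 𝒜.spec)
    (hy : i.base y = (RelProj.emb pC chartC U hU).base v) :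
    ∃ w, (𝒜.ι U hU).base w = y ∧
      (Proj.awayι (Sh.deg U hU) _ (D.deg_z U hU) one_pos).base ((Spec.map (θ U hU)).base w) = v := by
  have h : 𝒜.π.base y ∈ U := by
    rw [← comp_base D hPC hi, Scheme.Hom.comp_apply, hy]
    exact emb_mem D hPC hi U hU v
  obtain ⟨w, rfl⟩ := RSGlue.exists_ι_eq 𝒜 U hU y h
  refine ⟨w, rfl, (RelProj.emb pC chartC U hU).isOpenEmbedding.injective ?_⟩
  rw [← hy, ← Scheme.Hom.comp_apply (𝒜.ι U hU), hi U hU, chartMap]
  rfl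

theorem mem_range_iff (U : S.Opens) (hU : IsAffineOpen U) (v : Proj (Sh.deg U hU)) :
    (RelProj.emb pC chartC U hU).base v ∈ Set.range i.base ↔
      (Sh.presheaf.map (homOfLE le_top).op).hom z ∉ v.asHomogeneousIdeal := by
  constructor
  · rintro ⟨y, hy⟩
    obtain ⟨w, -, rfl⟩ := exists_point_of_mem D hPC hi U hU v y hy
    exact (Proj.opensRange_awayι (Sh.deg U hU) _ (D.deg_z U hU) one_pos).le ⟨_, rfl⟩
  · intro hv
    obtain ⟨q, rfl⟩ := (Proj.opensRange_awayι (Sh.deg U hU) _ (D.deg_z U hU) one_pos).ge hv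
    haveI := isIso_θ D U hU
    refine ⟨(𝒜.ι U hU).base ((inv (Spec.map (θ U hU))).base q), ?_⟩
    rw [← Scheme.Hom.comp_apply (𝒜.ι U hU), hi U hU, ← Scheme.Hom.comp_apply, chartMap, IsIso.inv_hom_id_assoc]
    rfl

theorem ι_mem_iff (U : S.Opens) (hU : IsAffineOpen U) (w : (Spec (𝒜.presheaf.obj (op U)) :))
    (n : ℕ) (hn : 0 < n) (f : 𝒜.presheaf.obj (op U)) (hf : f ∈ dA U hU n) :
    (ι.hom.app (op U)).hom f ∉
        ((Proj.awayι (Sh.deg U hU) _ (D.deg_z U hU) one_pos).base ((Spec.map (θ U hU)).base w)).asHomogeneousIdeal ↔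
      f ∉ w.asIdeal := by
  have h := SetLike.ext_iff.mp
    (Proj.awayι_preimage_basicOpen (Sh.deg U hU) (D.deg_z U hU) one_pos (D.graded U hU n f hf) hn)
    ((Spec.map (θ U hU)).base w)
  refine h.trans ?_
  show (θ U hU).hom (Away.isLocalizationElem _ _) ∉ w.asIdeal ↔ _
  rw [show (θ U hU).hom (Away.isLocalizationElem (D.deg_z U hU) (D.graded U hU n f hf)) = f from ?_]
  refine Eq.trans ?_ (D.rule U hU n f hf)
  refine congrArg (θ U hU).hom (HomogeneousLocalization.val_injective _ ?_)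
  simp [Away.isLocalizationElem, ConeAlg.gen_val]

end Groth.L18.PConeImm

namespace Groth.L18.PConeImm

open CategoryTheory CategoryTheory.Limits AlgebraicGeometry TopologicalSpace Opposite HomogeneousIdeal
open Groth.L18

universe w

variable {S : Scheme.{w}} {𝒮 𝒮h : RelProj.QCGrAlg S} {ι : 𝒮.toQCAlg ⟶ 𝒮h.toQCAlg}
  {z : 𝒮h.presheaf.obj (op ⊤)} (hz : RelCone.IsPolyOver 𝒮 𝒮h ι z)

include hz

theorem data_of_polyOver :
    Data ι z 𝒮.deg (fun U hU => CommRingCat.ofHom (hz.awayZToBase U hU)) :=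
  ⟨fun U hU i x hx => hz.graded U hU i x hx, hz.deg_z, hz.bij, fun _ _ hU hV h _ _ hx => 𝒮.map_mem hU hV h hx,
    𝒮.str_mem, fun U hU i x hx => (hz.awayZToBase_of_val U hU _ _ i rfl).trans (hz.evalOne_ι U hU x)⟩

variable {PC : Scheme.{w}} {pC : PC ⟶ S}
  {chartC : ∀ (U : S.Opens) (hU : IsAffineOpen U), (((pC ⁻¹ᵁ U : PC.Opens) : Scheme.{w}) ≅ Proj (𝒮h.deg U hU))}
  (hPC : RelProj.IsRelProj 𝒮h pC chartC) {i : 𝒮.toQCAlg.spec ⟶ PC}
  (hi : RelCone.IsConeImm 𝒮 hz pC chartC i)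

include hPC hi

theorem range_coneImm_eq_compl {P : Scheme.{w}} {p : P ⟶ S}
    {chart : ∀ (U : S.Opens) (hU : IsAffineOpen U), (((p ⁻¹ᵁ U : P.Opens) : Scheme.{w}) ≅ Proj (𝒮.deg U hU))}
    (hP : RelProj.IsRelProj 𝒮 p chart)
    (θ : 𝒮h.toQCAlg ⟶ 𝒮.toQCAlg) (hθ : RelProj.IsGradedHom θ) (hιθ : ι ≫ θ = 𝟙 _)
    (hθz : (θ.hom.app (op ⊤)).hom z = 0)
    (hirr : ∀ (U : S.Opens) (hU : IsAffineOpen U),
      (𝒮.deg U hU)₊ ≤ ((𝒮h.deg U hU)₊).map (RelProj.gradedHomAt θ hθ U hU))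
    {j : P ⟶ PC} (hj : RelProj.IsRelProjMap θ hθ hirr chartC chart j) :
    Set.range i.base = (Set.range j.base)ᶜ := by
  ext x
  obtain ⟨⟨U, hU⟩, hxU⟩ := Opens.mem_iSup.mp ((iSup_affineOpens_eq_top S).ge (trivial : pC.base x ∈ (⊤ : S.Opens)))
  obtain ⟨v, rfl⟩ : ∃ v, (RelProj.emb pC chartC U hU).base v = x := ⟨_, emb_chart pC chartC U hU ⟨x, hxU⟩⟩
  rw [Set.mem_compl_iff, mem_range_iff (data_of_polyOver hz) hPC (fun U hU => hi U hU) U hU v]
  refine not_congr ?_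
  have hθz' : RelProj.gradedHomAt θ hθ U hU ((𝒮h.presheaf.map (homOfLE le_top).op).hom z) = 0 := by
    refine (ConcreteCategory.congr_hom (θ.hom.naturality (homOfLE (le_top : U ≤ ⊤)).op) z).trans ?_
    show (𝒮.presheaf.map _).hom ((θ.hom.app (op ⊤)).hom z) = 0
    rw [hθz, map_zero]
  have hret := range_map_retraction (RelProj.gradedHomAt ι hz.graded U hU) _ (hz.deg_z U hU) (hz.bij U hU).2
    (RelProj.gradedHomAt θ hθ U hU)
    (fun a => ConcreteCategory.congr_hom (congrArg (fun g : 𝒮.toQCAlg ⟶ 𝒮.toQCAlg => g.hom.app (op U)) hιθ) a)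
    hθz' (hirr U hU) v
  refine hret.symm.trans ⟨?_, ?_⟩
  · rintro ⟨q, rfl⟩
    refine ⟨(p ⁻¹ᵁ U).ι.base ((chart U hU).inv.base q), ?_⟩
    rw [← Scheme.Hom.comp_apply (p ⁻¹ᵁ U).ι, hj U hU, ← Scheme.Hom.comp_apply, Iso.inv_hom_id_assoc]
    rfl
  · rintro ⟨y, hy⟩
    have hcomm := (RP.existsUnique_map θ hθ hirr hPC hP).2 j hj
    have hyU : p.base y ∈ U := by
      rw [← hcomm, Scheme.Hom.comp_apply, hy]
      exact emb_mem (data_of_polyOver hz) hPC (fun U hU => hi U hU) U hU v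
    refine ⟨(chart U hU).hom.base ⟨y, hyU⟩, (RelProj.emb pC chartC U hU).isOpenEmbedding.injective ?_⟩
    rw [← hy]
    show _ = j.base ((p ⁻¹ᵁ U).ι.base ⟨y, hyU⟩)
    rw [← Scheme.Hom.comp_apply (p ⁻¹ᵁ U).ι, hj U hU]
    rfl

theorem pointedProjCone_eq_compl (h0 : RelCone.StrZeroBij 𝒮) {aug : 𝒮.toQCAlg ⟶ RelSpec.QCAlg.unit S}
    (haug : RelCone.IsAugmentation 𝒮 aug) {ε : S ⟶ 𝒮.toQCAlg.spec} (hε : RelCone.IsVertex 𝒮 aug ε) :
    ((RelCone.pointedProjCone 𝒮 hz pC chartC : PC.Opens) : Set PC) = (Set.range (ε ≫ i).base)ᶜ := by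
  have D := data_of_polyOver hz
  have hi' : ∀ (U : S.Opens) (hU : IsAffineOpen U), 𝒮.toQCAlg.ι U hU ≫ i = chartMap D PC pC chartC U hU :=
    fun U hU => hi U hU
  haveI := isOpenImmersion D hPC hi'
  have key : ∀ (U : S.Opens) (hU : IsAffineOpen U) (v : Proj (𝒮h.deg U hU)),
      v ∈ RelCone.domOpen (RelProj.gradedHomAt ι hz.graded U hU) ↔
        (RelProj.emb pC chartC U hU).base v ∉ Set.range (ε ≫ i).base := by
    intro U hU v
    rw [RelCone.mem_domOpen]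
    by_cases hv : (𝒮h.presheaf.map (homOfLE le_top).op).hom z ∈ v.asHomogeneousIdeal
    · refine iff_of_true (exists_not_mem_of_z_mem (RelProj.gradedHomAt ι hz.graded U hU) _ (hz.deg_z U hU) (hz.bij U hU).2 v hv) ?_
      rintro ⟨y, hy⟩
      exact (mem_range_iff D hPC hi' U hU v).mp ⟨ε.base y, by rw [← hy]; rfl⟩ hv
    · obtain ⟨y, hy⟩ := (mem_range_iff D hPC hi' U hU v).mpr hv
      obtain ⟨w, rfl, hwv⟩ := exists_point_of_mem D hPC hi' U hU v y hy
      have h1 : (RelProj.emb pC chartC U hU).base v ∈ Set.range (ε ≫ i).base ↔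
          (𝒮.toQCAlg.ι U hU).base w ∈ Set.range ε.base := by
        constructor
        · rintro ⟨s, hs⟩
          exact ⟨s, i.isOpenEmbedding.injective ((hs.trans hy.symm))⟩
        · rintro ⟨s, hs⟩
          exact ⟨s, (congrArg i.base hs).trans hy⟩
      rw [h1, Cone.preimage_range_vertex h0 haug hε U hU w, not_not]
      have h2 : w ∈ RelCone.vertexCompl (𝒮.deg U hU) ↔
          ∃ f ∈ (HomogeneousIdeal.irrelevant (𝒮.deg U hU)).toIdeal, f ∉ w.asIdeal :=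
        Set.not_subset
      rw [h2, exists_homogeneous_not_mem (𝒜 := 𝒮.deg U hU) (p := w.asIdeal)]
      subst hwv
      refine Iff.trans (exists_homogeneous_not_mem (p := Ideal.comap (RelProj.gradedHomAt ι hz.graded U hU)
        ((Proj.awayι (𝒮h.deg U hU) _ (D.deg_z U hU) one_pos).base
          ((Spec.map (CommRingCat.ofHom (hz.awayZToBase U hU))).base w)).asHomogeneousIdeal.toIdeal)) ?_
      exact exists_congr fun n => and_congr_right fun hn => exists_congr fun f => and_congr_right fun hf =>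
        ι_mem_iff D hPC hi' U hU w n hn f hf
  ext x
  rw [Set.mem_compl_iff]
  constructor
  · intro hx
    obtain ⟨⟨U, hU⟩, v, hv, rfl⟩ := Opens.mem_iSup.mp hx
    exact (key U hU v).mp hv
  · intro hx
    obtain ⟨⟨U, hU⟩, hxU⟩ := Opens.mem_iSup.mp ((iSup_affineOpens_eq_top S).ge (trivial : pC.base x ∈ (⊤ : S.Opens)))
    refine Opens.mem_iSup.mpr ⟨⟨U, hU⟩, (chartC U hU).hom.base ⟨x, hxU⟩, ?_, emb_chart pC chartC U hU ⟨x, hxU⟩⟩
    exact (key U hU _).mpr (by rw [emb_chart]; exact hx)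

end Groth.L18.PConeImm
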