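import Mathlib.AlgebraicGeometry.ValuativeCriterion
import Mathlib.AlgebraicGeometry.Limits
import Mathlib.Topology.KrullDimension
import Mathlib.Topology.Spectral.Prespectral

/-!
# Zero-dimensional schemes
-/

set_option autoImplicit false
universe u

open CategoryTheory CategoryTheory.Limits AlgebraicGeometry TopologicalSpace

namespace Groth.L18.ZeroDim

theorem eq_of_specializes {X : Type*} [TopologicalSpace X] [T0Space X] (h : topologicalKrullDim X ≤ 0)
    {y x : X} (hyx : y ⤳ x) : y = x := by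
  rw [topologicalKrullDim, Order.krullDim_nonpos_iff_forall_isMax] at h
  have hle : closure ({x} : Set X) ⊆ closure {y} := hyx.closure_subset
  have := h ⟨closure {x}, isIrreducible_singleton.closure, isClosed_closure⟩
    (b := ⟨closure {y}, isIrreducible_singleton.closure, isClosed_closure⟩) hle
  refine hyx.antisymm ?_ |>.eq
  rw [specializes_iff_mem_closure]
  exact this (subset_closure (Set.mem_singleton y))

theorem spec_t2 (R : Type*) [CommRing R] [T1Space (PrimeSpectrum R)] : T2Space (PrimeSpectrum R) := by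
  refine ⟨fun x y hxy => ?_⟩
  have hno : ∀ {p q : PrimeSpectrum R}, p ≤ q → p = q := fun {p q} h =>
    ((PrimeSpectrum.le_iff_specializes p q).mp h).eq
  obtain ⟨a, hay, hax⟩ : ∃ a ∈ y.asIdeal, a ∉ x.asIdeal :=
    Set.not_subset.mp fun h => hxy (hno (show y ≤ x from h)).symm
  -- `a` is nilpotent at `y`
  obtain ⟨s, hs, n, hn⟩ : ∃ s, s ∉ y.asIdeal ∧ ∃ n : ℕ, s * a ^ n = 0 := by
    by_contra hne
    let S : Submonoid R := y.asIdeal.primeCompl ⊔ Submonoid.powers a
    have h0 : Disjoint ((⊥ : Ideal R) : Set R) S := by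
      rw [Set.disjoint_left]
      rintro z (rfl : z = 0) hz
      obtain ⟨s, hs, _, ⟨n, rfl⟩, h⟩ := Submonoid.mem_sup.mp hz
      exact hne ⟨s, hs, n, h⟩
    obtain ⟨p, hp, -, hdisj⟩ := Ideal.exists_le_prime_disjoint (⊥ : Ideal R) S h0
    have hle : p ≤ y.asIdeal := fun z hz => by
      by_contra hzy
      exact Set.disjoint_left.mp hdisj hz (Submonoid.mem_sup_left hzy)
    have : (⟨p, hp⟩ : PrimeSpectrum R) = y := hno hle
    have hap : a ∉ p := fun h => Set.disjoint_left.mp hdisj h (Submonoid.mem_sup_right (Submonoid.mem_powers a))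
    exact hap (by rw [show p = y.asIdeal from congrArg PrimeSpectrum.asIdeal this]; exact hay)
  refine ⟨PrimeSpectrum.basicOpen a, PrimeSpectrum.basicOpen s, PrimeSpectrum.isOpen_basicOpen,
    PrimeSpectrum.isOpen_basicOpen, hax, hs, Set.disjoint_left.mpr fun z hz1 hz2 => ?_⟩
  have h := z.asIdeal.zero_mem
  rw [← hn] at h
  rcases z.isPrime.mem_or_mem h with h | h
  · exact hz2 h
  · exact hz1 (z.isPrime.mem_of_pow_mem n h)

variable {X : Scheme.{u}} (h : topologicalKrullDim X ≤ 0)
include h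

theorem affine_t2 (U : X.Opens) (hU : IsAffineOpen U) : T2Space U := by
  haveI : T1Space X := ⟨fun x => closure_subset_iff_isClosed.mp fun y hy =>
    Set.mem_singleton_iff.mpr (eq_of_specializes h (specializes_iff_mem_closure.mpr hy)).symm⟩
  haveI : T1Space U.toScheme := inferInstanceAs (T1Space (U : Set X))
  let e := hU.isoSpec.hom.homeomorph
  haveI : T1Space (PrimeSpectrum Γ(X, U)) := e.t1Space
  haveI : T2Space (Spec Γ(X, U)) := spec_t2 Γ(X, U)
  exact e.symm.t2Space

theorem affine_closed [QuasiSeparatedSpace X] (U : X.Opens) (hU : IsAffineOpen U) : IsClosed (U : Set X) := by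
  rw [← isOpen_compl_iff, isOpen_iff_forall_mem_open]
  intro x hx
  obtain ⟨_, ⟨V, hV, rfl⟩, hxV, -⟩ := X.isBasis_affineOpens.exists_subset_of_mem_open (Set.mem_univ x) isOpen_univ
  haveI : T2Space (V : Set X) := affine_t2 h V hV
  have hc : IsCompact ((U : Set X) ∩ V) :=
    QuasiSeparatedSpace.inter_isCompact _ _ U.2 hU.isCompact V.2 hV.isCompact
  have hc' : IsClosed (Subtype.val ⁻¹' (U : Set X) : Set (V : Set X)) := by
    refine IsCompact.isClosed ?_
    rw [Topology.IsEmbedding.subtypeVal.isCompact_iff, Subtype.image_preimage_coe, Set.inter_comm]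
    exact hc
  refine ⟨Subtype.val '' (Subtype.val ⁻¹' (U : Set X) : Set (V : Set X))ᶜ, ?_, V.2.isOpenMap_subtype_val _ hc'.isOpen_compl, ?_⟩
  · rintro _ ⟨z, hz, rfl⟩; exact hz
  · exact ⟨⟨x, hxV⟩, hx, rfl⟩

theorem t2 [QuasiSeparatedSpace X] : T2Space X := by
  refine ⟨fun x y hxy => ?_⟩
  obtain ⟨_, ⟨U, hU, rfl⟩, hxU, -⟩ := X.isBasis_affineOpens.exists_subset_of_mem_open (Set.mem_univ x) isOpen_univ
  by_cases hyU : y ∈ U
  · obtain ⟨u, v, hu, hv, hxu, hyv, huv⟩ := @t2_separation _ _ (affine_t2 h U hU) ⟨x, hxU⟩ ⟨y, hyU⟩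
      (fun e => hxy (congrArg Subtype.val e))
    exact ⟨Subtype.val '' u, Subtype.val '' v, U.2.isOpenMap_subtype_val u hu, U.2.isOpenMap_subtype_val v hv,
      ⟨_, hxu, rfl⟩, ⟨_, hyv, rfl⟩, Set.disjoint_image_of_injective Subtype.val_injective huv⟩
  · exact ⟨U, (U : Set X)ᶜ, U.2, (affine_closed h U hU).isOpen_compl, hxU, hyU, disjoint_compl_right⟩

theorem isSeparated [QuasiSeparatedSpace X] : X.IsSeparated := by
  haveI : QuasiSeparated (terminal.from X) := (quasiSeparatedSpace_iff_quasiSeparated _).mp inferInstance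
  refine ⟨IsSeparated.of_valuativeCriterion _ fun S => ⟨fun l l' => ?_⟩⟩
  refine CommSq.LiftStruct.ext ?_
  let g := Spec.map (CommRingCat.ofHom (algebraMap S.R S.K))
  have hg : g ≫ l.l = g ≫ l'.l := l.fac_left.trans l'.fac_left.symm
  let p0 : Spec (CommRingCat.of S.K) := (⟨⊥, Ideal.isPrime_bot⟩ : PrimeSpectrum S.K)
  let η : Spec (CommRingCat.of S.R) := g.base p0
  have hη : ∀ z : Spec (CommRingCat.of S.R), η ⤳ z := fun z => by
    refine (PrimeSpectrum.le_iff_specializes η z).mp ?_
    intro r hr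
    have : algebraMap S.R S.K r ∈ (⊥ : Ideal S.K) := hr
    have : r = 0 := IsFractionRing.injective S.R S.K (by simpa using this)
    rw [this]; exact zero_mem _
  obtain ⟨_, ⟨U, hU, rfl⟩, hηU, -⟩ := X.isBasis_affineOpens.exists_subset_of_mem_open
    (Set.mem_univ (l.l.base η)) isOpen_univ
  have hll : l'.l.base η = l.l.base η := by
    show (g ≫ l'.l).base p0 = (g ≫ l.l).base p0
    rw [hg]
  have key : ∀ (f : Spec (CommRingCat.of S.R) ⟶ X), f.base η ∈ U → Set.range f.base ⊆ Set.range (Scheme.Opens.ι U).base := by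
    rintro f hf _ ⟨z, rfl⟩
    rw [Scheme.Opens.range_ι, ← eq_of_specializes h ((hη z).map f.base.hom.continuous)]
    exact hf
  let a := IsOpenImmersion.lift (Scheme.Opens.ι U) l.l (key _ hηU)
  let b := IsOpenImmersion.lift (Scheme.Opens.ι U) l'.l (key _ (by rw [hll]; exact hηU))
  have hab : g ≫ a = g ≫ b := by
    rw [← cancel_mono (Scheme.Opens.ι U), Category.assoc, Category.assoc, IsOpenImmersion.lift_fac, IsOpenImmersion.lift_fac, hg]
  rw [← IsOpenImmersion.lift_fac (Scheme.Opens.ι U) l.l (key _ hηU), ← IsOpenImmersion.lift_fac (Scheme.Opens.ι U) l'.l (key _ (by rw [hll]; exact hηU))]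
  congr 1
  show a = b
  obtain ⟨α, hα⟩ := Spec.map_surjective (a ≫ hU.isoSpec.hom)
  obtain ⟨β, hβ⟩ := Spec.map_surjective (b ≫ hU.isoSpec.hom)
  rw [← cancel_mono hU.isoSpec.hom, ← hα, ← hβ]
  congr 1
  have h' : α ≫ CommRingCat.ofHom (algebraMap S.R S.K) = β ≫ CommRingCat.ofHom (algebraMap S.R S.K) :=
    Spec.map_injective (by rw [Spec.map_comp, Spec.map_comp, hα, hβ, ← Category.assoc, ← Category.assoc, hab])
  ext z
  exact IsFractionRing.injective S.R S.K congr($(h') z)

theorem isAffineOpen [QuasiSeparatedSpace X] (U : X.Opens) (hU : IsCompact (U : Set X)) : IsAffineOpen U := by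
  obtain ⟨s, hs, hsU⟩ := (isCompact_and_isOpen_iff_finite_and_eq_biUnion_affineOpens (X := X) (U := (U : Set X))).mp ⟨hU, U.2⟩
  clear hU
  induction s, hs using Set.Finite.induction_on generalizing U with
  | empty =>
    obtain rfl : U = ⊥ := Opens.ext (by simpa using hsU)
    exact isAffineOpen_bot X
  | @insert V s _ _ ih =>
    let W : X.Opens := ⟨⋃ i ∈ s, (i : Set X), isOpen_biUnion fun i _ => i.1.2⟩
    have hW := ih W rfl
    have hWc : IsClosed (W : Set X) := affine_closed h W hW
    let V' : X.Opens := ⟨(V.1 : Set X) \ W, V.1.2.sdiff hWc⟩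
    have hV' : IsAffineOpen V' := by
      let i : V'.toScheme ⟶ V.1.toScheme := X.homOfLE (show V' ≤ V.1 from fun z hz => hz.1)
      haveI : IsAffine V.1.toScheme := V.2
      haveI : IsClosedImmersion i := by
        refine .of_isPreimmersion _ ?_
        rw [← Scheme.Hom.coe_opensRange, Scheme.opensRange_homOfLE]
        have e : (Subtype.val ⁻¹' (V' : Set X) : Set (V.1 : Set X)) = Subtype.val ⁻¹' ((W : Set X)ᶜ) := by
          ext z; exact ⟨fun hz => hz.2, fun hz => ⟨z.2, hz⟩⟩
        show IsClosed (Subtype.val ⁻¹' (V' : Set X) : Set (V.1 : Set X))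
        rw [e]
        exact W.2.isClosed_compl.preimage continuous_subtype_val
      exact isAffine_of_isAffineHom i
    have hU : U = ⨆ b : Bool, cond b V' W := Opens.ext (by
      rw [hsU, iSup_bool_eq]
      simp [V', W])
    rw [hU]
    refine IsAffineOpen.iSup_of_disjoint (fun b => by cases b <;> assumption) ?_
    have hd : Disjoint V' W := by
      rw [disjoint_iff]; exact Opens.ext (by ext z; simp [V'])
    intro a b hab
    cases a <;> cases b <;> first | exact absurd rfl hab | exact hd | exact hd.symm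

end Groth.L18.ZeroDim

namespace Groth.L18.ZeroDim

theorem dim_le_zero_of_t2 (X : Scheme.{u}) [T2Space X] : topologicalKrullDim X ≤ 0 := by
  rw [topologicalKrullDim, Order.krullDim_nonpos_iff_forall_isMax]
  intro Z W hZW
  obtain ⟨x, hx⟩ := Z.isIrreducible.nonempty
  intro y hy
  have : y = x := subsingleton_of_disjoint_clopen_aux W.isIrreducible hy (hZW hx)
  exact this ▸ hx
where
  subsingleton_of_disjoint_clopen_aux {X : Type u} [TopologicalSpace X] [T2Space X] {S : Set X} {a b : X}
      (hS : IsIrreducible S) (ha : a ∈ S) (hb : b ∈ S) : a = b := by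
    by_contra hne
    obtain ⟨u, v, hu, hv, hau, hbv, huv⟩ := t2_separation hne
    obtain ⟨z, -, hzu, hzv⟩ := hS.2 u v hu hv ⟨a, ha, hau⟩ ⟨b, hb, hbv⟩
    exact Set.disjoint_left.mp huv hzu hzv

theorem quasiSeparated_of_t2 (X : Scheme.{u}) [T2Space X] : QuasiSeparatedSpace X :=
  ⟨fun U V _ hUc _ hVc => hUc.inter hVc⟩

end Groth.L18.ZeroDim
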