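import Groth.Agent.L22.VeryAmple.Over
import Groth.Agent.L18.GenLocus
import Groth.Agent.L03.Euler.Section

/-!
# Very ample tensor globally generated is very ample (over an affine base, projective space form)
-/

set_option autoImplicit false
universe u

open CategoryTheory CategoryTheory.Limits AlgebraicGeometry TopologicalSpace Opposite

noncomputable section

namespace Groth.L18.VASum

open Groth.L18.Frame Groth.L18.PUP Groth.L18.GenLoc MvPolynomial HomogeneousLocalization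

variable {R : Type u} [CommRing R]

theorem awayToSection_scalar {n : ℕ} (i : Fin (n + 1)) :
    CommRingCat.ofHom (Groth.L18.PS.chartScalar n R i) ≫ Proj.awayToSection (CohB1.polyGrading n R) (X i) =
      CommRingCat.ofHom (((P n R).presheaf.map (homOfLE (le_top : D i ≤ ⊤)).op).hom.comp (ProjUP.toGlobal (pr n R))) := by
  set hD := Proj.isAffineOpen_basicOpen (CohB1.polyGrading n R) (X i) (Groth.L18.PS.X_mem n i) one_pos
  have h1 : hD.fromSpec ≫ pr n R = _ := toGlobal_fromSpec (pr n R) hD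
  have h2 : hD.fromSpec ≫ pr n R =
      Spec.map (CommRingCat.ofHom (Groth.L18.PS.chartScalar n R i) ≫
        Proj.awayToSection (CohB1.polyGrading n R) (X i)) := by
    rw [fromSpec_D, Category.assoc, Spec.map_comp]
    congr 1
    exact Groth.L18.PS.chart_toSpec i
  exact Spec.map_injective (h2.symm.trans h1)

theorem appLE_scalar {Z : Scheme.{u}} {n : ℕ} (q : Z ⟶ Spec (CommRingCat.of R)) (r : Z ⟶ P n R)
    (hr : r ≫ pr n R = q) {W : Z.Opens} {i : Fin (n + 1)} (h : W ≤ r ⁻¹ᵁ D i) (a : R) :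
    r.appLE (D i) W h (Proj.awayToSection (CohB1.polyGrading n R) (X i) (Groth.L18.PS.chartScalar n R i a)) =
      ro (le_top : W ≤ ⊤) (ProjUP.toGlobal q a) := by
  rw [show Proj.awayToSection (CohB1.polyGrading n R) (X i) (Groth.L18.PS.chartScalar n R i a) =
      ro (le_top : D i ≤ ⊤) (ProjUP.toGlobal (pr n R) a) from
    ConcreteCategory.congr_hom (awayToSection_scalar i) a]
  subst hr
  exact ConcreteCategory.congr_hom (Scheme.Hom.map_appLE r h (homOfLE (le_top : D i ≤ ⊤)).op) _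

theorem exists_immersion_tensor {Z : Scheme.{u}} {n : ℕ} (q : Z ⟶ Spec (CommRingCat.of R))
    (r : Z ⟶ P n R) [IsImmersion r] (hr : r ≫ pr n R = q)
    (L' : Z.Modules) (hL' : PicF.IsInvertible L') {m : ℕ} (s : Fin m → Γ(L', ⊤)) (hs : ProjUP.GeneratedBy L' s) :
    ∃ (N : ℕ) (ψ : Z ⟶ P N R), ψ ≫ pr N R = q ∧ IsImmersion ψ ∧
      Nonempty ((Scheme.Modules.pullback ψ).obj (O1 N R) ≅
        CohB1.tensorMod ((Scheme.Modules.pullback r).obj (O1 n R)) L') := by
  classical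
  -- make the number of sections positive
  let s' : Fin (m + 1) → Γ(L', ⊤) := Fin.cons 0 s
  have hs' : ProjUP.GeneratedBy L' s' := fun x => by
    rw [← top_le_iff, ← hs x]
    refine Submodule.span_mono ?_
    rintro _ ⟨i, rfl⟩
    exact ⟨i.succ, congrArg _ (Fin.cons_succ (α := fun _ => Γ(L', ⊤)) 0 s i)⟩
  obtain ⟨N, ⟨e⟩⟩ : ∃ N, Nonempty (Fin (n + 1) × Fin (m + 1) ≃ Fin (N + 1)) :=
    ⟨(n + 1) * (m + 1) - 1, ⟨finProdFinEquiv.trans (finCongr (by
      have := Nat.mul_pos (Nat.succ_pos n) (Nat.succ_pos m)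
      simp only [Nat.succ_eq_add_one] at this ⊢
      omega))⟩⟩
  set L := (Scheme.Modules.pullback r).obj (O1 n R) with hLdef
  let t : Fin (N + 1) → Γ(CohB1.tensorMod L L', ⊤) := fun l =>
    tens L L' ⊤ (rT r (e.symm l).1) (s' (e.symm l).2)
  have hL : PicF.IsInvertible L := by
    refine isInvertible_of_frames fun x => ?_
    obtain ⟨i, hi⟩ := Opens.mem_iSup.mp ((Groth.L18.PS.iSup_chart (n := n) (R := R)).ge (trivial : r.base x ∈ (⊤ : (P n R).Opens)))
    exact ⟨r ⁻¹ᵁ D i, _, hi, rT_frame r i⟩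
  have hgen : ProjUP.GeneratedBy (CohB1.tensorMod L L') t := fun x => by
    obtain ⟨i, hi⟩ := Opens.mem_iSup.mp ((Groth.L18.PS.iSup_chart (n := n) (R := R)).ge (trivial : r.base x ∈ (⊤ : (P n R).Opens)))
    obtain ⟨W, j, -, hxW, hW⟩ := exists_frame_of_generated hL' s' hs' x
    have hle : r ⁻¹ᵁ D i ⊓ W ≤ r ⁻¹ᵁ D i := inf_le_left
    have hle' : r ⁻¹ᵁ D i ⊓ W ≤ W := inf_le_right
    have hf := isFrame_tens ((rT_frame r i).mono hle) (hW.mono hle')
    rw [rs_rs, rs_rs, ← tens_rs] at hf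
    have hb := Groth.L03.Euler.bijective_toSpanSingleton_germ hf (x := x) ⟨hi, hxW⟩
    rw [Groth.L20.ModStalk.germ_rs] at hb
    rw [← top_le_iff]
    intro v _
    obtain ⟨a, rfl⟩ := hb.2 v
    refine Submodule.smul_mem _ a (Submodule.subset_span ⟨e (i, j), ?_⟩)
    simp only [t, Equiv.symm_apply_apply]
    rfl
  obtain ⟨ψ, hψ, τ, hτ⟩ := exists_hom q (CohB1.tensorMod L L') (isInvertible_tensor hL hL') t hgen
  refine ⟨N, ψ, hψ, ?_, ⟨τ⟩⟩
  -- the cover of projective space by coordinate opens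
  refine IsZariskiLocalAtTarget.of_iSup_eq_top (P := @IsImmersion) (fun l : Fin (N + 1) => D (R := R) l)
    Groth.L18.PS.iSup_chart fun l => ?_
  obtain ⟨⟨i, j⟩, rfl⟩ := e.surjective l
  have ht : τ.hom.app ⊤ (rT ψ (e (i, j))) = tens L L' ⊤ (rT r i) (s' j) := by
    rw [hτ]; simp only [t, Equiv.symm_apply_apply]
  -- the frame `r^*x_i ⊗ s_j` over `ψ⁻¹ D(ij)`
  let U := ψ ⁻¹ᵁ D (e (i, j))
  have hUr : U ≤ r ⁻¹ᵁ D i := by
    intro x hx
    obtain ⟨i', hi'⟩ := Opens.mem_iSup.mp ((Groth.L18.PS.iSup_chart (n := n) (R := R)).ge (trivial : r.base x ∈ (⊤ : (P n R).Opens)))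
    obtain ⟨W, j', -, hxW, hW⟩ := exists_frame_of_generated hL' s' hs' x
    let V := U ⊓ (r ⁻¹ᵁ D i' ⊓ W)
    have hxV : x ∈ V := ⟨hx, hi', hxW⟩
    have h1 : V ≤ r ⁻¹ᵁ D i' := inf_le_right.trans inf_le_left
    have h2 : V ≤ W := inf_le_right.trans inf_le_right
    obtain ⟨b, hb⟩ := (hW.mono h2).exists_coeff le_rfl (rs L' (le_top : V ≤ ⊤) (s' j))
    rw [rs_self, rs_rs] at hb
    have hf := isFrame_tens ((rT_frame r i').mono h1) (hW.mono h2)
    rw [rs_rs, rs_rs] at hf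
    have hg : IsFrame (CohB1.tensorMod L L') V
        (tens L L' V (rs L le_top (rT r i)) (rs L' le_top (s' j))) := by
      have h4 := (rT_frame ψ (e (i, j))).mono (inf_le_left : V ≤ U)
      rw [rs_rs] at h4
      have h5 : rs (CohB1.tensorMod L L') (le_top : V ≤ ⊤) (τ.hom.app ⊤ (rT ψ (e (i, j)))) =
          τ.hom.app V (rs _ (le_top : V ≤ ⊤) (rT ψ (e (i, j)))) :=
        (ConcreteCategory.congr_hom (τ.hom.mapPresheaf.naturality (homOfLE (le_top : V ≤ ⊤)).op) _).symm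
      rw [ht, tens_rs] at h5
      rw [h5]
      intro V' hV'
      rw [show rs (CohB1.tensorMod L L') hV' (τ.hom.app V (rs _ (le_top : V ≤ ⊤) (rT ψ (e (i, j))))) =
        τ.hom.app V' (rs _ hV' (rs _ (le_top : V ≤ ⊤) (rT ψ (e (i, j))))) from
        (ConcreteCategory.congr_hom (τ.hom.mapPresheaf.naturality (homOfLE hV').op) _).symm]
      have : (fun a => a • τ.hom.app V' (rs _ hV' (rs _ (le_top : V ≤ ⊤) (rT ψ (e (i, j)))))) =
          (τ.hom.app V') ∘ (fun a : Γ(Z, V') => a • rs _ hV' (rs _ (le_top : V ≤ ⊤) (rT ψ (e (i, j))))) := by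
        funext a
        exact (Scheme.Modules.Hom.app_smul τ.hom _ _).symm
      rw [this]
      exact ((ConcreteCategory.bijective_of_isIso (τ.hom.app V'))).comp (h4 V' hV')
    rw [← rT_smul_le r h1 i, ← hb, tens_smul_left, tens_smul_right, ← mul_smul] at hg
    have hu := isUnit_of_isFrame hf hg
    have h6 := Z.basicOpen_of_isUnit (IsUnit.mul_iff.mp hu).1
    rw [Scheme.basicOpen_appLE] at h6
    exact basicOpen_cc i' i (h6.ge hxV).2
  -- compare with `r`
  let Aw := CommRingCat.of (Away (CohB1.polyGrading N R) (X (e (i, j)) : MvPolynomial (Fin (N + 1)) R))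
  have hu : IsUnit ((fun i' : Fin (n + 1) => (Groth.L18.PS.coord (R := R) (e (i, j)) (e (i', j)) : Aw)) i) := by
    simp only [Groth.L18.PS.coord_self]
    exact isUnit_one
  let g : CommRingCat.of (Away (CohB1.polyGrading n R) (X i : MvPolynomial (Fin (n + 1)) R)) ⟶ Aw :=
    CommRingCat.ofHom (Groth.L18.PS.chartHom (Groth.L18.PS.chartScalar N R (e (i, j)))
      (fun i' => (Groth.L18.PS.coord (R := R) (e (i, j)) (e (i', j)) : Aw)) i hu)
  let π : (D (R := R) (e (i, j))).toScheme ⟶ P n R :=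
    (Proj.basicOpenIsoSpec (CohB1.polyGrading N R) (X (e (i, j))) (Groth.L18.PS.X_mem N _) one_pos).hom ≫
      Spec.map g ≫ ch n R i
  suffices hcomp : (ψ ∣_ D (e (i, j))) ≫ π = U.ι ≫ r by
    haveI : IsImmersion ((ψ ∣_ D (e (i, j))) ≫ π) := by
      rw [hcomp]
      infer_instance
    exact IsImmersion.of_comp _ π
  refine Scheme.Cover.hom_ext U.toScheme.affineOpenCover.openCover _ _ fun a => ?_
  -- work on an affine open of `Z` inside `U`
  set w := U.toScheme.affineOpenCover.f a with hw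
  let W : Z.Opens := U.ι ''ᵁ w.opensRange
  have hWU : W ≤ U := (Scheme.Hom.image_le_opensRange _ _).trans_eq U.opensRange_ι
  have hW : IsAffineOpen W := (isAffineOpen_opensRange w).image_of_isOpenImmersion U.ι
  obtain ⟨v, hv⟩ : ∃ v, w ≫ U.ι = v ≫ hW.fromSpec := by
    refine ⟨IsOpenImmersion.lift hW.fromSpec (w ≫ U.ι) ?_, (IsOpenImmersion.lift_fac _ _ _).symm⟩
    rw [hW.range_fromSpec, Scheme.Hom.comp_base, TopCat.coe_comp, Set.range_comp]
    rfl
  have hpi : (D (R := R) (e (i, j))).ι ≫ 𝟙 _ = (D (R := R) (e (i, j))).ι := Category.comp_id _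
  have hWψ : W ≤ ψ ⁻¹ᵁ D (e (i, j)) := hWU
  have hWr : W ≤ r ⁻¹ᵁ D i := hWU.trans hUr
  have e1 := fromSpec_comp r hW hWr
  have e2 := fromSpec_comp ψ hW hWψ
  show w ≫ (ψ ∣_ D (e (i, j))) ≫ π = w ≫ U.ι ≫ r
  rw [← Category.assoc w U.ι r, hv, Category.assoc v, e1]
  -- the left side through `Spec Aw`
  have e3 : w ≫ (ψ ∣_ D (e (i, j))) ≫
      (Proj.basicOpenIsoSpec (CohB1.polyGrading N R) (X (e (i, j))) (Groth.L18.PS.X_mem N _) one_pos).hom =
      v ≫ Spec.map (Proj.awayToSection (CohB1.polyGrading N R) (X (e (i, j))) ≫ ψ.appLE (D (e (i, j))) W hWψ) := by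
    rw [← cancel_mono (ch N R (e (i, j))), Category.assoc, Category.assoc, Category.assoc, ← e2, ← Category.assoc v,
      ← hv, Category.assoc]
    congr 1
    rw [show (Proj.basicOpenIsoSpec (CohB1.polyGrading N R) (X (e (i, j))) (Groth.L18.PS.X_mem N _) one_pos).hom ≫
        ch N R (e (i, j)) = (D (e (i, j))).ι by rw [ch, ← Proj.basicOpenIsoSpec_inv_ι, Iso.hom_inv_id_assoc],
      morphismRestrict_ι]
  simp only [π]
  rw [reassoc_of% e3, ← Spec.map_comp_assoc]
  congr 2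
  apply congrArg
  refine CommRingCat.hom_ext (Groth.L18.PS.chart_ringHom_ext i ?_ fun i' => ?_)
  · ext x
    show ψ.appLE _ W hWψ (Proj.awayToSection _ _ (g.hom (Groth.L18.PS.chartScalar n R i x))) =
      r.appLE _ W hWr (Proj.awayToSection _ _ (Groth.L18.PS.chartScalar n R i x))
    rw [appLE_scalar q r hr]
    rw [show g.hom (Groth.L18.PS.chartScalar n R i x) = Groth.L18.PS.chartScalar N R (e (i, j)) x from
      Groth.L18.PS.chartHom_algebraMap _ _ i hu x]
    exact appLE_scalar q ψ hψ hWψ x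
  · show ψ.appLE _ W hWψ (Proj.awayToSection _ _ (g.hom (Groth.L18.PS.coord i i'))) =
      r.appLE _ W hWr (cc i i')
    have h1 : g.hom (Groth.L18.PS.coord i i') = (Groth.L18.PS.coord (R := R) (e (i, j)) (e (i', j)) : Aw) := by
      have := Groth.L18.PS.chartHom_coord (Groth.L18.PS.chartScalar N R (e (i, j)))
        (fun i' => (Groth.L18.PS.coord (R := R) (e (i, j)) (e (i', j)) : Aw)) i hu i'
      simp only [Groth.L18.PS.coord_self, mul_one] at this
      exact this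
    rw [h1]
    show ψ.appLE _ W hWψ (cc (e (i, j)) (e (i', j))) = _
    refine (rT_frame_le ψ hWψ).inj le_rfl ?_
    rw [rs_self]
    apply (ConcreteCategory.bijective_of_isIso (τ.hom.app W)).1
    rw [rT_smul_le ψ hWψ, Scheme.Modules.Hom.app_smul]
    have nat : ∀ l, τ.hom.app W (rs _ (le_top : W ≤ ⊤) (rT ψ l)) = rs _ (le_top : W ≤ ⊤) (t l) := fun l => by
      rw [← hτ]
      exact ConcreteCategory.congr_hom (τ.hom.mapPresheaf.naturality (homOfLE (le_top : W ≤ ⊤)).op) _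
    rw [nat, nat]
    simp only [t, Equiv.symm_apply_apply, tens_rs]
    rw [← tens_smul_left, rT_smul_le r hWr]

theorem isRelVeryAmplePn_tensor {X S : Scheme.{u}} [IsAffine S] (q : X ⟶ S)
    (L L' : X.Modules) (hva : RelAmple.IsRelVeryAmplePn q L)
    (hL' : PicF.IsInvertible L') {m : ℕ} (s : Fin m → ProjUP.Γm L') (hs : ProjUP.GeneratedBy L' s) :
    RelAmple.IsRelVeryAmplePn q (CohB1.tensorMod L L') := by
  obtain ⟨n, i, hi, hiq, ⟨ε₀⟩⟩ := hva
  obtain ⟨e, he, ⟨ε⟩⟩ := Groth.L22.VeryAmple.exists_iso_over n S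
  have hpr : (i ≫ e.inv) ≫ pr n Γ(S, ⊤) = q ≫ S.isoSpec.hom := by
    rw [← hiq, Category.assoc, Category.assoc]
    congr 1
    rw [← cancel_mono S.isoSpec.inv, Category.assoc, Category.assoc, ← he, Iso.hom_inv_id, Category.comp_id,
      Iso.inv_hom_id_assoc]
    rfl
  obtain ⟨N, ψ, hψ, hψi, ⟨τ⟩⟩ := exists_immersion_tensor (R := Γ(S, ⊤)) (q ≫ S.isoSpec.hom) (i ≫ e.inv) hpr L' hL' s hs
  obtain ⟨e', he', ⟨ε'⟩⟩ := Groth.L22.VeryAmple.exists_iso_over N S
  haveI := hψi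
  refine ⟨N, ψ ≫ e'.hom, inferInstance, ?_, ⟨?_⟩⟩
  · show (ψ ≫ e'.hom) ≫ CohB1.ProjSpaceOver.toBase N S = q
    rw [Category.assoc, he', ← Category.assoc, hψ, Category.assoc, Iso.hom_inv_id, Category.comp_id]
  · exact Groth.L00.Tensor.tensorIso (ε₀ ≪≫
      (Scheme.Modules.pullbackCongr (show i = (i ≫ e.inv) ≫ e.hom by
        rw [Category.assoc, Iso.inv_hom_id, Category.comp_id])).app _ ≪≫
      ((Scheme.Modules.pullbackComp (i ≫ e.inv) e.hom).app _).symm ≪≫
      (Scheme.Modules.pullback (i ≫ e.inv)).mapIso ε) (Iso.refl L') ≪≫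
      (((Scheme.Modules.pullbackComp ψ e'.hom).app _).symm ≪≫
      (Scheme.Modules.pullback ψ).mapIso ε' ≪≫ τ).symm

end Groth.L18.VASum
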