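import Groth.Prelude.Def_RelSpec
import Groth.Prelude.Def_Coh
import Groth.Agent.L16.QCohSections

/-!
Quasi-coherent sheaves of algebras as quasi-coherent algebras, and the direct image of the relative spectrum.
-/

set_option autoImplicit false
set_option linter.style.haveILetI false
universe u

open CategoryTheory AlgebraicGeometry TopologicalSpace Opposite

noncomputable section

namespace Groth.L18.RelSpecAlg

variable {S : Scheme.{u}}

/-- The module underlying a sheaf of algebras. -/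
abbrev asModule (B : Sheaf (Opens.grothendieckTopology S) CommRingCat.{u}) (φ : S.sheaf ⟶ B) : S.Modules :=
  (SheafOfModules.restrictScalars
    ((sheafCompose (Opens.grothendieckTopology S) (forget₂ CommRingCat.{u} RingCat.{u})).map φ)).obj
    (SheafOfModules.unit ((sheafCompose (Opens.grothendieckTopology S) (forget₂ CommRingCat.{u} RingCat.{u})).obj B))

theorem isQC_of_isQCoh (B : Sheaf (Opens.grothendieckTopology S) CommRingCat.{u}) (φ : S.sheaf ⟶ B)
    (hB : Coh.IsQCoh (asModule B φ)) : RelSpec.IsQC B.obj φ.hom := by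
  intro U hU r
  haveI := hB
  let res : B.obj.obj (op U) →+* B.obj.obj (op (S.basicOpen r)) :=
    (B.obj.map (homOfLE (S.basicOpen_le r)).op).hom
  let str : Γ(S, U) →+* B.obj.obj (op U) := (φ.hom.app (op U)).hom
  have hnat : ∀ a, res (str a) = (φ.hom.app (op (S.basicOpen r))).hom
      ((S.presheaf.map (homOfLE (S.basicOpen_le r)).op).hom a) := fun a =>
    (ConcreteCategory.congr_hom (φ.hom.naturality (homOfLE (S.basicOpen_le r)).op) a).symm
  letI := res.toAlgebra
  haveI := hU.isLocalization_basicOpen r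
  have hu : IsUnit (res (str r)) := by
    rw [hnat]
    exact (IsLocalization.Away.algebraMap_isUnit (S := Γ(S, S.basicOpen r)) r).map _
  refine IsLocalization.Away.mk _ hu (fun z => ?_) (fun a b hab => ?_)
  · obtain ⟨n, t, ht⟩ := Groth.L16.QCohSect.exists_pow_smul_eq_res (M := asModule B φ) hU r z
    refine ⟨n, t, ?_⟩
    have ht' : res t = (φ.hom.app (op (S.basicOpen r))).hom
      ((S.presheaf.map (homOfLE (S.basicOpen_le r)).op).hom (r ^ n)) * z := ht
    change z * res (str r) ^ n = res t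
    rw [ht', ← hnat, map_pow, map_pow, mul_comm]
  · have h0 : res (a - b) = 0 := by rw [map_sub, sub_eq_zero]; exact hab
    obtain ⟨n, hn⟩ := Groth.L16.QCohSect.exists_pow_smul_eq_zero (M := asModule B φ) hU r (a - b) h0
    have hn' : str (r ^ n) * (a - b) = 0 := hn
    refine ⟨n, ?_⟩
    rw [mul_sub, sub_eq_zero, map_pow] at hn'
    exact hn'

/-- A quasi-coherent sheaf of algebras as a quasi-coherent algebra. -/
def qcAlgOfSheaf (B : Sheaf (Opens.grothendieckTopology S) CommRingCat.{u}) (φ : S.sheaf ⟶ B)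
    (hB : Coh.IsQCoh (asModule B φ)) : RelSpec.QCAlg S where
  presheaf := B.obj
  isSheaf := B.property
  str := φ.hom
  isQC := isQC_of_isQCoh B φ hB

theorem isIso_gammaAff (A : RelSpec.QCAlg S) (U : S.Opens) (hU : IsAffineOpen U) :
    IsIso (A.gammaAff U hU) := by
  haveI h : IsIso ((A.ι U hU).app (A.π ⁻¹ᵁ U)) :=
    Scheme.Hom.isIso_app _ _ (A.π_preimage U hU).le
  have hpre : A.ι U hU ⁻¹ᵁ (A.π ⁻¹ᵁ U) = ⊤ := top_le_iff.mp (A.top_le_preimage U hU)
  haveI : IsIso ((A.ι U hU).appLE (A.π ⁻¹ᵁ U) ⊤ (A.top_le_preimage U hU)) := by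
    rw [Scheme.Hom.appLE]
    haveI : IsIso (homOfLE (A.top_le_preimage U hU)) :=
      ⟨homOfLE (le_of_eq hpre), rfl, rfl⟩
    infer_instance
  rw [RelSpec.QCAlg.gammaAff]
  infer_instance

/-- The direct image of the structure sheaf of the relative spectrum is the algebra. -/
theorem isIso_gammaMap (A : RelSpec.QCAlg S) : IsIso A.gammaMap := by
  let F : Sheaf (Opens.grothendieckTopology S) CommRingCat.{u} :=
    (TopCat.Sheaf.pushforward CommRingCat.{u} A.π.base).obj A.spec.sheaf
  let G : Sheaf (Opens.grothendieckTopology S) CommRingCat.{u} := ⟨A.presheaf, A.isSheaf⟩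
  let α : F ⟶ G := ⟨A.gammaMap⟩
  haveI : IsIso (Functor.whiskerLeft (Scheme.AffineZariskiSite.toOpensFunctor S).op α.hom) := by
    change IsIso ((Scheme.AffineZariskiSite.toOpensFunctor S).op.whiskerLeft A.gammaMap)
    rw [A.gammaMap_restrict]
    haveI : ∀ U, IsIso (A.gammaRestrict.app U) := fun U => isIso_gammaAff A U.unop.1 U.unop.2
    exact NatIso.isIso_of_isIso_app _
  haveI : IsIso α := Functor.IsCoverDense.iso_of_restrict_iso
    (G := Scheme.AffineZariskiSite.toOpensFunctor S) (K := Opens.grothendieckTopology S) α inferInstance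
  exact Functor.map_isIso (sheafToPresheaf (Opens.grothendieckTopology S) CommRingCat.{u}) α

/-- The presheaf isomorphism between the direct image of the relative spectrum and the algebra. -/
def gammaIso (A : RelSpec.QCAlg S) : A.π.base _* A.spec.presheaf ≅ A.presheaf :=
  @asIso _ _ _ _ A.gammaMap (isIso_gammaMap A)

/-- The sheaf isomorphism from the algebra to the direct image of the relative spectrum. -/
def sheafIso (B : Sheaf (Opens.grothendieckTopology S) CommRingCat.{u}) (φ : S.sheaf ⟶ B)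
    (hB : Coh.IsQCoh (asModule B φ)) :
    B ≅ (TopCat.Sheaf.pushforward CommRingCat.{u} (qcAlgOfSheaf B φ hB).π.base).obj
      (qcAlgOfSheaf B φ hB).spec.sheaf :=
  ⟨⟨(gammaIso (qcAlgOfSheaf B φ hB)).inv⟩, ⟨(gammaIso (qcAlgOfSheaf B φ hB)).hom⟩,
    by ext : 1; exact (gammaIso (qcAlgOfSheaf B φ hB)).inv_hom_id,
    by ext : 1; exact (gammaIso (qcAlgOfSheaf B φ hB)).hom_inv_id⟩

theorem sheafIso_comm (B : Sheaf (Opens.grothendieckTopology S) CommRingCat.{u}) (φ : S.sheaf ⟶ B)
    (hB : Coh.IsQCoh (asModule B φ)) :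
    (φ ≫ (sheafIso B φ hB).hom).hom = (qcAlgOfSheaf B φ hB).π.c :=
  ((gammaIso (qcAlgOfSheaf B φ hB)).comp_inv_eq).mpr (qcAlgOfSheaf B φ hB).π_c_gammaMap.symm

/-- Precompose with an isomorphism of schemes. -/
theorem exists_iso_comp_iso {X Y : Scheme.{u}} {B : Sheaf (Opens.grothendieckTopology S) CommRingCat.{u}}
    {φ : S.sheaf ⟶ B} (f : X ⟶ S)
    (e : B ≅ (TopCat.Sheaf.pushforward CommRingCat.{u} f.base).obj X.sheaf) (he : (φ ≫ e.hom).hom = f.c)
    (h : Y ⟶ X) [IsIso h] (f' : Y ⟶ S) (hf' : f' = h ≫ f) :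
    ∃ e' : B ≅ (TopCat.Sheaf.pushforward CommRingCat.{u} f'.base).obj Y.sheaf,
      (φ ≫ e'.hom).hom = f'.c := by
  subst hf'
  haveI : ∀ U, IsIso (h.c.app U) := fun U => inferInstanceAs (IsIso (h.app U.unop))
  haveI : IsIso h.c := NatIso.isIso_of_isIso_app _
  let i : f.base _* X.presheaf ≅ (h ≫ f).base _* Y.presheaf :=
    (TopCat.Presheaf.pushforward CommRingCat.{u} f.base).mapIso (asIso h.c)
  refine ⟨e ≪≫ ⟨⟨i.hom⟩, ⟨i.inv⟩, by ext : 1; exact i.hom_inv_id, by ext : 1; exact i.inv_hom_id⟩, ?_⟩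
  change (φ ≫ e.hom).hom ≫ i.hom = _
  rw [he]
  rfl

end Groth.L18.RelSpecAlg
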