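import Groth.Agent.L18.SecTwistExtend
import Groth.Agent.L18.AmpleOps
import Groth.Agent.L18.AmpleLocal
import Groth.Agent.L18.AmplePull
import Mathlib.RingTheory.Nilpotent.Basic
import Mathlib.AlgebraicGeometry.Morphisms.ClosedImmersion

/-!
Ampleness is insensitive to homeomorphic closed immersions.
-/

set_option autoImplicit false
set_option backward.isDefEq.respectTransparency false
universe u

open CategoryTheory AlgebraicGeometry TopologicalSpace Opposite

noncomputable section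

namespace Groth.L18.AmpleNil

open Groth.L18.Frame (rs ro rs_rs rs_self rs_smul ro_ro ro_self ro_mul IsFrame pull pull_rs pull_smul)
open Groth.L18.GenLoc
open Groth.L18.SecTwistExt (epow epow_rs epow_smul)

theorem exists_lift_pow {R S : Type*} [CommRing R] [CommRing S] [Algebra R S] (t : R) [IsLocalization.Away t S]
    (v : S) (hv : IsNilpotent (v - algebraMap R S t)) :
    ∃ N₀ : ℕ, ∀ N, N₀ ≤ N → ∃ T : R, algebraMap R S T = v ^ N ∧ IsNilpotent (T - t ^ N) := by
  obtain ⟨k, a, ha⟩ := IsLocalization.Away.surj t (v - algebraMap R S t)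
  obtain ⟨r, hr⟩ := hv
  have h0 : algebraMap R S (a ^ r) = algebraMap R S 0 := by
    rw [map_pow, ← ha, mul_pow, hr, zero_mul, map_zero]
  obtain ⟨⟨_, s, rfl⟩, hs⟩ := IsLocalization.exists_of_eq (M := Submonoid.powers t) h0
  simp only [mul_zero] at hs
  have hb : (t ^ s * a) ^ (r + 1) = 0 := by
    rw [mul_pow, pow_succ' a r, show (t ^ s) ^ (r + 1) * (a * a ^ r) = (t ^ s) ^ r * a * (t ^ s * a ^ r) by ring,
      hs, mul_zero]
  set b := t ^ s * a with hb'
  set K := s + k with hK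
  have hbv : algebraMap R S b = algebraMap R S (t ^ K) * (v - algebraMap R S t) := by
    rw [hb', map_mul, ← ha, hK, map_pow, map_pow, pow_add]; ring
  refine ⟨(r + 1) * (K + 1), fun N hN => ?_⟩
  refine ⟨∑ i ∈ Finset.range (r + 1), (N.choose i : R) * b ^ i * t ^ (N - i * (K + 1)), ?_, ?_⟩
  · have hu := IsLocalization.Away.algebraMap_pow_isUnit (S := S) t N
    have hd : ∀ i, r + 1 ≤ i → (v - algebraMap R S t) ^ i = 0 := fun i hi => by
      rw [← Nat.add_sub_cancel' ((Nat.le_succ r).trans hi), pow_add, hr, zero_mul]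
    have hvN : v ^ N = ∑ i ∈ Finset.range (r + 1),
        (N.choose i : S) * (v - algebraMap R S t) ^ i * algebraMap R S t ^ (N - i) := by
      conv_lhs => rw [show v = (v - algebraMap R S t) + algebraMap R S t by ring, add_pow]
      have hle : r + 1 ≤ N + 1 := by
        have : r + 1 ≤ (r + 1) * (K + 1) := Nat.le_mul_of_pos_right _ (Nat.succ_pos K)
        omega
      rw [← Finset.sum_subset (Finset.range_subset_range.2 hle) (fun i _ hi => by
        rw [hd i (by simpa using hi), zero_mul, zero_mul])]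
      exact Finset.sum_congr rfl fun i _ => by ring
    rw [hvN, map_sum]
    refine Finset.sum_congr rfl fun i hi => ?_
    have hi' : i * (K + 1) ≤ N := (Nat.mul_le_mul_right _ (Finset.mem_range.1 hi).le).trans hN
    rw [map_mul, map_mul, map_natCast, map_pow, hbv, mul_pow, map_pow, map_pow, ← pow_mul]
    have : N - i = K * i + (N - i * (K + 1)) := by
      have : i * (K + 1) = K * i + i := by ring
      omega
    rw [this, pow_add]
    ring
  · rw [Finset.sum_range_succ' _ r]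
    simp only [Nat.choose_zero_right, Nat.cast_one, pow_zero, one_mul, zero_mul, Nat.sub_zero, add_sub_cancel_right]
    exact isNilpotent_sum fun i _ =>
      (Commute.all _ _).isNilpotent_mul_right ((Commute.all _ _).isNilpotent_mul_left
        (IsNilpotent.pow_of_pos ⟨r + 1, hb⟩ (Nat.succ_ne_zero i)))

theorem pow_eq_pow_of_nilpotent {R : Type*} [CommRing R] (a b : R) {q r P : ℕ} (hr : (a - b) ^ r = 0)
    (hq : a ^ q * (a - b) = 0) (hP : q + r ≤ P) : a ^ P = b ^ P := by
  conv_rhs => rw [show b = -(a - b) + a by ring, add_pow]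
  rw [Finset.sum_eq_single 0]
  · simp
  · intro i hi hi0
    rcases lt_or_ge i r with h | h
    · have hq' : q ≤ P - i := by omega
      have : (-(a - b)) ^ i * a ^ (P - i) = 0 := by
        obtain ⟨j, rfl⟩ := Nat.exists_eq_add_one.mpr (Nat.pos_of_ne_zero hi0)
        rw [pow_succ, ← Nat.add_sub_cancel' hq', pow_add]
        linear_combination (-((-(a - b)) ^ j * a ^ (P - (j + 1) - q))) * hq
      rw [this, zero_mul]
    · rw [neg_pow, ← Nat.add_sub_cancel' h, pow_add (a - b), hr]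
      simp
  · simp

variable {X : Scheme.{u}}

theorem basicOpen_le_of_isNilpotent_sub {W : X.Opens} {a b : Γ(X, W)} (h : IsNilpotent (a - b)) :
    X.basicOpen a ≤ X.basicOpen b := by
  intro x hx
  have hxW : x ∈ W := X.basicOpen_le a hx
  rw [X.mem_basicOpen _ x hxW] at hx ⊢
  have h' := h.map (X.presheaf.germ W x hxW).hom
  have := (h'.neg).isUnit_add_left_of_commute hx (Commute.all _ _)
  rwa [map_sub, neg_sub, add_sub_cancel] at this

theorem basicOpen_eq_of_isNilpotent_sub {W : X.Opens} {a b : Γ(X, W)} (h : IsNilpotent (a - b)) :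
    X.basicOpen a = X.basicOpen b :=
  le_antisymm (basicOpen_le_of_isNilpotent_sub h) (basicOpen_le_of_isNilpotent_sub (by rw [← neg_sub]; exact h.neg))

theorem basicOpen_sub_le {W : X.Opens} (a b : Γ(X, W)) : X.basicOpen (a - b) ≤ X.basicOpen a ⊔ X.basicOpen b := by
  intro x hx
  have hxW : x ∈ W := X.basicOpen_le _ hx
  by_contra hc
  rw [Opens.mem_sup, not_or, X.mem_basicOpen _ x hxW, X.mem_basicOpen _ x hxW] at hc
  rw [X.mem_basicOpen _ x hxW, map_sub] at hx
  exact (IsLocalRing.notMem_maximalIdeal.2 hx) (sub_mem ((IsLocalRing.mem_maximalIdeal _).2 hc.1)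
    ((IsLocalRing.mem_maximalIdeal _).2 hc.2))

theorem basicOpen_pow_pos {W : X.Opens} (a : Γ(X, W)) {n : ℕ} (hn : 0 < n) : X.basicOpen (a ^ n) = X.basicOpen a :=
  X.basicOpen_pow a hn

theorem isFrame_epow {M : X.Modules} {V : X.Opens} {ε : Γ(M, V)} (hε : IsFrame M V ε) :
    ∀ n, IsFrame (CohB1.tensorPow M n) V (epow ε n)
  | 0 => by
    have h := isFrame_genLocus (𝟙 (Coh.structureModule X))
    have hle : V ≤ CohB1.genLocus (Coh.structureModule X) (𝟙 _) := by
      rw [Groth.L18.Ample.genLocus_id]; exact le_top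
    have h' := h.mono hle
    rw [rs_rs] at h'
    have e : rs (Coh.structureModule X) (le_top : V ≤ ⊤) (secOf (𝟙 (Coh.structureModule X))) =
        (1 : Γ(X, V)) := Groth.L18.SecTwistExt.rs_one le_top
    rw [e] at h'
    exact h'
  | n + 1 => isFrame_tens (isFrame_epow hε n) hε

/-- A frame over an open, locally congruent to functions modulo nilpotents, has a power extending to a global
section with the same non-vanishing locus. -/
theorem exists_pow_extend [CompactSpace X] [QuasiSeparatedSpace X] {M : X.Modules} (G : X.Opens) (σ : Γ(M, G))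
    (hloc : ∀ x : X, ∃ (W : X.Opens) (e : Γ(M, W)) (t : Γ(X, W)) (v : Γ(X, G ⊓ W)),
      x ∈ W ∧ IsAffineOpen W ∧ IsFrame M W e ∧ G ⊓ W = X.basicOpen t ∧
        v • rs M inf_le_right e = rs M inf_le_left σ ∧ IsNilpotent (v - ro inf_le_right t)) :
    ∃ (N : ℕ) (τ : Coh.structureModule X ⟶ CohB1.tensorPow M (N + 1)), CohB1.genLocus _ τ = G := by
  classical
  choose W e t v hxW hW he hG hv hnil using hloc
  obtain ⟨S, hS⟩ := isCompact_univ.elim_finite_subcover (fun x : X => (W x : Set X)) (fun x => (W x).2)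
    (fun x _ => Set.mem_iUnion.2 ⟨x, hxW x⟩)
  have key : ∀ i : S, ∃ N₀ : ℕ, ∀ N, N₀ ≤ N → ∃ T : Γ(X, W i.1),
      ro (inf_le_right : G ⊓ W i.1 ≤ W i.1) T = v i.1 ^ N ∧ IsNilpotent (T - t i.1 ^ N) := by
    rintro ⟨i, -⟩
    letI : Algebra Γ(X, W i) Γ(X, G ⊓ W i) :=
      (X.presheaf.map (homOfLE (inf_le_right : G ⊓ W i ≤ W i)).op).hom.toAlgebra
    haveI : IsLocalization.Away (t i) Γ(X, G ⊓ W i) :=
      (hW i).isLocalization_of_eq_basicOpen (t i) (homOfLE inf_le_right) (hG i)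
    exact exists_lift_pow (t i) (v i) (hnil i)
  choose N₀ hN₀ using key
  obtain ⟨B, hB⟩ := (Set.finite_range N₀).bddAbove
  set N := B + 1
  choose T hT hTnil using fun i : S => hN₀ i N ((hB ⟨i, rfl⟩).trans B.le_succ)
  have hTG : ∀ i : S, X.basicOpen (T i) = G ⊓ W i.1 := fun i => by
    rw [basicOpen_eq_of_isNilpotent_sub (hTnil i), X.basicOpen_pow (t i.1) B.succ_pos, hG]
  choose c hc using fun p : S × S => (he p.1.1).exists_coeff (inf_le_left : W p.1.1 ⊓ W p.2.1 ≤ W p.1.1)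
    (rs M inf_le_right (e p.2.1))
  have hov : ∀ p : S × S, ∃ P₀ : ℕ, ∀ P, P₀ ≤ P → ro (inf_le_left : W p.1.1 ⊓ W p.2.1 ≤ _) (T p.1) ^ P =
      (ro inf_le_right (T p.2) * c p ^ N) ^ P := by
    rintro ⟨i, j⟩
    set W₂ := W i.1 ⊓ W j.1
    set a := ro (inf_le_left : W₂ ≤ W i.1) (T i)
    set b := ro (inf_le_right : W₂ ≤ W j.1) (T j) * c (i, j) ^ N
    have hab : ro (inf_le_right : G ⊓ W₂ ≤ W₂) a = ro inf_le_right b := by
      have hi : G ⊓ W₂ ≤ G ⊓ W i.1 := inf_le_inf_left _ inf_le_left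
      have hj : G ⊓ W₂ ≤ G ⊓ W j.1 := inf_le_inf_left _ inf_le_right
      have hvv : ro hi (v i.1) = ro hj (v j.1) * ro inf_le_right (c (i, j)) := by
        refine (he i.1).inj ((inf_le_right : G ⊓ W₂ ≤ W₂).trans inf_le_left) ?_
        have h1 := congrArg (rs M hi) (hv i.1)
        have h2 := congrArg (rs M hj) (hv j.1)
        have h3 := congrArg (rs M (inf_le_right : G ⊓ W₂ ≤ W₂)) (hc (i, j))
        simp only [rs_smul, rs_rs] at h1 h2 h3
        rw [mul_smul, h3, h1]
        exact h2.symm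
      have hpow : ∀ {U V : X.Opens} (h : V ≤ U) (z : Γ(X, U)) (n : ℕ), ro h (z ^ n) = ro h z ^ n :=
        fun h z n => map_pow _ z n
      show ro inf_le_right (ro inf_le_left (T i)) = ro inf_le_right (ro inf_le_right (T j) * c (i, j) ^ N)
      rw [ro_mul, ro_ro, ro_ro, hpow, ← ro_ro (inf_le_right : G ⊓ W i.1 ≤ W i.1) hi (T i),
        ← ro_ro (inf_le_right : G ⊓ W j.1 ≤ W j.1) hj (T j), hT i, hT j, hpow, hpow, ← mul_pow, ← hvv]
    have hW₂ : IsCompact (W₂ : Set X) :=
      quasiSeparatedSpace_iff_forall_affineOpens.mp inferInstance ⟨_, hW i.1⟩ ⟨_, hW j.1⟩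
    have ha : X.basicOpen a ≤ G := by
      refine (X.basicOpen_res _ _).trans_le ?_
      rw [hTG]; exact inf_le_right.trans inf_le_left
    have hb : X.basicOpen b ≤ G := by
      rw [show X.basicOpen b = X.basicOpen (ro (inf_le_right : W₂ ≤ W j.1) (T j)) ⊓ _ from X.basicOpen_mul _ _]
      refine inf_le_left.trans ((X.basicOpen_res _ _).trans_le ?_)
      rw [hTG]; exact inf_le_right.trans inf_le_left
    have hD : ro (inf_le_right : G ⊓ W₂ ≤ W₂) (a - b) = 0 := by
      rw [show ro (inf_le_right : G ⊓ W₂ ≤ W₂) (a - b) = ro inf_le_right a - ro inf_le_right b from map_sub _ _ _,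
        hab, sub_self]
    have hDnil : IsNilpotent (a - b) := by
      rw [Scheme.isNilpotent_iff_basicOpen_eq_bot_of_isCompact hW₂, eq_bot_iff]
      intro x hx
      have hxG : x ∈ G ⊓ W₂ := ⟨(sup_le ha hb) (basicOpen_sub_le a b hx), X.basicOpen_le _ hx⟩
      rw [X.mem_basicOpen _ x hxG.2] at hx
      rw [show X.presheaf.germ W₂ x hxG.2 (a - b) = X.presheaf.germ (G ⊓ W₂) x hxG (ro inf_le_right (a - b)) from
        (TopCat.Presheaf.germ_res_apply _ _ _ _ _).symm, hD, map_zero] at hx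
      exact (not_isUnit_zero hx).elim
    obtain ⟨r, hr⟩ := hDnil
    have hle : X.basicOpen a ≤ G ⊓ W₂ := le_inf ha (X.basicOpen_le a)
    obtain ⟨q, hq⟩ := exists_pow_mul_eq_zero_of_res_basicOpen_eq_zero_of_isCompact X hW₂ (a - b) a (by
      show ro (X.basicOpen_le a) (a - b) = 0
      rw [← ro_ro (inf_le_right : G ⊓ W₂ ≤ W₂) hle, hD]
      exact map_zero _)
    exact ⟨q + r, fun P hP => pow_eq_pow_of_nilpotent a b hr hq hP⟩
  choose P₀ hP₀ using hov
  obtain ⟨C, hC⟩ := (Set.finite_range P₀).bddAbove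
  set P := C + 1
  set NP := (N * P - 1) + 1
  have hNP : NP = N * P := Nat.sub_add_cancel (Nat.mul_pos B.succ_pos C.succ_pos)
  let Q := CohB1.tensorPow M NP
  let OQ : TopCat.Sheaf Ab.{u} X.toTopCat := ⟨Q.presheaf, Q.isSheaf⟩
  obtain ⟨τ, hτ, -⟩ := OQ.existsUnique_gluing' (fun i : S => W i.1) ⊤ (fun i => homOfLE le_top)
    (fun x _ => by
      obtain ⟨y, hy, hxy⟩ := Set.mem_iUnion₂.1 (hS (Set.mem_univ x))
      exact Opens.mem_iSup.2 ⟨⟨y, hy⟩, hxy⟩)
    (fun i => (show Γ(Q, W i.1) from (T i ^ P) • epow (e i.1) NP)) (fun i j => by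
      show rs Q inf_le_left ((T i ^ P) • epow (e i.1) NP) = rs Q inf_le_right ((T j ^ P) • epow (e j.1) NP)
      rw [rs_smul, rs_smul, epow_rs, epow_rs, ← hc (i, j), epow_smul, ← mul_smul, ← epow_rs]
      simp only [ro, map_pow]
      rw [show (X.presheaf.map (homOfLE (inf_le_left : W i.1 ⊓ W j.1 ≤ W i.1)).op).hom (T i) ^ P =
        ((X.presheaf.map (homOfLE (inf_le_right : W i.1 ⊓ W j.1 ≤ W j.1)).op).hom (T j) * c (i, j) ^ N) ^ P from
        hP₀ (i, j) P ((hC ⟨(i, j), rfl⟩).trans C.le_succ), mul_pow, ← pow_mul, ← hNP])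
  refine ⟨N * P - 1, Groth.L16.homOfSection Q τ, ?_⟩
  have key : ∀ i : S, CohB1.genLocus Q (Groth.L16.homOfSection Q τ) ⊓ W i.1 = G ⊓ W i.1 := fun i => by
    rw [genLocus_inf_eq (Groth.L16.homOfSection Q τ) (isFrame_epow (he i.1) NP) (a := T i ^ P)
      (by rw [secOf_homOfSection]; exact (hτ i).symm), X.basicOpen_pow (T i) C.succ_pos, hTG]
  refine Opens.ext (Set.ext fun x => ?_)
  obtain ⟨y, hy, hxy⟩ := Set.mem_iUnion₂.1 (hS (Set.mem_univ x))
  have := SetLike.ext_iff.mp (key ⟨y, hy⟩) x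
  exact ⟨fun h => (this.mp ⟨h, hxy⟩).1, fun h => (this.mpr ⟨h, hxy⟩).1⟩

theorem isAmple_of_isAmple_pullback {Z : Scheme.{u}} (i : Z ⟶ X) [IsClosedImmersion i]
    (hi : IsHomeomorph i.base) {L : X.Modules} (hL : PicF.IsInvertible L)
    (hA : CohB1.IsAmple ((Scheme.Modules.pullback i).obj L)) : CohB1.IsAmple L := by
  haveI : CompactSpace Z := hA.2.1
  haveI := Groth.L18.Ample.isSeparated_of_isAmple hA
  haveI : CompactSpace X := hi.surjective.compactSpace hi.continuous
  haveI : QuasiSeparatedSpace X := QuasiSeparatedSpace.of_isOpenEmbedding hi.homeomorph.symm.isOpenEmbedding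
  refine ⟨hL, inferInstance, fun x => ?_⟩
  obtain ⟨z, rfl⟩ := hi.surjective x
  obtain ⟨W₁, e₁, hW₁, hzW₁, he₁⟩ := exists_affine_frame hL (i z)
  obtain ⟨n, s, hzs, hsW, -⟩ := Groth.L18.Ample.exists_affine_genLocus_subset hA (i ⁻¹ᵁ W₁) (x := z) hzW₁
  set M := CohB1.tensorPow L (n + 1) with hMdef
  set s' : Coh.structureModule Z ⟶ (Scheme.Modules.pullback i).obj M :=
    s ≫ (Groth.L18.Ample.pullPow i L (n + 1)).symm.hom with hs'def
  have hs' : CohB1.genLocus _ s' = CohB1.genLocus _ s := Groth.L16.genLocus_comp_iso _ _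
  have hlift : ∀ (W : X.Opens) (e : Γ(M, W)), IsAffineOpen W → IsFrame M W e → ∃ t : Γ(X, W),
      i ⁻¹ᵁ X.basicOpen t = CohB1.genLocus _ s' ⊓ i ⁻¹ᵁ W ∧
      (i.app W t) • pull i M W e = rs ((Scheme.Modules.pullback i).obj M) le_top (secOf s') := by
    intro W e hW he
    obtain ⟨b, hb⟩ := (he.pullback i M).exists_coeff le_rfl (rs _ le_top (secOf s'))
    rw [rs_self] at hb
    obtain ⟨t, rfl⟩ := i.app_surjective W hW b
    exact ⟨t, by rw [Scheme.preimage_basicOpen, genLocus_inf_eq s' (he.pullback i M) hb], hb⟩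
  set e₀ : Γ(M, W₁) := epow e₁ (n + 1)
  obtain ⟨t₀, ht₀, ht₀'⟩ := hlift W₁ e₀ hW₁ (isFrame_epow he₁ _)
  set G := X.basicOpen t₀
  have hG : i ⁻¹ᵁ G = CohB1.genLocus _ s' := ht₀.trans (inf_eq_left.mpr (hs'.trans_le hsW))
  have hiG : G ≤ W₁ := X.basicOpen_le t₀
  let σ : Γ(M, G) := ro hiG t₀ • rs M hiG e₀
  have hσ : pull i M G σ = rs _ le_top (secOf s') := by
    have h1 := congrArg (rs ((Scheme.Modules.pullback i).obj M) (i.preimage_mono hiG)) ht₀'
    rw [rs_smul, pull_rs, rs_rs] at h1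
    rw [pull_smul, ← h1]
    congr 1
    · exact ConcreteCategory.congr_hom (i.naturality (homOfLE hiG).op) t₀
    all_goals exact hiG
  obtain ⟨N, τ, hτ⟩ := exists_pow_extend G σ fun x => by
    obtain ⟨W, e, hW, hxW, he⟩ := exists_affine_frame (Groth.L18.Ample.isInvertible_tensorPow hL (n + 1)) x
    obtain ⟨t, ht, ht'⟩ := hlift W e hW he
    obtain ⟨v, hv⟩ := he.exists_coeff (inf_le_right : G ⊓ W ≤ W) (rs M inf_le_left σ)
    have hGW : G ⊓ W = X.basicOpen t := Opens.ext (Set.preimage_injective.mpr hi.surjective (by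
      show ((i ⁻¹ᵁ (G ⊓ W) : Z.Opens) : Set Z) = ((i ⁻¹ᵁ X.basicOpen t : Z.Opens) : Set Z)
      rw [ht, Scheme.Hom.preimage_inf, hG]))
    refine ⟨W, e, t, v, hxW, hW, he, hGW, hv, ?_⟩
    have hc : IsCompact ((G ⊓ W : X.Opens) : Set X) := by rw [hGW]; exact (hW.basicOpen t).isCompact
    have h0 : i.app (G ⊓ W) (v - ro inf_le_right t) = 0 := by
      rw [map_sub, sub_eq_zero]
      refine (he.pullback i M).inj (i.preimage_mono (inf_le_right : G ⊓ W ≤ W)) ?_
      rw [pull_rs, ← pull_smul, hv, ← pull_rs, hσ, rs_rs]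
      have h1 := congrArg (rs ((Scheme.Modules.pullback i).obj M) (i.preimage_mono (inf_le_right : G ⊓ W ≤ W))) ht'
      rw [rs_smul, pull_rs, rs_rs] at h1
      rw [← h1]
      congr 1
      · exact (ConcreteCategory.congr_hom (i.naturality (homOfLE (inf_le_right : G ⊓ W ≤ W)).op) t).symm
      all_goals exact inf_le_right
    rw [Scheme.isNilpotent_iff_basicOpen_eq_bot_of_isCompact hc]
    refine Opens.ext (Set.preimage_injective.mpr hi.surjective ?_)
    show ((i ⁻¹ᵁ X.basicOpen (v - ro inf_le_right t) : Z.Opens) : Set Z) = _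
    rw [Scheme.preimage_basicOpen, h0, Scheme.basicOpen_zero]
    rfl
  obtain ⟨n', τ', hτ'⟩ := Groth.L18.Ample.exists_of_iso (L := L) (j := (n + 1) * (N + 1)) (by positivity) τ
    (Groth.L00.Tensor.tensorPowMul L (n + 1) (N + 1))
  refine ⟨n', τ', ?_, ?_⟩
  · rw [hτ', hτ]
    exact (hG.trans hs').ge hzs
  · rw [hτ', hτ]
    exact hW₁.basicOpen t₀

theorem isAmple_pullback_iff {Z : Scheme.{u}} (i : Z ⟶ X) [IsClosedImmersion i] (hi : IsHomeomorph i.base)
    {L : X.Modules} (hL : PicF.IsInvertible L) :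
    CohB1.IsAmple ((Scheme.Modules.pullback i).obj L) ↔ CohB1.IsAmple L :=
  ⟨isAmple_of_isAmple_pullback i hi hL, fun h => Groth.L18.Ample.isAmple_pullback_of_isAffineHom i h⟩

end Groth.L18.AmpleNil
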