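import Groth.Agent.L18.NormalizationGeneric
import Groth.Agent.L18.ProjSpace
import Groth.Agent.L16.ProjSpace.Basic
import Groth.Prelude.Def_CurvBase
import Mathlib.FieldTheory.IntermediateField.Adjoin.Algebra
import Mathlib.RingTheory.KrullDimension.Polynomial
import Mathlib.RingTheory.AlgebraicIndependent.TranscendenceBasis

/-!
The normal projective model of a function field of transcendence degree one.
-/

set_option autoImplicit false
set_option linter.style.haveILetI false
universe u

open CategoryTheory CategoryTheory.Limits AlgebraicGeometry TopologicalSpace MvPolynomial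
open Groth.L18.PS (chart coord chartScalar chartHom)

namespace Groth.L18.CurveModel

variable {k : Type u} [Field k]

/-- A chart ring of the projective line. -/
abbrev R (i : Fin 2) : Type u :=
  HomogeneousLocalization.Away (CohB1.polyGrading 1 k) (X i : MvPolynomial (Fin (1 + 1)) k)

noncomputable def chartEquiv (i : Fin 2) :
    MvPolynomial {j : Fin (1 + 1) // j ≠ i} k ≃+* R (k := k) i :=
  RingEquiv.ofBijective _ (Groth.L18.PS.chart_bijective 1 k i)

theorem height_eq_one {i : Fin 2} (m : Ideal (R (k := k) i)) [m.IsMaximal] : m.height = 1 := by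
  have hcard : Nat.card {j : Fin (1 + 1) // j ≠ i} = 1 := by
    rw [Nat.card_eq_fintype_card, Fintype.card_subtype_compl]
    simp
  have hdim : ringKrullDim (R (k := k) i) = 1 := by
    rw [← ringKrullDim_eq_of_ringEquiv (chartEquiv (k := k) i), MvPolynomial.ringKrullDim_of_isNoetherianRing,
      hcard, ringKrullDim_eq_zero_of_field]
    rfl
  haveI : IsDomain (R (k := k) i) := (chartEquiv (k := k) i).symm.toMulEquiv.isDomain _
  have hnf : ¬ IsField (R (k := k) i) := fun h => by
    rw [ringKrullDim_eq_zero_of_isField h] at hdim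
    exact zero_ne_one hdim
  refine le_antisymm ?_ (Order.one_le_iff_ne_zero.mpr fun h => ?_)
  · have h1 := m.height_le_ringKrullDim_of_isPrime
    rw [hdim] at h1
    exact_mod_cast h1
  · rw [Ideal.height_eq_zero_iff_eq_bot] at h
    exact Ring.not_isField_iff_exists_prime.mp hnf |>.elim fun p hp =>
      hp.1 (le_bot_iff.mp (h ▸ (Ideal.IsMaximal.eq_of_le ‹m.IsMaximal› hp.2.ne_top (h ▸ bot_le)).ge))

theorem dim_stalk_projLine (x : CohB1.ProjSpace 1 k) (hx : IsClosed ({x} : Set (CohB1.ProjSpace 1 k))) :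
    ringKrullDim ((CohB1.ProjSpace 1 k).presheaf.stalk x) = 1 := by
  obtain ⟨i, hi⟩ := TopologicalSpace.Opens.mem_iSup.mp
    (show x ∈ ⨆ i, Proj.basicOpen (CohB1.polyGrading 1 k) (X i) from
      (Groth.L18.PS.iSup_chart (n := 1) (R := k)).ge trivial)
  rw [← Groth.L18.PS.range_chart] at hi
  obtain ⟨z, rfl⟩ := hi
  have hz : IsClosed ({z} : Set _) := by
    have : ({z} : Set _) = (chart 1 k i) ⁻¹' {chart 1 k i z} := by
      ext w
      exact ⟨fun h => congrArg _ h, fun h => (chart 1 k i).isOpenEmbedding.injective h⟩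
    rw [this]
    exact hx.preimage (chart 1 k i).continuous
  haveI : z.asIdeal.IsMaximal := (PrimeSpectrum.isClosed_singleton_iff_isMaximal z).mp hz
  rw [ringKrullDim_eq_of_ringEquiv ((asIso ((chart 1 k i).stalkMap z)) ≪≫
    Spec.stalkIso (CommRingCat.of (R (k := k) i)) z).commRingCatIsoToRingEquiv]
  rw [IsLocalization.AtPrime.ringKrullDim_eq_height z.asIdeal, height_eq_one]
  rfl

variable (K : Type u) [Field K] [Algebra k K]

/-- An embedding of the function field of the line in `K`, finite and over `k`. -/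
theorem exists_embedding [IsIntegral (CohB1.ProjSpace 1 k)]
    (hfg : (⊤ : IntermediateField k K).FG) (htr : Algebra.trdeg k K = 1) :
    ∃ φ : (CohB1.ProjSpace 1 k).functionField →+* K, φ.Finite ∧
      ∀ c : k, φ (((CohB1.ProjSpace 1 k).presheaf.germ ⊤ (genericPoint (CohB1.ProjSpace 1 k)) trivial).hom
        ((CohB1.ProjSpace.toSpec 1 k).appTop.hom
          ((Scheme.ΓSpecIso (CommRingCat.of k)).inv.hom c))) = algebraMap k K c := by
  obtain ⟨s, hs⟩ := exists_isTranscendenceBasis k K
  have hcard : Cardinal.mk s = 1 := by rw [hs.cardinalMk_eq_trdeg, htr]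
  obtain ⟨⟨x, hx⟩⟩ : Nonempty s := Cardinal.mk_ne_zero_iff.mp (by rw [hcard]; exact one_ne_zero)
  haveI : Subsingleton s := Cardinal.le_one_iff_subsingleton.mp hcard.le
  let a : Fin (1 + 1) → K := fun j => if j = 0 then 1 else x
  have ha : IsUnit (a 0) := by simp [a]
  let θ : R (k := k) 0 →+* K := chartHom (algebraMap k K) a 0 ha
  have hθc : ∀ j : {j : Fin (1 + 1) // j ≠ 0}, θ (coord 0 j.1) = x := fun j => by
    have h := Groth.L18.PS.chartHom_coord (algebraMap k K) a 0 ha j.1
    simp only [a, if_neg j.2, if_true, mul_one] at h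
    exact h
  have hθs : ∀ c, θ (chartScalar 1 k 0 c) = algebraMap k K c :=
    fun c => Groth.L18.PS.chartHom_algebraMap (algebraMap k K) a 0 ha c
  have hθ : Function.Injective θ := by
    haveI : Subsingleton {j : Fin (1 + 1) // j ≠ 0} := ⟨fun p q => Subtype.ext (by omega)⟩
    have hind : AlgebraicIndependent k (fun _ : {j : Fin (1 + 1) // j ≠ 0} => x) :=
      hs.1.comp (fun _ => (⟨x, hx⟩ : s)) (Function.injective_of_subsingleton _)
    have h1 : θ.comp (chartEquiv (k := k) 0).toRingHom =
        (aeval (fun _ : {j : Fin (1 + 1) // j ≠ 0} => x) : MvPolynomial _ k →ₐ[k] K).toRingHom := by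
      refine MvPolynomial.ringHom_ext (fun c => ?_) (fun j => ?_)
      · simp only [RingHom.comp_apply, AlgHom.toRingHom_eq_coe, RingHom.coe_coe, aeval_C]
        refine Eq.trans ?_ (hθs c)
        exact congrArg θ (eval₂Hom_C _ _ c)
      · simp only [RingHom.comp_apply, AlgHom.toRingHom_eq_coe, RingHom.coe_coe, aeval_X]
        refine Eq.trans ?_ (hθc j)
        exact congrArg θ (eval₂Hom_X' _ _ j)
    intro p q hpq
    obtain ⟨p, rfl⟩ := (chartEquiv (k := k) 0).surjective p
    obtain ⟨q, rfl⟩ := (chartEquiv (k := k) 0).surjective q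
    exact congrArg _ (hind (((RingHom.congr_fun h1 p).symm.trans hpq).trans (RingHom.congr_fun h1 q)))
  let U : (CohB1.ProjSpace 1 k).Opens := (chart 1 k 0) ''ᵁ ⊤
  have hU : IsAffineOpen U := (isAffineOpen_top _).image_of_isOpenImmersion _
  haveI : Nontrivial (R (k := k) 0) := θ.domain_nontrivial
  haveI : Nonempty U.toScheme := by
    obtain ⟨p⟩ : Nonempty (PrimeSpectrum (R (k := k) 0)) := inferInstance
    exact ⟨⟨chart 1 k 0 p, p, trivial, rfl⟩⟩
  let ι0 : Γ(CohB1.ProjSpace 1 k, U) ≅ CommRingCat.of (R (k := k) 0) :=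
    (chart 1 k 0).appIso ⊤ ≪≫ Scheme.ΓSpecIso _
  let ψ : Γ(CohB1.ProjSpace 1 k, U) →+* K := θ.comp ι0.hom.hom
  haveI : IsFractionRing Γ(CohB1.ProjSpace 1 k, U) (CohB1.ProjSpace 1 k).functionField :=
    functionField_isFractionRing_of_isAffineOpen _ U hU
  have hψ : Function.Injective ψ := hθ.comp ι0.commRingCatIsoToRingEquiv.injective
  let φ : (CohB1.ProjSpace 1 k).functionField →+* K := IsFractionRing.lift hψ
  have hφ : ∀ b, φ (((CohB1.ProjSpace 1 k).germToFunctionField U).hom b) = ψ b := fun b =>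
    IsFractionRing.lift_algebraMap hψ b
  have hk : ∀ c : k, φ (((CohB1.ProjSpace 1 k).presheaf.germ ⊤ (genericPoint (CohB1.ProjSpace 1 k)) trivial).hom
      ((CohB1.ProjSpace.toSpec 1 k).appTop.hom ((Scheme.ΓSpecIso (CommRingCat.of k)).inv.hom c))) =
        algebraMap k K c := fun c => by
    rw [← TopCat.Presheaf.germ_res_apply (CohB1.ProjSpace 1 k).presheaf (homOfLE (le_top : U ≤ ⊤)) (genericPoint (CohB1.ProjSpace 1 k))
      (((genericPoint_spec (CohB1.ProjSpace 1 k)).mem_open_set_iff U.isOpen).mpr (by simpa using ‹Nonempty U.toScheme›)), hφ]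
    have h2 : (CohB1.ProjSpace.toSpec 1 k).appTop ≫
        (CohB1.ProjSpace 1 k).presheaf.map (homOfLE (le_top : U ≤ ⊤)).op ≫ ι0.hom =
        (Scheme.ΓSpecIso (CommRingCat.of k)).hom ≫ CommRingCat.ofHom (chartScalar 1 k 0) := by
      rw [← Scheme.ΓSpecIso_naturality, ← Groth.L18.PS.chart_toSpec, Iso.trans_hom, Scheme.Hom.appIso_hom',
        Scheme.Hom.map_appLE_assoc, Scheme.Hom.comp_appTop, Category.assoc]
      rfl
    have h3 := ConcreteCategory.congr_hom h2 ((Scheme.ΓSpecIso (CommRingCat.of k)).inv.hom c)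
    change θ ((ConcreteCategory.hom ((CohB1.ProjSpace.toSpec 1 k).appTop ≫
      (CohB1.ProjSpace 1 k).presheaf.map (homOfLE (le_top : U ≤ ⊤)).op ≫ ι0.hom))
        ((Scheme.ΓSpecIso (CommRingCat.of k)).inv.hom c)) = _
    rw [h3, ← hθs c]
    congr 1
    simp
  refine ⟨φ, ?_, hk⟩
  let E : IntermediateField k K :=
    { φ.fieldRange with
      algebraMap_mem' := fun c => ⟨_, hk c⟩ }
  have hxE : x ∈ E := by
    obtain ⟨b, hb⟩ := ι0.commRingCatIsoToRingEquiv.surjective
      (coord (R := k) (n := 1) (0 : Fin (1 + 1)) 1)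
    refine ⟨((CohB1.ProjSpace 1 k).germToFunctionField U).hom b, ?_⟩
    rw [hφ]
    exact (congrArg θ hb).trans (hθc ⟨1, by decide⟩)
  have hsE : Algebra.adjoin k (Set.range ((↑) : s → K)) ≤ E.toSubalgebra :=
    Algebra.adjoin_le fun y ⟨w, hw⟩ => by
      rw [← hw, Subsingleton.elim w ⟨x, hx⟩]
      exact hxE
  haveI := hs.isAlgebraic
  letI := (Subalgebra.inclusion hsE).toRingHom.toAlgebra
  haveI : IsScalarTower (Algebra.adjoin k (Set.range ((↑) : s → K))) E.toSubalgebra K :=
    IsScalarTower.of_algebraMap_eq (congrFun rfl)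
  haveI : Algebra.IsAlgebraic E K :=
    Algebra.IsAlgebraic.extendScalars (R := Algebra.adjoin k (Set.range ((↑) : s → K))) (S := E.toSubalgebra)
      (Subalgebra.inclusion_injective hsE)
  haveI : Algebra.EssFiniteType k K := IntermediateField.fg_top_iff.mp hfg
  haveI : Algebra.EssFiniteType E K := Algebra.EssFiniteType.of_comp k E K
  haveI : Module.Finite E K := Algebra.finite_of_essFiniteType_of_isAlgebraic
  let φE : (CohB1.ProjSpace 1 k).functionField →+* E := φ.codRestrict E fun z => ⟨z, rfl⟩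
  have h1 : φE.Finite := RingHom.Finite.of_surjective φE fun ⟨y, z, hz⟩ => ⟨z, Subtype.ext hz⟩
  have h2 : (algebraMap E K).Finite := RingHom.finite_algebraMap.mpr inferInstance
  exact h2.comp h1

end Groth.L18.CurveModel
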