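import Groth.Agent.L17.FinLocBases
import Groth.Agent.L18.Frame
import Groth.Prelude.Def_Fitting
import Mathlib.RingTheory.Norm.Basic

/-!
The norm along a morphism whose direct image of the structure sheaf has local bases.
-/

set_option autoImplicit false
set_option backward.isDefEq.respectTransparency false
set_option linter.style.haveILetI false
universe u

open CategoryTheory AlgebraicGeometry TopologicalSpace Opposite

noncomputable section

namespace Groth.L18.NormFree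

open Groth.L18.Frame (rs ro ro_ro ro_self ro_mul)

theorem norm_map_of_basis {R S R' S' : Type u} [CommRing R] [CommRing S] [CommRing R'] [CommRing S']
    [Algebra R S] [Algebra R' S'] {ι : Type} [Fintype ι] [DecidableEq ι] (c : Module.Basis ι R S)
    (c' : Module.Basis ι R' S') (f : R →+* R') (g : S →+* S')
    (hfg : ∀ r, g (algebraMap R S r) = algebraMap R' S' (f r)) (hc : ∀ i, g (c i) = c' i) (x : S) :
    Algebra.norm R' (g x) = f (Algebra.norm R x) := by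
  have hg : ∀ y : S, g y = ∑ k, f (c.repr y k) • c' k := fun y => by
    conv_lhs => rw [← c.sum_repr y]
    rw [map_sum]
    refine Finset.sum_congr rfl fun k _ => ?_
    rw [Algebra.smul_def, map_mul, hfg, hc, ← Algebra.smul_def]
  rw [Algebra.norm_eq_matrix_det c', Algebra.norm_eq_matrix_det c, RingHom.map_det]
  congr 1
  ext i j
  rw [RingHom.mapMatrix_apply, Matrix.map_apply, Algebra.leftMulMatrix_eq_repr_mul,
    Algebra.leftMulMatrix_eq_repr_mul, ← hc, ← map_mul, hg]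
  exact congrFun (c'.repr_sum_self fun k => f (c.repr (x * c j) k)) i

theorem isUnit_of_isUnit_norm {R S : Type u} [CommRing R] [CommRing S] [Algebra R S] {ι : Type} [Fintype ι]
    [DecidableEq ι] (c : Module.Basis ι R S) {x : S} (h : IsUnit (Algebra.norm R x)) : IsUnit x := by
  rw [Algebra.norm_apply, ← LinearMap.det_toMatrix c] at h
  obtain ⟨y, hy⟩ := (LinearEquiv.ofIsUnitDet h).surjective 1
  exact IsUnit.of_mul_eq_one y hy

variable {X Y : Scheme.{u}} (π : X ⟶ Y)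

/-- The norm of functions over an open. -/
def nrmHom (V : Y.Opens) : Γ(X, π ⁻¹ᵁ V) →* Γ(Y, V) :=
  letI := (π.app V).hom.toAlgebra
  Algebra.norm Γ(Y, V)

/-- Sections whose restrictions form bases. -/
def IsGoodBasis {W : Y.Opens} {n : ℕ} (c : Fin n → Γ(X, π ⁻¹ᵁ W)) : Prop :=
  ∀ (V : Y.Opens) (h : V ≤ W), Function.Bijective fun r : Fin n → Γ(Y, V) =>
    ∑ i, π.app V (r i) * ro (fun _ hx => h hx : π ⁻¹ᵁ V ≤ π ⁻¹ᵁ W) (c i)

variable {π}

theorem IsGoodBasis.basis {W : Y.Opens} {n : ℕ} {c : Fin n → Γ(X, π ⁻¹ᵁ W)} (hc : IsGoodBasis π c)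
    {V : Y.Opens} (h : V ≤ W) :
    letI := (π.app V).hom.toAlgebra
    ∃ b : Module.Basis (Fin n) Γ(Y, V) Γ(X, π ⁻¹ᵁ V),
      ∀ i, b i = ro (fun _ hx => h hx : π ⁻¹ᵁ V ≤ π ⁻¹ᵁ W) (c i) := by
  letI := (π.app V).hom.toAlgebra
  let L : (Fin n → Γ(Y, V)) →ₗ[Γ(Y, V)] Γ(X, π ⁻¹ᵁ V) :=
    Fintype.linearCombination Γ(Y, V) fun i => ro (fun _ hx => h hx : π ⁻¹ᵁ V ≤ π ⁻¹ᵁ W) (c i)
  have hL : Function.Bijective L := by
    convert hc V h using 1
    funext r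
    simp only [L, Fintype.linearCombination_apply, Algebra.smul_def]
    rfl
  refine ⟨Module.Basis.ofEquivFun (LinearEquiv.ofBijective L hL).symm, fun i => ?_⟩
  simp [L, Fintype.linearCombination_apply]

theorem nrmHom_ro {W : Y.Opens} {n : ℕ} {c : Fin n → Γ(X, π ⁻¹ᵁ W)} (hc : IsGoodBasis π c)
    {V V' : Y.Opens} (h : V ≤ W) (h' : V' ≤ V) (s : Γ(X, π ⁻¹ᵁ V)) :
    ro h' (nrmHom π V s) = nrmHom π V' (ro (fun _ hx => h' hx : π ⁻¹ᵁ V' ≤ π ⁻¹ᵁ V) s) := by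
  letI := (π.app V).hom.toAlgebra
  letI := (π.app V').hom.toAlgebra
  obtain ⟨b, hb⟩ := hc.basis h
  obtain ⟨b', hb'⟩ := hc.basis (h'.trans h)
  refine (norm_map_of_basis b b' (Y.presheaf.map (homOfLE h').op).hom
    (X.presheaf.map (homOfLE (fun _ hx => h' hx : π ⁻¹ᵁ V' ≤ π ⁻¹ᵁ V)).op).hom (fun r => ?_) (fun i => ?_) s).symm
  · exact (congr($(π.naturality (homOfLE h').op) r)).symm
  · rw [hb i, hb' i]
    exact ro_ro _ _ _

theorem nrmHom_app {W : Y.Opens} {n : ℕ} {c : Fin n → Γ(X, π ⁻¹ᵁ W)} (hc : IsGoodBasis π c)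
    {V : Y.Opens} (h : V ≤ W) (g : Γ(Y, V)) : nrmHom π V (π.app V g) = g ^ n := by
  letI := (π.app V).hom.toAlgebra
  obtain ⟨b, -⟩ := hc.basis h
  exact (Algebra.norm_algebraMap_of_basis b g).trans (by rw [Fintype.card_fin])

theorem isUnit_of_nrmHom {W : Y.Opens} {n : ℕ} {c : Fin n → Γ(X, π ⁻¹ᵁ W)} (hc : IsGoodBasis π c)
    {V : Y.Opens} (h : V ≤ W) (s : Γ(X, π ⁻¹ᵁ V)) (hs : IsUnit (nrmHom π V s)) : IsUnit s := by
  letI := (π.app V).hom.toAlgebra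
  obtain ⟨b, -⟩ := hc.basis h
  exact isUnit_of_isUnit_norm b hs

theorem eq_rank {W W' : Y.Opens} {n n' : ℕ} {c : Fin n → Γ(X, π ⁻¹ᵁ W)} {c' : Fin n' → Γ(X, π ⁻¹ᵁ W')}
    (hc : IsGoodBasis π c) (hc' : IsGoodBasis π c') {V : Y.Opens} (h : V ≤ W) (h' : V ≤ W')
    [Nontrivial Γ(Y, V)] : n = n' := by
  letI := (π.app V).hom.toAlgebra
  obtain ⟨b, -⟩ := hc.basis h
  obtain ⟨b', -⟩ := hc'.basis h'
  simpa using Fintype.card_congr (b.indexEquiv b')

/-- Local bases of ranks dividing `m` give a norm of degree `m`. -/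
theorem hasNorm_of_goodBases (m : ℕ) (hm : 1 ≤ m)
    (H : ∀ y : Y, ∃ (W : Y.Opens) (n : ℕ) (c : Fin n → Γ(X, π ⁻¹ᵁ W)),
      y ∈ W ∧ 0 < n ∧ n ∣ m ∧ IsGoodBasis π c) : Nrm.HasNorm π m := by
  choose W n c hyW hn hnm hc using H
  let v : ∀ (U : Y.Opens) (y : Y), Γ(X, π ⁻¹ᵁ U) →* Γ(Y, W y ⊓ U) := fun U y =>
    ((powMonoidHom (m / n y)).comp (nrmHom π (W y ⊓ U))).comp
      (X.presheaf.map (homOfLE (fun _ hx => hx.2 : π ⁻¹ᵁ (W y ⊓ U) ≤ π ⁻¹ᵁ U)).op).hom.toMonoidHom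
  have hcov : ∀ U : Y.Opens, U ≤ ⨆ y, W y ⊓ U := fun U y hy => Opens.mem_iSup.2 ⟨y, hyW y, hy⟩
  have key : ∀ (U : Y.Opens) (y : Y) (V : Y.Opens) (h : V ≤ W y ⊓ U) (s : Γ(X, π ⁻¹ᵁ U)),
      ro h (v U y s) = nrmHom π V (ro (fun _ hx => (h hx).2 : π ⁻¹ᵁ V ≤ π ⁻¹ᵁ U) s) ^ (m / n y) := by
    intro U y V h s
    show ro h (nrmHom π (W y ⊓ U) (ro (fun _ hx => hx.2 : π ⁻¹ᵁ (W y ⊓ U) ≤ π ⁻¹ᵁ U) s) ^ (m / n y)) = _
    rw [show ro h (nrmHom π (W y ⊓ U) _ ^ (m / n y)) = ro h (nrmHom π (W y ⊓ U) _) ^ (m / n y) from map_pow _ _ _,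
      nrmHom_ro (hc y) inf_le_left h, ro_ro]
  have compat : ∀ (U : Y.Opens) (y z : Y) (s : Γ(X, π ⁻¹ᵁ U)),
      ro (inf_le_left : (W y ⊓ U) ⊓ (W z ⊓ U) ≤ W y ⊓ U) (v U y s) = ro inf_le_right (v U z s) := by
    intro U y z s
    rw [key, key]
    rcases subsingleton_or_nontrivial Γ(Y, (W y ⊓ U) ⊓ (W z ⊓ U)) with hV | hV
    · exact Subsingleton.elim _ _
    · rw [eq_rank (hc y) (hc z) (V := (W y ⊓ U) ⊓ (W z ⊓ U)) (inf_le_left.trans inf_le_left)
        (inf_le_right.trans inf_le_left)]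
  have ext : ∀ (U : Y.Opens) (a b : Γ(Y, U)),
      (∀ y, ro (inf_le_right : W y ⊓ U ≤ U) a = ro inf_le_right b) → a = b := fun U a b h =>
    Y.sheaf.eq_of_locally_eq' (fun y => W y ⊓ U) U (fun y => homOfLE inf_le_right) (hcov U) a b h
  have glue : ∀ (U : Y.Opens) (s : Γ(X, π ⁻¹ᵁ U)), ∃ a : Γ(Y, U), ∀ y, ro (inf_le_right : W y ⊓ U ≤ U) a = v U y s :=
    fun U s => by
      obtain ⟨a, ha, -⟩ := Y.sheaf.existsUnique_gluing' (fun y => W y ⊓ U) U (fun y => homOfLE inf_le_right)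
        (hcov U) (fun y => v U y s) (fun y z => compat U y z s)
      exact ⟨a, ha⟩
  choose N hN using glue
  refine ⟨{
    one_le := hm
    norm := fun U =>
      { toFun := N U
        map_one' := ext U _ _ fun y => by rw [hN, map_one, show ro _ (1 : Γ(Y, U)) = 1 from map_one _]
        map_mul' := fun a b => ext U _ _ fun y => by rw [hN, map_mul, ro_mul, hN, hN] }
    norm_res := fun {U V} i s => ext V _ _ fun y => ?_
    norm_app := fun U g => ext U _ _ fun y => ?_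
    norm_mem := fun U s x hx hs => ?_ }⟩
  · show ro _ (ro i.le (N U s)) = ro _ (N V _)
    rw [hN V, ro_ro, ← ro_ro (inf_le_right : W y ⊓ U ≤ U) (inf_le_inf_left (W y) i.le), hN U, key]
    show nrmHom π (W y ⊓ V) (ro _ s) ^ (m / n y) =
      nrmHom π (W y ⊓ V) (ro _ (ro (fun _ hx => i.le hx : π ⁻¹ᵁ V ≤ π ⁻¹ᵁ U) s)) ^ (m / n y)
    rw [ro_ro]
  · show ro _ (N U (π.app U g)) = _
    rw [hN]
    have e1 : ro (fun _ hx => hx.2 : π ⁻¹ᵁ (W y ⊓ U) ≤ π ⁻¹ᵁ U) (π.app U g) =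
        π.app (W y ⊓ U) (ro inf_le_right g) :=
      (congr($(π.naturality (homOfLE (inf_le_right : W y ⊓ U ≤ U)).op) g)).symm
    show nrmHom π (W y ⊓ U) (ro _ (π.app U g)) ^ (m / n y) = ro _ (g ^ m)
    rw [e1, nrmHom_app (hc y) inf_le_left, ← pow_mul, Nat.mul_div_cancel' (hnm y)]
    exact (map_pow _ _ _).symm
  · refine (IsLocalRing.mem_maximalIdeal _).2 fun hu => ?_
    have hxV : π x ∈ Y.basicOpen (N U s) := (Y.mem_basicOpen _ (π x) hx).2 hu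
    have hVU := Y.basicOpen_le (N U s)
    let V : Y.Opens := W (π x) ⊓ Y.basicOpen (N U s)
    have hVU' : V ≤ W (π x) ⊓ U := inf_le_inf_left _ hVU
    have h1 : IsUnit (ro (hVU'.trans inf_le_right) (N U s)) := by
      have h0 : IsUnit (ro hVU (N U s)) := RingedSpace.isUnit_res_basicOpen Y.toRingedSpace (N U s)
      have h2 : IsUnit (ro (inf_le_right : V ≤ Y.basicOpen (N U s)) (ro hVU (N U s))) :=
        h0.map (Y.presheaf.map (homOfLE inf_le_right).op).hom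
      rwa [ro_ro] at h2
    rw [← ro_ro (inf_le_right : W (π x) ⊓ U ≤ U) hVU', hN, key,
      isUnit_pow_iff (Nat.div_pos (Nat.le_of_dvd hm (hnm _)) (hn _)).ne'] at h1
    have h3 := isUnit_of_nrmHom (hc (π x)) inf_le_left _ h1
    have hxV' : x ∈ π ⁻¹ᵁ V := ⟨hyW _, hxV⟩
    have h4 := h3.map (X.presheaf.germ (π ⁻¹ᵁ V) x hxV').hom
    rw [X.presheaf.germ_res_apply] at h4
    exact (IsLocalRing.mem_maximalIdeal _).1 hs h4

open Groth.L17.LocBases Groth.L00.ModSiteTensor in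
theorem isGoodBasis_of_isBasis {W : Y.Opens} {n : ℕ}
    {c : Fin n → Sec ((preF Y.sheaf).obj ((Coh.push π).obj (Coh.structureModule X))) W}
    (hc : IsBasis (O := Y.sheaf) ((Coh.push π).obj (Coh.structureModule X)) c) :
    IsGoodBasis π (fun i => (c i : Γ(X, π ⁻¹ᵁ W))) := fun V h => hc V (homOfLE h)

theorem exists_goodBasis (hπ : FlatMod.IsFinLocFree ((Coh.push π).obj (Coh.structureModule X))) (y : Y) :
    ∃ (W : Y.Opens) (n : ℕ) (c : Fin n → Γ(X, π ⁻¹ᵁ W)), y ∈ W ∧ IsGoodBasis π c := by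
  obtain ⟨U, n, hyU, ⟨e⟩⟩ := hπ y
  obtain ⟨s, hs⟩ := Groth.L17.FinLocBases.exists_isBasis _ e
  exact ⟨U.ι ''ᵁ ⊤, n, _, ⟨⟨y, hyU⟩, trivial, rfl⟩, isGoodBasis_of_isBasis hs⟩

theorem pos_rank {W : Y.Opens} {n : ℕ} {c : Fin n → Γ(X, π ⁻¹ᵁ W)} (hc : IsGoodBasis π c) {x : X}
    (hx : π x ∈ W) : 0 < n := by
  by_contra h0
  obtain rfl : n = 0 := by omega
  have hsub : Subsingleton Γ(X, π ⁻¹ᵁ W) :=
    ⟨fun a b => by
      obtain ⟨r, rfl⟩ := (hc W le_rfl).2 a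
      obtain ⟨r', rfl⟩ := (hc W le_rfl).2 b
      simp⟩
  have h1 := congrArg (X.presheaf.germ (π ⁻¹ᵁ W) x hx) (Subsingleton.elim (0 : Γ(X, π ⁻¹ᵁ W)) 1)
  rw [map_zero, map_one] at h1
  exact zero_ne_one h1

/-- A finite locally free surjective morphism onto a quasi-compact scheme has a norm. -/
theorem exists_hasNorm [CompactSpace Y] [Surjective π]
    (hπ : FlatMod.IsFinLocFree ((Coh.push π).obj (Coh.structureModule X))) : ∃ m, Nrm.HasNorm π m := by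
  classical
  choose W n c hyW hc using exists_goodBasis hπ
  obtain ⟨T, hT⟩ := isCompact_univ.elim_finite_subcover (fun y : Y => (W y : Set Y)) (fun y => (W y).2)
    (fun y _ => Set.mem_iUnion.2 ⟨y, hyW y⟩)
  have hpos : ∀ y, 0 < n y := fun y => by
    obtain ⟨x, hx⟩ := π.surjective y
    exact pos_rank (hc y) (show π x ∈ W y by rw [hx]; exact hyW y)
  refine ⟨∏ y ∈ T, n y, hasNorm_of_goodBases _ (Finset.prod_pos fun y _ => hpos y) fun z => ?_⟩
  obtain ⟨y, hy, hzy⟩ := Set.mem_iUnion₂.1 (hT (Set.mem_univ z))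
  exact ⟨W y, n y, c y, hzy, hpos y, Finset.dvd_prod_of_mem _ hy, hc y⟩

end Groth.L18.NormFree
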