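import Groth.Agent.L18.NegVanishLimit

/-!
# Negative twists over a field: the depth on the fibre is the depth
-/

set_option autoImplicit false
set_option linter.style.haveILetI false
set_option backward.isDefEq.respectTransparency false
set_option backward.isDefEq.respectTransparency.types false
universe u

open CategoryTheory CategoryTheory.Limits AlgebraicGeometry IsLocalRing

noncomputable section

namespace Groth.L18.NegVanish

variable {k : Type u} [Field k] {X : Scheme.{u}}

theorem isField_stalk_specField (p : ↥(Spec (CommRingCat.of k))) :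
    IsField ((Spec (CommRingCat.of k)).presheaf.stalk p) := by
  let e := (Spec.stalkIso (CommRingCat.of k) p).commRingCatIsoToRingEquiv
  have h0 : p.asIdeal = ⊥ := (Ideal.eq_bot_or_top (K := k) p.asIdeal).resolve_right p.2.ne_top
  have hm : p.asIdeal ∈ minimalPrimes k := ⟨⟨p.2, bot_le⟩, fun q _ _ => h0 ▸ bot_le⟩
  have : Ring.KrullDimLE 0 (Localization.AtPrime p.asIdeal) := .of_isLocalization _ hm _
  exact MulEquiv.isField (Ring.KrullDimLE.isField_of_isReduced (R := Localization.AtPrime p.asIdeal)) e.toMulEquiv

theorem flat_specField (f : X ⟶ Spec (CommRingCat.of k)) : Flat f := by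
  refine Flat.of_stalkMap f fun x => ?_
  letI := (isField_stalk_specField (k := k) (f x)).toField
  letI := (f.stalkMap x).hom.toAlgebra
  exact (inferInstance : Module.Flat ((Spec (CommRingCat.of k)).presheaf.stalk (f x)) (X.presheaf.stalk x))

theorem fibI_field (f : X ⟶ Spec (CommRingCat.of k)) (x : X) : fibI f x = ⊥ := by
  rw [fibI, IsLocalRing.isField_iff_maximalIdeal_eq.1 (isField_stalk_specField (k := k) (f.base x)), Ideal.map_bot]

theorem sdep_field (f : X ⟶ Spec (CommRingCat.of k)) (F : X.Modules) (x : X) :
    sdep f F x = LocCoh.depth (X.presheaf.stalk x) (F.presheaf.stalk x) := by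
  have h : fibI f x • (⊤ : Submodule (X.presheaf.stalk x) (F.presheaf.stalk x)) = ⊥ := by
    rw [fibI_field, Submodule.bot_smul]
  exact L02.FibDepth.Semi.depth_eq
    { φ := RingHom.id _
      surj := Function.surjective_id
      e := (Submodule.quotEquivOfEqBot _ h).toAddEquiv
      map_smul := fun r z => (Submodule.quotEquivOfEqBot _ h).map_smul r z }

end Groth.L18.NegVanish
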