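import Groth.Agent.L18.NegVanishAlg
import Groth.Agent.L18.FiberStalk
import Groth.Agent.L17.ClosedPush
import Groth.Agent.L12.KRes.Basic
import Groth.Agent.L22.PDual.EnriquesSeveri
import Groth.Agent.L16.ProjSpace.BaseChange
import Groth.Agent.L15.Ref.Stalk
import Groth.Agent.L00.PullStalk
import Groth.Agent.L29.LocFree
import Groth.Agent.L15.CohFlat
import Groth.Prelude.Def_FlatMod2
import Groth.Prelude.Def_CInt

/-!
# Depth on the fibres of modules on projective space over a ring
-/

set_option autoImplicit false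
set_option linter.style.haveILetI false
set_option linter.unusedSectionVars false
set_option backward.isDefEq.respectTransparency false
set_option backward.isDefEq.respectTransparency.types false
universe u

open CategoryTheory CategoryTheory.Limits AlgebraicGeometry IsLocalRing
open scoped TensorProduct

noncomputable section

namespace Groth.L18.NegVanish

section Semi

variable {R M S N : Type u} [CommRing R] [AddCommGroup M] [Module R M] [CommRing S] [AddCommGroup N] [Module S N]

/-- Semilinear isomorphisms pass to the quotients by ideals. -/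
theorem nonempty_semi_quot (E : L02.FibDepth.Semi R M S N) (I : Ideal R) :
    Nonempty (L02.FibDepth.Semi R (M ⧸ I • (⊤ : Submodule R M)) S (N ⧸ I.map E.φ • (⊤ : Submodule S N))) := by
  letI : RingHomSurjective E.φ := ⟨E.surj⟩
  let f : M →ₛₗ[E.φ] N :=
    { toFun := E.e
      map_add' := map_add E.e
      map_smul' := E.map_smul }
  have himg : Submodule.map f (I • (⊤ : Submodule R M)) = I.map E.φ • (⊤ : Submodule S N) := by
    refine le_antisymm ?_ ?_
    · rw [Submodule.map_le_iff_le_comap, Submodule.smul_le]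
      intro r hr m _
      show E.e (r • m) ∈ I.map E.φ • (⊤ : Submodule S N)
      rw [E.map_smul]
      exact Submodule.smul_mem_smul (N := (⊤ : Submodule S N)) (Ideal.mem_map_of_mem _ hr) trivial
    · rw [Submodule.smul_le]
      intro s hs n _
      obtain ⟨r, hr, rfl⟩ := (Ideal.mem_map_iff_of_surjective _ E.surj).1 hs
      obtain ⟨m, rfl⟩ := E.e.surjective n
      exact ⟨r • m, Submodule.smul_mem_smul hr trivial, E.map_smul r m⟩
  let q := Submodule.mapQ (I • (⊤ : Submodule R M)) (I.map E.φ • (⊤ : Submodule S N)) f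
    (Submodule.map_le_iff_le_comap.1 himg.le)
  have hq : Function.Bijective q := by
    refine ⟨(injective_iff_map_eq_zero q).2 fun z hz => ?_, fun z => ?_⟩
    · obtain ⟨m, rfl⟩ := Submodule.Quotient.mk_surjective _ z
      have h : f m ∈ Submodule.map f (I • (⊤ : Submodule R M)) :=
        himg.ge ((Submodule.Quotient.mk_eq_zero _).1 hz)
      obtain ⟨m', hm', he⟩ := h
      rw [Submodule.Quotient.mk_eq_zero]
      rwa [← E.e.injective (a₁ := m') (a₂ := m) he]
    · obtain ⟨n, rfl⟩ := Submodule.Quotient.mk_surjective _ z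
      obtain ⟨m, rfl⟩ := E.e.surjective n
      exact ⟨Submodule.Quotient.mk m, rfl⟩
  exact ⟨{ φ := E.φ, surj := E.surj, e := AddEquiv.ofBijective q.toAddMonoidHom hq,
           map_smul := fun r z => q.map_smulₛₗ r z }⟩

end Semi

variable {X Y S : Scheme.{u}}

/-- The ideal of the fibre in a local ring. -/
abbrev fibI (f : X ⟶ S) (x : X) : Ideal (X.presheaf.stalk x) :=
  (maximalIdeal (S.presheaf.stalk (f.base x))).map (f.stalkMap x).hom

/-- The depth of a module on the fibre. -/
def sdep (f : X ⟶ S) (F : X.Modules) (x : X) : ℕ∞ :=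
  LocCoh.depth (X.presheaf.stalk x)
    (F.presheaf.stalk x ⧸ fibI f x • (⊤ : Submodule (X.presheaf.stalk x) (F.presheaf.stalk x)))

theorem sdep_fiberι (f : X ⟶ S) (F : X.Modules) (s : S) (v : ↥(f.fiber s)) :
    sdep f F (f.fiberι s v) = LocCoh.depth ((f.fiber s).presheaf.stalk v)
      (((Scheme.Modules.pullback (f.fiberι s)).obj F).presheaf.stalk v) := by
  obtain ⟨hsurj, hker⟩ := Groth.L18.stalkMap_fiberι f s v
  let x := f.fiberι s v
  let Ox := X.presheaf.stalk x
  let Ov := (f.fiber s).presheaf.stalk v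
  let Fx := F.presheaf.stalk x
  let Fv := ((Scheme.Modules.pullback (f.fiberι s)).obj F).presheaf.stalk v
  letI : Algebra Ox Ov := ((f.fiberι s).stalkMap v).hom.toAlgebra
  letI : Module Ox Fv := Module.compHom Fv (algebraMap Ox Ov)
  haveI : IsScalarTower Ox Ov Fv := IsScalarTower.of_algebraMap_smul fun _ _ => rfl
  have hker' : RingHom.ker (Algebra.ofId Ox Ov) = fibI f x := hker
  let e₁ : (Ox ⧸ fibI f x) ≃ₐ[Ox] Ov :=
    (Ideal.quotientEquivAlgOfEq Ox hker'.symm).trans
      (Ideal.quotientKerAlgEquivOfSurjective (f := Algebra.ofId Ox Ov) hsurj)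
  let e₀ : Fv ≃ₗ[Ov] Ov ⊗[Ox] Fx :=
    ((Groth.L00.PullStalk.stalkIso (f.fiberι s) v).app F).toLinearEquiv
  let E : Fv ≃ₗ[Ox] Fx ⧸ fibI f x • (⊤ : Submodule Ox Fx) :=
    (e₀.restrictScalars Ox).trans ((TensorProduct.congr e₁.toLinearEquiv.symm
      (LinearEquiv.refl Ox Fx)).trans (TensorProduct.quotTensorEquivQuotSMul Fx (fibI f x)))
  exact L02.FibDepth.Semi.depth_eq
    { φ := algebraMap Ox Ov
      surj := hsurj
      e := E.symm.toAddEquiv
      map_smul := fun r z => E.symm.map_smul r z }

theorem sdep_asFiber (f : X ⟶ S) (F : X.Modules) (x : X) :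
    sdep f F x = LocCoh.depth ((f.fiber (f.base x)).presheaf.stalk (f.asFiber x))
      (((Scheme.Modules.pullback (f.fiberι (f.base x))).obj F).presheaf.stalk (f.asFiber x)) := by
  rw [← sdep_fiberι f F (f.base x) (f.asFiber x)]
  exact congrArg (sdep f F) (f.fiberι_asFiber x).symm

theorem sdep_structureModule (f : X ⟶ S) (x : X) :
    sdep f (Coh.structureModule X) x = LocCoh.depth ↑(CInt.fiberStalk f x) ↑(CInt.fiberStalk f x) := by
  rw [sdep_asFiber]
  let v := f.asFiber x
  let e : ((Scheme.Modules.pullback (f.fiberι (f.base x))).obj (Coh.structureModule X)).presheaf.stalk v ≃ₗ[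
      (f.fiber (f.base x)).presheaf.stalk v] (Coh.structureModule (f.fiber (f.base x))).presheaf.stalk v :=
    ((Groth.L00.Stk.F (f.fiber (f.base x)) v).mapIso
      (Groth.L29.LocFree.pullbackUnitIso (f.fiberι (f.base x)))).toLinearEquiv
  exact L02.FibDepth.Semi.depth_eq
    { φ := RingHom.id _
      surj := Function.surjective_id
      e := (e.trans (Groth.L15.Ref.strE v).symm).toAddEquiv
      map_smul := fun r z => (e.trans (Groth.L15.Ref.strE v).symm).map_smul r z }

theorem isClosed_asFiber (f : X ⟶ S) {x : X} (hx : IsClosed ({x} : Set X)) :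
    IsClosed ({f.asFiber x} : Set ↥(f.fiber (f.base x))) := by
  have h : ({f.asFiber x} : Set ↥(f.fiber (f.base x))) = f.fiberι (f.base x) ⁻¹' {x} := by
    ext v
    simp only [Set.mem_singleton_iff, Set.mem_preimage]
    exact ⟨fun h => h ▸ f.fiberι_asFiber x,
      fun h => (f.fiberι (f.base x)).isEmbedding.injective (h.trans (f.fiberι_asFiber x).symm)⟩
  rw [h]
  exact hx.preimage (f.fiberι (f.base x)).continuous

section Push

variable (i : X ⟶ Y) [IsClosedImmersion i] (g : Y ⟶ S) (F : X.Modules)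

/-- The stalk of a pushforward by a closed immersion, semilinearly. -/
def pushE (x : X) : L02.FibDepth.Semi (Y.presheaf.stalk (i x)) (((Scheme.Modules.pushforward i).obj F).presheaf.stalk (i x))
    (X.presheaf.stalk x) (F.presheaf.stalk x) where
  φ := (i.stalkMap x).hom
  surj := i.stalkMap_surjective x
  e := AddEquiv.ofBijective (Groth.L17.ClosedPush.c₀ i F x) (Groth.L17.ClosedPush.c₀_bijective i F x)
  map_smul := fun r m => Groth.L17.ClosedPush.c₀_smul i F x r m

theorem sdep_push (x : X) : sdep g ((Scheme.Modules.pushforward i).obj F) (i x) = sdep (i ≫ g) F x := by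
  obtain ⟨E⟩ := nonempty_semi_quot (pushE i F x) (fibI g (i x))
  have h : (fibI g (i x)).map (pushE i F x).φ = fibI (i ≫ g) x := by
    rw [Ideal.map_map]
    show Ideal.map _ _ = Ideal.map _ _
    rw [Scheme.Hom.stalkMap_comp]
    rfl
  rw [h] at E
  exact E.depth_eq

theorem sdep_push_of_not_mem {p : Y} (hp : p ∉ Set.range i) :
    sdep g ((Scheme.Modules.pushforward i).obj F) p = ⊤ := by
  haveI : Subsingleton (((Scheme.Modules.pushforward i).obj F).presheaf.stalk p) :=
    Groth.L17.ClosedPush.subsingleton_stalk_push i F hp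
  exact Groth.L04.idealDepth_eq_top (Subsingleton.elim _ _)

theorem isFlatOver_push (hF : FlatMod.IsFlatOver (i ≫ g) F) :
    FlatMod.IsFlatOver g ((Scheme.Modules.pushforward i).obj F) := by
  intro p
  by_cases hp : p ∈ Set.range i
  · obtain ⟨x, rfl⟩ := hp
    letI := FlatMod.moduleStalkOver g ((Scheme.Modules.pushforward i).obj F) (i x)
    letI : Module (S.presheaf.stalk (g (i x))) (F.presheaf.stalk x) := FlatMod.moduleStalkOver (i ≫ g) F x
    let e : ((Scheme.Modules.pushforward i).obj F).presheaf.stalk (i x)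
        ≃ₗ[S.presheaf.stalk (g (i x))] F.presheaf.stalk x :=
      { (pushE i F x).e with
        map_smul' := fun a v => by
          show (pushE i F x).e ((g.stalkMap (i x)).hom a • v) = ((i ≫ g).stalkMap x).hom a • (pushE i F x).e v
          rw [(pushE i F x).map_smul, Scheme.Hom.stalkMap_comp]
          rfl }
    haveI : Module.Flat (S.presheaf.stalk (g (i x))) (F.presheaf.stalk x) := hF x
    exact Module.Flat.of_linearEquiv e
  · haveI : Subsingleton (((Scheme.Modules.pushforward i).obj F).presheaf.stalk p) :=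
      Groth.L17.ClosedPush.subsingleton_stalk_push i F hp
    letI := FlatMod.moduleStalkOver g ((Scheme.Modules.pushforward i).obj F) p
    show Module.Flat (S.presheaf.stalk (g.base p)) (((Scheme.Modules.pushforward i).obj F).presheaf.stalk p)
    haveI : Module.Free (S.presheaf.stalk (g.base p)) (((Scheme.Modules.pushforward i).obj F).presheaf.stalk p) :=
      Module.Free.of_subsingleton _ _
    infer_instance

end Push

section Proj

variable {A : Type u} [CommRing A] {r : ℕ}

local notation "g₀" => CohB1.ProjSpace.toSpec r A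

theorem fibre_regular {p : CohB1.ProjSpace r A} (hp : IsClosed ({p} : Set (CohB1.ProjSpace r A))) :
    IsRegularLocalRing ((CohB1.ProjSpace r A).presheaf.stalk p ⧸ fibI g₀ p) ∧
      ringKrullDim ((CohB1.ProjSpace r A).presheaf.stalk p ⧸ fibI g₀ p) = (r : ℕ) := by
  let s := (g₀).base p
  suffices h : ∀ v : ↥((g₀).fiber s), IsClosed ({v} : Set ↥((g₀).fiber s)) →
      IsRegularLocalRing ((CohB1.ProjSpace r A).presheaf.stalk ((g₀).fiberι s v) ⧸ fibI g₀ ((g₀).fiberι s v)) ∧
      ringKrullDim ((CohB1.ProjSpace r A).presheaf.stalk ((g₀).fiberι s v) ⧸ fibI g₀ ((g₀).fiberι s v)) = (r : ℕ) by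
    have := h _ (isClosed_asFiber g₀ hp)
    rwa [(g₀).fiberι_asFiber p] at this
  intro v hv
  let S' := Spec (CommRingCat.of A)
  let φ : A →+* S'.residueField s := (Spec.preimage (S'.fromSpecResidueField s)).hom
  have H0 : IsPullback (Groth.L16.ProjSpace.map r φ) (CohB1.ProjSpace.toSpec r (S'.residueField s)) g₀
      (S'.fromSpecResidueField s) := by
    have := Groth.L16.ProjSpace.isPullback_map r φ
    rwa [show Spec.map (CommRingCat.ofHom φ) = S'.fromSpecResidueField s from Spec.map_preimage _] at this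
  let e : CohB1.ProjSpace r (S'.residueField s) ≅ (g₀).fiber s :=
    H0.isoIsPullback _ _ (IsPullback.of_hasPullback g₀ (S'.fromSpecResidueField s))
  obtain ⟨z, rfl⟩ := e.hom.homeomorph.surjective v
  have hz : IsClosed ({z} : Set (CohB1.ProjSpace r (S'.residueField s))) := by
    have : ({z} : Set _) = e.hom ⁻¹' {e.hom z} := Set.ext fun w =>
      ⟨fun h => congrArg _ h, fun h => e.hom.homeomorph.injective h⟩
    rw [this]
    exact hv.preimage e.hom.continuous
  obtain ⟨hsurj, hker⟩ := Groth.L18.stalkMap_fiberι g₀ s (e.hom z)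
  let e' := (Ideal.quotEquivOfEq hker.symm).trans (RingHom.quotientKerEquivOfSurjective hsurj) |>.trans
    (asIso (e.hom.stalkMap z)).commRingCatIsoToRingEquiv
  refine ⟨?_, ?_⟩
  · haveI := Groth.L22.PDual.regular_stalk z
    exact IsRegularLocalRing.of_ringEquiv e'.symm
  · exact (ringKrullDim_eq_of_ringEquiv e').trans (Groth.L22.PDual.dim_stalk hz)

variable [IsNoetherianRing A]

/-- The depth grows along a resolution by locally free modules, and the kernels stay flat. -/
theorem step {T : ShortComplex (CohB1.ProjSpace r A).Modules} (hT : T.ShortExact) (h₂ : FlatMod.IsFinLocFree T.X₂)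
    (hfl : FlatMod.IsFlatOver g₀ T.X₃) (n : ℕ) (hnr : n + 1 ≤ r)
    (hn : ∀ p : CohB1.ProjSpace r A, IsClosed ({p} : Set (CohB1.ProjSpace r A)) → (n : ℕ∞) ≤ sdep g₀ T.X₃ p) :
    FlatMod.IsFlatOver g₀ T.X₁ ∧
      ∀ p : CohB1.ProjSpace r A, IsClosed ({p} : Set (CohB1.ProjSpace r A)) → ((n + 1 : ℕ) : ℕ∞) ≤ sdep g₀ T.X₁ p := by
  let P := CohB1.ProjSpace r A
  haveI : IsLocallyNoetherian P := LocallyOfFiniteType.isLocallyNoetherian g₀
  have key : ∀ p : P, FlatMod.IsFlatOverAt g₀ T.X₁ p ∧
      (IsClosed ({p} : Set P) → ((n + 1 : ℕ) : ℕ∞) ≤ sdep g₀ T.X₁ p) := by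
    intro p
    let S' := Spec (CommRingCat.of A)
    let B := P.presheaf.stalk p
    let A₀ := S'.presheaf.stalk ((g₀).base p)
    letI : Algebra A₀ B := ((g₀).stalkMap p).hom.toAlgebra
    let st := (Groth.L00.Stk.F P p)
    have hS := Groth.L12.KRes.shortExact_stalk hT p
    let f : st.obj T.X₁ →ₗ[B] st.obj T.X₂ := (st.map T.f).hom
    let g : st.obj T.X₂ →ₗ[B] st.obj T.X₃ := (st.map T.g).hom
    have hf : Function.Injective f := hS.moduleCat_injective_f
    have hg : Function.Surjective g := hS.moduleCat_surjective_g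
    have hfg : Function.Exact f g := (ShortComplex.ShortExact.moduleCat_exact_iff_function_exact _).1 hS.exact
    letI : Module A₀ (st.obj T.X₁) := FlatMod.moduleStalkOver g₀ T.X₁ p
    letI : Module A₀ (st.obj T.X₂) := FlatMod.moduleStalkOver g₀ T.X₂ p
    letI : Module A₀ (st.obj T.X₃) := FlatMod.moduleStalkOver g₀ T.X₃ p
    haveI : IsScalarTower A₀ B (st.obj T.X₁) := IsScalarTower.of_algebraMap_smul fun _ _ => rfl
    haveI : IsScalarTower A₀ B (st.obj T.X₂) := IsScalarTower.of_algebraMap_smul fun _ _ => rfl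
    haveI : IsScalarTower A₀ B (st.obj T.X₃) := IsScalarTower.of_algebraMap_smul fun _ _ => rfl
    haveI : Module.Flat A₀ (st.obj T.X₃) := hfl p
    haveI : Module.Free B (st.obj T.X₂) := Groth.L18.LFP.free_stalk T.X₂ h₂ p
    haveI : Module.Finite B (st.obj T.X₂) :=
      Groth.L18.LFP.finite_stalk T.X₂ (Groth.L15.Ref.isFP_of_isCoh (Groth.L16.NegPow.isCoh_of_isFinLocFree h₂)) p
    haveI : Module.Flat A₀ B := Flat.stalkMap g₀ p
    haveI : Module.Flat A₀ (st.obj T.X₂) := Module.Flat.trans A₀ B _
    have hflat : Module.Flat A₀ (st.obj T.X₁) :=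
      Groth.L01.FlatCx.flat_left (f := f.restrictScalars A₀) (g := g.restrictScalars A₀) hf hg hfg
    refine ⟨hflat, fun hp => ?_⟩
    haveI : IsLocalHom (algebraMap A₀ B) := inferInstanceAs (IsLocalHom ((g₀).stalkMap p).hom)
    haveI : IsRegularLocalRing (B ⧸ fib A₀ (B := B)) := (fibre_regular hp).1
    haveI : Module.Finite B (st.obj T.X₃) := Module.Finite.of_surjective g hg
    exact le_dep_left f g hf hg hfg
      (le_trans (by exact_mod_cast hnr) (dim_le_dep_free (A := A₀) (E := st.obj T.X₂) (fibre_regular hp).2)) (hn p hp)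
  exact ⟨fun p => (key p).1, fun p hp => (key p).2 hp⟩

/-- Full depth on the fibres means locally free. -/
theorem isFinLocFree_of_sdep {K : (CohB1.ProjSpace r A).Modules} (hK : Coh.IsCoh K) (hfl : FlatMod.IsFlatOver g₀ K)
    (h : ∀ p : CohB1.ProjSpace r A, IsClosed ({p} : Set (CohB1.ProjSpace r A)) → (r : ℕ∞) ≤ sdep g₀ K p) :
    FlatMod.IsFinLocFree K := by
  let P := CohB1.ProjSpace r A
  haveI : IsLocallyNoetherian P := LocallyOfFiniteType.isLocallyNoetherian g₀
  have hcl : ∀ p : P, IsClosed ({p} : Set P) → FlatMod.IsFlatAt K p := by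
    intro p hp
    let B := P.presheaf.stalk p
    let A₀ := (Spec (CommRingCat.of A)).presheaf.stalk ((g₀).base p)
    letI : Algebra A₀ B := ((g₀).stalkMap p).hom.toAlgebra
    let M := (Groth.L00.Stk.F P p).obj K
    letI : Module A₀ M := FlatMod.moduleStalkOver g₀ K p
    haveI : IsScalarTower A₀ B M := IsScalarTower.of_algebraMap_smul fun _ _ => rfl
    haveI : Module.Flat A₀ M := hfl p
    haveI : IsLocalHom (algebraMap A₀ B) := inferInstanceAs (IsLocalHom ((g₀).stalkMap p).hom)
    haveI : IsRegularLocalRing (B ⧸ fib A₀ (B := B)) := (fibre_regular hp).1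
    haveI : Module.Finite B M := Groth.L18.LFP.finite_stalk K (Groth.L15.Ref.isFP_of_isCoh hK) p
    haveI := free_of_dim_le_dep (A := A₀) (B := B) (M := M) (fibre_regular hp).2 (h p hp)
    exact (inferInstance : Module.Flat B M)
  refine Groth.L15.CohFlat.isFinLocFree_of_isCoh_isFlat _ hK fun p => ?_
  haveI : CompactSpace P := QuasiCompact.compactSpace_of_compactSpace g₀
  obtain ⟨q, hq, hqc⟩ := IsClosed.exists_closed_singleton (isClosed_closure (s := ({p} : Set P))) ⟨p, subset_closure rfl⟩
  exact (specializes_iff_mem_closure.2 hq).mem_open (Groth.L15.Ref.isOpen_flatAt K hK) (hcl q hqc)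

end Proj

end Groth.L18.NegVanish
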