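import Groth.Prelude.Def_AffAlg
import Mathlib.AlgebraicGeometry.Morphisms.Affine
import Mathlib.AlgebraicGeometry.Morphisms.ClosedImmersion
import Mathlib.AlgebraicGeometry.Cover.Open

/-!
# Morphisms into a scheme affine over the base and algebra homomorphisms (EGA II 1.2.7)
-/

set_option autoImplicit false
universe u

open CategoryTheory CategoryTheory.Limits AlgebraicGeometry TopologicalSpace Opposite

namespace Groth.L18

variable {X Y S : Scheme.{u}}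

/-- The restriction of a morphism to the preimage of an affine open, in terms of global sections. -/
lemma ι_comp_eq_toSpecΓ_fromSpec (h : Y ⟶ X) {V : X.Opens} (hV : IsAffineOpen V) :
    (h ⁻¹ᵁ V).ι ≫ h = (h ⁻¹ᵁ V).toSpecΓ ≫ Spec.map (h.app V) ≫ hV.fromSpec := by
  rw [Scheme.Opens.toSpecΓ_naturality_assoc, IsAffineOpen.toSpecΓ_fromSpec, morphismRestrict_ι]

/-- Key formula: `h` on `g⁻¹U` is determined by `A(h)` on the affine open `U`. -/
lemma ι_comp_eq_algHom (f : X ⟶ S) [IsAffineHom f] (g : Y ⟶ S) (h : Y ⟶ X) (w : h ≫ f = g)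
    {U : S.Opens} (hU : IsAffineOpen U) :
    (g ⁻¹ᵁ U).ι ≫ h = (g ⁻¹ᵁ U).toSpecΓ ≫
      Spec.map ((AffAlg.algHom f g h w).app (op U)) ≫ (hU.preimage f).fromSpec := by
  subst w
  have : (AffAlg.algHom f (h ≫ f) h rfl).app (op U) = h.app (f ⁻¹ᵁ U) := by
    simp [AffAlg.algHom]
    rfl
  rw [this]
  exact ι_comp_eq_toSpecΓ_fromSpec h (hU.preimage f)

/-- Two maps of rings into sections over an open which agree after `toSpecΓ` are equal. -/
lemma eq_of_toSpecΓ_comp_eq {W : Y.Opens} {A : CommRingCat.{u}} (a b : A ⟶ Γ(Y, W))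
    (e : W.toSpecΓ ≫ Spec.map a = W.toSpecΓ ≫ Spec.map b) : a = b := by
  have e' := congr(($e).appTop)
  simp only [Scheme.Hom.comp_appTop, Scheme.Opens.toSpecΓ_appTop, ← Category.assoc] at e'
  rw [cancel_mono, Scheme.ΓSpecIso_naturality, Scheme.ΓSpecIso_naturality, cancel_epi] at e'
  exact e'

lemma iSup_preimage_affineOpens (g : Y ⟶ S) :
    TopologicalSpace.IsOpenCover (fun U : S.affineOpens => g ⁻¹ᵁ U.1) := by
  show ⨆ U : S.affineOpens, g ⁻¹ᵁ U.1 = ⊤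
  rw [← Scheme.Hom.preimage_iSup, iSup_affineOpens_eq_top]; rfl

lemma hom_ext_of_preimage_affineOpens (g : Y ⟶ S) {Z : Scheme.{u}} (a b : Y ⟶ Z)
    (H : ∀ U : S.affineOpens, (g ⁻¹ᵁ U.1).ι ≫ a = (g ⁻¹ᵁ U.1).ι ≫ b) : a = b :=
  Scheme.Cover.hom_ext
    (Y.openCoverOfIsOpenCover _ (iSup_preimage_affineOpens g)) a b fun U => H U

lemma algOf_injective (f : X ⟶ S) [IsAffineHom f] (g : Y ⟶ S) :
    Function.Injective (AffAlg.algOf f g) := by
  rintro ⟨h₁, w₁⟩ ⟨h₂, w₂⟩ e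
  have e' : AffAlg.algHom f g h₁ w₁ = AffAlg.algHom f g h₂ w₂ := congrArg Subtype.val e
  apply Subtype.ext
  show h₁ = h₂
  refine hom_ext_of_preimage_affineOpens g _ _ fun U => ?_
  rw [ι_comp_eq_algHom f g h₁ w₁ U.2, ι_comp_eq_algHom f g h₂ w₂ U.2, e']

section Surj

variable (f : X ⟶ S) [IsAffineHom f] (g : Y ⟶ S) (ω : AffAlg.algHoms f g)

/-- The piece over an affine open of the morphism attached to an algebra homomorphism. -/
noncomputable def homPiece (U : S.affineOpens) : (g ⁻¹ᵁ U.1).toScheme ⟶ X :=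
  (g ⁻¹ᵁ U.1).toSpecΓ ≫ Spec.map (ω.1.app (op U.1)) ≫ (U.2.preimage f).fromSpec

lemma homOfLE_homPiece {U U' : S.affineOpens} (hle : U' ≤ U) :
    Y.homOfLE (g.preimage_mono hle) ≫ homPiece f g ω U = homPiece f g ω U' := by
  unfold homPiece
  rw [← Scheme.Opens.toSpecΓ_SpecMap_presheaf_map_assoc, ← Spec.map_comp_assoc]
  have nat := ω.1.naturality (homOfLE hle : U'.1 ⟶ U.1).op
  erw [← nat]
  rw [Spec.map_comp_assoc]
  congr 2
  exact IsAffineOpen.map_fromSpec _ _ _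

lemma homPiece_compat (U U' : S.affineOpens) :
    pullback.fst (g ⁻¹ᵁ U.1).ι (g ⁻¹ᵁ U'.1).ι ≫ homPiece f g ω U =
      pullback.snd (g ⁻¹ᵁ U.1).ι (g ⁻¹ᵁ U'.1).ι ≫ homPiece f g ω U' := by
  set p := pullback.fst (g ⁻¹ᵁ U.1).ι (g ⁻¹ᵁ U'.1).ι
  set q := pullback.snd (g ⁻¹ᵁ U.1).ι (g ⁻¹ᵁ U'.1).ι
  set k := p ≫ (g ⁻¹ᵁ U.1).ι with hk
  have hk' : k = q ≫ (g ⁻¹ᵁ U'.1).ι := pullback.condition
  have hcov : TopologicalSpace.IsOpenCover
      (fun V : {V : S.affineOpens // V.1 ≤ U.1 ⊓ U'.1} => k ⁻¹ᵁ (g ⁻¹ᵁ V.1.1)) := by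
    refine eq_top_iff.mpr fun z _ => ?_
    have hz : g (k z) ∈ U.1 ⊓ U'.1 := by
      refine ⟨(p z).2, ?_⟩
      rw [hk']
      exact (q z).2
    obtain ⟨V', hV', hzV, hVU⟩ :=
      TopologicalSpace.Opens.isBasis_iff_nbhd.mp S.isBasis_affineOpens hz
    exact TopologicalSpace.Opens.mem_iSup.mpr ⟨⟨⟨V', hV'⟩, hVU⟩, hzV⟩
  refine Scheme.Cover.hom_ext (Scheme.openCoverOfIsOpenCover _ _ hcov) _ _ fun V => ?_
  show (k ⁻¹ᵁ (g ⁻¹ᵁ V.1.1)).ι ≫ _ = (k ⁻¹ᵁ (g ⁻¹ᵁ V.1.1)).ι ≫ _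
  have e1 : (k ⁻¹ᵁ (g ⁻¹ᵁ V.1.1)).ι ≫ p =
      (k ∣_ (g ⁻¹ᵁ V.1.1)) ≫ Y.homOfLE (g.preimage_mono (V.2.trans inf_le_left)) := by
    rw [← cancel_mono (g ⁻¹ᵁ U.1).ι, Category.assoc, Category.assoc, Scheme.homOfLE_ι,
      morphismRestrict_ι]
  have e2 : (k ⁻¹ᵁ (g ⁻¹ᵁ V.1.1)).ι ≫ q =
      (k ∣_ (g ⁻¹ᵁ V.1.1)) ≫ Y.homOfLE (g.preimage_mono (V.2.trans inf_le_right)) := by
    rw [← cancel_mono (g ⁻¹ᵁ U'.1).ι, Category.assoc, Category.assoc, Scheme.homOfLE_ι,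
      morphismRestrict_ι, ← hk']
  rw [reassoc_of% e1, reassoc_of% e2,
    homOfLE_homPiece f g ω (U := U) (U' := V.1) (V.2.trans inf_le_left),
    homOfLE_homPiece f g ω (U := U') (U' := V.1) (V.2.trans inf_le_right)]

/-- The morphism attached to an algebra homomorphism. -/
noncomputable def homOfAlg : Y ⟶ X :=
  Scheme.Cover.glueMorphisms (Y.openCoverOfIsOpenCover _ (iSup_preimage_affineOpens g))
    (fun U => homPiece f g ω U) (fun U U' => homPiece_compat f g ω U U')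

lemma ι_homOfAlg (U : S.affineOpens) :
    (g ⁻¹ᵁ U.1).ι ≫ homOfAlg f g ω = homPiece f g ω U :=
  Scheme.Cover.ι_glueMorphisms (Y.openCoverOfIsOpenCover _ (iSup_preimage_affineOpens g)) _ _ U

lemma homOfAlg_comp : homOfAlg f g ω ≫ f = g := by
  refine hom_ext_of_preimage_affineOpens g _ _ fun U => ?_
  rw [← Category.assoc, ι_homOfAlg, ι_comp_eq_toSpecΓ_fromSpec g U.2]
  unfold homPiece
  simp only [Category.assoc]
  congr 1
  have key : (U.2.preimage f).fromSpec ≫ f = Spec.map (f.app U.1) ≫ U.2.fromSpec := by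
    rw [Scheme.Hom.app_eq_appLE]
    exact (IsAffineOpen.SpecMap_appLE_fromSpec f U.2 (U.2.preimage f) le_rfl).symm
  rw [key, ← Spec.map_comp_assoc]
  have hω : f.app U.1 ≫ ω.1.app (op U.1) = g.app U.1 :=
    congrArg (fun t => NatTrans.app t (op U.1)) ω.2
  rw [hω]

lemma algHom_homOfAlg : AffAlg.algHom f g (homOfAlg f g ω) (homOfAlg_comp f g ω) = ω.1 := by
  set h := homOfAlg f g ω
  have haff : ∀ U : S.affineOpens,
      (AffAlg.algHom f g h (homOfAlg_comp f g ω)).app (op U.1) = ω.1.app (op U.1) := fun U => by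
    apply eq_of_toSpecΓ_comp_eq
    rw [← cancel_mono (U.2.preimage f).fromSpec, Category.assoc, Category.assoc,
      ← ι_comp_eq_algHom f g h (homOfAlg_comp f g ω) U.2]
    exact ι_homOfAlg f g ω U
  refine NatTrans.ext (funext fun U => ?_)
  obtain ⟨U⟩ := U
  refine CommRingCat.hom_ext (RingHom.ext fun s => ?_)
  refine TopCat.Sheaf.eq_of_locally_eq' Y.sheaf
    (fun V : {V : S.affineOpens // V.1 ≤ U} => g ⁻¹ᵁ V.1.1) (g ⁻¹ᵁ U)
    (fun V => homOfLE (g.preimage_mono V.2)) ?_ _ _ fun V => ?_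
  · intro y hy
    obtain ⟨V', hV', hyV, hVU⟩ :=
      TopologicalSpace.Opens.isBasis_iff_nbhd.mp S.isBasis_affineOpens (show g y ∈ U from hy)
    exact TopologicalSpace.Opens.mem_iSup.mpr ⟨⟨⟨V', hV'⟩, hVU⟩, hyV⟩
  · have n1 := (AffAlg.algHom f g h (homOfAlg_comp f g ω)).naturality (homOfLE V.2).op
    have n2 := ω.1.naturality (homOfLE V.2).op
    have e1 := ConcreteCategory.congr_hom n1 s
    have e2 := ConcreteCategory.congr_hom n2 s
    erw [haff V.1] at e1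
    exact e1.symm.trans e2

end Surj

theorem algOf_bijective (f : X ⟶ S) [IsAffineHom f] (g : Y ⟶ S) :
    Function.Bijective (AffAlg.algOf f g) :=
  ⟨algOf_injective f g, fun ω =>
    ⟨⟨homOfAlg f g ω, homOfAlg_comp f g ω⟩, Subtype.ext (algHom_homOfAlg f g ω)⟩⟩

/-- `A(h)` on an open is `h.app` up to a bijection. -/
lemma algHom_app_rfl (f : X ⟶ S) (h : Y ⟶ X) (U : S.Opens) :
    (AffAlg.algHom f (h ≫ f) h rfl).app (op U) = h.app (f ⁻¹ᵁ U) := by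
  simp [AffAlg.algHom]
  rfl

theorem isIso_iff_isIso_algHom (f : X ⟶ S) [IsAffineHom f] (g : Y ⟶ S) [IsAffineHom g]
    (h : Y ⟶ X) (w : h ≫ f = g) : IsIso h ↔ IsIso (AffAlg.algHom f g h w) := by
  subst w
  constructor
  · intro hh
    rw [NatTrans.isIso_iff_isIso_app]
    rintro ⟨U⟩
    rw [algHom_app_rfl]
    exact (inferInstance : IsIso (h.app (f ⁻¹ᵁ U)))
  · intro hh
    have hcov : ⨆ U : S.affineOpens, f ⁻¹ᵁ U.1 = ⊤ := by
      rw [← Scheme.Hom.preimage_iSup, iSup_affineOpens_eq_top]; rfl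
    refine (IsZariskiLocalAtTarget.iff_of_iSup_eq_top (P := MorphismProperty.isomorphisms Scheme) _ hcov).mpr
      fun U => ?_
    have hV := U.2.preimage f
    have hW : IsAffineOpen (h ⁻¹ᵁ (f ⁻¹ᵁ U.1)) := U.2.preimage (h ≫ f)
    haveI : IsAffine (f ⁻¹ᵁ U.1).toScheme := hV
    haveI : IsAffine (h ⁻¹ᵁ (f ⁻¹ᵁ U.1)).toScheme := hW
    haveI : IsIso (h.app (f ⁻¹ᵁ U.1)) := by
      rw [← algHom_app_rfl]
      exact (NatTrans.isIso_iff_isIso_app _).mp hh _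
    have e : h ∣_ (f ⁻¹ᵁ U.1) =
        hW.isoSpec.hom ≫ Spec.map (h.app (f ⁻¹ᵁ U.1)) ≫ hV.isoSpec.inv := by
      rw [← cancel_mono (f ⁻¹ᵁ U.1).ι, morphismRestrict_ι]
      simp only [Category.assoc, IsAffineOpen.isoSpec_inv_ι]
      rw [IsAffineOpen.isoSpec_hom]
      exact ι_comp_eq_toSpecΓ_fromSpec h hV
    show IsIso (h ∣_ (f ⁻¹ᵁ U.1))
    rw [e]
    infer_instance

theorem isClosedImmersion_of_surjective (f : X ⟶ S) [IsAffineHom f] (f' : Y ⟶ S) [IsAffineHom f']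
    (h : Y ⟶ X) (w : h ≫ f = f')
    (hsurj : ∀ U : S.affineOpens, Function.Surjective ((AffAlg.algHom f f' h w).app (op U.1)).hom) :
    IsClosedImmersion h := by
  subst w
  have hcov : ⨆ U : S.affineOpens, f ⁻¹ᵁ U.1 = ⊤ := by
    rw [← Scheme.Hom.preimage_iSup, iSup_affineOpens_eq_top]; rfl
  refine (IsZariskiLocalAtTarget.iff_of_iSup_eq_top (P := @IsClosedImmersion) _ hcov).mpr
    fun U => ?_
  have hV := U.2.preimage f
  have hW : IsAffineOpen (h ⁻¹ᵁ (f ⁻¹ᵁ U.1)) := U.2.preimage (h ≫ f)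
  haveI : IsAffine (f ⁻¹ᵁ U.1).toScheme := hV
  haveI : IsAffine (h ⁻¹ᵁ (f ⁻¹ᵁ U.1)).toScheme := hW
  have hs : Function.Surjective (h.app (f ⁻¹ᵁ U.1)).hom := by
    rw [← algHom_app_rfl]; exact hsurj U
  have e : h ∣_ (f ⁻¹ᵁ U.1) =
      hW.isoSpec.hom ≫ Spec.map (h.app (f ⁻¹ᵁ U.1)) ≫ hV.isoSpec.inv := by
    rw [← cancel_mono (f ⁻¹ᵁ U.1).ι, morphismRestrict_ι]
    simp only [Category.assoc, IsAffineOpen.isoSpec_inv_ι]
    rw [IsAffineOpen.isoSpec_hom]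
    exact ι_comp_eq_toSpecΓ_fromSpec h hV
  haveI := IsClosedImmersion.spec_of_surjective _ hs
  rw [e]
  infer_instance

end Groth.L18
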