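import Groth.Agent.L16.Chow.Dense
import Groth.Agent.S7410
import Groth.Agent.S9705
import Groth.Agent.S9717
import Groth.Agent.L18.PBundle.AmpleVA
import Groth.Agent.L18.PBundle.Ample

/-!
# Chow's lemma with projectivity and quasi-projectivity
-/

set_option autoImplicit false
universe u

open CategoryTheory CategoryTheory.Limits AlgebraicGeometry

namespace Groth.L18.ChowExtra

open CohB1 (ProjSpaceOver)
open CohB1.ProjSpaceOver (toBase)

/-- An H-quasi-projective morphism is quasi-projective. -/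
theorem isQuasiProjective_of_isHQuasiProjective {X S : Scheme.{u}} {f : X ⟶ S}
    (h : RelProj.IsHQuasiProjective f) : RelProj.IsQuasiProjective f := by
  obtain ⟨n, i, hi, hiq, hif⟩ := h
  haveI := hi
  haveI := hiq
  haveI : LocallyOfFiniteType f := by rw [← hif]; infer_instance
  haveI : QuasiCompact f := by rw [← hif]; infer_instance
  exact ⟨inferInstance, inferInstance, _, PBundle.isRelAmple_of_isRelVeryAmple
    (PBundle.isRelVeryAmple_of_Pn f (L := (Scheme.Modules.pullback i).obj (Twist.twistOver n S 1))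
      ⟨n, i, hi, hif, ⟨Iso.refl _⟩⟩)⟩

/-- A proper morphism whose source is immersed in projective space over a further base is H-projective. -/
theorem isHProjective_of_immersion {X' X S : Scheme.{u}} (π : X' ⟶ X) [IsProper π] {n : ℕ}
    (q : X' ⟶ ProjSpaceOver n S) [IsImmersion q] (f : X ⟶ S) (hq : q ≫ toBase n S = π ≫ f) :
    RelProj.IsHProjective π := by
  let m : ProjSpaceOver n X ⟶ ProjSpaceOver n S :=
    pullback.lift (pullback.fst _ _) (pullback.snd _ _ ≫ f) (specULiftZIsTerminal.hom_ext _ _)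
  let j : X' ⟶ ProjSpaceOver n X :=
    pullback.lift (q ≫ pullback.fst _ _) π (specULiftZIsTerminal.hom_ext _ _)
  have hj : j ≫ toBase n X = π := pullback.lift_snd _ _ _
  have hjm : j ≫ m = q := by
    apply pullback.hom_ext
    · exact (Category.assoc _ _ _).trans ((congrArg (j ≫ ·) (pullback.lift_fst _ _ _)).trans (pullback.lift_fst _ _ _))
    · exact (Category.assoc _ _ _).trans ((congrArg (j ≫ ·) (pullback.lift_snd _ _ _)).trans
        ((Category.assoc _ _ _).symm.trans ((congrArg (· ≫ f) hj).trans hq.symm)))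
  haveI : IsImmersion (j ≫ m) := by rw [hjm]; infer_instance
  haveI : IsImmersion j := IsImmersion.of_comp j m
  haveI : IsProper (j ≫ toBase n X) := by rw [hj]; infer_instance
  haveI : IsSeparated (toBase n X) := inferInstance
  haveI : IsProper j := IsProper.of_comp j (toBase n X)
  exact ⟨n, j, IsClosedImmersion.of_isPreimmersion j j.isClosedMap.isClosed_range, hj⟩

variable {X S : Scheme.{u}} (f : X ⟶ S) [CompactSpace S] [QuasiSeparatedSpace S] [IsSeparated f]
  [LocallyOfFiniteType f] [QuasiCompact f]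

/-- Chow's construction, with the projectivity statements. -/
theorem exists_chow_proj {k : ℕ} (U : Fin k → X.Opens) (hUa : ∀ i, IsAffineOpen (U i))
    (hU : ∀ x, ∃ i, x ∈ U i) (U₀ : X.Opens) (h₀ : ∀ i, U₀ ≤ U i) (hc : IsCompact (U₀ : Set X)) :
    ∃ (X' : Scheme.{u}) (π : X' ⟶ X), RelProj.IsHProjective π ∧ RelProj.IsHQuasiProjective (π ≫ f) ∧
      IsIso (π ∣_ U₀) ∧ IsSchemeTheoreticallyDominant (π ⁻¹ᵁ U₀).ι := by
  haveI : CompactSpace X := QuasiCompact.compactSpace_of_compactSpace f
  haveI : QuasiSeparatedSpace X := quasiSeparatedSpace_of_quasiSeparated f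
  choose n e hei he using fun i => Groth.L16.Chow.exists_immersion_affine f (hUa i)
  haveI : CompactSpace U₀.toScheme := isCompact_iff_compactSpace.1 hc
  haveI : QuasiCompact U₀.ι := quasiCompact_of_compactSpace U₀.ι
  obtain ⟨N, X', π, q, hq, hqπ, hπ, hiso, hdom⟩ := Groth.L16.Chow.exists_chow f U n e he hU U₀ h₀
  haveI := hq
  haveI := hπ
  refine ⟨X', π, isHProjective_of_immersion π q f hqπ, ⟨N, q, hq, ?_, hqπ⟩, hiso, hdom⟩
  haveI : QuasiCompact (q ≫ toBase N S) := by rw [hqπ]; infer_instance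
  exact QuasiCompact.of_comp q (toBase N S)

/-- Chow's lemma with a dense open. -/
theorem exists_chow_dense_proj (hirr : (irreducibleComponents X).Finite) :
    ∃ (X' : Scheme.{u}) (π : X' ⟶ X), RelProj.IsHProjective π ∧ RelProj.IsHQuasiProjective (π ≫ f) ∧
      Surjective π ∧ ∃ U : X.Opens, Dense (U : Set X) ∧ Dense ((π ⁻¹ᵁ U : X'.Opens) : Set X') ∧
        IsIso (π ∣_ U) ∧ IsSchemeTheoreticallyDominant (π ⁻¹ᵁ U).ι ∧ QuasiCompact (π ⁻¹ᵁ U).ι := by
  haveI : CompactSpace X := QuasiCompact.compactSpace_of_compactSpace f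
  obtain ⟨k, U, U₀, hUa, hU, hle, hd, hc⟩ := Groth.Agent.S7410.exists_cover X hirr
  obtain ⟨X', π, hπ, hπf, hiso, hdom⟩ := exists_chow_proj f U hUa hU U₀ hle hc
  haveI := hdom
  haveI := hiso
  haveI : QuasiSeparatedSpace X := quasiSeparatedSpace_of_quasiSeparated f
  haveI : CompactSpace U₀.toScheme := isCompact_iff_compactSpace.1 hc
  haveI : QuasiCompact U₀.ι := quasiCompact_of_compactSpace U₀.ι
  haveI : QuasiCompact (π ⁻¹ᵁ U₀).ι :=
    MorphismProperty.of_isPullback (isPullback_morphismRestrict π U₀) ‹QuasiCompact U₀.ι›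
  haveI : IsDominant (π ⁻¹ᵁ U₀).ι := inferInstance
  have hd' : Dense ((π ⁻¹ᵁ U₀ : X'.Opens) : Set X') := by
    rw [← (π ⁻¹ᵁ U₀).range_ι]; exact (π ⁻¹ᵁ U₀).ι.denseRange
  haveI : IsProper π := ((Groth.Agent.S9705.result π).1 hπ).2
  refine ⟨X', π, hπ, hπf, ⟨fun x => ?_⟩, U₀, hd, hd', hiso, hdom, inferInstance⟩
  have hsub : (U₀ : Set X) ⊆ Set.range π := fun y hy =>
    ⟨_, (Scheme.Hom.comp_apply (π ⁻¹ᵁ U₀).ι π (inv (π ∣_ U₀) ⟨y, hy⟩)).symm.trans (by
      rw [← morphismRestrict_ι, Scheme.Hom.comp_apply, ← Scheme.Hom.comp_apply (inv _), IsIso.inv_hom_id]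
      rfl)⟩
  exact π.isClosedMap.isClosed_range.closure_subset_iff.2 hsub (hd x)

/-- Irreducibility passes to a scheme with an isomorphic dense open. -/
theorem irreducibleSpace_of_dense {X' : Scheme.{u}} (π : X' ⟶ X) (U : X.Opens) (hd : Dense (U : Set X))
    (hd' : Dense ((π ⁻¹ᵁ U : X'.Opens) : Set X')) [IsIso (π ∣_ U)] [IrreducibleSpace X] :
    IrreducibleSpace X' := by
  have hne : (U : Set X).Nonempty := by
    by_contra h
    rw [Set.not_nonempty_iff_eq_empty] at h
    have := hd (Classical.arbitrary X)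
    rw [h, closure_empty] at this
    exact this.elim
  haveI : Nonempty U.toScheme := ⟨⟨hne.some, hne.some_mem⟩⟩
  haveI : IrreducibleSpace U.toScheme :=
    U.ι.isOpenEmbedding.irreducibleSpace
  haveI : IrreducibleSpace (π ⁻¹ᵁ U).toScheme :=
    (Scheme.homeoOfIso (asIso (π ∣_ U)).symm).surjective.irreducibleSpace
      (Scheme.homeoOfIso (asIso (π ∣_ U)).symm).continuous
  have h := (IrreducibleSpace.isIrreducible_univ _).image (π ⁻¹ᵁ U).ι
    (π ⁻¹ᵁ U).ι.continuous.continuousOn
  rw [Set.image_univ, Scheme.Opens.range_ι] at h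
  have h' := h.closure
  rw [hd'.closure_eq] at h'
  exact (irreducibleSpace_def _).2 h'

/-- A quasi-compact scheme has finitely many affine opens covering it and a nonempty affine open inside all
of them after adjoining it to the ones it misses. -/
theorem exists_cover_nonempty (X : Scheme.{u}) [CompactSpace X] [Nonempty X] :
    ∃ (k : ℕ) (U : Fin k → X.Opens) (U₀ : X.Opens), (∀ i, IsAffineOpen (U i)) ∧ (∀ x, ∃ i, x ∈ U i) ∧
      (∀ i, U₀ ≤ U i) ∧ (U₀ : Set X).Nonempty ∧ IsCompact (U₀ : Set X) := by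
  classical
  obtain ⟨s, hs⟩ := isCompact_univ.elim_finite_subcover (fun V : X.affineOpens => ((V.1 : X.Opens) : Set X))
    (fun V => V.1.2) fun x _ => by
      obtain ⟨_, ⟨V, hV, rfl⟩, hxV, -⟩ :=
        X.isBasis_affineOpens.exists_subset_of_mem_open (Set.mem_univ x) isOpen_univ
      exact Set.mem_iUnion.2 ⟨⟨V, hV⟩, hxV⟩
  have key : ∀ t : Finset X.affineOpens, ∃ O : X.Opens, (O : Set X).Nonempty ∧
      ∀ A ∈ t, O ≤ A.1 ∨ Disjoint O A.1 := by
    intro t
    induction t using Finset.induction with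
    | empty => exact ⟨⊤, ⟨Classical.arbitrary X, trivial⟩, by simp⟩
    | @insert A t _ ih =>
      obtain ⟨O, hO, h⟩ := ih
      by_cases hA : Disjoint O A.1
      · exact ⟨O, hO, fun B hB => (Finset.mem_insert.1 hB).elim (fun e => Or.inr (e ▸ hA)) (h B)⟩
      · refine ⟨O ⊓ A.1, ?_, fun B hB => (Finset.mem_insert.1 hB).elim
          (fun e => Or.inl (e ▸ inf_le_right))
          fun hB => (h B hB).imp (inf_le_left.trans ·) fun hd => hd.mono_left inf_le_left⟩
        by_contra hne
        exact hA (disjoint_iff_inf_le.2 fun x hx => (hne ⟨x, hx⟩).elim)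
  obtain ⟨O, ⟨x₀, hx₀⟩, hOd⟩ := key s
  obtain ⟨_, ⟨W, hW, rfl⟩, hxW, hWO⟩ := X.isBasis_affineOpens.exists_subset_of_mem_open hx₀ O.2
  let A : Fin (Fintype.card s) → X.affineOpens := fun i => ((Fintype.equivFin s).symm i).1
  let U : Fin (Fintype.card s) → X.Opens := fun i => if W ≤ (A i).1 then (A i).1 else (A i).1 ⊔ W
  refine ⟨_, U, W, fun i => ?_, fun x => ?_, fun i => ?_, ⟨x₀, hxW⟩, hW.isCompact⟩
  · by_cases h : W ≤ (A i).1
    · show IsAffineOpen (if _ then _ else _)
      rw [if_pos h]; exact (A i).2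
    · show IsAffineOpen (if _ then _ else _)
      rw [if_neg h, sup_eq_iSup]
      have hdis : Disjoint (A i).1 W := by
        rcases hOd (A i) ((Fintype.equivFin s).symm i).2 with h' | h'
        · exact absurd ((show W ≤ O from hWO).trans h') h
        · exact (h'.mono_left (show W ≤ O from hWO)).symm
      exact IsAffineOpen.iSup_of_disjoint (fun b => by cases b; exacts [hW, (A i).2]) fun a b hab => by
        cases a <;> cases b <;> first | exact absurd rfl hab | exact hdis | exact hdis.symm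
  · obtain ⟨V, hV, hx⟩ := Set.mem_iUnion₂.1 (hs (Set.mem_univ x))
    refine ⟨Fintype.equivFin s ⟨V, hV⟩, ?_⟩
    have hAx : x ∈ (A (Fintype.equivFin s ⟨V, hV⟩)).1 := by simpa [A] using hx
    show x ∈ (if _ then _ else _ : X.Opens)
    split
    · exact hAx
    · exact Or.inl hAx
  · show W ≤ (if _ then _ else _ : X.Opens)
    split
    · assumption
    · exact le_sup_right

end Groth.L18.ChowExtra
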