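import Groth.Agent.L18.AmpleAvoid
import Groth.Agent.L18.AmpleComp

/-!
Twists of an invertible module generated at finitely many points.
-/

set_option autoImplicit false
set_option backward.isDefEq.respectTransparency false
universe u

open CategoryTheory CategoryTheory.Limits AlgebraicGeometry TopologicalSpace Opposite

noncomputable section

namespace Groth.L18.Ample

open Groth.L18.GenLoc

variable {X : Scheme.{u}} {L : X.Modules}

theorem exists_twist_generated_at_finite (hL : CohB1.IsAmple L) {E : X.Modules} (hE : PicF.IsInvertible E)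
    (S : Set X) (hS : S.Finite) :
    ∃ n : ℕ, ∀ k : ℕ, 1 ≤ k → ∃ s : Coh.structureModule X ⟶ CohB1.tensorMod E (CohB1.tensorPow L (k * n)),
      S ⊆ (CohB1.genLocus _ s : Set X) := by
  haveI := hL.2.1
  haveI := isSeparated_of_isAmple hL
  obtain ⟨a, φ, hSG, -, hG⟩ := exists_pow_genLocus_of_isAmple hL S hS ⊤ (Set.subset_univ _)
  set G := CohB1.genLocus _ φ with hGdef
  haveI : IsAffine (G : Scheme.{u}) := hG
  obtain ⟨s₁, -, hs₁, -⟩ := exists_genLocus_of_isQuasiAffine (isInvertible_restrict hE G) (G.ι ⁻¹' S)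
    (hS.preimage G.ι.isOpenEmbedding.injective.injOn) ⊤ (Set.subset_univ _)
  obtain ⟨k₀, hk₀⟩ := exists_genLocus_eq_of_restrict_gen hE (isInvertible_tensorPow hL.1 (a + 1)) φ hGdef.symm s₁
  refine ⟨(a + 1) * (k₀ + 1), fun k hk => ?_⟩
  obtain ⟨s', hs'⟩ := hk₀ (k * (k₀ + 1)) (lt_of_lt_of_le (Nat.lt_succ_self k₀) (Nat.le_mul_of_pos_left _ hk))
  refine ⟨s' ≫ (Groth.L00.Tensor.tensorIso (Iso.refl E) (Groth.L00.Tensor.tensorPowMul L (a + 1) (k * (k₀ + 1)) ≪≫
    eqToIso (congrArg (CohB1.tensorPow L) (show (a + 1) * (k * (k₀ + 1)) = k * ((a + 1) * (k₀ + 1)) by ring)))).hom,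
    fun x hx => ?_⟩
  rw [Groth.L16.genLocus_comp_iso, hs']
  exact ⟨⟨x, hSG hx⟩, hs₁ (show (⟨x, hSG hx⟩ : G.toScheme) ∈ G.ι ⁻¹' S from hx), rfl⟩

end Groth.L18.Ample
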