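import Groth.Agent.L22.ZeroScheme
import Groth.Agent.L19.IdealInvertible
import Groth.Agent.L08.Cube.Inverse
import Groth.Agent.L18.AmpleTwistPoints
import Groth.Agent.L18.AmpleOps
import Groth.Agent.L18.IdealModule
import Groth.Agent.L18.AmpleNil
import Mathlib.RingTheory.Ideal.AssociatedPrime.Finiteness

/-!
# Divisors of regular sections of invertible modules

A section of an invertible module whose coefficient in local frames is a nonzerodivisor cuts out an
effective Cartier divisor, whose ideal is inverse to the module. On a Noetherian scheme an invertible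
module with an ample one around is a difference of such divisors, avoiding a given finite set.
-/

set_option autoImplicit false
set_option backward.isDefEq.respectTransparency false
set_option linter.style.haveILetI false

universe u

open CategoryTheory AlgebraicGeometry TopologicalSpace Opposite

noncomputable section

namespace Groth.L18.RegSec

open Groth.L18.Frame (rs ro rs_rs rs_self rs_smul ro_ro ro_self ro_mul IsFrame)
open Groth.L18.GenLoc (secOf tens tens_rs tens_smul_left tens_smul_right isFrame_tens genLocus_inf_eq)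

variable {X : Scheme.{u}} {L : X.Modules}

/-- Local frames in which the coefficient of the section is regular. -/
def IsRegularSec (s : Coh.structureModule X ⟶ L) : Prop :=
  ∀ x : X, ∃ (V : X.affineOpens) (e : Γ(L, V.1)) (c : Γ(X, V.1)), x ∈ V.1 ∧ IsFrame L V.1 e ∧
    c • e = rs L le_top (secOf s) ∧ c ∈ nonZeroDivisors Γ(X, V.1)

variable (hL : PicF.IsInvertible L) (s : Coh.structureModule X ⟶ L)

include hL in
theorem zeroScheme_ideal_span {V : X.affineOpens} {e : Γ(L, V.1)} (he : IsFrame L V.1 e) {c : Γ(X, V.1)}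
    (hc : c • e = rs L le_top (secOf s)) : (PicF2.zeroScheme L s).ideal V = Ideal.span {c} := by
  rw [Groth.L22.ZeroScheme.zeroScheme_ideal hL s V]
  ext a
  rw [Groth.L22.ZeroScheme.mem_idealOn_iff, Ideal.mem_span_singleton']
  constructor
  · intro h
    obtain ⟨b, hb⟩ := h e
    rw [← hc, smul_smul] at hb
    exact ⟨b, (he.inj le_rfl (by rwa [rs_self])).symm⟩
  · rintro ⟨b, rfl⟩ m
    obtain ⟨d, hd⟩ := he.exists_coeff le_rfl m
    rw [rs_self] at hd
    exact ⟨b * d, by rw [← hd, ← hc, smul_smul, smul_smul]; congr 1; ring⟩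

include hL in
theorem isEffCartierIdeal_zeroScheme (hs : IsRegularSec s) :
    BlowUp.IsEffCartierIdeal (PicF2.zeroScheme L s) := fun x => by
  obtain ⟨V, e, c, hxV, he, hc, hreg⟩ := hs x
  exact ⟨V, hxV, c, hreg, zeroScheme_ideal_span hL s he hc⟩

include hL in
theorem nonempty_tensor_zeroScheme (hs : IsRegularSec s) :
    Nonempty (CohB1.tensorMod (ClSub.idealMod (PicF2.zeroScheme L s)) L ≅ Coh.structureModule X) := by
  set I := PicF2.zeroScheme L s
  set J := ClSub.idealMod I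
  have hJ : PicF.IsInvertible J :=
    (Groth.Agent.L19.IdealInvertible.isEffCartier_iff I).2 (isEffCartierIdeal_zeroScheme hL s hs)
  let io : ∀ V : X.Opens, Γ(J, V) → Γ(X, V) := Groth.Agent.L19.IdealInvertible.io I
  have io_smul : ∀ (V : X.Opens) (a : Γ(X, V)) (m : Γ(J, V)), io V (a • m) = a * io V m := fun V a m =>
    Groth.Agent.L19.IdealInvertible.io_smul I a m
  have io_rs : ∀ (V V' : X.Opens) (h : V' ≤ V) (m : Γ(J, V)), io V' (rs J h m) = ro h (io V m) :=
    fun V V' h m => Groth.Agent.L19.IdealInvertible.io_rs I h m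
  have hcov : ∀ x : X, ∃ (W : X.Opens) (e : Γ(L, W)) (m : Γ(J, W)), x ∈ W ∧ IsFrame L W e ∧ IsFrame J W m ∧
      io W m • e = rs L le_top (secOf s) := by
    intro x
    obtain ⟨V, e, c, hxV, he, hc, hreg⟩ := hs x
    obtain ⟨W₂, μ₀, hW₂, hμ₀⟩ := Groth.L18.Frame.exists_frame hJ x
    obtain ⟨f, hf, hxf⟩ := V.2.exists_basicOpen_le (V := W₂) ⟨x, hW₂⟩ hxV
    set W := X.basicOpen f
    have hW : IsAffineOpen W := V.2.basicOpen f
    have hle₁ : W ≤ V.1 := X.basicOpen_le f
    haveI := V.2.isLocalization_basicOpen f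
    have hreg' : ro hle₁ c ∈ nonZeroDivisors Γ(X, W) :=
      IsLocalization.map_nonZeroDivisors_le (Submonoid.powers f) Γ(X, W) (Submonoid.mem_map_of_mem _ hreg)
    have heW := he.mono hle₁
    have hcW : ro hle₁ c • rs L hle₁ e = rs L le_top (secOf s) := by
      rw [← rs_smul, hc, rs_rs]
    have hspan := zeroScheme_ideal_span hL s (V := ⟨W, hW⟩) heW hcW
    have hμ := hμ₀.mono hf
    set μ := rs J hf μ₀
    set g := io W μ
    have hgc : Ideal.span {g} = Ideal.span {ro hle₁ c} := by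
      rw [← hspan]
      ext a
      rw [Groth.L18.IdealModule.mem_ideal_iff I hW, Ideal.mem_span_singleton']
      constructor
      · rintro ⟨b, rfl⟩
        exact ⟨b • μ, io_smul W b μ⟩
      · rintro ⟨n, rfl⟩
        obtain ⟨b, hb⟩ := hμ.exists_coeff le_rfl n
        rw [rs_self] at hb
        exact ⟨b, by rw [← io_smul, hb]⟩
    obtain ⟨u, hu⟩ := Ideal.mem_span_singleton'.1 (hgc ▸ Ideal.mem_span_singleton_self g : g ∈ Ideal.span {ro hle₁ c})
    obtain ⟨w, hw⟩ := Ideal.mem_span_singleton'.1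
      (hgc.symm ▸ Ideal.mem_span_singleton_self (ro hle₁ c) : ro hle₁ c ∈ Ideal.span {g})
    have hwu : w * u = 1 := by
      refine sub_eq_zero.1 (mul_right_mem_nonZeroDivisors_eq_zero_iff hreg' |>.1 ?_)
      rw [sub_mul, one_mul, mul_assoc, hu, hw, sub_self]
    exact ⟨W, rs L hle₁ e, w • μ, hxf, heW, hμ.smul_unit (IsUnit.of_mul_eq_one u hwu),
      by rw [io_smul]; exact (congrArg (· • rs L hle₁ e) hw).trans hcW⟩
  choose W e m hW he hm hme using hcov
  let T : ∀ i : X, Γ(CohB1.tensorMod J L, W i) := fun i => tens J L (W i) (m i) (e i)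
  have hT : ∀ i j : X, rs (CohB1.tensorMod J L) (inf_le_left : W i ⊓ W j ≤ W i) (T i) =
      rs (CohB1.tensorMod J L) (inf_le_right : W i ⊓ W j ≤ W j) (T j) := by
    intro i j
    rw [tens_rs, tens_rs]
    obtain ⟨b, hb⟩ := ((he i).mono (inf_le_left : W i ⊓ W j ≤ W i)).exists_coeff le_rfl
      (rs L (inf_le_right : W i ⊓ W j ≤ W j) (e j))
    rw [rs_self] at hb
    have h1 := congrArg (rs L (inf_le_left : W i ⊓ W j ≤ W i)) (hme i)
    have h2 := congrArg (rs L (inf_le_right : W i ⊓ W j ≤ W j)) (hme j)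
    rw [rs_smul, rs_rs] at h1 h2
    rw [← hb, smul_smul, ← h1] at h2
    have h3 : ro (inf_le_right : W i ⊓ W j ≤ W j) (io _ (m j)) * b = ro (inf_le_left : W i ⊓ W j ≤ W i) (io _ (m i)) :=
      ((he i).mono (inf_le_left : W i ⊓ W j ≤ W i)).inj le_rfl (by rw [rs_self]; exact h2)
    have h4 : rs J (inf_le_left : W i ⊓ W j ≤ W i) (m i) = b • rs J (inf_le_right : W i ⊓ W j ≤ W j) (m j) := by
      refine Groth.Agent.L19.IdealInvertible.io_inj I _ ?_
      show io _ (rs J _ (m i)) = io _ (b • rs J _ (m j))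
      rw [io_smul, io_rs, io_rs, mul_comm]
      exact h3.symm
    rw [h4, ← hb, tens_smul_left, tens_smul_right]
  let OT : TopCat.Sheaf Ab.{u} X.toTopCat := ⟨(CohB1.tensorMod J L).presheaf, (CohB1.tensorMod J L).isSheaf⟩
  obtain ⟨τ, hτ, -⟩ := OT.existsUnique_gluing' W ⊤ (fun i => homOfLE le_top)
    (fun x _ => Opens.mem_iSup.2 ⟨x, hW x⟩) T fun i j => hT i j
  refine Groth.L08.Cube.nonempty_iso_of_frame_top (σ := τ)
    (IsFrame.of_cover W (fun _ => le_top) (fun x _ => Opens.mem_iSup.2 ⟨x, hW x⟩) fun i => ?_)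
  rw [show rs (CohB1.tensorMod J L) le_top τ = T i from hτ i]
  exact isFrame_tens (hm i) (he i)

/-- On an affine open a function whose locus contains the associated points is regular. -/
theorem mem_nonZeroDivisors_of_assoc {V : X.Opens} (hV : IsAffineOpen V) [IsNoetherianRing Γ(X, V)]
    (c : Γ(X, V))
    (h : ∀ (p : Ideal Γ(X, V)) (hp : p.IsPrime), p ∈ associatedPrimes Γ(X, V) Γ(X, V) →
      hV.fromSpec ⟨p, hp⟩ ∈ X.basicOpen c) : c ∈ nonZeroDivisors Γ(X, V) := by
  refine mem_nonZeroDivisors_iff_right.2 fun x hx => ?_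
  by_contra hne
  have hc : c ∈ ⋃ p ∈ associatedPrimes Γ(X, V) Γ(X, V), (p : Set Γ(X, V)) := by
    rw [biUnion_associatedPrimes_eq_zero_divisors]
    exact ⟨x, hne, by rw [smul_eq_mul, mul_comm]; exact hx⟩
  obtain ⟨p, hp, hcp⟩ := Set.mem_iUnion₂.1 hc
  have h1 : (⟨p, hp.isPrime⟩ : PrimeSpectrum Γ(X, V)) ∈ hV.fromSpec ⁻¹ᵁ X.basicOpen c := h p hp.isPrime hp
  rw [IsAffineOpen.fromSpec_preimage_basicOpen] at h1
  exact h1 hcp

/-- Invertible modules are differences of effective Cartier divisors avoiding a finite set. -/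
theorem exists_difference [IsNoetherian X] {A : X.Modules} (hA : CohB1.IsAmple A) {N : X.Modules}
    (hN : PicF.IsInvertible N) (E : Set X) (hE : E.Finite) :
    ∃ D D' : X.IdealSheafData, BlowUp.IsEffCartierIdeal D ∧ BlowUp.IsEffCartierIdeal D' ∧
      Disjoint E (D.support : Set X) ∧ Disjoint E (D'.support : Set X) ∧
      Nonempty (CohB1.tensorMod N (ClSub.idealMod D) ≅ ClSub.idealMod D') := by
  classical
  have hloc : ∀ x : X, ∃ (V : X.affineOpens) (e : Γ(N, V.1)) (ε : Γ(A, V.1)),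
      x ∈ V.1 ∧ IsFrame N V.1 e ∧ IsFrame A V.1 ε := by
    intro x
    obtain ⟨W₁, e, h₁, he⟩ := Groth.L18.Frame.exists_frame hN x
    obtain ⟨W₂, ε, h₂, hε⟩ := Groth.L18.Frame.exists_frame hA.1 x
    obtain ⟨V, hV, hxV, hVle⟩ := exists_isAffineOpen_mem_and_subset (x := x) (U := W₁ ⊓ W₂) ⟨h₁, h₂⟩
    exact ⟨⟨V, hV⟩, rs N (fun y hy => (hVle hy).1) e, rs A (fun y hy => (hVle hy).2) ε, hxV,
      he.mono _, hε.mono _⟩
  choose V e ε hxV he hε using hloc
  obtain ⟨T, hT⟩ := isCompact_univ.elim_finite_subcover (fun x : X => ((V x).1 : Set X)) (fun x => (V x).1.2)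
    (fun x _ => Set.mem_iUnion.2 ⟨x, hxV x⟩)
  haveI hNoe : ∀ x, IsNoetherianRing Γ(X, (V x).1) := fun x => IsLocallyNoetherian.component_noetherian (V x)
  let P : X → Set X := fun x =>
    (fun q => (V x).2.fromSpec q) '' {q : PrimeSpectrum Γ(X, (V x).1) | q.asIdeal ∈ associatedPrimes Γ(X, (V x).1) Γ(X, (V x).1)}
  have hPfin : ∀ x, (P x).Finite := fun x =>
    (((associatedPrimes.finite Γ(X, (V x).1) Γ(X, (V x).1)).preimage (
      Function.Injective.injOn fun a b h => PrimeSpectrum.ext h))).image _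
  let S : Set X := E ∪ ⋃ x ∈ T, P x
  have hS : S.Finite := hE.union (T.finite_toSet.biUnion fun x _ => hPfin x)
  obtain ⟨a, φ, hφS, -, -⟩ := Groth.L18.Ample.exists_pow_genLocus_of_isAmple hA S hS ⊤ (Set.subset_univ _)
  have hA' : CohB1.IsAmple (CohB1.tensorPow A (a + 1)) :=
    (Groth.L18.Ample.isAmple_pow_iff hA.1 a.succ_pos).1 hA
  obtain ⟨n, hn⟩ := Groth.L18.Ample.exists_twist_generated_at_finite hA' hN S hS
  set B := CohB1.tensorPow (CohB1.tensorPow A (a + 1)) (1 * n) with hBdef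
  obtain ⟨s, hsS⟩ : ∃ s : Coh.structureModule X ⟶ CohB1.tensorMod N B, S ⊆ (CohB1.genLocus _ s : Set X) :=
    hn 1 le_rfl
  let t : Coh.structureModule X ⟶ B := Groth.L18.Ample.pw φ (1 * n)
  have htS : S ⊆ (CohB1.genLocus B t : Set X) := by
    show S ⊆ (CohB1.genLocus _ (Groth.L18.Ample.pw φ (1 * n)) : Set X)
    rcases Nat.eq_zero_or_pos (1 * n) with h0 | h0
    · rw [h0]
      intro x _
      show x ∈ CohB1.genLocus (Coh.structureModule X) (𝟙 _)
      rw [Groth.L18.Ample.genLocus_id]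
      trivial
    · obtain ⟨j, hj⟩ := Nat.exists_eq_add_one.mpr h0
      rw [hj, Groth.L18.Ample.genLocus_pw_succ (Groth.L18.Ample.isInvertible_tensorPow hA.1 _)]
      exact hφS
  have hB : PicF.IsInvertible B := Groth.L18.Ample.isInvertible_tensorPow hA'.1 _
  have hreg : ∀ (M : X.Modules) (σ : Coh.structureModule X ⟶ M), S ⊆ (CohB1.genLocus M σ : Set X) →
      (∀ x, ∃ f : Γ(M, (V x).1), IsFrame M (V x).1 f) → IsRegularSec σ := by
    intro M σ hσ hfr x
    obtain ⟨j, hj, hxj⟩ := Set.mem_iUnion₂.1 (hT (Set.mem_univ x))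
    obtain ⟨f, hf⟩ := hfr j
    obtain ⟨c, hc⟩ := hf.exists_coeff le_rfl (rs M le_top (secOf σ))
    rw [rs_self] at hc
    refine ⟨V j, f, c, hxj, hf, hc, mem_nonZeroDivisors_of_assoc (V j).2 c fun p hp hpa => ?_⟩
    rw [← genLocus_inf_eq σ hf hc]
    refine ⟨hσ (Or.inr (Set.mem_iUnion₂.2 ⟨j, hj, ⟨⟨p, hp⟩, hpa, rfl⟩⟩)), ?_⟩
    have hr := Set.mem_range_self (f := (V j).2.fromSpec) ⟨p, hp⟩
    rwa [IsAffineOpen.range_fromSpec] at hr
  have hε' : ∀ x, ∃ f : Γ(B, (V x).1), IsFrame B (V x).1 f := fun x =>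
    ⟨_, Groth.L18.AmpleNil.isFrame_epow (Groth.L18.AmpleNil.isFrame_epow (hε x) (a + 1)) _⟩
  have hM : PicF.IsInvertible (CohB1.tensorMod N B) := Groth.L18.GenLoc.isInvertible_tensor hN hB
  have rs' : IsRegularSec s := hreg _ s hsS fun x => by
    obtain ⟨f, hf⟩ := hε' x
    exact ⟨_, isFrame_tens (he x) hf⟩
  have rt : IsRegularSec t := hreg _ t htS hε'
  obtain ⟨i₁⟩ := nonempty_tensor_zeroScheme hM s rs'
  obtain ⟨i₂⟩ := nonempty_tensor_zeroScheme hB t rt
  set D := PicF2.zeroScheme (CohB1.tensorMod N B) s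
  set D' := PicF2.zeroScheme B t
  refine ⟨D, D', isEffCartierIdeal_zeroScheme hM s rs', isEffCartierIdeal_zeroScheme hB t rt, ?_, ?_, ⟨?_⟩⟩
  · rw [Groth.L22.ZeroScheme.support_zeroScheme hM s, Set.disjoint_compl_right_iff_subset]
    exact Set.subset_union_left.trans hsS
  · rw [Groth.L22.ZeroScheme.support_zeroScheme hB t, Set.disjoint_compl_right_iff_subset]
    exact Set.subset_union_left.trans htS
  · -- `N ⊗ J ≅ N ⊗ J ⊗ (B ⊗ J') ≅ (J ⊗ (N ⊗ B)) ⊗ J' ≅ J'`
    open Groth.L00.Tensor in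
    exact (tensorUnitRight _).symm ≪≫
      tensorIso (tensorComm N (ClSub.idealMod D)) (i₂.symm ≪≫ tensorComm _ _) ≪≫
      (tensorAssoc _ B (ClSub.idealMod D')).symm ≪≫
      tensorIso (tensorAssoc (ClSub.idealMod D) N B ≪≫ i₁) (Iso.refl _) ≪≫ tensorUnitLeft _

end Groth.L18.RegSec
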