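import Groth.Agent.L22.EnrSev.Conn
import Groth.Agent.L22.PDual.TwistExt
import Groth.Agent.L13.PointBlow.Twist
import Groth.Agent.L16.NegPow.Gen
import Groth.Agent.L18.AffineApps
import Groth.Agent.L18.LefConnected
import Groth.Agent.L16.HomSh.FullyFaithful
import Groth.Agent.S7679
import Groth.Agent.S7680
import Groth.Prelude.Def_Lef

/-!
# Homomorphisms to functions and to formal functions along an ample divisor
-/

set_option autoImplicit false
set_option linter.style.haveILetI false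
set_option linter.unusedSectionVars false
set_option backward.isDefEq.respectTransparency.types false
set_option backward.isDefEq.respectTransparency false
universe u

open CategoryTheory CategoryTheory.Limits AlgebraicGeometry Opposite TopologicalSpace
open Groth.L00.Tensor (tensorIso tensorComm tensorAssoc tensorUnitRight tensorRightF)
open Groth.L18.GenLoc (secOf secOf_homOfSection)

noncomputable section

namespace Groth.L18.LefTwists

variable {X : Scheme.{u}}

theorem hom_eq_zero {M : X.Modules} [Subsingleton (Coh.HH X M 0)] (f : Coh.structureModule X ⟶ M) : f = 0 := by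
  haveI : Subsingleton Γ(M, ⊤) := (Groth.L16.HomSh.h0Equiv M).symm.toEquiv.subsingleton
  exact Groth.L18.LefConnected.hom_ext_secOf (Subsingleton.elim _ _)

theorem exists_lift {S : ShortComplex X.Modules} (hS : S.ShortExact) [Subsingleton (Coh.HH X S.X₁ 1)]
    (f : Coh.structureModule X ⟶ S.X₃) : ∃ g : Coh.structureModule X ⟶ S.X₂, g ≫ S.g = f := by
  let e := fun M : X.Modules => Groth.L16.HomSh.h0Equiv M
  obtain ⟨y, hy⟩ := ((Groth.L16.CohLinear.exact_hmap_delta hS 0) ((e S.X₃).symm (secOf f))).1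
    (Subsingleton.elim _ _)
  refine ⟨Groth.L16.homOfSection S.X₂ (e S.X₂ y), Groth.L18.LefConnected.hom_ext_secOf ?_⟩
  show S.g.app ⊤ (secOf (Groth.L16.homOfSection S.X₂ (e S.X₂ y))) = secOf f
  rw [secOf_homOfSection, ← Groth.L16.HomSh.h0Equiv_map]
  exact ((congrArg (e S.X₃) hy).trans ((e S.X₃).apply_symm_apply _))

theorem shortExact_ideal (I : X.IdealSheafData) :
    (ShortComplex.mk (ClSub.idealModι I) (ClSub.toSubscheme I) (kernel.condition _)).ShortExact := by
  haveI := Groth.L18.AffineCrit.epi_toSubscheme I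
  exact { exact := ShortComplex.exact_kernel _, mono_f := inferInstanceAs (Mono (kernel.ι (ClSub.toSubscheme I))) }

/-- The comparison is bijective out of a module which a twist makes free, given vanishing. -/
theorem homToFormalBijective_of_vanish (𝓘 : X.IdealSheafData) (T : X.Modules ⥤ X.Modules) [T.IsEquivalence] [T.Additive]
    {P : X.Modules} {k : ℕ} (e : T.obj P ≅ FlatMod.freeMod X k) (n₀ : ℕ)
    (h : ∀ n, n₀ ≤ n → Subsingleton (Coh.HH X (T.obj (ClSub.idealMod (𝓘 ^ (n + 1)))) 0) ∧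
      Subsingleton (Coh.HH X (T.obj (ClSub.idealMod (𝓘 ^ (n + 1)))) 1)) :
    Lef.HomToFormalBijective 𝓘 P := by
  let ι : Fin k → (Coh.structureModule X ⟶ FlatMod.freeMod X k) := fun j =>
    Sigma.ι (fun _ : Fin k => Coh.structureModule X) j
  let t := fun n => ClSub.toSubscheme (𝓘 ^ (n + 1))
  have inj : ∀ n, n₀ ≤ n → ∀ φ : P ⟶ Coh.structureModule X, φ ≫ t n = 0 → φ = 0 := fun n hn φ hφ => by
    haveI := (h n hn).1
    let l : P ⟶ ClSub.idealMod (𝓘 ^ (n + 1)) := kernel.lift _ φ hφ
    have hl : e.inv ≫ T.map l = 0 := Sigma.hom_ext _ _ fun j => (hom_eq_zero _).trans comp_zero.symm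
    have hl0 : l = 0 := T.map_injective (by rw [Functor.map_zero, ← cancel_epi e.inv, hl, comp_zero])
    rw [show φ = l ≫ ClSub.idealModι (𝓘 ^ (n + 1)) from (kernel.lift_ι _ φ hφ).symm, hl0, zero_comp]
  refine ⟨fun φ ψ hφψ => sub_eq_zero.1 (inj n₀ le_rfl _ (by rw [Preadditive.sub_comp, hφψ, sub_self])), fun y hy => ?_⟩
  have lift : ∀ n, n₀ ≤ n → ∃ φ : P ⟶ Coh.structureModule X, φ ≫ t n = y n := fun n hn => by
    have hS := (shortExact_ideal (𝓘 ^ (n + 1))).map_of_exact T
    choose g hg using fun j : Fin k => @exists_lift _ _ hS (h n hn).2 (ι j ≫ e.inv ≫ T.map (y n))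
    refine ⟨T.preimage (e.hom ≫ Sigma.desc g), T.map_injective ?_⟩
    rw [Functor.map_comp, Functor.map_preimage, ← cancel_epi e.inv]
    refine Sigma.hom_ext _ _ fun j => ?_
    rw [Category.assoc, e.inv_hom_id_assoc, Sigma.ι_desc_assoc]
    exact hg j
  have down : ∀ (φ : P ⟶ Coh.structureModule X) (m d : ℕ), φ ≫ t (m + d) = y (m + d) → φ ≫ t m = y m := by
    intro φ m d
    induction d with
    | zero => exact id
    | succ d ih =>
      intro hd
      refine ih ?_
      rw [← hy (m + d)]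
      refine Eq.trans ?_ (congrArg (· ≫ Lef.quotMap (Lef.pow_succ_le 𝓘 (m + d))) hd)
      rw [Category.assoc]
      exact congrArg (φ ≫ ·) (Groth.L18.LefConnected.toSubscheme_quotMap _).symm
  obtain ⟨φ, hφ⟩ := lift n₀ le_rfl
  have up : ∀ d, φ ≫ t (n₀ + d) = y (n₀ + d) := fun d => by
    obtain ⟨ψ, hψ⟩ := lift (n₀ + d) (Nat.le_add_right _ _)
    have : φ = ψ := sub_eq_zero.1 (inj n₀ le_rfl _ (by rw [Preadditive.sub_comp, hφ, down ψ n₀ d hψ, sub_self]))
    rw [this, hψ]
  exact ⟨φ, fun n => down φ n n₀ (by rw [add_comm n n₀]; exact up n)⟩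

/-- The comparison passes to cokernels. -/
theorem homToFormalBijective_of_presentation (𝓘 : X.IdealSheafData) {G P₀ P₁ : X.Modules} (p : P₀ ⟶ G) [Epi p]
    (q : P₁ ⟶ kernel p) [Epi q] (h₀ : Lef.HomToFormalBijective 𝓘 P₀) (h₁ : Lef.HomToFormalBijective 𝓘 P₁) :
    Lef.HomToFormalBijective 𝓘 G := by
  refine ⟨fun φ ψ hφψ => ?_, fun y hy => ?_⟩
  · rw [← cancel_epi p]
    exact h₀.1 _ _ fun n => by simp only [Category.assoc, hφψ n]
  · obtain ⟨Φ, hΦ⟩ := h₀.2 (fun n => p ≫ y n) fun n => by simp only [Category.assoc, hy n]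
    have hK : kernel.ι p ≫ Φ = 0 := by
      rw [← cancel_epi q, comp_zero]
      exact h₁.1 _ _ fun n => by simp only [Category.assoc, hΦ, kernel.condition_assoc, comp_zero, zero_comp]
    refine ⟨Abelian.epiDesc p Φ hK, fun n => ?_⟩
    rw [← cancel_epi p, ← Category.assoc, Abelian.comp_epiDesc, hΦ]

/-- A coherent module is a quotient of copies of a negative power of an ample module. -/
theorem exists_epi_negPow {L L' : X.Modules} (hL : CohB1.IsAmple L)
    (e : CohB1.tensorMod L L' ≅ Coh.structureModule X) {E : X.Modules} (hE : Coh.IsCoh E) :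
    ∃ (n k : ℕ) (p : CohB1.tensorMod (FlatMod.freeMod X k) (CohB1.tensorPow L' n) ⟶ E), Epi p := by
  haveI := hL.2.1
  obtain ⟨n, hn⟩ := Groth.L18.Ample.exists_forall_isGloballyGenerated hL E hE
  obtain ⟨ι, p, hp⟩ := hn n le_rfl
  have hLn := Groth.L18.Ample.isCoh_of_isInvertible (Groth.L18.Ample.isInvertible_tensorPow hL.1 n)
  haveI : Coh.IsQCoh E := hE.1
  haveI : Coh.IsQCoh (CohB1.tensorPow L n) := hLn.1
  obtain ⟨k, q, hq⟩ := Groth.L16.NegPow.exists_finite_epi
    ⟨Groth.L00.Tensor.isQCoh_tensorMod _ _, Groth.L00.Tensor.isFT_tensorMod _ _ hE.2 hLn.2⟩ p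
  exact ⟨n, k, (tensorRightF (CohB1.tensorPow L' n)).map q ≫ (tensorAssoc E _ _ ≪≫
    tensorIso (Iso.refl E) (Groth.L16.NegPow.powInvIso e n) ≪≫ tensorUnitRight E).hom,
    @epi_comp _ _ _ _ _ _ (Groth.L16.NegPow.epi_map_tensorRight q _) _ inferInstance⟩

theorem depth_stalk_invertible {M : X.Modules} (hM : PicF.IsInvertible M) (x : X) :
    LocCoh.depth (X.presheaf.stalk x) (M.presheaf.stalk x) = LocCoh.depth (X.presheaf.stalk x) (X.presheaf.stalk x) := by
  obtain ⟨q, hq⟩ := Groth.L21.RR.exists_frame_stalk hM x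
  exact (Groth.L04.idealDepth_congr (LinearEquiv.ofBijective (LinearMap.toSpanSingleton _ _ q) hq)).symm

theorem not_isAssPoint [IsLocallyNoetherian X] {M : X.Modules} (hM : Coh.IsCoh M) {x : X}
    (hd : (2 : ℕ∞) ≤ LocCoh.depth (X.presheaf.stalk x) (M.presheaf.stalk x)) : ¬ Curv2.IsAssPoint M x := by
  intro h
  haveI : Module.Finite (X.presheaf.stalk x) (M.presheaf.stalk x) := Groth.L19.SupportPullback.finite_stalk M hM x
  obtain ⟨-, f, hf⟩ := (isAssociatedPrime_iff_exists_injective_linearMap _ _).1 h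
  have h1 : f (Submodule.Quotient.mk 1) ≠ 0 := fun h0 => by
    have := hf (h0.trans (map_zero f).symm)
    rw [Submodule.Quotient.mk_eq_zero] at this
    exact (IsLocalRing.maximalIdeal.isMaximal _).ne_top ((Ideal.eq_top_iff_one _).2 this)
  rw [Groth.L01.depth_eq_zero_of_smul_eq_zero h1 fun y hy => by
    rw [← map_smul, ← Submodule.Quotient.mk_smul, smul_eq_mul, mul_one,
      (Submodule.Quotient.mk_eq_zero _).2 hy, map_zero]] at hd
  exact absurd hd (by norm_num)

variable (k : Type u) [Field k] [X.Over (Spec (CommRingCat.of k))] [IsProper (X ↘ Spec (CommRingCat.of k))]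

include k in
/-- Formal comparison of homomorphisms out of a coherent module along an ample divisor. -/
theorem homToFormalBijective_of_ample (𝓘 : X.IdealSheafData) (L : X.Modules)
    (hL : ClSub.IsInverseOf L (ClSub.idealMod 𝓘)) (hamp : CohB1.IsAmple L)
    (hdepth : ∀ x : X, IsClosed ({x} : Set X) → (2 : ℕ∞) ≤ LocCoh.depth (X.presheaf.stalk x) (X.presheaf.stalk x))
    {G : X.Modules} (hG : Coh.IsCoh G) : Lef.HomToFormalBijective 𝓘 G := by
  haveI := Groth.L21.RR.isNoetherian_of_proper (X := X) k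
  obtain ⟨i⟩ := id hL
  let M := ClSub.idealMod 𝓘
  have hM : PicF.IsInvertible M := Groth.L22.EnrSev.isInvertible_of_inverse hamp.1 i
  have key : ∀ (a r : ℕ), Lef.HomToFormalBijective 𝓘 (CohB1.tensorMod (FlatMod.freeMod X r) (CohB1.tensorPow M a)) := by
    intro a r
    let La := CohB1.tensorPow L a
    have hLa : PicF.IsInvertible La := Groth.L18.Ample.isInvertible_tensorPow hamp.1 a
    have hc : Coh.IsCoh La := Groth.L18.Ample.isCoh_of_isInvertible hLa
    have hd : ∀ x : X, IsClosed ({x} : Set X) → 2 ≤ LocCoh.depth (X.presheaf.stalk x) (La.presheaf.stalk x) :=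
      fun x hx => (hdepth x hx).trans_eq (depth_stalk_invertible hLa x).symm
    obtain ⟨m₀, hm₀⟩ := Groth.Agent.S7679.result k X L hamp M hL La hc fun x hx => not_isAssPoint hc (hd x hx)
    obtain ⟨m₁, hm₁⟩ := Groth.Agent.S7680.result k X L hamp M hL La hc hd
    let pinv := Groth.L22.EnrSev.powInv i a
    haveI : (tensorRightF La).IsEquivalence := Groth.L22.PDual.isEquivalence_tensorRightF
      (tensorComm La (CohB1.tensorPow M a) ≪≫ pinv)
    haveI : (tensorRightF La).Additive := Functor.additive_of_preserves_binary_products _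
    refine homToFormalBijective_of_vanish 𝓘 (tensorRightF La) (k := r)
      (tensorAssoc _ _ _ ≪≫ tensorIso (Iso.refl _) pinv ≪≫ tensorUnitRight _) (m₀ + m₁) fun n hn => ?_
    obtain ⟨-, ⟨e⟩⟩ := Groth.L13.PointBlow.nonempty_idealMod_pow hM (n + 1)
    let ε : CohB1.tensorMod La (CohB1.tensorPow M (n + 1)) ≅ CohB1.tensorMod (ClSub.idealMod (𝓘 ^ (n + 1))) La :=
      tensorComm _ _ ≪≫ tensorIso e.symm (Iso.refl La)
    exact ⟨Groth.L22.EnrSev.subsingleton_of_iso ε 0 (hm₀ (n + 1) (by omega)),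
      Groth.L22.EnrSev.subsingleton_of_iso ε 1 (hm₁ (n + 1) (by omega))⟩
  have hfree : ∀ (a r : ℕ), Coh.IsCoh (CohB1.tensorMod (FlatMod.freeMod X r) (CohB1.tensorPow M a)) := fun a r =>
    Groth.L16.NegPow.isCoh_of_isFinLocFree
      (Groth.L16.NegPow.isFinLocFree_freeTensor (Groth.L18.Ample.isInvertible_tensorPow hM a) r)
  obtain ⟨a, r, p, hp⟩ := exists_epi_negPow hamp i hG
  haveI := hp
  haveI : Coh.IsQCoh G := hG.1
  obtain ⟨a', r', q, hq⟩ := exists_epi_negPow hamp i (Groth.L16.CohSupport.isCoh_kernel (hfree a r) p)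
  haveI := hq
  exact homToFormalBijective_of_presentation 𝓘 p q (key a r) (key a' r')

end Groth.L18.LefTwists
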