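import Groth.Agent.L18.NegVanishLimit
import Groth.Agent.L16.Rees.Consequences
import Groth.Agent.L17.IdealMulExtend

/-!
# Cohomology and the inverse limit along a system which is pro-zero
-/

set_option autoImplicit false
set_option linter.style.haveILetI false
set_option linter.unusedSectionVars false
set_option backward.isDefEq.respectTransparency false
set_option backward.isDefEq.respectTransparency.types false
universe u

open CategoryTheory CategoryTheory.Limits AlgebraicGeometry

noncomputable section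

namespace Groth.L18.OffAffine

open Groth.L16.CohLinear (hmap hmap_comp delta exact_hmap_hmap exact_hmap_delta)

variable {X : Scheme.{u}} (I : X.IdealSheafData)

/-- The quotient map between thickenings. -/
def qm {a b : ℕ} (h : a ≤ b) : ClSub.quotMod (I ^ b) ⟶ ClSub.quotMod (I ^ a) :=
  Lef.quotMap (Groth.L17.IdealMulExtend.pow_le_pow I h)

theorem π_qm {a b : ℕ} (h : a ≤ b) : ClSub.toSubscheme (I ^ b) ≫ qm I h = ClSub.toSubscheme (I ^ a) :=
  Groth.L18.LefConnected.toSubscheme_quotMap _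

/-- The inclusion between powers. -/
def im {a b : ℕ} (h : a ≤ b) : ClSub.idealMod (I ^ b) ⟶ ClSub.idealMod (I ^ a) :=
  kernel.lift (ClSub.toSubscheme (I ^ a)) (ClSub.idealModι (I ^ b)) (by
    rw [← π_qm I h, ← Category.assoc, show ClSub.idealModι (I ^ b) ≫ ClSub.toSubscheme (I ^ b) = 0 from
      kernel.condition _, zero_comp])

theorem im_ι {a b : ℕ} (h : a ≤ b) : im I h ≫ ClSub.idealModι (I ^ a) = ClSub.idealModι (I ^ b) :=
  kernel.lift_ι _ _ _

theorem epi_toSubscheme (a : ℕ) : Epi (ClSub.toSubscheme (I ^ a)) :=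
  (Groth.L18.LefTwists.shortExact_ideal (I ^ a)).epi_g

theorem qm_succ {a : ℕ} (h : a + 1 ≤ a + 2) : qm I h = Lef.quotMap (Lef.pow_succ_le I a) := rfl

/-- Pro-zero ideals in degrees `i, i + 1` give bijectivity onto the limit. -/
theorem limit_bijective (i : ℕ)
    (hz : ∀ q, q = i ∨ q = i + 1 → ∀ m : ℕ, ∃ d : ℕ, ∀ (m' : ℕ) (h : m ≤ m'), m + d ≤ m' →
      ∀ x, hmap (im I h) q x = 0) :
    (∀ x : Coh.HH X (Coh.structureModule X) i,
      (∀ m : ℕ, hmap (ClSub.toSubscheme (I ^ (m + 1))) i x = 0) → x = 0) ∧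
    (∀ y : (∀ m : ℕ, Coh.HH X (ClSub.quotMod (I ^ (m + 1))) i),
      (∀ m : ℕ, hmap (Lef.quotMap (Lef.pow_succ_le I m)) i (y (m + 1)) = y m) →
      ∃ x : Coh.HH X (Coh.structureModule X) i, ∀ m : ℕ, hmap (ClSub.toSubscheme (I ^ (m + 1))) i x = y m) := by
  obtain ⟨d₁, hd₁⟩ := hz i (Or.inl rfl) 1
  let M₀ := d₁
  have hS := fun m => Groth.L18.LefTwists.shortExact_ideal (I ^ m)
  have hinj : ∀ m, M₀ ≤ m → ∀ x : Coh.HH X (Coh.structureModule X) i,
      hmap (ClSub.toSubscheme (I ^ (m + 1))) i x = 0 → x = 0 := fun m hm x hx => by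
    obtain ⟨z, hzz⟩ := (exact_hmap_hmap (hS (m + 1)) i x).1 hx
    rw [← hzz]
    show hmap (ClSub.idealModι (I ^ (m + 1))) i z = 0
    rw [← im_ι I (show 1 ≤ m + 1 by omega), hmap_comp, hd₁ (m + 1) (by omega) (by omega), map_zero]
  refine ⟨fun x hx => hinj M₀ le_rfl x (hx M₀), fun y hy => ?_⟩
  have hq : ∀ a b : ℕ, (h : a + 1 ≤ b + 1) → hmap (qm I h) i (y b) = y a := by
    intro a b
    induction b with
    | zero =>
      intro h
      obtain rfl : a = 0 := by omega
      have : qm I h = 𝟙 _ := by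
        haveI := epi_toSubscheme I (0 + 1)
        rw [← cancel_epi (ClSub.toSubscheme (I ^ (0 + 1))), π_qm, Category.comp_id]
      rw [this, Groth.L16.CohLinear.hmap_id]
    | succ b ih =>
      intro h
      haveI := epi_toSubscheme I (b + 1 + 1)
      rcases Nat.lt_or_ge (a + 1) (b + 1 + 1) with hab | hab
      · have h' : a + 1 ≤ b + 1 := by omega
        have : qm I h = Lef.quotMap (Lef.pow_succ_le I b) ≫ qm I h' := by
          rw [← cancel_epi (ClSub.toSubscheme (I ^ (b + 1 + 1))), π_qm, ← Category.assoc,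
            Groth.L18.LefConnected.toSubscheme_quotMap, π_qm]
        rw [this, hmap_comp]
        exact (congrArg _ (hy b)).trans (ih h')
      · obtain rfl : a = b + 1 := by omega
        have : qm I h = 𝟙 _ := by
          rw [← cancel_epi (ClSub.toSubscheme (I ^ (b + 1 + 1))), π_qm, Category.comp_id]
        rw [this, Groth.L16.CohLinear.hmap_id]
  have hδ : ∀ a, delta (hS (a + 1)) i (y a) = 0 := fun a => by
    obtain ⟨d, hd⟩ := hz (i + 1) (Or.inr rfl) (a + 1)
    have h : a + 1 ≤ a + d + 1 := by omega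
    let τ : ShortComplex.mk (ClSub.idealModι (I ^ (a + d + 1))) (ClSub.toSubscheme (I ^ (a + d + 1))) (kernel.condition _) ⟶
        ShortComplex.mk (ClSub.idealModι (I ^ (a + 1))) (ClSub.toSubscheme (I ^ (a + 1))) (kernel.condition _) :=
      { τ₁ := im I h
        τ₂ := 𝟙 _
        τ₃ := qm I h
        comm₁₂ := (im_ι I h).trans (Category.comp_id _).symm
        comm₂₃ := by rw [Category.id_comp]; exact (π_qm I h).symm }
    have := Groth.L16.Rees.delta_naturality (hS (a + d + 1)) (hS (a + 1)) τ (y (a + d))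
    have hy' : hmap τ.τ₃ i (y (a + d)) = y a := hq a (a + d) h
    rw [hy'] at this
    exact this.trans (hd _ h (by omega) _)
  have hlift : ∀ a, ∃ x, hmap (ClSub.toSubscheme (I ^ (a + 1))) i x = y a := fun a =>
    (exact_hmap_delta (hS (a + 1)) i (y a)).1 (hδ a)
  choose x hx using hlift
  have hdown : ∀ a b : ℕ, a ≤ b → hmap (ClSub.toSubscheme (I ^ (a + 1))) i (x b) = y a := fun a b hab => by
    rw [← π_qm I (show a + 1 ≤ b + 1 by omega), hmap_comp, hx, hq]
  refine ⟨x M₀, fun a => ?_⟩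
  let b := max a M₀
  have : x b = x M₀ := sub_eq_zero.1 (hinj M₀ le_rfl _ (by
    rw [map_sub, hdown M₀ b (le_max_right _ _), hx, sub_self]))
  rw [← this]
  exact hdown a b (le_max_left _ _)

end Groth.L18.OffAffine
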