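import Groth.Agent.L18.OffAffineTransfer
import Groth.Agent.L18.ProZeroLimit
import Groth.Agent.L22.Reg.ClosedQuot
import Groth.Agent.L21.RR.Sections
import Groth.Agent.L16.Exist.AlgComplete
import Groth.Prelude.Def_FSch2

/-!
# Formal sections of coherent modules along the zeros of a section of an ample module

`X` is proper over a field, `s` a section of an ample invertible module, `F` coherent with depth `> n` at the
closed points of `X_s`: the system `H^q(I^m F)` is pro-zero for `q ≤ n`; for `n = 1`, `Γ(F) = lim Γ(F|_{Y_m})`.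
-/

set_option autoImplicit false
set_option linter.style.haveILetI false
set_option linter.unusedSectionVars false
set_option backward.isDefEq.respectTransparency false
set_option backward.isDefEq.respectTransparency.types false
universe u

open CategoryTheory CategoryTheory.Limits AlgebraicGeometry IsLocalRing TopologicalSpace Opposite

noncomputable section

namespace Groth.L18.OffAffine

open Groth.L16
open Groth.L16.CohLinear (hmap hmap_comp hmap_id delta exact_hmap_hmap exact_hmap_delta)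
open Groth.L17.IdealMulSec

variable {k : Type u} [Field k] {X : Scheme.{u}}

/-- `0 → I F → F → F|_{V(I)} → 0`. -/
theorem shortExact_idealMul (I : X.IdealSheafData) (F : X.Modules) :
    (ShortComplex.mk (Dual3.idealMulι I F) (η I F) (kernel.condition _)).ShortExact :=
  { exact := ShortComplex.exact_kernel _
    mono_f := inferInstanceAs (Mono (kernel.ι (η I F)))
    epi_g := Groth.L22.Reg.epi_unit I.subschemeι F }

theorem depth_idealMul (I : X.IdealSheafData) (F : X.Modules) {x : X} (hx : x ∉ I.support) :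
    LocCoh.depth (X.presheaf.stalk x) (((Dual3.idealMul I).obj F).presheaf.stalk x) =
      LocCoh.depth (X.presheaf.stalk x) (F.presheaf.stalk x) := by
  have hS := Groth.L12.KRes.shortExact_stalk (shortExact_idealMul I F) x
  let st := Groth.L00.Stk.F X x
  have hss : Subsingleton (st.obj ((Scheme.Modules.pullback I.subschemeι ⋙
      Scheme.Modules.pushforward I.subschemeι).obj F)) :=
    Groth.L17.ClosedPush.subsingleton_stalk_push I.subschemeι _ (fun h => hx (by
      rw [I.range_subschemeι] at h; exact h))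
  have hb : Function.Bijective (st.map (Dual3.idealMulι I F)).hom := ⟨hS.moduleCat_injective_f, fun y =>
    (((ShortComplex.ShortExact.moduleCat_exact_iff_function_exact _).1 hS.exact) y).1 (@Subsingleton.elim _ hss _ _)⟩
  let e := LinearEquiv.ofBijective _ hb
  exact L02.FibDepth.Semi.depth_eq
    { φ := RingHom.id _
      surj := Function.surjective_id
      e := e.toAddEquiv
      map_smul := fun r z => e.map_smul r z }

/-- High powers of the ideal of a section of an ample module are acyclic on `F`, as a system, below the depth. -/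
theorem exists_hmap_eq_zero_coh (f : X ⟶ Spec (CommRingCat.of k)) [IsProper f] {L : X.Modules}
    (hL : CohB1.IsAmple L) (s : Coh.structureModule X ⟶ L) {F₀ : X.Modules} (hF₀ : Coh.IsCoh F₀) (n : ℕ)
    (hd : ∀ x : X, IsClosed ({x} : Set X) → x ∉ (PicF2.zeroScheme L s).support →
      ((n + 1 : ℕ) : ℕ∞) ≤ LocCoh.depth (X.presheaf.stalk x) (F₀.presheaf.stalk x))
    (q : ℕ) (hq : q ≤ n) (m : ℕ) :
    ∃ d : ℕ, ∀ (m' : ℕ), m + d ≤ m' →
      ∀ (g : (Dual3.idealMul (PicF2.zeroScheme L s ^ m')).obj F₀ ⟶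
          (Dual3.idealMul (PicF2.zeroScheme L s ^ m)).obj F₀),
        g ≫ Dual3.idealMulι _ F₀ = Dual3.idealMulι _ F₀ → ∀ x, hmap g q x = 0 := by
  classical
  obtain ⟨r, j, U, hj, hU, hjU⟩ := exists_affine_open f hL s
  haveI := hj
  haveI := isNoetherian_P (k := k) (r := r)
  haveI : IsLocallyNoetherian X := LocallyOfFiniteType.isLocallyNoetherian f
  haveI : CompactSpace X := QuasiCompact.compactSpace_of_compactSpace f
  haveI : IsNoetherian X := {}
  haveI := hF₀.1
  let P := CohB1.ProjSpace r k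
  let I := PicF2.zeroScheme L s
  let 𝔞 : P.IdealSheafData := Scheme.IdealSheafData.vanishingIdeal ⟨(U : Set P)ᶜ, U.2.isClosed_compl⟩
  have hUa : (U : Set P) = (𝔞.support : Set P)ᶜ := by
    rw [Scheme.IdealSheafData.coe_support_vanishingIdeal]
    exact (compl_compl _).symm
  have hsupp : ∀ x : X, x ∈ I.support ↔ j x ∉ U := fun x => by
    have h : x ∈ I.support ↔ x ∈ (CohB1.genLocus L s : Set X)ᶜ :=
      Set.ext_iff.1 (Groth.L22.ZeroScheme.support_zeroScheme hL.1 s) x
    rw [h, Set.mem_compl_iff, SetLike.mem_coe, ← hjU]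
    rfl
  let G := (Dual3.idealMul (I ^ m)).obj F₀
  have hG : Coh.IsCoh G := isCoh_idealMul _ F₀ hF₀
  let F := (Coh.push j).obj G
  have hF : Coh.IsCoh F := Groth.L16.CohClosedPush.isCoh_push j hG
  have hdeep : Deep U (n + 1) F := by
    intro p hp hpc
    rw [← Groth.L18.NegVanish.sdep_field (CohB1.ProjSpace.toSpec r k) F p]
    by_cases hr : p ∈ Set.range j
    · obtain ⟨x, rfl⟩ := hr
      have hx : IsClosed ({x} : Set X) := by
        rw [show ({x} : Set X) = j ⁻¹' {j x} from Set.ext fun y =>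
          ⟨fun e => congrArg _ e, fun e => j.isClosedEmbedding.injective e⟩]
        exact hpc.preimage j.continuous
      have hxs : x ∉ I.support := fun h => (hsupp x).1 h hp
      have hxm : x ∉ (I ^ m).support := fun h => hxs (by
        rcases Nat.eq_zero_or_pos m with rfl | hm
        · simp at h
          exact absurd h (fun h' => (Set.mem_empty_iff_false x).1 h')
        · rwa [Scheme.IdealSheafData.support_pow _ _ hm.ne'] at h)
      refine (hd x hx hxs).trans_eq ?_
      refine ((Groth.L18.NegVanish.sdep_push j (CohB1.ProjSpace.toSpec r k) G x).trans ?_).symm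
      rw [Groth.L18.NegVanish.sdep_field]
      exact depth_idealMul _ F₀ hxm
    · exact le_top.trans_eq (Groth.L18.NegVanish.sdep_push_of_not_mem j _ G hr).symm
  obtain ⟨N, hN⟩ := z_of_deep 𝔞 U hU hUa r n (Nat.le_add_left r n) hF hdeep q hq
  let 𝔟 := (𝔞 ^ N).comap j
  obtain ⟨M, hM⟩ : ∃ M, I ^ (M + 1) ≤ 𝔟 := by
    refine Groth.Agent.S3852.result X I 𝔟 fun x hx => ?_
    rw [Scheme.IdealSheafData.support_comap] at hx
    rcases Nat.eq_zero_or_pos N with rfl | hN0
    · simp at hx
    · rw [Scheme.IdealSheafData.support_pow _ _ hN0.ne'] at hx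
      exact (hsupp x).2 fun h => (Set.ext_iff.1 hUa (j x)).1 h hx
  refine ⟨M + 1, fun m' hm' g hg x => ?_⟩
  haveI := hF.1
  haveI := hG.1
  obtain ⟨l, hl⟩ := exists_lift (𝔞 ^ N) F ((Coh.push j).map g) fun V hV a => by
    let W : X.Opens := j ⁻¹ᵁ V
    have hW : IsAffineOpen W := hV.preimage j
    let ι := Groth.L17.IdealMulExtend.lapp (Dual3.idealMulι (I ^ m) F₀) W
    have hι : Function.Injective ι := ι_app_injective (I ^ m) F₀ W
    let a' : Γ(G, W) := g.app W a
    let T : Submodule Γ(X, W) Γ(F₀, W) := (I ^ m).ideal ⟨W, hW⟩ • ⊤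
    have ha : ι a' ∈ 𝔟.ideal ⟨W, hW⟩ • T := by
      have h1 : ι a' = (Dual3.idealMulι (I ^ m') F₀).app W a := congr($(hg).app W a)
      rw [h1]
      have h2 := (exists_app_eq_iff (I ^ m') F₀ hW _).1 ⟨a, rfl⟩
      rw [Scheme.IdealSheafData.ideal_pow, Pi.pow_apply] at h2
      show _ ∈ 𝔟.ideal ⟨W, hW⟩ • ((I ^ m).ideal ⟨W, hW⟩ • (⊤ : Submodule Γ(X, W) Γ(F₀, W)))
      rw [Scheme.IdealSheafData.ideal_pow, Pi.pow_apply, ← Submodule.smul_assoc, smul_eq_mul]
      refine Submodule.smul_mono_left ?_ h2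
      have h4 := hM ⟨W, hW⟩
      rw [Scheme.IdealSheafData.ideal_pow, Pi.pow_apply] at h4
      refine le_trans ?_ (Ideal.mul_mono_left h4)
      rw [← pow_add]
      exact Ideal.pow_le_pow_right (by omega)
    rw [show 𝔟.ideal ⟨W, hW⟩ = ((𝔞 ^ N).ideal ⟨V, hV⟩).map (j.app V).hom from by
      rw [show 𝔟 = (𝔞 ^ N).comap j from rfl, Groth.L22.Ideals.comap_ideal j (𝔞 ^ N) ⟨V, hV⟩ ⟨W, hW⟩ le_rfl]
      congr 1
      rw [Scheme.Hom.app_eq_appLE]] at ha
    show (show Γ(F, V) from a') ∈ (𝔞 ^ N).ideal ⟨V, hV⟩ • (⊤ : Submodule Γ(P, V) Γ(F, V))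
    have key : ∀ b ∈ ((𝔞 ^ N).ideal ⟨V, hV⟩).map (j.app V).hom • T,
        ∃ z : Γ(G, W), ι z = b ∧
          (show Γ(F, V) from z) ∈ (𝔞 ^ N).ideal ⟨V, hV⟩ • (⊤ : Submodule Γ(P, V) Γ(F, V)) := by
      intro b hb
      induction hb using Submodule.smul_induction_on' with
      | smul c hc e he =>
        obtain ⟨z, rfl⟩ := (exists_app_eq_iff (I ^ m) F₀ hW e).2 he
        obtain ⟨c', hc', rfl⟩ := (Ideal.mem_map_iff_of_surjective _ (j.app_surjective V hV)).1 hc
        refine ⟨(j.app V).hom c' • z, ?_, ?_⟩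
        · exact Scheme.Modules.Hom.app_smul _ _ _
        · have h3 : (show Γ(F, V) from (j.app V).hom c' • z) = c' • (show Γ(F, V) from z) :=
            (Groth.L00.PullStalk.push_smul j G V c' z).symm
          rw [h3]
          exact Submodule.smul_mem_smul hc' Submodule.mem_top
      | add x _ y _ hx hy =>
        obtain ⟨z, hz, hz'⟩ := hx
        obtain ⟨w, hw, hw'⟩ := hy
        exact ⟨z + w, by rw [map_add, hz, hw], add_mem hz' hw'⟩
    obtain ⟨z, hz, hz'⟩ := key _ ha
    rwa [← hι hz]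
  obtain ⟨E, hE⟩ := Groth.L16.Supp.exists_natural j q
  obtain ⟨y, rfl⟩ := (E _).surjective x
  rw [← hE g y, ← hl, hmap_comp, hN, map_zero]

section Limit

/-- A tower of quotients whose kernels are pro-zero in degrees `0` and `1` computes the sections. -/
theorem sections_bijective {O' : X.Modules} (K Q : ℕ → X.Modules) (ι : ∀ m, K m ⟶ O') (π : ∀ m, O' ⟶ Q m)
    (w : ∀ m, ι m ≫ π m = 0) (hS : ∀ m, (ShortComplex.mk (ι m) (π m) (w m)).ShortExact)
    (τ : ∀ m, Q (m + 1) ⟶ Q m) (hτ : ∀ m, π (m + 1) ≫ τ m = π m)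
    (κ : ∀ {a b : ℕ}, a ≤ b → (K b ⟶ K a)) (hκ : ∀ {a b : ℕ} (h : a ≤ b), κ h ≫ ι a = ι b)
    (hz : ∀ q, q ≤ 1 → ∀ a, ∃ b, ∃ h : a ≤ b, ∀ x, hmap (κ h) q x = 0) :
    (∀ σ : Γ(O', ⊤), (∀ m, (π m).app ⊤ σ = 0) → σ = 0) ∧
    (∀ y : (∀ m, Γ(Q m, ⊤)), (∀ m, (τ m).app ⊤ (y (m + 1)) = y m) →
      ∃ σ : Γ(O', ⊤), ∀ m, (π m).app ⊤ σ = y m) := by
  haveI : ∀ m, Epi (π m) := fun m => (hS m).epi_g
  have hπ0 : ∀ {a b : ℕ} (h : a ≤ b), ι b ≫ π a = 0 := fun {a b} h => by
    rw [← hκ h, Category.assoc, w, comp_zero]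
  let t : ∀ {a b : ℕ}, a ≤ b → (Q b ⟶ Q a) := fun {a b} h =>
    (hS b).gIsCokernel.desc (CokernelCofork.ofπ (π a) (hπ0 h))
  have ht : ∀ {a b : ℕ} (h : a ≤ b), π b ≫ t h = π a := fun {a b} h =>
    (hS b).gIsCokernel.fac (CokernelCofork.ofπ (π a) (hπ0 h)) WalkingParallelPair.one
  let z : ∀ M : X.Modules, Coh.HH X M 0 ≃+ Γ(M, ⊤) := fun M => Groth.L21.RR.e0 M
  have hzn : ∀ {M M' : X.Modules} (φ : M ⟶ M') (x : Coh.HH X M 0), z M' (hmap φ 0 x) = φ.app ⊤ (z M x) :=
    fun φ x => Groth.L21.RR.e0_hmap φ x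
  obtain ⟨b₀, hb₀, hz₀⟩ := hz 0 zero_le_one 0
  have hinj : ∀ x, hmap (π b₀) 0 x = 0 → x = 0 := fun x hx => by
    obtain ⟨v, hv⟩ := (exact_hmap_hmap (hS b₀) 0 x).1 hx
    rw [← hv]
    show hmap (ι b₀) 0 v = 0
    rw [← hκ hb₀, hmap_comp, hz₀, map_zero]
  refine ⟨fun σ hσ => ?_, fun y hy => ?_⟩
  · obtain ⟨x, rfl⟩ := (z O').surjective σ
    rw [hinj x ((z _).injective (by rw [hzn, hσ, map_zero])), map_zero]
  let y' : ∀ m, Coh.HH X (Q m) 0 := fun m => (z (Q m)).symm (y m)
  have hy' : ∀ m, hmap (τ m) 0 (y' (m + 1)) = y' m := fun m => (z (Q m)).injective (by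
    rw [hzn, AddEquiv.apply_symm_apply, AddEquiv.apply_symm_apply, hy])
  have hq : ∀ a b, (h : a ≤ b) → hmap (t h) 0 (y' b) = y' a := by
    intro a b h
    induction b, h using Nat.le_induction with
    | base =>
      have : t (le_refl a) = 𝟙 _ := by rw [← cancel_epi (π a), ht (le_refl a), Category.comp_id]
      rw [this, hmap_id]
    | succ b hb ih =>
      have : t (hb.trans b.le_succ) = τ b ≫ t hb := by
        rw [← cancel_epi (π (b + 1)), ht (hb.trans b.le_succ), ← Category.assoc, hτ, ht hb]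
      rw [this, hmap_comp, hy', ih]
  have hlift : ∀ a, ∃ x, hmap (π a) 0 x = y' a := fun a => by
    obtain ⟨b, h, hb⟩ := hz 1 le_rfl a
    let τ' : ShortComplex.mk (ι b) (π b) (w b) ⟶ ShortComplex.mk (ι a) (π a) (w a) :=
      { τ₁ := κ h
        τ₂ := 𝟙 _
        τ₃ := t h
        comm₁₂ := (hκ h).trans (Category.comp_id _).symm
        comm₂₃ := (Category.id_comp _).trans (ht h).symm }
    have := Groth.L16.Rees.delta_naturality (hS b) (hS a) τ' (y' b)
    rw [show hmap τ'.τ₃ 0 (y' b) = y' a from hq a b h] at this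
    exact (exact_hmap_delta (hS a) 0 (y' a)).1 (this.trans (hb _))
  choose x hx using hlift
  have hdown : ∀ a b, a ≤ b → hmap (π a) 0 (x b) = y' a := fun a b hab => by
    rw [← ht hab, hmap_comp, hx, hq a b hab]
  refine ⟨z O' (x b₀), fun a => ?_⟩
  let b := max a b₀
  have hb : x b = x b₀ := sub_eq_zero.1 (hinj _ (by
    rw [map_sub, hdown b₀ b (le_max_right _ _), hx, sub_self]))
  rw [← hb, ← hzn, hdown a b (le_max_left _ _), AddEquiv.apply_symm_apply]

end Limit

/-- The unit of a closed subscheme of a closed subscheme. -/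
theorem unit_trans {Z W : Scheme.{u}} (f : Z ⟶ W) (g : W ⟶ X) (h : Z ⟶ X) (e : f ≫ g = h) (M : X.Modules) :
    (Scheme.Modules.pullbackPushforwardAdjunction g).unit.app M ≫
      (Scheme.Modules.pushforward g).map ((Scheme.Modules.pullbackPushforwardAdjunction f).unit.app
        ((Scheme.Modules.pullback g).obj M)) ≫
      (Scheme.Modules.pushforwardComp f g).hom.app _ ≫ (Scheme.Modules.pushforwardCongr e).hom.app _ ≫
      (Scheme.Modules.pushforward h).map (((Scheme.Modules.pullbackComp f g).app M ≪≫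
        (Scheme.Modules.pullbackCongr e).app M).hom) =
      (Scheme.Modules.pullbackPushforwardAdjunction h).unit.app M := by
  subst e
  have hu := unit_conjugateEquiv
    ((Scheme.Modules.pullbackPushforwardAdjunction g).comp (Scheme.Modules.pullbackPushforwardAdjunction f))
    (Scheme.Modules.pullbackPushforwardAdjunction (f ≫ g)) (Scheme.Modules.pullbackComp f g).inv M
  rw [Scheme.Modules.conjugateEquiv_pullbackComp_inv, Adjunction.comp_unit_app, Category.assoc] at hu
  have h1 : (Scheme.Modules.pullbackCongr (rfl : f ≫ g = f ≫ g)).hom.app M = 𝟙 _ := by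
    simp [Scheme.Modules.pullbackCongr]
  have h2 : ∀ N, (Scheme.Modules.pushforwardCongr (rfl : f ≫ g = f ≫ g)).hom.app N = 𝟙 _ := fun N => by
    ext U x
    simp
    first | rfl | done
  simp only [Iso.trans_hom, Iso.app_hom, h1, h2, Category.comp_id, Category.id_comp]
  rw [reassoc_of% hu, ← Functor.map_comp]
  erw [← NatTrans.comp_app, Iso.inv_hom_id, NatTrans.id_app, CategoryTheory.Functor.map_id, Category.comp_id]

end Groth.L18.OffAffine
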