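import Groth.Agent.L18.NegVanishProj
import Groth.Agent.L22.EnrSev.Basic
import Groth.Agent.L22.PDual.CMVanish
import Groth.Agent.L22.Inter.FlatTwist
import Groth.Agent.L16.CohClosedPush
import Groth.Agent.L16.ProjSpace.RelTwist
import Groth.Agent.L18.VeryAmpleOver
import Groth.Agent.S2330

/-!
# Negative twists of modules of large depth on the fibres of a projective scheme over a ring
-/

set_option autoImplicit false
set_option linter.style.haveILetI false
set_option linter.unusedSectionVars false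
set_option backward.isDefEq.respectTransparency false
set_option backward.isDefEq.respectTransparency.types false
universe u

open CategoryTheory CategoryTheory.Limits AlgebraicGeometry IsLocalRing TopologicalSpace

noncomputable section

namespace Groth.L18.NegVanish

open Groth.L22.Reg (O' tw')
open Groth.L00.Tensor (tensorIso tensorComm tensorAssoc tensorUnitLeft tensorUnitRight)
open Groth.L16

variable {A : Type u} [CommRing A]

/-- An inverse is unique. -/
def inverseUniq {X : Scheme.{u}} {M B C : X.Modules} (eB : CohB1.tensorMod M B ≅ Coh.structureModule X)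
    (eC : CohB1.tensorMod M C ≅ Coh.structureModule X) : B ≅ C :=
  (tensorUnitLeft B).symm ≪≫ tensorIso ((tensorComm C M ≪≫ eC).symm) (Iso.refl B) ≪≫ tensorAssoc C M B ≪≫
    tensorIso (Iso.refl C) eB ≪≫ tensorUnitRight C

theorem sdep_tensor {X S : Scheme.{u}} (f : X ⟶ S) (F : X.Modules) {L : X.Modules} (hL : PicF.IsInvertible L) (x : X) :
    sdep f (CohB1.tensorMod F L) x = sdep f F x := by
  obtain ⟨e⟩ := Groth.L03.Euler.nonempty_stalk_tensor hL F x
  let E : L02.FibDepth.Semi (X.presheaf.stalk x) ((CohB1.tensorMod F L).presheaf.stalk x)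
      (X.presheaf.stalk x) (F.presheaf.stalk x) :=
    { φ := RingHom.id _
      surj := Function.surjective_id
      e := e.symm.toAddEquiv
      map_smul := fun r z => e.symm.map_smul r z }
  obtain ⟨E'⟩ := nonempty_semi_quot E (fibI f x)
  rw [show (fibI f x).map E.φ = fibI f x from Ideal.map_id _] at E'
  exact E'.depth_eq

/-- A power of an ample module is the pullback of `O(1)` along a closed immersion into projective space. -/
theorem exists_embedding {X : Scheme.{u}} (f : X ⟶ Spec (CommRingCat.of A)) [IsProper f] {L : X.Modules}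
    (hL : CohB1.IsAmple L) :
    ∃ (N r : ℕ) (j : X ⟶ CohB1.ProjSpace r A), 0 < N ∧ IsClosedImmersion j ∧ j ≫ CohB1.ProjSpace.toSpec r A = f ∧
      Nonempty (CohB1.tensorPow L N ≅ (Scheme.Modules.pullback j).obj (O' r A 1)) := by
  obtain ⟨N, hN, r, i, hi, hif, ⟨eL⟩⟩ := (Groth.Agent.S2330.result f L hL.1).1.1 hL
  let S := Spec (CommRingCat.of A)
  let t := Groth.L20.PnPic.toPt r (𝟙 S)
  haveI : IsIso t := (Groth.L20.PnPic.isPullback_toPt r (𝟙 S)).isIso_fst_of_isIso
  haveI := hi
  haveI : IsProper (i ≫ CohB1.ProjSpaceOver.toBase r S) := by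
    rw [show i ≫ CohB1.ProjSpaceOver.toBase r S = f from hif]; infer_instance
  haveI : IsProper i := IsProper.of_comp i (CohB1.ProjSpaceOver.toBase r S)
  haveI : IsClosedImmersion i := IsClosedImmersion.of_isPreimmersion i i.isClosedMap.isClosed_range
  obtain ⟨et⟩ := ProjSpace.nonempty_pullback_twistOver_iso r (𝟙 S) (1 : ℤ)
  refine ⟨N, r, i ≫ inv t, hN, inferInstance, ?_, ⟨?_⟩⟩
  · have ht := (Groth.L20.PnPic.isPullback_toPt r (𝟙 S)).w
    rw [Category.comp_id] at ht
    rw [← ht, Category.assoc, IsIso.inv_hom_id_assoc]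
    exact hif
  · exact eL ≪≫ (Scheme.Modules.pullbackCongr (by rw [Category.assoc, IsIso.inv_hom_id, Category.comp_id])).app _ ≪≫
      ((Scheme.Modules.pullbackComp (i ≫ inv t) t).app _).symm ≪≫ (Scheme.Modules.pullback (i ≫ inv t)).mapIso et

variable [IsNoetherianRing A]

/-- Cohomology of negative twists along a closed immersion into projective space. -/
theorem exists_vanish_embedded {X : Scheme.{u}} {r : ℕ} (j : X ⟶ CohB1.ProjSpace r A) [IsClosedImmersion j]
    {F : X.Modules} (hF : Coh.IsCoh F) (hfl : FlatMod.IsFlatOver (j ≫ CohB1.ProjSpace.toSpec r A) F) (n : ℕ)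
    (h : ∀ x : X, IsClosed ({x} : Set X) → ((n + 1 : ℕ) : ℕ∞) ≤ sdep (j ≫ CohB1.ProjSpace.toSpec r A) F x)
    (q : ℕ) (hq : q ≤ n) :
    ∃ m₀ : ℕ, ∀ m : ℕ, m₀ ≤ m →
      Subsingleton (Coh.HH X (CohB1.tensorMod F ((Scheme.Modules.pullback j).obj (O' r A (-(m : ℤ))))) q) := by
  let g := CohB1.ProjSpace.toSpec r A
  haveI : IsLocallyNoetherian (CohB1.ProjSpace r A) := LocallyOfFiniteType.isLocallyNoetherian g
  have hc : Coh.IsCoh ((Scheme.Modules.pushforward j).obj F) := CohClosedPush.isCoh_push j hF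
  obtain ⟨m₀, hm₀⟩ := van_of_sdep hc (isFlatOver_push j g F hfl) n (fun p hp => by
    by_cases hr : p ∈ Set.range j
    · obtain ⟨x, rfl⟩ := hr
      rw [sdep_push]
      refine h x ?_
      have hx : ({x} : Set X) = j ⁻¹' {j x} := Set.ext fun y =>
        ⟨fun e => congrArg _ e, fun e => j.isClosedEmbedding.injective e⟩
      rw [hx]
      exact hp.preimage j.continuous
    · rw [sdep_push_of_not_mem j g F hr]
      exact le_top) q hq
  refine ⟨m₀, fun m hm => ?_⟩
  let M := (Scheme.Modules.pullback j).obj (O' r A (-(m : ℤ)))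
  let e : tw' ((Coh.push j).obj F) (-(m : ℤ)) ≅ (Coh.push j).obj (CohB1.tensorMod F M) :=
    tensorComm _ _ ≪≫
      (Groth.L17.ProjFormula.projIso j (O' r A (-(m : ℤ))) (Groth.L20.ResDescent.isFinLocFree_of_isInvertible
        (ProjTwist.isInvertible_twistProjSpace r A _))).app F ≪≫
      (Coh.push j).mapIso (tensorComm M F)
  obtain ⟨e'⟩ := Groth.L17.nonempty_HH_push_of_isClosedImmersion j (CohB1.tensorMod F M) q
  have := ProjSpace.subsingleton_of_iso e.symm q (hm₀ m hm)
  exact e'.toEquiv.subsingleton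

/-- Relative vanishing of negative twists under a depth condition on the fibres. -/
theorem exists_vanish {X : Scheme.{u}} (f : X ⟶ Spec (CommRingCat.of A)) [IsProper f] {L L' : X.Modules}
    (hL : CohB1.IsAmple L) (e : CohB1.tensorMod L L' ≅ Coh.structureModule X) {F : X.Modules} (hF : Coh.IsCoh F)
    (hfl : FlatMod.IsFlatOver f F) (n : ℕ)
    (h : ∀ x : X, IsClosed ({x} : Set X) → ((n + 1 : ℕ) : ℕ∞) ≤ sdep f F x) :
    ∃ m₀ : ℕ, ∀ m : ℕ, m₀ ≤ m → ∀ q, q ≤ n → Subsingleton (Coh.HH X (CohB1.tensorMod F (CohB1.tensorPow L' m)) q) := by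
  classical
  haveI : IsLocallyNoetherian X := LocallyOfFiniteType.isLocallyNoetherian f
  suffices hs : ∀ q, q ≤ n → ∃ m₀ : ℕ, ∀ m : ℕ, m₀ ≤ m →
      Subsingleton (Coh.HH X (CohB1.tensorMod F (CohB1.tensorPow L' m)) q) by
    choose b hb using hs
    exact ⟨(Finset.range (n + 1)).sup fun q => if h : q ≤ n then b q h else 0, fun m hm q hq => hb q hq m
      (le_trans (le_of_eq (dif_pos hq).symm) ((Finset.le_sup (f := fun q => if h : q ≤ n then b q h else 0)
        (Finset.mem_range.2 (Nat.lt_succ_of_le hq))).trans hm))⟩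
  intro q hq
  obtain ⟨N, r, j, hN, hj, hjf, ⟨eL⟩⟩ := exists_embedding f hL
  haveI := hj
  subst hjf
  have hL' := Groth.L22.EnrSev.isInvertible_of_inverse hL.1 e
  obtain ⟨a1⟩ := Groth.L22.Reg.nonempty_O_add (n := r) (R := A) (show (1 : ℤ) + -1 = 0 by ring)
  obtain ⟨a2⟩ := Groth.L22.Reg.nonempty_O_zero r A
  let e1 : (Scheme.Modules.pullback j).obj (O' r A (-1)) ≅ CohB1.tensorPow L' N :=
    inverseUniq (M := CohB1.tensorPow L N)
      (tensorIso eL (Iso.refl _) ≪≫ Groth.L29.DC.PullTensor.pullTensor j _ _ ≪≫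
        (Scheme.Modules.pullback j).mapIso (a1 ≪≫ a2) ≪≫ Groth.L29.LocFree.pullbackUnitIso j)
      (Groth.L16.NegPow.powInvIso e N)
  have key : ∀ s, s < N → ∃ j₀, ∀ i, j₀ ≤ i →
      Subsingleton (Coh.HH X (CohB1.tensorMod F (CohB1.tensorPow L' (s + N * i))) q) := by
    intro s _
    have hs := Groth.L18.Ample.isInvertible_tensorPow hL' s
    obtain ⟨m₀, hm₀⟩ := exists_vanish_embedded j (F := CohB1.tensorMod F (CohB1.tensorPow L' s))
      (Groth.L03.Euler.isCoh_tensor hs hF) (Groth.L22.Inter.FlatTwist.isFlatOver_tensor _ hfl hs) n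
      (fun x hx => (sdep_tensor _ F hs x).symm ▸ h x hx) q hq
    refine ⟨m₀, fun i hi => ?_⟩
    obtain ⟨eO⟩ := Groth.L22.Reg.nonempty_O_pow (n := r) (R := A) i
    refine ProjSpace.subsingleton_of_iso ?_ q (hm₀ i hi)
    exact (tensorIso (Iso.refl F) (Groth.L00.Tensor.tensorPowAdd L' s (N * i))).symm ≪≫ (tensorAssoc _ _ _).symm ≪≫
      tensorIso (Iso.refl _) ((Groth.L00.Tensor.tensorPowMul L' N i).symm ≪≫
        Groth.L00.Tensor.tensorPowIso e1.symm i ≪≫ (Groth.L18.Ample.pullPow j _ i).symm ≪≫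
        (Scheme.Modules.pullback j).mapIso eO)
  obtain ⟨m₀, hm₀⟩ := Groth.L22.EnrSev.exists_bound
    (fun s i => Subsingleton (Coh.HH X (CohB1.tensorMod F (CohB1.tensorPow L' (s + N * i))) q)) hN key
  exact ⟨m₀, fun m hm => by
    have := hm₀ m hm
    rwa [Nat.mod_add_div] at this⟩

end Groth.L18.NegVanish
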