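import Groth.Agent.L18.LefTower
import Groth.Agent.L18.NegVanish
import Groth.Agent.L16.Rees.RelVanish
import Groth.Agent.L18.GlobGen

/-!
# Generators of a tower lift compatibly from the zeroth level
-/

set_option autoImplicit false
set_option linter.style.haveILetI false
set_option linter.unusedSectionVars false
set_option backward.isDefEq.respectTransparency false
set_option backward.isDefEq.respectTransparency.types false
universe u

open CategoryTheory CategoryTheory.Limits AlgebraicGeometry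

noncomputable section

namespace Groth.L18.LefTower

open Groth.L00.Tensor (tensorMap tensorMap_comp tensorIso tensorComm tensorAssoc tensorUnitLeft tensorUnitRight tensorRightF tensorPowAdd)
open Groth.L16.CohLinear (hmap hmap_comp exact_hmap_hmap exact_hmap_delta exact_delta_hmap overLin)

variable {X : Scheme.{u}}

/-- Along a chain of surjections of finite modules over a Noetherian ring the maps become injective. -/
theorem exists_injective_of_surjective {A : Type u} [CommRing A] [IsNoetherianRing A] (H : ℕ → Type u)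
    [∀ m, AddCommGroup (H m)] [∀ m, Module A (H m)] (u : ∀ m, H m →ₗ[A] H (m + 1)) (m₁ : ℕ) [Module.Finite A (H m₁)]
    (hs : ∀ m, m₁ ≤ m → Function.Surjective (u m)) :
    ∃ m₂, ∀ m, m₂ ≤ m → Function.Injective (u m) := by
  let c : ∀ d, H m₁ →ₗ[A] H (m₁ + d) := fun d => Nat.rec LinearMap.id (fun d g => (u (m₁ + d)).comp g) d
  have hc : ∀ d, Function.Surjective (c d) := by
    intro d
    induction d with
    | zero => exact fun v => ⟨v, rfl⟩
    | succ d ih => exact (hs (m₁ + d) (Nat.le_add_right _ _)).comp ih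
  let f : ℕ →o Submodule A (H m₁) :=
    ⟨fun d => LinearMap.ker (c d), monotone_nat_of_le_succ fun d v (hv : c d v = 0) => by
      show u (m₁ + d) (c d v) = 0
      rw [hv, map_zero]⟩
  obtain ⟨d₀, hd₀⟩ := monotone_stabilizes_iff_noetherian.2 (inferInstance : IsNoetherian A (H m₁)) f
  refine ⟨m₁ + d₀, fun m hm => ?_⟩
  obtain ⟨d, rfl⟩ := Nat.exists_eq_add_of_le (show m₁ ≤ m by omega)
  refine (injective_iff_map_eq_zero _).2 fun v hv => ?_
  obtain ⟨w, rfl⟩ := hc d v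
  have h1 : w ∈ f (d + 1) := hv
  rw [← hd₀ (d + 1) (by omega), hd₀ d (by omega)] at h1
  exact h1

/-- Lifts out of a finite free module. -/
theorem exists_lift_free {k : ℕ} {B C : X.Modules} (π : B ⟶ C) (h : Function.Surjective (hmap π 0))
    (g : FlatMod.freeMod X k ⟶ C) : ∃ g' : FlatMod.freeMod X k ⟶ B, g' ≫ π = g := by
  choose l hl using fun j : Fin k =>
    Groth.L22.PDual.exists_lift_section π h (Sigma.ι (fun _ : Fin k => Coh.structureModule X) j ≫ g)
  refine ⟨Sigma.desc l, Sigma.hom_ext _ _ fun j => ?_⟩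
  rw [Sigma.ι_desc_assoc]
  exact hl j

variable {𝓘 : X.IdealSheafData}

/-- The powers of an ideal against the powers of an inverse. -/
theorem nonempty_pow_tensor {L M : X.Modules} (i : CohB1.tensorMod L M ≅ Coh.structureModule X) (a c : ℕ) :
    Nonempty (CohB1.tensorMod (CohB1.tensorPow M a) (CohB1.tensorPow L (a + c)) ≅ CohB1.tensorPow L c) ∧
      Nonempty (CohB1.tensorMod (CohB1.tensorPow M (c + a)) (CohB1.tensorPow L a) ≅ CohB1.tensorPow M c) := by
  let p := Groth.L22.EnrSev.powInv i a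
  exact ⟨⟨tensorIso (Iso.refl _) (tensorPowAdd L a c).symm ≪≫ (tensorAssoc _ _ _).symm ≪≫
      tensorIso p (Iso.refl _) ≪≫ tensorUnitLeft _⟩,
    ⟨tensorIso (tensorPowAdd M c a).symm (Iso.refl _) ≪≫ tensorAssoc _ _ _ ≪≫ tensorIso (Iso.refl _) p ≪≫
      tensorUnitRight _⟩⟩

/-- `H⁰` and `H¹` of the negative twists of the zeroth level vanish. -/
def Van (T : Tower 𝓘) : Prop :=
  ∃ j₀ : ℕ, ∀ e : ℕ, j₀ ≤ e → ∀ q, q ≤ 1 →
    Subsingleton (Coh.HH X (CohB1.tensorMod (T.G 0) (CohB1.tensorPow (ClSub.idealMod 𝓘) e)) q)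

variable {L : X.Modules}

theorem isCoh_twist [IsLocallyNoetherian X] (hamp : CohB1.IsAmple L) {G : X.Modules} (hG : Coh.IsCoh G) (m : ℕ) :
    Coh.IsCoh (CohB1.tensorMod G (CohB1.tensorPow L m)) :=
  Groth.L03.Euler.isCoh_tensor (Groth.L18.Ample.isInvertible_tensorPow hamp.1 m) hG

/-- Compatible families from a stable level on. -/
theorem exists_family (T : Tower 𝓘) (F : X.Modules ⥤ X.Modules) {P : X.Modules} (N : ℕ)
    (hlift : ∀ n, N ≤ n → ∀ g : P ⟶ F.obj (T.G n), ∃ g' : P ⟶ F.obj (T.G (n + 1)), g' ≫ F.map (T.tr n) = g)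
    (σN : P ⟶ F.obj (T.G N)) :
    ∃ σ : ∀ n, P ⟶ F.obj (T.G n), (∀ n, σ (n + 1) ≫ F.map (T.tr n) = σ n) ∧
      σ 0 = σN ≫ F.map (T.tau (Nat.zero_le N)) := by
  choose step hstep using fun (d : ℕ) (σ : P ⟶ F.obj (T.G (N + d))) => hlift (N + d) (Nat.le_add_right _ _) σ
  let a : ∀ d, P ⟶ F.obj (T.G (N + d)) := fun d => Nat.rec σN (fun d σ => step d σ) d
  refine ⟨fun n => a n ≫ F.map (T.tau (Nat.le_add_left n N)), fun n => ?_, rfl⟩
  show (a (n + 1) ≫ F.map (T.tau _)) ≫ _ = a n ≫ _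
  rw [Category.assoc, ← Functor.map_comp, T.tau_tr]
  conv_rhs => rw [← hstep n (a n), Category.assoc, ← Functor.map_comp]
  exact congrArg (a (n + 1) ≫ ·) (congrArg F.map (T.tau_succ (Nat.le_add_left n N)))

/-- Untwisting a compatible family. -/
theorem exists_untwist (hI : PicF.IsInvertible (ClSub.idealMod 𝓘)) (T : Tower 𝓘) {U V : X.Modules}
    (e : CohB1.tensorMod U V ≅ Coh.structureModule X) {P : X.Modules}
    (σ : ∀ n, P ⟶ (tensorRightF U).obj (T.G n)) (hσ : ∀ n, σ (n + 1) ≫ (tensorRightF U).map (T.tr n) = σ n)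
    [Epi (σ 0)] :
    ∃ ψ : ∀ n, CohB1.tensorMod P V ⟶ T.G n, (∀ n, ψ (n + 1) ≫ T.tr n = ψ n) ∧ ∀ n, Epi (ψ n) := by
  let F' := tensorRightF V
  let η := Groth.L22.PDual.invIso e
  haveI : F'.IsEquivalence := Groth.L22.PDual.isEquivalence_tensorRightF (tensorComm V U ≪≫ e)
  let ψ : ∀ n, CohB1.tensorMod P V ⟶ T.G n := fun n => F'.map (σ n) ≫ η.hom.app (T.G n)
  have hψ : ∀ n, ψ (n + 1) ≫ T.tr n = ψ n := fun n => by
    show (F'.map _ ≫ η.hom.app _) ≫ _ = F'.map _ ≫ _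
    rw [Category.assoc, ← hσ n, Functor.map_comp, Category.assoc]
    exact congrArg (F'.map (σ (n + 1)) ≫ ·) (η.hom.naturality (T.tr n)).symm
  have hψtau : ∀ n, ψ n ≫ T.tau (Nat.zero_le n) = ψ 0 := fun n => by
    induction n with
    | zero => rw [T.tau_self, Category.comp_id]
    | succ n ih =>
      rw [show T.tau (Nat.zero_le (n + 1)) = T.tr n ≫ T.tau (Nat.zero_le n) from T.tau_succ _,
        ← Category.assoc, hψ, ih]
  refine ⟨ψ, hψ, fun n => ?_⟩
  haveI : Epi (ψ n ≫ T.tau (Nat.zero_le n)) := by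
    rw [hψtau]
    exact epi_comp _ _
  exact T.epi_of_epi_zero hI n (ψ n)

variable {A : Type u} [CommRing A] [IsNoetherianRing A] [X.Over (Spec (CommRingCat.of A))]
  [IsProper (X ↘ Spec (CommRingCat.of A))]

include A in
/-- Every tower with vanishing negative twists is covered by the reductions of a sum of negative twists. -/
theorem exists_cover (hL : ClSub.IsInverseOf L (ClSub.idealMod 𝓘)) (hamp : CohB1.IsAmple L) (T : Tower 𝓘)
    (hvan : Van T) :
    ∃ (k m : ℕ) (ψ : ∀ n, CohB1.tensorMod (FlatMod.freeMod X k) (CohB1.tensorPow (ClSub.idealMod 𝓘) m) ⟶ T.G n),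
      (∀ n, ψ (n + 1) ≫ T.tr n = ψ n) ∧ ∀ n, Epi (ψ n) := by
  let f := X ↘ Spec (CommRingCat.of A)
  haveI : IsLocallyNoetherian X := LocallyOfFiniteType.isLocallyNoetherian f
  haveI : CompactSpace X := QuasiCompact.compactSpace_of_compactSpace f
  obtain ⟨i⟩ := id hL
  let M := ClSub.idealMod 𝓘
  have hI : PicF.IsInvertible M := Groth.L22.EnrSev.isInvertible_of_inverse hamp.1 i
  obtain ⟨j₀, hj₀⟩ := hvan
  obtain ⟨m₁, hm₁⟩ := Groth.L16.Rees.RelVanish.exists_vanishing f hamp (T.coh 0)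
  obtain ⟨n₁, hn₁⟩ := Groth.L18.Ample.exists_forall_isGloballyGenerated hamp (T.G 0) (T.coh 0)
  let E : ℕ → X.Modules ⥤ X.Modules := fun m => tensorRightF (CohB1.tensorPow L m)
  haveI hE : ∀ m, (E m).IsEquivalence := fun m => Groth.L22.PDual.isEquivalence_tensorRightF
    (tensorComm _ _ ≪≫ Groth.L22.EnrSev.powInv i m)
  haveI : ∀ m, (E m).Additive := fun m => Functor.additive_of_preserves_binary_products _
  have hJ : ∀ a, Nonempty (ClSub.idealMod (𝓘 ^ a) ≅ CohB1.tensorPow M a) := fun a =>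
    (Groth.L13.PointBlow.nonempty_idealMod_pow hI a).2
  let Sτ : ∀ n, ShortComplex X.Modules := fun n =>
    ShortComplex.mk (kernel.ι (T.tau (Nat.zero_le (n + 1)))) (T.tau (Nat.zero_le (n + 1))) (kernel.condition _)
  let St : ∀ n, ShortComplex X.Modules := fun n =>
    ShortComplex.mk (kernel.ι (T.tr n)) (T.tr n) (kernel.condition _)
  have hSτ : ∀ n, (Sτ n).ShortExact := fun n =>
    { exact := ShortComplex.exact_kernel _, mono_f := inferInstanceAs (Mono (kernel.ι _)),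
      epi_g := epi_of_sm _ (T.surjective_tau _) }
  have hSt : ∀ n, (St n).ShortExact := fun n =>
    { exact := ShortComplex.exact_kernel _, mono_f := inferInstanceAs (Mono (kernel.ι _)),
      epi_g := epi_of_sm _ (T.surj n) }
  -- the maps of first cohomology of the stable levels
  have he : ∀ m, Nonempty ((E (m + 1)).obj (Sτ (j₀ + m)).X₁ ≅ (E m).obj (T.G (j₀ + m))) := fun m => by
    obtain ⟨κ⟩ := T.nonempty_kernel_tau hI (j₀ + m)
    obtain ⟨ι₁⟩ := hJ 1
    obtain ⟨t⟩ := (nonempty_pow_tensor i 1 m).1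
    exact ⟨tensorIso (κ ≪≫ tensorComm _ _) (Iso.refl _) ≪≫ tensorAssoc _ _ _ ≪≫
      tensorIso (Iso.refl _) (tensorIso ι₁ (eqToIso (congrArg (CohB1.tensorPow L) (add_comm m 1))) ≪≫ t)⟩
  choose e he' using fun m => (⟨(he m).some, trivial⟩ :
    ∃ _e : (E (m + 1)).obj (Sτ (j₀ + m)).X₁ ≅ (E m).obj (T.G (j₀ + m)), True)
  let φ : ∀ m, (E m).obj (T.G (j₀ + m)) ⟶ (E (m + 1)).obj (T.G (j₀ + m + 1)) := fun m =>
    (e m).inv ≫ (E (m + 1)).map (Sτ (j₀ + m)).f
  let H : ℕ → Type u := fun m => Coh.HH X ((E m).obj (T.G (j₀ + m))) 1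
  let u : ∀ m, H m →ₗ[A] H (m + 1) := fun m => overLin A (hmap (φ m) 1)
  haveI : Module.Finite A (H m₁) := Groth.L16.ProperFinite.finite_HH A (isCoh_twist hamp (T.coh _) _) 1
  obtain ⟨m₂, hm₂⟩ := exists_injective_of_surjective H u m₁ fun m hm z => by
    obtain ⟨y, hy⟩ := (exact_hmap_hmap ((hSτ (j₀ + m)).map_of_exact (E (m + 1))) 1 z).1
      (@Subsingleton.elim _ (hm₁ (m + 1) (by omega) 1 one_pos) _ _)
    refine ⟨hmap (e m).hom 1 y, ?_⟩
    show hmap (φ m) 1 (hmap (e m).hom 1 y) = z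
    rw [← hmap_comp, Iso.hom_inv_id_assoc]
    exact hy
  obtain ⟨m', hm'₁, hm'₂⟩ : ∃ m', m₂ ≤ m' ∧ n₁ ≤ m' + 1 := ⟨m₂ + n₁, by omega, by omega⟩
  let m := m' + 1
  -- generators of the zeroth level
  obtain ⟨ι, p, hp⟩ := hn₁ m hm'₂
  haveI := hp
  obtain ⟨k, g, hg⟩ := Groth.L16.NegPow.exists_finite_epi (isCoh_twist hamp (T.coh 0) m) p
  -- lift to the stable level
  have hsurj : Function.Surjective (hmap ((E m).map (Sτ (j₀ + m')).g) 0) := fun y => by
    have hS := (hSτ (j₀ + m')).map_of_exact (E m)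
    refine (exact_hmap_delta hS 0 y).1 ?_
    have h0 : hmap ((E m).map (Sτ (j₀ + m')).f) 1 (Groth.L16.CohLinear.delta hS 0 y) = 0 :=
      (exact_delta_hmap hS 0 _).2 ⟨y, rfl⟩
    have h1 : u m' (hmap (e m').hom 1 (Groth.L16.CohLinear.delta hS 0 y)) = 0 := by
      show hmap (φ m') 1 _ = 0
      rw [← hmap_comp, Iso.hom_inv_id_assoc]
      exact h0
    have h2 := hm₂ m' hm'₁ (h1.trans (map_zero (u m')).symm)
    have h3 := congrArg (hmap (e m').inv 1) h2
    rwa [← hmap_comp, Iso.hom_inv_id, Groth.L16.CohLinear.hmap_id, map_zero] at h3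
  obtain ⟨σN, hσN⟩ := exists_lift_free _ hsurj g
  -- lift upwards
  let N := j₀ + m' + 1
  have hup : ∀ n, N ≤ n → Function.Surjective (hmap ((E m).map (St n).g) 0) := fun n hn y => by
    have hS := (hSt n).map_of_exact (E m)
    refine (exact_hmap_delta hS 0 y).1 (@Subsingleton.elim _ ?_ _ _)
    obtain ⟨κ⟩ := T.nonempty_kernel_tr hI n
    obtain ⟨c, hc⟩ := Nat.exists_eq_add_of_le (show m ≤ n + 1 by omega)
    obtain ⟨ι₁⟩ := hJ (n + 1)
    obtain ⟨t⟩ := (nonempty_pow_tensor i m c).2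
    refine Groth.L22.EnrSev.subsingleton_of_iso ?_ 1 (hj₀ c (by omega) 1 le_rfl)
    exact (tensorIso (κ ≪≫ tensorComm _ _) (Iso.refl _) ≪≫ tensorAssoc _ _ _ ≪≫ tensorIso (Iso.refl _)
      (tensorIso (ι₁ ≪≫ eqToIso (congrArg (CohB1.tensorPow M) (hc.trans (add_comm m c)))) (Iso.refl _) ≪≫ t)).symm
  obtain ⟨σ, hσ, hσ0⟩ := exists_family T (E m) N (fun n hn σ => exists_lift_free _ (hup n hn) σ) σN
  haveI : Epi (σ 0) := by
    rw [hσ0]
    exact hσN.symm ▸ hg
  obtain ⟨ψ, hψ⟩ := exists_untwist hI T (tensorComm _ _ ≪≫ Groth.L22.EnrSev.powInv i m) σ hσ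
  exact ⟨k, m, ψ, hψ⟩

end Groth.L18.LefTower
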