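import Groth.Agent.L18.LefFormal
import Groth.Agent.L18.AffineApps
import Groth.Agent.L07.RefExtend.Basic

/-!
# Extending the comparison of homomorphisms from an open subscheme
-/

set_option autoImplicit false
set_option linter.style.haveILetI false
set_option linter.unusedSectionVars false
set_option backward.isDefEq.respectTransparency.types false
set_option backward.isDefEq.respectTransparency false
universe u

open CategoryTheory CategoryTheory.Limits AlgebraicGeometry Opposite TopologicalSpace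

noncomputable section

namespace Groth.L18.LefExtend

variable {X : Scheme.{u}}

theorem isIso_unitToPush_of_bijective (U : X.Opens)
    (h : Groth.L21.Extend.SupportedOn (Coh.structureModule X) U) : IsIso (ClSub.unitToPush U.ι) := by
  rw [Scheme.Modules.Hom.isIso_iff_isIso_app]
  intro V
  rw [ConcreteCategory.isIso_iff_bijective]
  show Function.Bijective (U.ι.app V)
  rw [Scheme.Opens.ι_app]
  have key : ∀ {b : X.Opens}, b = V ⊓ U → ∀ hb : b ≤ V,
      Function.Bijective (X.presheaf.map (homOfLE hb).op) := by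
    intro b e hb
    subst e
    exact h V
  exact key (by rw [Scheme.Hom.image_preimage_eq_opensRange_inf, Scheme.Opens.opensRange_ι, inf_comm]) _

theorem isIso_unitToPush {Z Z' : Scheme.{u}} (τ : Z ⟶ Z') [IsIso τ] : IsIso (ClSub.unitToPush τ) := by
  rw [Scheme.Modules.Hom.isIso_iff_isIso_app]
  intro V
  rw [ConcreteCategory.isIso_iff_bijective]
  exact ConcreteCategory.bijective_of_isIso (τ.app V)

/-- The thickenings of the trace on an open containing the support. -/
theorem exists_thickeningIso (𝓙 : X.IdealSheafData) (U : X.Opens) (hU : (𝓙.support : Set X) ⊆ (U : Set X)) (n : ℕ) :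
    ∃ τ : ((𝓙.comap U.ι) ^ (n + 1)).subscheme ≅ (𝓙 ^ (n + 1)).subscheme,
      τ.hom ≫ (𝓙 ^ (n + 1)).subschemeι = ((𝓙.comap U.ι) ^ (n + 1)).subschemeι ≫ U.ι := by
  let i := (𝓙 ^ (n + 1)).subschemeι
  have hr : Set.range i ⊆ Set.range U.ι := by
    rw [Scheme.Opens.range_ι, Groth.L18.LefConnected.range_pow]
    exact hU
  let l : (𝓙 ^ (n + 1)).subscheme ⟶ (U : Scheme.{u}) := IsOpenImmersion.lift U.ι i hr
  have hl : l ≫ U.ι = i := IsOpenImmersion.lift_fac _ _ _
  have sq : IsPullback l (𝟙 _) U.ι i :=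
    IsPullback.of_isLimit' ⟨by rw [hl, Category.id_comp]⟩
      (PullbackCone.IsLimit.mk _ (fun t => t.snd)
        (fun t => by rw [← cancel_mono U.ι, Category.assoc, hl]; exact t.condition.symm)
        (fun t => Category.comp_id _) (fun t m _ hm => by rw [Category.comp_id] at hm; exact hm))
  haveI : IsClosedImmersion l := by
    haveI : IsClosedImmersion (pullback.fst U.ι i) := inferInstance
    rw [← sq.isoPullback_hom_fst]
    infer_instance
  have hk : l.ker = (((𝓙.comap U.ι) ^ (n + 1)).subschemeι).ker := by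
    rw [Scheme.IdealSheafData.ker_subschemeι, ← Groth.L17.Thick.comap_pow, ← sq.isoPullback_hom_fst,
      Scheme.Hom.ker_comp_of_isIso, Scheme.IdealSheafData.ker_fst_of_isClosedImmersion,
      Scheme.IdealSheafData.ker_subschemeι]
  haveI := IsClosedImmersion.isIso_lift _ _ hk
  refine ⟨asIso (IsClosedImmersion.lift l ((𝓙.comap U.ι) ^ (n + 1)).subschemeι hk.le), ?_⟩
  rw [asIso_hom, show (𝓙 ^ (n + 1)).subschemeι = i from rfl, ← hl, ← Category.assoc, IsClosedImmersion.lift_fac]

/-- The quotients are the direct images of those on the open. -/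
theorem exists_omega (𝓙 : X.IdealSheafData) (U : X.Opens) (hU : (𝓙.support : Set X) ⊆ (U : Set X)) (n : ℕ) :
    ∃ ω : ClSub.quotMod (𝓙 ^ (n + 1)) ≅
        (Scheme.Modules.pushforward U.ι).obj (ClSub.quotMod ((𝓙.comap U.ι) ^ (n + 1))),
      ClSub.toSubscheme (𝓙 ^ (n + 1)) ≫ ω.hom =
        ClSub.unitToPush U.ι ≫ (Scheme.Modules.pushforward U.ι).map (ClSub.toSubscheme ((𝓙.comap U.ι) ^ (n + 1))) := by
  obtain ⟨τ, hτ⟩ := exists_thickeningIso 𝓙 U hU n
  let i := (𝓙 ^ (n + 1)).subschemeι
  let i' := ((𝓙.comap U.ι) ^ (n + 1)).subschemeι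
  haveI := isIso_unitToPush τ.hom
  let α : ClSub.quotMod (𝓙 ^ (n + 1)) ≅ (Scheme.Modules.pushforward (i' ≫ U.ι)).obj (Coh.structureModule _) :=
    (Scheme.Modules.pushforward i).mapIso (asIso (ClSub.unitToPush τ.hom)) ≪≫
      (Scheme.Modules.pushforwardComp τ.hom i).app _ ≪≫ (Scheme.Modules.pushforwardCongr hτ).app _
  let β : (Scheme.Modules.pushforward U.ι).obj (ClSub.quotMod ((𝓙.comap U.ι) ^ (n + 1))) ≅
      (Scheme.Modules.pushforward (i' ≫ U.ι)).obj (Coh.structureModule _) :=
    (Scheme.Modules.pushforwardComp i' U.ι).app _ ≪≫ (Scheme.Modules.pushforwardCongr rfl).app _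
  refine ⟨α ≪≫ β.symm, ?_⟩
  have h1 : ClSub.toSubscheme (𝓙 ^ (n + 1)) ≫ α.hom = ClSub.unitToPush (i' ≫ U.ι) :=
    Groth.L18.LefConnected.unitToPush_comp τ.hom i (i' ≫ U.ι) hτ.symm
  have h2 : (ClSub.unitToPush U.ι ≫ (Scheme.Modules.pushforward U.ι).map (ClSub.toSubscheme ((𝓙.comap U.ι) ^ (n + 1)))) ≫ β.hom =
      ClSub.unitToPush (i' ≫ U.ι) :=
    (Category.assoc _ _ _).trans (Groth.L18.LefConnected.unitToPush_comp i' U.ι (i' ≫ U.ι) rfl)
  rw [Iso.trans_hom, Iso.symm_hom, ← Category.assoc, h1, ← h2, Category.assoc, Iso.hom_inv_id, Category.comp_id]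

/-- Homomorphisms on the open are those out of an extension, when functions extend. -/
theorem homToFormalBijective_restrict (𝓙 : X.IdealSheafData) (U : X.Opens) (hU : (𝓙.support : Set X) ⊆ (U : Set X))
    [IsIso (ClSub.unitToPush U.ι)] {G : X.Modules} (h : Lef.HomToFormalBijective 𝓙 G) :
    Lef.HomToFormalBijective (𝓙.comap U.ι) (G.restrict U.ι) := by
  choose ω hω using exists_omega 𝓙 U hU
  let adj := Scheme.Modules.restrictAdjunction U.ι
  let P := Scheme.Modules.pushforward U.ι
  let u := ClSub.unitToPush U.ι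
  let t' := fun n => ClSub.toSubscheme ((𝓙.comap U.ι) ^ (n + 1))
  have hq : ∀ n, (ω (n + 1)).hom ≫ P.map (Lef.quotMap (Lef.pow_succ_le (𝓙.comap U.ι) n)) =
      Lef.quotMap (Lef.pow_succ_le 𝓙 n) ≫ (ω n).hom := fun n => by
    haveI := Groth.L18.AffineCrit.epi_toSubscheme (𝓙 ^ (n + 1 + 1))
    rw [← cancel_epi (ClSub.toSubscheme (𝓙 ^ (n + 1 + 1))), ← Category.assoc, hω, Category.assoc, ← Functor.map_comp,
      Groth.L18.LefConnected.toSubscheme_quotMap, ← Category.assoc,
      Groth.L18.LefConnected.toSubscheme_quotMap, hω]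
  have hnat : ∀ {M N : (U : Scheme.{u}).Modules} (f : G.restrict U.ι ⟶ M) (g : M ⟶ N),
      adj.homEquiv _ _ (f ≫ g) = adj.homEquiv _ _ f ≫ P.map g := fun f g => adj.homEquiv_naturality_right f g
  refine ⟨fun φ ψ hφψ => ?_, fun y hy => ?_⟩
  · refine (adj.homEquiv _ _).injective ?_
    rw [← cancel_mono (inv u)]
    refine h.1 _ _ fun n => ?_
    simp only [← cancel_mono (ω n).hom, Category.assoc, hω]
    simp only [u, IsIso.inv_hom_id_assoc]
    erw [← hnat, ← hnat]
    exact congrArg _ (hφψ n)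
  · let Y : ∀ n, G ⟶ ClSub.quotMod (𝓙 ^ (n + 1)) := fun n => adj.homEquiv _ _ (y n) ≫ (ω n).inv
    obtain ⟨Φ, hΦ⟩ := h.2 Y fun n => by
      rw [← cancel_mono (ω n).hom, Category.assoc, ← hq, Category.assoc, Iso.inv_hom_id_assoc, ← hnat, hy n,
        Category.assoc, Iso.inv_hom_id, Category.comp_id]
    refine ⟨(adj.homEquiv _ _).symm (Φ ≫ u), fun n => (adj.homEquiv _ _).injective ?_⟩
    rw [hnat, Equiv.apply_symm_apply, Category.assoc, ← hω, ← Category.assoc, hΦ, Category.assoc, Iso.inv_hom_id,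
      Category.comp_id]

end Groth.L18.LefExtend
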