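import Groth.Agent.L18.PicWittTower
import Groth.Agent.L10.TopCoh

/-!
# The ideal of one thickening in the next, for a regular element
-/

set_option autoImplicit false
set_option linter.style.haveILetI false
set_option linter.unusedSectionVars false
set_option backward.isDefEq.respectTransparency.types false
set_option backward.isDefEq.respectTransparency false
universe u

open CategoryTheory CategoryTheory.Limits AlgebraicGeometry Opposite TopologicalSpace
open Groth.L10.UnitsThick
open Groth.L16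
open AffineBC (scal)

noncomputable section

namespace Groth.L18.LocPic

variable {A : Type u} [CommRing A]

/-- An element of the base, as a function. -/
def el {P : Scheme.{u}} (h : P ⟶ Spec (CommRingCat.of A)) (U : P.Opens) (a : A) : Γ(P, U) :=
  (h.appLE ⊤ U (le_of_le_of_eq le_top (Scheme.Hom.preimage_top _).symm)).hom
    ((Scheme.ΓSpecIso (CommRingCat.of A)).inv a)

theorem el_res {P : Scheme.{u}} (h : P ⟶ Spec (CommRingCat.of A)) {U V : P.Opens} (i : V ⟶ U) (a : A) :
    P.presheaf.map i.op (el h U a) = el h V a :=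
  congr($(h.appLE_map (le_of_le_of_eq le_top (Scheme.Hom.preimage_top _).symm) i.op)
    ((Scheme.ΓSpecIso (CommRingCat.of A)).inv a))

theorem app_el {P Q : Scheme.{u}} (e : Q ⟶ P) (h : P ⟶ Spec (CommRingCat.of A)) (U : P.Opens) (a : A) :
    e.app U (el h U a) = el (e ≫ h) (e ⁻¹ᵁ U) a := by
  rw [el, el, ← Scheme.Hom.appLE_comp_appLE e h ⊤ U (e ⁻¹ᵁ U)
    (le_of_le_of_eq le_top (Scheme.Hom.preimage_top _).symm) le_rfl, Scheme.Hom.appLE_eq_app]
  rfl

variable (f : A)

local notation "II" => (Ideal.span (singleton f) : Ideal A)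

theorem ker_ideal_of_cart {P Q : Scheme.{u}} (h : P ⟶ Spec (CommRingCat.of A)) (e : Q ⟶ P) {n : ℕ}
    (π : Q ⟶ Spec (CommRingCat.of (A ⧸ II ^ (n + 1))))
    (hc : IsPullback e π h (CohB1.specQuot II n)) (U : P.affineOpens) :
    e.ker.ideal U = Ideal.span {el h U.1 f ^ (n + 1)} := by
  haveI := Groth.L16.Exist.Adic.isClosedImmersion_specQuot II n
  rw [Groth.L17.Thick.ker_of_isPullback hc, Groth.L18.AlgebraizeH2.ker_specQuot,
    ← Groth.L18.AlgebraizeH2.idealSpec_pow,
    Groth.L22.Ideals.comap_ideal h _ ⟨⊤, isAffineOpen_top _⟩ U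
      (le_of_le_of_eq le_top (Scheme.Hom.preimage_top _).symm),
    Groth.L17.FSheaf.idealSpec_ideal_top, Ideal.span_singleton_pow, Ideal.map_span, Ideal.map_span,
    Set.image_singleton, Set.image_singleton, map_pow, map_pow]
  rfl

variable {X : Scheme.{u}} (g : X ⟶ Spec (CommRingCat.of A))

local notation "ιₙ" => CohB1.thickι g II
local notation "tₙ" => CohB1.thickTrans g II

theorem el_pow_eq_zero (k : ℕ) (U : (CohB1.thick g II k).Opens) :
    el (ιₙ k ≫ g) U f ^ (k + 1) = 0 := by
  have hw : ιₙ k ≫ g = CohB1.thickToBase g II k ≫ CohB1.specQuot II k := pullback.condition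
  have h0 : (Ideal.Quotient.mk (II ^ (k + 1)) f) ^ (k + 1) = 0 := by
    rw [← map_pow, Ideal.Quotient.eq_zero_iff_mem]
    exact Ideal.pow_mem_pow (Ideal.mem_span_singleton_self f) _
  have h1 : el (ιₙ k ≫ g) U f = (((CohB1.thickToBase g II k).appLE ⊤ U
      (le_of_le_of_eq le_top (Scheme.Hom.preimage_top _).symm)).hom.comp
      (Scheme.ΓSpecIso (CommRingCat.of (A ⧸ II ^ (k + 1)))).inv.hom) (Ideal.Quotient.mk (II ^ (k + 1)) f) := by
    have hn := ConcreteCategory.congr_hom (Scheme.ΓSpecIso_inv_naturality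
      (CommRingCat.ofHom (Ideal.Quotient.mk (II ^ (k + 1))))) f
    rw [el]
    simp only [hw]
    rw [← Scheme.Hom.appLE_comp_appLE (CohB1.thickToBase g II k) (CohB1.specQuot II k) ⊤ ⊤ U le_top
      (le_of_le_of_eq le_top (Scheme.Hom.preimage_top _).symm)]
    show ((CohB1.thickToBase g II k).appLE ⊤ U _).hom (((CohB1.specQuot II k).appLE ⊤ ⊤ _).hom _) = _
    rw [show (CohB1.specQuot II k).appLE ⊤ ⊤ le_top = (CohB1.specQuot II k).appTop from
      Scheme.Hom.appLE_eq_app _]
    exact congrArg (fun z => ((CohB1.thickToBase g II k).appLE ⊤ U _).hom z) hn.symm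
  rw [h1, ← map_pow, h0, map_zero]

theorem ker_sq (k : ℕ) : (tₙ k).ker * (tₙ k).ker = ⊥ := by
  refine Scheme.IdealSheafData.ext (funext fun U => ?_)
  show (tₙ k).ker.ideal U * (tₙ k).ker.ideal U = _
  rw [ker_ideal_of_cart f (ιₙ (k + 1) ≫ g) (tₙ k) _
      (Groth.L18.PicWitt.cart_thick g II _ (Groth.L18.PicWitt.thickTrans_ι g II k)) U,
    Ideal.span_singleton_mul_span_singleton, ← pow_add]
  obtain ⟨d, hd⟩ := Nat.exists_eq_add_of_le (show k + 1 + 1 ≤ k + 1 + (k + 1) by omega)
  rw [hd, pow_add, el_pow_eq_zero, zero_mul, Ideal.span_singleton_zero]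
  rfl

variable [IsNoetherianRing A] [IsLocallyNoetherian X]

/-- If `H²(X, O/f) = 0`, the ideal of a thickening in the next has no second cohomology. -/
theorem subsingleton_H2_ideal (hreg : ∀ W : X.Opens, IsAffineOpen W → IsRegular (el g W f))
    (h : letI : X.Over (Spec (CommRingCat.of A)) := ⟨g⟩
      Subsingleton (Coh.HH X (Formal.modPow II 1 (Coh.structureModule X)) 2)) (k : ℕ) :
    Subsingleton (Coh.HH (CohB1.thick g II (k + 1)) (ClSub.idealMod (tₙ k).ker) 2) := by
  letI : X.Over (Spec (CommRingCat.of A)) := ⟨g⟩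
  have hscal : ∀ W : X.Opens, scal A X W f = el g W f := fun W => rfl
  have hO : Coh.IsCoh (Coh.structureModule X) :=
    ProperFinite.isCoh_of_isInvertible (Groth.L18.Ample.isInvertible_structureModule X)
  haveI := Groth.L18.PicWitt.isClosedImmersion_thickι g II
  haveI : IsClosedImmersion (tₙ k ≫ ιₙ (k + 1)) := by rw [Groth.L18.PicWitt.thickTrans_ι]; infer_instance
  haveI : IsClosedImmersion (tₙ k) := IsClosedImmersion.of_comp (tₙ k) (ιₙ (k + 1))
  let K := (tₙ k).ker
  let ι := ιₙ (k + 1)
  let J : CohTop.Ab X.toTopCat := (CohTop.push ι.base).obj (Coh.toAb (ClSub.idealMod K))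
  have hK : ∀ U : (CohB1.thick g II (k + 1)).affineOpens,
      K.ideal U = Ideal.span {el (ι ≫ g) U.1 f ^ (k + 1)} := fun U =>
    ker_ideal_of_cart f (ι ≫ g) (tₙ k) _
      (Groth.L18.PicWitt.cart_thick g II _ (Groth.L18.PicWitt.thickTrans_ι g II k)) U
  have hι : ∀ W : X.affineOpens, ι.ker.ideal W = Ideal.span {el g W.1 f ^ (k + 1 + 1)} := fun W =>
    ker_ideal_of_cart f g ι _ (IsPullback.of_hasPullback g (CohB1.specQuot II (k + 1))) W
  have hmem : ∀ (V : X.Opens) (x : Γ(X, V)), K.subschemeι.app (ι ⁻¹ᵁ V) (ι.app V (el g V f ^ (k + 1) * x)) = 0 := by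
    intro V x
    refine app_eq_zero_of_local _ fun W i hW => ?_
    rw [← RingHom.mem_ker, K.ker_subschemeι_app ⟨W, hW⟩, hK ⟨W, hW⟩, map_mul, map_pow, app_el]
    show (CohB1.thick g II (k + 1)).presheaf.map i.op (_ * _) ∈ _
    rw [map_mul, map_pow, el_res]
    exact Ideal.mul_mem_right _ _ (Ideal.subset_span rfl)
  choose cm hcm using fun V x => ((Groth.L18.IdealModule.exact_sections K (ι ⁻¹ᵁ V)).2 _).1 (hmem V x)
  have hinj : ∀ (U : (CohB1.thick g II (k + 1)).Opens), Function.Injective ((ClSub.idealModι K).app U) :=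
    fun U => (Groth.L18.IdealModule.exact_sections K U).1
  let c : Coh.toAb (Coh.structureModule X) ⟶ J := ⟨
    { app := fun V => AddCommGrpCat.ofHom (AddMonoidHom.mk' (fun x => cm V.unop x) fun x y => hinj _ (by
        refine (hcm V.unop (x + y)).trans ?_
        rw [mul_add, map_add]
        exact ((map_add _ _ _).trans (congrArg₂ (· + ·) (hcm V.unop x) (hcm V.unop y))).symm))
      naturality := fun {V W} i => by
        ext (x : Γ(X, V.unop))
        refine hinj _ ((hcm W.unop _).trans ?_)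
        refine Eq.trans ?_ (congr($((ClSub.idealModι K).mapPresheaf.naturality ((Opens.map ι.base).map i.unop).op)
          (cm V.unop x))).symm
        refine Eq.trans ?_ (congrArg ((CohB1.thick g II (k + 1)).presheaf.map ((Opens.map ι.base).map i.unop).op)
          (hcm V.unop x)).symm
        refine Eq.trans ?_ (app_rf ι i.unop _)
        refine congrArg (ι.app W.unop) ?_
        show _ * X.presheaf.map i x = X.presheaf.map i (_ * x)
        rw [map_mul, map_pow]
        exact congrArg (fun t => t ^ (k + 1) * X.presheaf.map i x) (el_res g i.unop f).symm }⟩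
  let η : Coh.toAb (Coh.structureModule X) ⟶ Coh.toAb (Formal.modPow II 1 (Coh.structureModule X)) :=
    (SheafOfModules.toSheaf _).map (Formal.modPowπ II 1 (Coh.structureModule X))
  have hspec := fun W hW => (Groth.L16.HomSh.modPow_spec II hO 1).2 W hW
  haveI : Epi η := by
    refine epi_of_local_lift _ fun V s x hx => ?_
    obtain ⟨W, hW, hxW, ⟨i⟩⟩ := exists_affine (X := X) hx
    obtain ⟨t, ht⟩ := (hspec W hW).1 ((Formal.modPow II 1 (Coh.structureModule X)).presheaf.map i.op s)
    exact ⟨W, hxW, i, t, ht⟩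
  haveI : Epi c := by
    refine epi_of_local_lift _ fun V s x hx => ?_
    obtain ⟨W, hW, hxW, ⟨i⟩⟩ := exists_affine (X := X) hx
    let s' : Γ(ClSub.idealMod K, ι ⁻¹ᵁ W) := (ClSub.idealMod K).presheaf.map ((Opens.map ι.base).map i).op s
    have hs := (Groth.L18.IdealModule.mem_ideal_iff K (hW.preimage ι) _).2 ⟨s', rfl⟩
    rw [hK, Ideal.mem_span_singleton'] at hs
    obtain ⟨y, hy⟩ := hs
    obtain ⟨y₀, rfl⟩ := ι.app_surjective W hW y
    refine ⟨W, hxW, i, y₀, hinj _ ((hcm W y₀).trans ?_)⟩
    rw [map_mul, map_pow, app_el, mul_comm]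
    exact hy
  have hker : ∀ (V : X.Opens) (x : Γ(X, V)),
      (Formal.modPowπ II 1 (Coh.structureModule X)).app V x = 0 ↔ ι.app V (el g V f ^ (k + 1) * x) = 0 := by
    have hloc : ∀ (W : X.Opens), IsAffineOpen W → ∀ x : Γ(X, W),
        ((Formal.modPowπ II 1 (Coh.structureModule X)).app W x = 0 ↔ ι.app W (el g W f ^ (k + 1) * x) = 0) := by
      intro W hW x
      rw [(hspec W hW).2 x]
      show x ∈ (Ideal.map (scal A X W) II ^ 1) • (⊤ : Submodule Γ(X, W) Γ(X, W)) ↔ _
      rw [← RingHom.mem_ker, ← Scheme.Hom.ker_apply ι ⟨W, hW⟩, hι ⟨W, hW⟩, pow_one,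
        Ideal.map_span, Set.image_singleton, hscal, smul_eq_mul, Ideal.mul_top, Ideal.mem_span_singleton,
        Ideal.mem_span_singleton, pow_succ (el g W f) (k + 1)]
      constructor
      · exact fun h => mul_dvd_mul_left _ h
      · rintro ⟨d, hd⟩
        exact ⟨d, ((hreg W hW).pow (k + 1)).left (by rw [mul_assoc] at hd; exact hd)⟩
    intro V x
    constructor
    · intro hx
      refine app_eq_zero_of_local ι fun W i hW => ?_
      show ι.app W (X.presheaf.map i.op _) = 0
      rw [map_mul, map_pow, el_res]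
      refine (hloc W hW _).1 ?_
      refine (congr($((Formal.modPowπ II 1 (Coh.structureModule X)).mapPresheaf.naturality i.op) x)).trans ?_
      exact (congrArg ((Formal.modPow II 1 (Coh.structureModule X)).presheaf.map i.op).hom hx).trans (map_zero _)
    · intro hx
      refine eq_of_locally (F := Coh.toAb (Formal.modPow II 1 (Coh.structureModule X))) (V := V)
        (s := (Formal.modPowπ II 1 (Coh.structureModule X)).app V x) (t := 0) fun y hy => ?_
      obtain ⟨W, hW, hyW, ⟨i⟩⟩ := exists_affine (X := X) hy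
      refine ⟨W, hyW, i, ?_⟩
      rw [map_zero]
      refine (congr($((Formal.modPowπ II 1 (Coh.structureModule X)).mapPresheaf.naturality i.op) x)).symm.trans
        ((hloc W hW _).2 ?_)
      have h1 := congrArg (fun t => (CohB1.thick g II (k + 1)).presheaf.map ((Opens.map ι.base).map i).op t) hx
      rw [← app_rf, map_zero] at h1
      rw [← el_res g i f, ← map_pow]
      exact (congrArg _ (map_mul _ _ _).symm).trans h1
  obtain ⟨e⟩ := nonempty_iso_of_epi η c fun V x => (hker V x).trans
    ⟨fun h => hinj _ ((hcm V x).trans (h.trans (map_zero _).symm)),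
      fun h => (hcm V x).symm.trans
        ((congrArg ((ClSub.idealModι K).app (ι ⁻¹ᵁ V)).hom h).trans (map_zero _))⟩
  have hJ : Subsingleton (CohTop.H J 2) :=
    @Equiv.subsingleton _ _ ((Sheaf.functorH _ 2).mapIso e.symm).addCommGroupIsoToAddEquiv.toEquiv h
  obtain ⟨e'⟩ := Groth.L10.TopCoh.nonempty_H_push ι.base (Coh.toAb (ClSub.idealMod K))
    (Groth.L10.TopCoh.locAcyclic_of_isClosedEmbedding _ ι.isClosedEmbedding _) 2
  exact @Equiv.subsingleton _ _ e'.toEquiv hJ

end Groth.L18.LocPic
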