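import Groth.Agent.L19.LimMod.Descend
import Groth.Agent.L05.NbhdLimit.Basic
import Groth.Agent.L15.Ref.FreeLocus
import Groth.Agent.L21.Extend.Split
import Groth.Agent.L18.LocPicLevels
import Groth.Prelude.Def_Formal2

/-!
# Triviality on a punctured local spectrum spreads to a punctured neighbourhood
-/

set_option autoImplicit false
set_option linter.style.haveILetI false
set_option linter.unusedSectionVars false
set_option backward.isDefEq.respectTransparency.types false
set_option backward.isDefEq.respectTransparency false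
universe u

open CategoryTheory CategoryTheory.Limits AlgebraicGeometry Opposite TopologicalSpace
open Groth.L16
open Groth.L05.NbhdLimit (Idx cone toBase)
open Groth.L21.Extend (IsGen exists_gen_of_iso)

noncomputable section

namespace Groth.L18.LocPic

variable {A : Type u} [CommRing A] [IsNoetherianRing A] {p : Ideal A} [p.IsPrime]
  (R : Type u) [CommRing R] [Algebra A R] [IsLocalization.AtPrime R p]

local notation "DD" => Groth.L05.NbhdLimit.D p

theorem isOpenImmersion_map {j k : Idx p} (φ : j ⟶ k) : IsOpenImmersion ((DD).map φ) := by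
  haveI : IsOpenImmersion ((DD).map φ ≫ (toBase p).app k) := by
    rw [(toBase p).naturality φ]
    show IsOpenImmersion ((toBase p).app j ≫ 𝟙 _)
    rw [Category.comp_id]
    exact Groth.L05.NbhdLimit.toBase_isOpenImmersion p j
  haveI := Groth.L05.NbhdLimit.toBase_isOpenImmersion p k
  exact IsOpenImmersion.of_comp _ ((toBase p).app k)

variable {X : Scheme.{u}} {i : Idx p} (ρ : (Groth.L05.NbhdLimit.D p).obj i ⟶ X) [IsOpenImmersion ρ] (T : X.Opens)

/-- If all invertible modules on the punctured local spectrum are trivial, invertible modules are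
generated by one section on a punctured neighbourhood. -/
theorem exists_gen_nhd (M : X.Modules) (hM : PicF.IsInvertible ((Scheme.Modules.pullback T.ι).obj M))
    (h : Formal2.PicTrivial (↑((cone p R).π.app i ⁻¹ᵁ (ρ ⁻¹ᵁ T)) : Scheme.{u})) :
    ∃ (W : X.Opens), (∀ z : ↥((cone p R).pt), ρ.base (((cone p R).π.app i).base z) ∈ W) ∧ ∃ e : Γ(M, W ⊓ T), IsGen M (W ⊓ T) e := by
  let c := cone p R
  let V := ρ ⁻¹ᵁ T
  let L := (Scheme.Modules.pullback T.ι).obj M
  let D' := opensDiagram (DD) i V
  let c' := opensCone (DD) c i V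
  have hc' : IsLimit c' := isLimitOpensCone (DD) c (Groth.L05.NbhdLimit.isLimitCone p R) i V
  let μ : ∀ j : Over i, D'.obj j ⟶ (T : Scheme.{u}) := fun j => ((DD).map j.hom ≫ ρ).resLE T _ le_rfl
  have hμ : ∀ j, μ j ≫ T.ι = ((DD).map j.hom ⁻¹ᵁ V).ι ≫ (DD).map j.hom ≫ ρ := fun j =>
    Scheme.Hom.resLE_comp_ι _ _
  let i' : Over i := Over.mk (𝟙 i)
  haveI : IsNoetherianRing (Localization.Away i.val) :=
    IsLocalization.isNoetherianRing (Submonoid.powers i.val) _ inferInstance
  haveI : AlgebraicGeometry.IsNoetherian ((DD).obj i) :=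
    inferInstanceAs (AlgebraicGeometry.IsNoetherian (Spec (CommRingCat.of (Localization.Away i.val))))
  haveI : CompactSpace (D'.obj i') := isCompact_iff_compactSpace.1
    (NoetherianSpace.isCompact (((DD).map i'.hom ⁻¹ᵁ V : ((DD).obj i).Opens) : Set ((DD).obj i)))
  haveI : IsLocallyNoetherian ((DD).obj i'.left) := inferInstanceAs (IsLocallyNoetherian ((DD).obj i))
  haveI : IsLocallyNoetherian (D'.obj i') :=
    isLocallyNoetherian_of_isOpenImmersion (((DD).map i'.hom ⁻¹ᵁ V).ι)
  haveI : AlgebraicGeometry.IsNoetherian (D'.obj i') := {}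
  let F' := (Scheme.Modules.pullback (μ i')).obj L
  have hF' : PicF.IsInvertible F' := PicLoc.isInvertible_pullback _ hM
  have hG' : PicF.IsInvertible (Coh.structureModule (D'.obj i')) := Groth.L18.Ample.isInvertible_structureModule _
  haveI : Coh.IsQCoh F' := Groth.L21.Extend.isQCoh_of_isInvertible hF'
  haveI : Coh.IsQCoh (Coh.structureModule (D'.obj i')) := Groth.L21.Extend.isQCoh_of_isInvertible hG'
  obtain ⟨eL⟩ := h ((Scheme.Modules.pullback (c'.π.app i')).obj F') (PicLoc.isInvertible_pullback _ hF')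
  obtain ⟨j, φ, ⟨ej⟩⟩ := Groth.L19.LimMod.exists_iso D' c' hc' F' (Coh.structureModule (D'.obj i'))
    (Groth.L15.Ref.isFP_of_isCoh (ProperFinite.isCoh_of_isInvertible hF'))
    (Groth.L15.Ref.isFP_of_isCoh (ProperFinite.isCoh_of_isInvertible hG'))
    (eL ≪≫ (Groth.L29.LocFree.pullbackUnitIso _).symm)
  have hμj : D'.map φ ≫ μ i' = μ j := by
    rw [← cancel_mono T.ι, Category.assoc, hμ, hμ]
    show ((DD).map φ.left).resLE _ _ _ ≫ ((DD).map i'.hom ⁻¹ᵁ V).ι ≫ _ ≫ _ = _
    rw [Scheme.Hom.resLE_comp_ι_assoc, ← Functor.map_comp_assoc, Over.w φ]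
  haveI := isOpenImmersion_map (p := p) j.hom
  let r := ((DD).map j.hom ⁻¹ᵁ V).ι ≫ (DD).map j.hom ≫ ρ
  have er : (Scheme.Modules.pullback r).obj M ≅ Coh.structureModule (D'.obj j) :=
    (Scheme.Modules.pullbackCongr (hμ j).symm).app M ≪≫
      ((Scheme.Modules.pullbackComp (μ j) T.ι).app M).symm ≪≫
      (Scheme.Modules.pullbackCongr hμj.symm).app L ≪≫
      ((Scheme.Modules.pullbackComp (D'.map φ) (μ i')).app L).symm ≪≫ ej ≪≫
      Groth.L29.LocFree.pullbackUnitIso _
  have hO : r.opensRange = ((DD).map j.hom ≫ ρ).opensRange ⊓ T := by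
    refine Opens.ext ?_
    show Set.range r = Set.range ((DD).map j.hom ≫ ρ) ∩ (T : Set X)
    ext y
    constructor
    · rintro ⟨z, rfl⟩
      exact ⟨⟨((DD).map j.hom ⁻¹ᵁ V).ι z, rfl⟩, z.2⟩
    · rintro ⟨⟨z, rfl⟩, hz⟩
      exact ⟨⟨z, hz⟩, rfl⟩
  have he : ∃ e : Γ(M, r.opensRange), IsGen M r.opensRange e :=
    exists_gen_of_iso M ((Scheme.Modules.restrictFunctorIsoPullback r.opensRange.ι).app M ≪≫
      (Scheme.Modules.pullbackCongr r.isoOpensRange_inv_comp.symm).app M ≪≫
      ((Scheme.Modules.pullbackComp r.isoOpensRange.inv r).app M).symm ≪≫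
      (Scheme.Modules.pullback r.isoOpensRange.inv).mapIso er ≪≫ Groth.L29.LocFree.pullbackUnitIso _)
  rw [hO] at he
  refine ⟨((DD).map j.hom ≫ ρ).opensRange, fun z => ⟨c.π.app j.left z, ?_⟩, he⟩
  rw [← c.w j.hom]
  rfl

end Groth.L18.LocPic
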