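import Groth.Agent.L18.LocPicMain
import Groth.Agent.L18.LocPicSpread
import Groth.Agent.L22.PicGlue.Extension
import Mathlib.RingTheory.Ideal.KrullsHeightTheorem

/-!
# Extending invertible modules from `U ∩ V(f)` to the punctured spectrum
-/

set_option autoImplicit false
set_option linter.style.haveILetI false
set_option linter.unusedSectionVars false
set_option backward.isDefEq.respectTransparency.types false
set_option backward.isDefEq.respectTransparency false
universe u

open CategoryTheory CategoryTheory.Limits AlgebraicGeometry Opposite TopologicalSpace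
open Groth.L05.NbhdLimit (Idx cone toBase)

noncomputable section

namespace Groth.L18.LocPic

variable {A : Type u} [CommRing A] [IsNoetherianRing A] (f : A)

/-- Nothing lies strictly between a prime and a prime minimal over it and `f`. -/
theorem eq_or_eq_of_isMinimal {q r m : Ideal A} [q.IsPrime] [r.IsPrime] [hm : m.IsPrime] (hfq : f ∉ q) (hqr : q ≤ r)
    (hrm : r ≤ m) (hfm : f ∈ m) (hmin : ∀ s : Ideal A, s.IsPrime → q ≤ s → s ≤ m → f ∈ s → s = m) :
    r = q ∨ r = m := by
  by_contra! h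
  let π := Ideal.Quotient.mk q
  have hk : RingHom.ker π = q := Ideal.mk_ker
  have hqm : q ≤ m := hqr.trans hrm
  haveI : (m.map π).IsPrime := Ideal.map_isPrime_of_surjective Ideal.Quotient.mk_surjective (hk.le.trans hqm)
  haveI : (r.map π).IsPrime := Ideal.map_isPrime_of_surjective Ideal.Quotient.mk_surjective (hk.le.trans hqr)
  have hc : ∀ s : Ideal A, q ≤ s → (s.map π).comap π = s := fun s hs => by
    rw [Ideal.comap_map_of_surjective π Ideal.Quotient.mk_surjective, ← RingHom.ker_eq_comap_bot, hk, sup_eq_left]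
    exact hs
  have hmm : m.map π ∈ (Ideal.span {π f}).minimalPrimes := by
    refine ⟨⟨inferInstance, (Ideal.span_singleton_le_iff_mem _).2 (Ideal.mem_map_of_mem π hfm)⟩, fun s hs hle => ?_⟩
    haveI := hs.1
    have h1 : q ≤ s.comap π := hk.ge.trans (Ideal.comap_mono bot_le)
    have h2 : s.comap π ≤ m := (Ideal.comap_mono hle).trans (hc m hqm).le
    have h3 := hmin (s.comap π) inferInstance h1 h2 (hs.2 (Ideal.mem_span_singleton_self _))
    rw [← Ideal.map_comap_of_surjective π Ideal.Quotient.mk_surjective s, h3]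
  haveI : IsDomain (A ⧸ q) := Ideal.Quotient.isDomain q
  have hlt : r.map π < m.map π := lt_of_le_of_ne (Ideal.map_mono hrm) fun he => h.2 (by
    rw [← hc r hqr, he, hc m hqm])
  have hht := Ideal.height_le_one_of_isPrincipal_of_mem_minimalPrimes (Ideal.span {π f}) (m.map π) hmm
  haveI : (m.map π).FiniteHeight := ⟨Or.inr (ne_top_of_le_ne_top (by simp) hht)⟩
  have h0 : (r.map π).height = 0 := ENat.lt_one_iff_eq_zero.1 (lt_of_lt_of_le (Ideal.height_strict_mono_of_isPrime hlt) hht)
  rw [Ideal.height_eq_zero_iff_eq_bot, Ideal.map_eq_bot_iff_le_ker, hk] at h0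
  exact h.1 (le_antisymm h0 hqr)

variable [IsLocalRing A] [IsAdicComplete (Ideal.span {f}) A]

local notation "g₀" => Formal2.specQuotMap A f
local notation "UU" => LocCoh.puncturedOpen A (IsLocalRing.maximalIdeal A)

theorem exists_global_extension (hf : f ∈ IsLocalRing.maximalIdeal A) (hnzd : f ∈ nonZeroDivisors A)
    (h₁ : Module.Finite A (LocCoh.H (IsLocalRing.maximalIdeal A) 1 (A ⧸ Ideal.span {f})))
    (h₂ : Module.Finite A (LocCoh.H (IsLocalRing.maximalIdeal A) 2 (A ⧸ Ideal.span {f})))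
    (h₃ : Subsingleton (LocCoh.H (IsLocalRing.maximalIdeal A) 3 (A ⧸ Ideal.span {f})))
    (h₅ : ∀ (q : Ideal A) [q.IsPrime], f ∉ q → (∀ (q' : Ideal A), q'.IsPrime → q ≤ q' → f ∉ q' → q' = q) →
      Formal2.PicTrivial (↑(FEt.puncturedSpec (Localization.AtPrime q)) : Scheme.{u}))
    (L₀ : (↑(g₀ ⁻¹ᵁ UU) : Scheme.{u}).Modules) (hL₀ : PicF.IsInvertible L₀) :
    ∃ L : (↑UU : Scheme.{u}).Modules, PicF.IsInvertible L ∧
      Nonempty ((Scheme.Modules.pullback (g₀ ∣_ UU)).obj L ≅ L₀) := by
  classical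
  let U := UU
  let 𝔪 := IsLocalRing.maximalIdeal A
  let X : Scheme.{u} := U
  obtain ⟨F, T, hT, hfr, ⟨eF⟩⟩ := exists_frames_neighbourhood f 𝔪 hf hnzd h₁ h₂ h₃ L₀ hL₀
  let LT := (Scheme.Modules.pullback T.ι).obj F
  have hLT : PicF.IsInvertible LT := Groth.L18.SpecLine.isInvertible_of_frames fun y => by
    obtain ⟨W, m, hyW, hm⟩ := hfr y.1 y.2
    exact ⟨T.ι ⁻¹ᵁ W, _, hyW, hm.pullback T.ι F⟩
  let M : X.Modules := (Scheme.Modules.pushforward T.ι).obj LT
  let eM : (Scheme.Modules.pullback T.ι).obj M ≅ LT :=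
    ((Scheme.Modules.restrictFunctorIsoPullback T.ι).app M).symm ≪≫
      (asIso (Scheme.Modules.restrictAdjunction T.ι).counit).app LT
  have hM : PicF.IsInvertible ((Scheme.Modules.pullback T.ι).obj M) := fun y => by
    obtain ⟨W, hW, ⟨e⟩⟩ := hLT y
    exact ⟨W, hW, ⟨(Scheme.Modules.restrictFunctor W.ι).mapIso eM ≪≫ e⟩⟩
  -- the ideals of the points outside `T`
  let P : X → Ideal A := fun x => (show PrimeSpectrum A from U.ι x).asIdeal
  haveI hPp : ∀ x, (P x).IsPrime := fun x => (show PrimeSpectrum A from U.ι x).isPrime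
  have hPm : ∀ x, P x ≤ 𝔪 := fun x => IsLocalRing.le_maximalIdeal (hPp x).ne_top
  have hne : ∀ x, P x ≠ 𝔪 := fun x he => x.2 (le_of_eq he.symm)
  have hPinj : Function.Injective P := fun x y he =>
    U.ι.isOpenEmbedding.injective (PrimeSpectrum.ext he)
  have hmem : ∀ q : Ideal A, q.IsPrime → q ≠ 𝔪 → ∃ x, P x = q := fun q hq hqm =>
    ⟨⟨⟨q, hq⟩, fun hle => hqm ((IsLocalRing.maximalIdeal.isMaximal A).eq_of_le hq.ne_top hle).symm⟩, rfl⟩
  have hspec : ∀ x y, P x ≤ P y → x ⤳ y := fun x y hxy =>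
    U.ι.isOpenEmbedding.isInducing.specializes_iff.1 ((PrimeSpectrum.le_iff_specializes _ _).1 hxy)
  have hfT : ∀ x, f ∈ P x → x ∈ T := fun x hx => by
    have hr : (show PrimeSpectrum A from U.ι x) ∈ Set.range (PrimeSpectrum.comap (Ideal.Quotient.mk (Ideal.span {f}))) := by
      rw [range_comap_of_surjective _ _ Ideal.Quotient.mk_surjective, Ideal.mk_ker, PrimeSpectrum.mem_zeroLocus]
      exact (Ideal.span_singleton_le_iff_mem (I := P x)).2 hx
    obtain ⟨y, hy⟩ := hr
    let y' : Spec (CommRingCat.of (A ⧸ Ideal.span {f})) := y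
    have hy' : y' ∈ g₀ ⁻¹ᵁ U := by
      show (g₀) y' ∈ U
      rw [show (g₀) y' = U.ι x from hy]
      exact x.2
    have he : (g₀ ∣_ U) ⟨y', hy'⟩ = x := U.ι.isOpenEmbedding.injective (by
      show ((g₀ ∣_ U) ≫ U.ι) ⟨y', hy'⟩ = _
      rw [morphismRestrict_ι]
      exact hy)
    exact he ▸ hT _
  have hout : ∀ x, x ∉ T → f ∉ P x ∧
      (∀ q' : Ideal A, q'.IsPrime → P x ≤ q' → f ∉ q' → q' = P x) ∧
      ∀ y, y ∉ T → P y ≤ P x → y = x := by
    have key : ∀ x, x ∉ T → ∀ r : Ideal A, r.IsPrime → P x ≤ r → r = P x ∨ r = 𝔪 := fun x hx r hr hle => by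
      refine eq_or_eq_of_isMinimal f (fun h => hx (hfT x h)) hle (IsLocalRing.le_maximalIdeal hr.ne_top) hf
        fun s hs hxs _ hfs => ?_
      by_contra hsm
      obtain ⟨z, rfl⟩ := hmem s hs hsm
      exact hx ((hspec x z hxs).mem_open T.2 (hfT z hfs))
    refine fun x hx => ⟨fun h => hx (hfT x h), fun q' hq' hle hfq' => ?_, fun y hy hle => hPinj ?_⟩
    · exact (key x hx q' hq' hle).resolve_right fun he => hfq' (he ▸ hf)
    · exact ((key y hy (P x) (hPp x) hle).resolve_right (hne x)).symm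
  have hfin : {x : X | x ∉ T}.Finite := by
    obtain ⟨J, hJ⟩ := (PrimeSpectrum.isClosed_iff_zeroLocus_ideal
      ((show Set (PrimeSpectrum A) from U.ι '' (T : Set X))ᶜ)).1
        (U.ι.isOpenEmbedding.isOpenMap _ T.2).isClosed_compl
    have hJ' : ∀ y : X, y ∉ T ↔ J ≤ P y := fun y => by
      have h := Set.ext_iff.1 hJ (U.ι y)
      rw [PrimeSpectrum.mem_zeroLocus, Set.mem_compl_iff, U.ι.isOpenEmbedding.injective.mem_set_image] at h
      exact h
    refine ((Ideal.finite_minimalPrimes_of_isNoetherianRing A J).preimage hPinj.injOn).subset fun x hx => ?_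
    refine ⟨⟨hPp x, (hJ' x).1 hx⟩, fun s hs hle => ?_⟩
    obtain ⟨y, rfl⟩ := hmem s hs.1 fun he => hne x (le_antisymm (hPm x) (he ▸ hle))
    rw [(hout x hx).2.2 y ((hJ' y).2 hs.2) hle]
  -- generators on punctured neighbourhoods
  have hgen : ∀ x, x ∉ T → ∃ (W : X.Opens), x ∈ W ∧ ∃ e : Γ(M, W ⊓ T), Groth.L21.Extend.IsGen M (W ⊓ T) e := by
    intro x hx
    obtain ⟨hfx, hmax, huniq⟩ := hout x hx
    let i : Idx (P x) := ⟨f, hfx⟩
    haveI := Groth.L05.NbhdLimit.toBase_isOpenImmersion (P x) i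
    let t := (toBase (P x)).app i
    have hrange : Set.range t ⊆ Set.range U.ι := by
      rintro _ ⟨z, rfl⟩
      rw [Scheme.Opens.range_ι]
      intro hle
      have hz : t z ∈ (PrimeSpectrum.basicOpen f : Set (PrimeSpectrum A)) := by
        rw [← PrimeSpectrum.localization_away_comap_range (Localization.Away i.val) f]
        exact ⟨z, rfl⟩
      exact hz (hle hf)
    let ρ : (Groth.L05.NbhdLimit.D (P x)).obj i ⟶ X := IsOpenImmersion.lift U.ι t hrange
    have hρ : ρ ≫ U.ι = t := IsOpenImmersion.lift_fac _ _ _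
    haveI : IsOpenImmersion (ρ ≫ U.ι) := by rw [hρ]; infer_instance
    haveI : IsOpenImmersion ρ := IsOpenImmersion.of_comp ρ U.ι
    let R := Localization.AtPrime (P x)
    have hP : ∀ z, P (ρ ((cone (P x) R).π.app i z)) =
        (show PrimeSpectrum R from z).asIdeal.comap (algebraMap A R) := fun z => by
      show (show PrimeSpectrum A from ((cone (P x) R).π.app i ≫ ρ ≫ U.ι) z).asIdeal = _
      rw [hρ, Groth.L05.NbhdLimit.cone_π_toBase]
      rfl
    have hcl : ∀ z : PrimeSpectrum R, z.asIdeal.comap (algebraMap A R) = P x ↔ z = IsLocalRing.closedPoint R :=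
      fun z => by
        constructor
        · intro h
          refine PrimeSpectrum.ext ?_
          rw [← IsLocalization.map_under (P x).primeCompl R z.asIdeal]
          show Ideal.map (algebraMap A R) (z.asIdeal.comap (algebraMap A R)) = _
          rw [h]
          exact IsLocalization.AtPrime.map_eq_maximalIdeal (P x) R
        · rintro rfl
          exact Localization.AtPrime.under_maximalIdeal
    have heq : (cone (P x) R).π.app i ⁻¹ᵁ (ρ ⁻¹ᵁ T) = FEt.puncturedSpec R := by
      refine Opens.ext (Set.ext fun z => ?_)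
      show ρ ((cone (P x) R).π.app i z) ∈ T ↔ (show PrimeSpectrum R from z) ≠ IsLocalRing.closedPoint R
      constructor
      · intro hz he
        exact hx (hPinj ((hP z).trans ((hcl z).2 he)) ▸ hz)
      · intro hz
        by_contra hn
        exact hz ((hcl z).1 ((hP z).symm.trans (congrArg P (huniq _ hn (by
          rw [hP]
          exact (Ideal.comap_mono (IsLocalRing.le_maximalIdeal (show PrimeSpectrum R from z).2.ne_top)).trans
            Localization.AtPrime.under_maximalIdeal.le)))))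
    have hp5 : Formal2.PicTrivial (↑((cone (P x) R).π.app i ⁻¹ᵁ (ρ ⁻¹ᵁ T)) : Scheme.{u}) := by rw [heq]; exact h₅ (P x) hfx hmax
    have hh := exists_gen_nhd (A := A) (p := P x) R (X := X) (i := i) ρ T M hM hp5
    obtain ⟨W, hW, he⟩ := hh
    refine ⟨W, ?_, he⟩
    have := hW (IsLocalRing.closedPoint R)
    have hc0 : ((IsLocalRing.closedPoint R : PrimeSpectrum R)).asIdeal.comap (algebraMap A R) = P x :=
      (hcl (IsLocalRing.closedPoint R)).2 rfl
    have e0 : ρ ((cone (P x) R).π.app i (IsLocalRing.closedPoint R)) = x :=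
      hPinj ((hP (IsLocalRing.closedPoint R)).trans hc0)
    rw [← e0]
    exact this
  choose W hxW e he using fun x : {x : X // x ∉ T} => hgen x.1 x.2
  let Ω : {x : X // x ∉ T} → X.Opens := fun x =>
    ⟨(closure ({y : X | y ∉ T} \ {x.1}))ᶜ, isClosed_closure.isOpen_compl⟩
  have hΩ : ∀ x, x.1 ∈ Ω x := fun x hc => by
    rw [← Set.biUnion_of_singleton ({y : X | y ∉ T} \ {x.1}), (hfin.sdiff).closure_biUnion] at hc
    obtain ⟨y, ⟨hyT, hyx⟩, hy⟩ := Set.mem_iUnion₂.1 hc
    have hs : y ⤳ x.1 := specializes_iff_mem_closure.2 hy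
    exact hyx ((hout x.1 x.2).2.2 y hyT ((PrimeSpectrum.le_iff_specializes _ _).2 (hs.map U.ι.continuous)))
  have hres : ∀ x, Groth.L21.Extend.IsGen M ((W x ⊓ Ω x) ⊓ T)
      (Groth.L21.Extend.rs M (inf_le_inf_right T inf_le_left) (e x)) := fun x => (he x).restrict M _
  let D : Groth.L22.PicGlue.ExtInput T M :=
    { κ := {x : X // x ∉ T}
      N := fun x => W x ⊓ Ω x
      e := fun x => Groth.L21.Extend.rs M (inf_le_inf_right T inf_le_left) (e x)
      isGen := hres
      inter := fun k l hkl y hy => by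
        by_contra hyT
        have hk : y = k.1 := by
          by_contra hne'
          exact hy.1.2 (subset_closure ⟨hyT, hne'⟩)
        have hl : y = l.1 := by
          by_contra hne'
          exact hy.2.2 (subset_closure ⟨hyT, hne'⟩)
        exact hkl (Subtype.ext (hk.symm.trans hl))
      cover := fun x hx => ⟨⟨x, hx⟩, hxW ⟨x, hx⟩, hΩ ⟨x, hx⟩⟩ }
  have hgT := Groth.L21.Extend.genOn_pushforward LT hLT
  have hs := Groth.L21.Extend.supportedOn_pushforward (le_refl T) LT
  obtain ⟨eE⟩ := Groth.L22.PicGlue.nonempty_iso_restrict hgT D hs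
  refine ⟨Groth.L22.PicGlue.extension hgT D, Groth.L22.PicGlue.isInvertible_extension hgT D, ⟨?_⟩⟩
  have hrT : Set.range (g₀ ∣_ U) ⊆ Set.range T.ι := by
    rw [Scheme.Opens.range_ι]
    rintro _ ⟨y, rfl⟩
    exact hT y
  have hτ := IsOpenImmersion.lift_fac T.ι (g₀ ∣_ U) hrT
  let τ := IsOpenImmersion.lift T.ι (g₀ ∣_ U) hrT
  exact (Scheme.Modules.pullbackCongr hτ.symm).app _ ≪≫ ((Scheme.Modules.pullbackComp τ T.ι).app _).symm ≪≫
    (Scheme.Modules.pullback τ).mapIso (((Scheme.Modules.restrictFunctorIsoPullback T.ι).app _).symm ≪≫ eE ≪≫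
      (Scheme.Modules.restrictFunctorIsoPullback T.ι).app M ≪≫ eM) ≪≫
    (Scheme.Modules.pullbackComp τ T.ι).app F ≪≫ (Scheme.Modules.pullbackCongr hτ).app F ≪≫ eF

end Groth.L18.LocPic
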