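import Groth.Agent.L18.LocPicExtend
import Groth.Agent.L04.RGamma.CompleteSeparated
import Groth.Agent.L07.RegularQuotient
import Groth.Agent.L04.RegularPd
import Groth.Agent.L04.LC.Depth
import Groth.Agent.L04.Depth2
import Groth.Agent.L01.CompletionReg
import Groth.Agent.L06.QuotRegular
import Groth.Agent.L21.Extend.UFD
import Groth.Agent.S0813
import Groth.Agent.S2821
import Groth.Agent.S0564
import Groth.Agent.S0812
import Groth.Agent.S8804

/-!
# The punctured spectrum of a complete intersection of dimension at least four has trivial Picard group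
-/

set_option autoImplicit false
set_option linter.style.haveILetI false
set_option linter.unusedSectionVars false
set_option backward.isDefEq.respectTransparency.types false
set_option backward.isDefEq.respectTransparency false
universe u

open CategoryTheory CategoryTheory.Limits AlgebraicGeometry Opposite TopologicalSpace
open IsLocalRing RingTheory.Sequence

noncomputable section

namespace Groth.L18.LocPic

theorem add_natCast_cancel {a b : WithBot ℕ∞} {n : ℕ} (h : a + n = b + n) : a = b := by
  cases a with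
  | bot =>
    cases b with
    | bot => rfl
    | coe b => exact absurd h.symm WithBot.coe_ne_bot
  | coe a =>
    cases b with
    | bot => exact absurd h WithBot.coe_ne_bot
    | coe b => exact congrArg _ ((ENat.addLECancellable_natCast n).inj.1 (by
        have h' : a + n = b + n := WithBot.coe_injective h
        rwa [add_comm a, add_comm b] at h'))

theorem picTrivial_of_iso {Y Y' : Scheme.{u}} (e : Y ≅ Y') (h : Formal2.PicTrivial Y) : Formal2.PicTrivial Y' := by
  intro L hL
  obtain ⟨φ⟩ := h ((Scheme.Modules.pullback e.hom).obj L) (PicLoc.isInvertible_pullback _ hL)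
  exact ⟨((Scheme.Modules.pullbackId _).app L).symm ≪≫ (Scheme.Modules.pullbackCongr e.inv_hom_id).symm.app L ≪≫
    ((Scheme.Modules.pullbackComp e.inv e.hom).app L).symm ≪≫ (Scheme.Modules.pullback e.inv).mapIso φ ≪≫
    Groth.L29.LocFree.pullbackUnitIso _⟩

theorem preimage_punctured {A B : Type u} [CommRing A] [IsLocalRing A] [CommRing B] [IsLocalRing B] (φ : A →+* B)
    (h : ∀ P : PrimeSpectrum B, P.asIdeal.comap φ = maximalIdeal A → P.asIdeal = maximalIdeal B)
    (h' : (maximalIdeal B).comap φ = maximalIdeal A) :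
    Spec.map (CommRingCat.ofHom φ) ⁻¹ᵁ FEt.puncturedSpec A = FEt.puncturedSpec B := by
  refine Opens.ext (Set.ext fun P => ?_)
  show PrimeSpectrum.comap φ P ≠ closedPoint A ↔ (show PrimeSpectrum B from P) ≠ closedPoint B
  refine not_congr ⟨fun he => PrimeSpectrum.ext (h P (congrArg PrimeSpectrum.asIdeal he)), fun he => ?_⟩
  rw [show (show PrimeSpectrum B from P) = closedPoint B from he]
  exact PrimeSpectrum.ext h'

theorem comap_maximal_of_surjective {A B : Type u} [CommRing A] [IsLocalRing A] [CommRing B] [IsLocalRing B]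
    (φ : A →+* B) (hφ : Function.Surjective φ) :
    (maximalIdeal B).comap φ = maximalIdeal A :=
  IsLocalRing.eq_maximalIdeal (Ideal.comap_isMaximal_of_surjective φ hφ)

variable {R : Type u} [CommRing R] [IsRegularLocalRing R] {A : Type u} [CommRing A] [IsLocalRing A]
  [IsNoetherianRing A]

/-- Peeling off the last element of a regular sequence. -/
theorem split_last (rs : List R) (f : R) (hm : ∀ x ∈ rs ++ [f], x ∈ maximalIdeal R)
    (hreg : IsWeaklyRegular R (rs ++ [f])) (π : R →+* A) (hπ : Function.Surjective π)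
    (hker : RingHom.ker π = Ideal.ofList (rs ++ [f])) [IsLocalRing (R ⧸ Ideal.ofList rs)] :
    ∃ φ : R ⧸ Ideal.ofList rs →+* A, Function.Surjective φ ∧
      RingHom.ker φ = Ideal.span {Ideal.Quotient.mk _ f} ∧
      Ideal.Quotient.mk (Ideal.ofList rs) f ∈ maximalIdeal _ ∧
      IsSMulRegular (R ⧸ Ideal.ofList rs) (Ideal.Quotient.mk (Ideal.ofList rs) f) ∧ IsWeaklyRegular R rs := by
  have hle : Ideal.ofList rs ≤ RingHom.ker π := by
    rw [hker, Ideal.ofList_append]
    exact le_sup_left
  refine ⟨Ideal.Quotient.lift _ π hle, Ideal.Quotient.lift_surjective_of_surjective _ hle hπ, ?_, ?_, ?_, ?_⟩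
  · rw [Ideal.ker_quotient_lift, hker, Ideal.ofList_append, Ideal.map_sup, Ideal.map_quotient_self, bot_sup_eq,
      Ideal.ofList_singleton, Ideal.map_span, Set.image_singleton]
  · rw [← IsLocalRing.map_maximalIdeal_of_surjective (Ideal.Quotient.mk (Ideal.ofList rs)) Ideal.Quotient.mk_surjective]
    exact Ideal.mem_map_of_mem _ (hm f (by simp))
  · have h := (isWeaklyRegular_append_iff R rs [f]).1 hreg
    have h1 := (isWeaklyRegular_singleton_iff _ _).1 h.2
    intro x y hxy
    obtain ⟨x, rfl⟩ := Ideal.Quotient.mk_surjective x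
    obtain ⟨y, rfl⟩ := Ideal.Quotient.mk_surjective y
    let e : (R ⧸ (Ideal.ofList rs • ⊤ : Submodule R R)) ≃ₗ[R] R ⧸ Ideal.ofList rs :=
      Submodule.quotEquivOfEq _ _ (by rw [smul_eq_mul, Ideal.mul_top])
    have h2 := h1 (a₁ := e.symm (Ideal.Quotient.mk _ x)) (a₂ := e.symm (Ideal.Quotient.mk _ y)) (by
      show f • e.symm _ = f • e.symm _
      rw [← map_smul e.symm, ← map_smul e.symm]
      refine congrArg e.symm ?_
      rw [Algebra.smul_def, Algebra.smul_def]
      exact hxy)
    exact e.symm.injective h2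
  · exact ((isWeaklyRegular_append_iff R rs [f]).1 hreg).1

theorem isLocalRing_quot (rs : List R) (hm : ∀ x ∈ rs, x ∈ maximalIdeal R) :
    IsLocalRing (R ⧸ Ideal.ofList rs) :=
  Groth.L01.isLocalRing_quotient (ne_top_of_le_ne_top (maximalIdeal.isMaximal R).ne_top
    (Ideal.span_le.2 fun x hx => hm x hx))

theorem dim_depth : ∀ (n : ℕ) {A : Type u} [CommRing A] [IsLocalRing A] [IsNoetherianRing A] (rs : List R),
    rs.length = n → (∀ x ∈ rs, x ∈ maximalIdeal R) → IsWeaklyRegular R rs → ∀ (π : R →+* A),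
    Function.Surjective π → RingHom.ker π = Ideal.ofList rs →
    ringKrullDim A + n = ringKrullDim R ∧ LocCoh.depth A A + n = LocCoh.depth R R
  | 0, A, _, _, _, rs, hn, _, _, π, hπ, hker => by
    rw [List.length_eq_zero_iff] at hn
    subst hn
    rw [Ideal.ofList_nil] at hker
    let e := RingEquiv.ofBijective π ⟨(RingHom.injective_iff_ker_eq_bot π).2 hker, hπ⟩
    exact ⟨by rw [Nat.cast_zero, add_zero, ringKrullDim_eq_of_ringEquiv e],
      by rw [Nat.cast_zero, add_zero, Groth.L06.FlatFibre.depth_eq_of_ringEquiv e]⟩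
  | n + 1, A, _, _, _, rs, hn, hm, hreg, π, hπ, hker => by
    obtain rfl | ⟨rs, f, rfl⟩ := List.eq_nil_or_concat rs
    · simp at hn
    rw [List.concat_eq_append] at hn hm hreg hker
    haveI := isLocalRing_quot rs fun x hx => hm x (List.mem_append_left _ hx)
    obtain ⟨φ, hφ, hk, hf, hfreg, hrs⟩ := split_last rs f hm hreg π hπ hker
    obtain ⟨h1, h2⟩ := dim_depth n (A := R ⧸ Ideal.ofList rs) rs (by simpa using hn)
      (fun x hx => hm x (List.mem_append_left _ hx)) hrs _ Ideal.Quotient.mk_surjective Ideal.mk_ker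
    let e : (R ⧸ Ideal.ofList rs) ⧸ Ideal.span {Ideal.Quotient.mk (Ideal.ofList rs) f} ≃+* A :=
      (Ideal.quotEquivOfEq hk.symm).trans (RingHom.quotientKerEquivOfSurjective hφ)
    haveI : IsLocalRing ((R ⧸ Ideal.ofList rs) ⧸ Ideal.span {Ideal.Quotient.mk (Ideal.ofList rs) f}) :=
      e.symm.isLocalRing
    obtain ⟨h3, h4⟩ := Groth.L06.QuotRegular.dim_depth_succ (R ⧸ Ideal.ofList rs) hf hfreg
    rw [ringKrullDim_eq_of_ringEquiv e] at h3
    rw [← Groth.L06.FlatFibre.depth_eq_of_ringEquiv e] at h4
    constructor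
    · rw [← h1, ← h3, Nat.cast_add, Nat.cast_one, add_assoc, add_comm (1 : WithBot ℕ∞)]
    · rw [← h2, ← h4, Nat.cast_add, Nat.cast_one, add_assoc, add_comm (1 : ℕ∞)]

theorem le_depth_of_le_dim (rs : List R) (hm : ∀ x ∈ rs, x ∈ maximalIdeal R) (hreg : IsWeaklyRegular R rs)
    (π : R →+* A) (hπ : Function.Surjective π) (hker : RingHom.ker π = Ideal.ofList rs) {k : ℕ}
    (hk : (k : WithBot ℕ∞) ≤ ringKrullDim A) : (k : ℕ∞) ≤ LocCoh.depth A A := by
  obtain ⟨h1, h2⟩ := dim_depth rs.length rs rfl hm hreg π hπ hker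
  have hR := (Groth.L04.isCohenMacaulayLocalRing_of_regular R).supportDim_eq_depth
  rw [Module.supportDim_self_eq_ringKrullDim, ← h1, ← h2] at hR
  revert hR hk
  generalize ringKrullDim A = a
  generalize LocCoh.depth A A = b
  intro hk hR
  push_cast at hR
  have hb : a = (b : WithBot ℕ∞) :=
    add_natCast_cancel hR
  rw [hb] at hk
  exact WithBot.coe_le_coe.1 hk

theorem isAdicComplete_span {B : Type u} [CommRing B] (I : Ideal B) [IsAdicComplete I B] {f : B} (hf : f ∈ I) :
    IsAdicComplete (Ideal.span {f}) B where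
  haus' x hx := IsHausdorff.haus (I := I) inferInstance x fun n => by
    refine SModEq.mono (Submodule.smul_mono_left (pow_le_pow_left' ?_ n)) (hx n)
    exact (Ideal.span_singleton_le_iff_mem I).2 hf
  prec' := by
    have h := Groth.L04.RGamma.isPrecomplete_of_tzMod (A := B) (M := B) {f}
      fun g hg => Finset.mem_singleton.1 hg ▸ Groth.L04.RGamma.tzMod_of_isAdicComplete I hf
    rw [Finset.coe_singleton] at h
    exact h.prec'

section Step

variable {B : Type u} [CommRing B] [IsLocalRing B] [IsNoetherianRing B]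

/-- The Picard group of the punctured spectrum of a hyperplane section. -/
theorem picTrivial_hyperplane (f : B) [IsAdicComplete (Ideal.span {f}) B] (hf : f ∈ maximalIdeal B)
    (hfreg : IsSMulRegular B f) (φ : B →+* A) (hφ : Function.Surjective φ) (hk : RingHom.ker φ = Ideal.span {f})
    (hdepth : (5 : ℕ∞) ≤ LocCoh.depth B B) (hB : Formal2.PicTrivial (↑(FEt.puncturedSpec B) : Scheme.{u}))
    (h₅ : ∀ (q : Ideal B) [q.IsPrime], f ∉ q → (∀ (q' : Ideal B), q'.IsPrime → q ≤ q' → f ∉ q' → q' = q) →
      Formal2.PicTrivial (↑(FEt.puncturedSpec (Localization.AtPrime q)) : Scheme.{u})) :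
    Formal2.PicTrivial (↑(FEt.puncturedSpec A) : Scheme.{u}) := by
  have hnzd : f ∈ nonZeroDivisors B :=
    mem_nonZeroDivisors_iff_right.2 fun z hz => hfreg (by simpa [mul_comm] using hz : f • z = f • 0)
  have h4 : ((4 : ℕ) : ℕ∞) ≤ LocCoh.idealDepth (maximalIdeal B) (B ⧸ Ideal.span {f}) := by
    have h := Groth.L04.idealDepth_quotSMulTop_add_one (I := maximalIdeal B) (M := B) hf hfreg
    let e : QuotSMulTop f B ≃ₗ[B] B ⧸ Ideal.span {f} := Submodule.quotEquivOfEq _ _ (by
      rw [← Submodule.ideal_span_singleton_smul, smul_eq_mul, Ideal.mul_top])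
    rw [Groth.L04.idealDepth_congr e] at h
    have h5 : ((4 : ℕ) : ℕ∞) + 1 ≤ LocCoh.idealDepth (maximalIdeal B) (B ⧸ Ideal.span {f}) + 1 := by
      rw [h]
      exact hdepth
    exact (ENat.add_le_add_iff_right ENat.one_ne_top).1 h5
  have hH := (Groth.L04.LC.le_idealDepth_iff_H _ _ 4).1 h4
  have hfin : ∀ i < 4, Module.Finite B (LocCoh.H (maximalIdeal B) i (B ⧸ Ideal.span {f})) := fun i hi => by
    haveI := hH i hi
    exact Module.Finite.of_finite
  have hs := Groth.Agent.S0812.result B f hf hnzd (hfin 1 (by norm_num)) (hfin 2 (by norm_num))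
    (hH 3 (by norm_num)) h₅
  -- transport to `A`
  let g₀ := Formal2.specQuotMap B f
  have hV : Formal2.PicTrivial (↑(g₀ ⁻¹ᵁ FEt.puncturedSpec B) : Scheme.{u}) := fun L₀ hL₀ => by
    obtain ⟨L, hL, ⟨e⟩⟩ := hs L₀ hL₀
    obtain ⟨e'⟩ := hB L hL
    exact ⟨e.symm ≪≫ (Scheme.Modules.pullback _).mapIso e' ≪≫ Groth.L29.LocFree.pullbackUnitIso _⟩
  let ψ : B ⧸ Ideal.span {f} ≃+* A := (Ideal.quotEquivOfEq hk.symm).trans (RingHom.quotientKerEquivOfSurjective hφ)
  let σ := Spec.map (CommRingCat.ofHom (ψ : B ⧸ Ideal.span {f} →+* A))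
  haveI : IsIso σ := inferInstanceAs (IsIso (Spec.map ψ.toCommRingCatIso.hom))
  have hσ : σ ⁻¹ᵁ (g₀ ⁻¹ᵁ FEt.puncturedSpec B) = FEt.puncturedSpec A := by
    rw [← Scheme.Hom.comp_preimage]
    have : σ ≫ g₀ = Spec.map (CommRingCat.ofHom φ) := by
      show Spec.map _ ≫ Spec.map _ = _
      rw [← Spec.map_comp]
      congr 1
    rw [this]
    refine preimage_punctured φ (fun P hP => ?_) (comap_maximal_of_surjective φ hφ)
    rw [← Ideal.map_comap_of_surjective φ hφ P.asIdeal, hP, IsLocalRing.map_maximalIdeal_of_surjective φ hφ]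
  have := picTrivial_of_iso (asIso (σ ∣_ (g₀ ⁻¹ᵁ FEt.puncturedSpec B))).symm hV
  rwa [hσ] at this

end Step

theorem isUFD_of_ringEquiv {R A : Type u} [CommRing R] [CommRing A] [IsRegularLocalRing R] (e : R ≃+* A) :
    IsDomain A ∧ UniqueFactorizationMonoid A := by
  obtain ⟨hd, hu⟩ := Groth.Agent.S2821.result R
  exact ⟨MulEquiv.isDomain R e.symm.toMulEquiv, MulEquiv.uniqueFactorizationMonoid e.toMulEquiv hu⟩

/-- The main theorem, by induction on the number of equations. -/
theorem picTrivial_ci : ∀ (r : ℕ) (R : Type u) [CommRing R] [IsRegularLocalRing R] (A : Type u) [CommRing A]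
    [IsLocalRing A] [IsNoetherianRing A] (rs : List R), rs.length = r → (∀ x ∈ rs, x ∈ maximalIdeal R) →
    IsWeaklyRegular R rs → ∀ (π : R →+* A), Function.Surjective π → RingHom.ker π = Ideal.ofList rs →
    (4 : WithBot ℕ∞) ≤ ringKrullDim A → Formal2.PicTrivial (↑(FEt.puncturedSpec A) : Scheme.{u})
  | 0, R, _, _, A, _, _, _, rs, hn, _, _, π, hπ, hker, _ => by
    rw [List.length_eq_zero_iff] at hn
    subst hn
    rw [Ideal.ofList_nil] at hker
    obtain ⟨hd, hu⟩ := isUFD_of_ringEquiv
      (RingEquiv.ofBijective π ⟨(RingHom.injective_iff_ker_eq_bot π).2 hker, hπ⟩)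
    haveI := hd
    haveI := hu
    exact fun L hL => Groth.L21.Extend.nonempty_iso_structureModule_of_ufd A _ L hL
  | r + 1, R, _, _, A, _, _, _, rs, hn, hm, hreg, π, hπ, hker, hdim => by
    classical
    -- reduce to a complete presentation
    haveI := Groth.L01.AnalUnram.isNoetherianRing_completion R
    haveI := Groth.L01.AnalUnram.isNoetherianRing_completion A
    haveI := Groth.L01.CompletionExt.faithfullyFlat R
    let Rh := AdicCompletion (maximalIdeal R) R
    let Ah := AdicCompletion (maximalIdeal A) A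
    haveI : IsRegularLocalRing Rh := (Groth.L01.CompletionReg.isRegularLocalRing_iff_completion (A := R)).1 inferInstance
    obtain ⟨E⟩ := Groth.L07.RegQuot.exists_completionQuotEquiv π hπ
    let π' : Rh →+* Ah := E.toRingHom.comp (Ideal.Quotient.mk _)
    have hπ' : Function.Surjective π' := E.surjective.comp Ideal.Quotient.mk_surjective
    have hker' : RingHom.ker π' = Ideal.ofList (rs.map (algebraMap R Rh)) := by
      rw [← RingHom.comap_ker, (RingHom.injective_iff_ker_eq_bot E.toRingHom).1 E.injective,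
        ← RingHom.ker_eq_comap_bot, Ideal.mk_ker, hker, Ideal.map_ofList]
    have hm' : ∀ x ∈ rs.map (algebraMap R Rh), x ∈ maximalIdeal Rh := fun x hx => by
      obtain ⟨y, hy, rfl⟩ := List.mem_map.1 hx
      rw [← Groth.L01.AnalUnram.completion_map_maximalIdeal]
      exact Ideal.mem_map_of_mem _ (hm y hy)
    have hreg' : IsWeaklyRegular Rh (rs.map (algebraMap R Rh)) := hreg.of_flat
    have hdim' : (4 : WithBot ℕ∞) ≤ ringKrullDim Ah := by
      rwa [Groth.L01.CompletionReg.ringKrullDim_completion]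
    have hdepth : (2 : ℕ∞) ≤ LocCoh.depth A A :=
      le_depth_of_le_dim rs hm hreg π hπ hker (k := 2) (le_trans (by norm_num) hdim)
    suffices hAh : Formal2.PicTrivial (↑(FEt.puncturedSpec Ah) : Scheme.{u}) by
      intro L hL
      refine Groth.Agent.S0813.result A hdepth L hL ?_
      have hpre : Spec.map (CommRingCat.ofHom (algebraMap A Ah)) ⁻¹ᵁ FEt.puncturedSpec A = FEt.puncturedSpec Ah := by
        have hmap : (maximalIdeal A).map (algebraMap A Ah) = maximalIdeal Ah :=
          Groth.L01.AnalUnram.completion_map_maximalIdeal A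
        refine preimage_punctured _ (fun P hP => ?_) ?_
        · refine ((maximalIdeal.isMaximal Ah).eq_of_le P.2.ne_top ?_).symm
          exact hmap.symm.le.trans (Ideal.map_le_iff_le_comap.2 hP.ge)
        · refine ((maximalIdeal.isMaximal A).eq_of_le (Ideal.comap_ne_top _ (maximalIdeal.isMaximal Ah).ne_top) ?_).symm
          rw [← hmap]
          exact Ideal.le_comap_map
      have hT : Formal2.PicTrivial (↑(Spec.map (CommRingCat.ofHom (algebraMap A Ah)) ⁻¹ᵁ FEt.puncturedSpec A) : Scheme.{u}) := by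
        rw [hpre]; exact hAh
      exact hT _ (PicLoc.isInvertible_pullback _ hL)
    haveI : IsAdicComplete (maximalIdeal Rh) Rh := by
      rw [← Groth.L01.AnalUnram.completion_map_maximalIdeal]
      exact AdicCompletion.isAdicComplete_self _ (IsNoetherian.noetherian _)
    clear_value π'
    generalize hgen : rs.map (algebraMap R Rh) = rs' at hker' hm' hreg'
    have hn' : rs'.length = r + 1 := by rw [← hgen, List.length_map, hn]
    obtain rfl | ⟨rs₀, f, rfl⟩ := List.eq_nil_or_concat rs'
    · simp at hn'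
    rw [List.concat_eq_append] at hn' hm' hreg' hker'
    haveI := isLocalRing_quot rs₀ fun x hx => hm' x (List.mem_append_left _ hx)
    haveI : IsNoetherianRing (Rh ⧸ Ideal.ofList rs₀) := inferInstance
    obtain ⟨φ, hφ, hk, hf, hfreg, hrs₀⟩ := split_last rs₀ f hm' hreg' π' hπ' hker'
    let B := Rh ⧸ Ideal.ofList rs₀
    have hlen : rs₀.length = r := by simpa using hn'
    have hm₀ : ∀ x ∈ rs₀, x ∈ maximalIdeal Rh := fun x hx => hm' x (List.mem_append_left _ hx)
    obtain ⟨hd1, -⟩ := dim_depth r rs₀ hlen hm₀ hrs₀ (Ideal.Quotient.mk (Ideal.ofList rs₀))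
      Ideal.Quotient.mk_surjective Ideal.mk_ker
    obtain ⟨hd2, -⟩ := dim_depth (r + 1) (rs₀ ++ [f]) (by simp [hlen]) hm' hreg' π' hπ' hker'
    have hdimB : (5 : WithBot ℕ∞) ≤ ringKrullDim B := by
      have h : ringKrullDim B + r = ringKrullDim Ah + (r + 1 : ℕ) := hd1.trans hd2.symm
      revert h hdim'
      generalize ringKrullDim B = b
      generalize ringKrullDim Ah = a
      intro h4 h
      rw [Nat.cast_add, Nat.cast_one, add_comm (r : WithBot ℕ∞), ← add_assoc] at h
      have hb : b = a + 1 :=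
        add_natCast_cancel h
      rw [hb]
      exact le_trans (by norm_num) (add_le_add_left h4 1)
    haveI : IsAdicComplete (maximalIdeal B) B := Groth.L01.NagataComplete.isAdicComplete_quotient _
    haveI := isAdicComplete_span (maximalIdeal B) hf
    refine picTrivial_hyperplane _ hf hfreg φ hφ hk
      (le_depth_of_le_dim rs₀ hm₀ hrs₀ _ Ideal.Quotient.mk_surjective Ideal.mk_ker (k := 5) hdimB)
      (picTrivial_ci r Rh B rs₀ hlen hm₀ hrs₀ _ Ideal.Quotient.mk_surjective Ideal.mk_ker
        (le_trans (by norm_num) hdimB)) fun q _ hfq hmax => ?_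
    -- the localization at a maximal prime off `f`
    let Q := q.comap (Ideal.Quotient.mk (Ideal.ofList rs₀))
    haveI : IsRegularLocalRing (Localization.AtPrime Q) := Groth.Agent.S0564.result Rh Q
    let g : Localization.AtPrime Q →+* Localization.AtPrime q := Localization.localRingHom Q q _ rfl
    have hg : Function.Surjective g := by
      intro z
      obtain ⟨a, ⟨s, hs⟩, rfl⟩ := IsLocalization.exists_mk'_eq q.primeCompl z
      obtain ⟨a, rfl⟩ := Ideal.Quotient.mk_surjective a
      obtain ⟨s, rfl⟩ := Ideal.Quotient.mk_surjective s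
      exact ⟨IsLocalization.mk' _ a (⟨s, hs⟩ : Q.primeCompl),
        Localization.localRingHom_mk' Q q _ rfl a ⟨s, hs⟩⟩
    have hgker : RingHom.ker g = Ideal.ofList (rs₀.map (algebraMap Rh (Localization.AtPrime Q))) := by
      rw [← Ideal.map_ofList]
      refine le_antisymm (fun z hz => ?_) (Ideal.map_le_iff_le_comap.mpr fun x hx => ?_)
      · obtain ⟨c, ⟨s, hs⟩, rfl⟩ := IsLocalization.exists_mk'_eq Q.primeCompl z
        rw [RingHom.mem_ker, Localization.localRingHom_mk', IsLocalization.mk'_eq_zero_iff] at hz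
        obtain ⟨⟨t, ht⟩, htc⟩ := hz
        obtain ⟨t, rfl⟩ := Ideal.Quotient.mk_surjective t
        rw [IsLocalization.mk'_mem_map_algebraMap_iff Q.primeCompl]
        exact ⟨t, ht, Ideal.Quotient.eq_zero_iff_mem.1 (by rw [map_mul]; exact htc)⟩
      · rw [Ideal.mem_comap, RingHom.mem_ker, Localization.localRingHom_to_map,
          Ideal.Quotient.eq_zero_iff_mem.2 hx, map_zero]
    have hmem : ∀ x ∈ rs₀, x ∈ Q := fun x hx => by
      show Ideal.Quotient.mk _ x ∈ q
      rw [Ideal.Quotient.eq_zero_iff_mem.2 (show x ∈ Ideal.ofList rs₀ from Ideal.subset_span (s := {y | y ∈ rs₀}) hx)]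
      exact zero_mem _
    have hmQ : ∀ x ∈ rs₀.map (algebraMap Rh (Localization.AtPrime Q)), x ∈ maximalIdeal (Localization.AtPrime Q) :=
      fun x hx => by
        obtain ⟨y, hy, rfl⟩ := List.mem_map.1 hx
        exact (IsLocalization.AtPrime.to_map_mem_maximal_iff _ Q y).2 (hmem y hy)
    have hregQ : IsWeaklyRegular (Localization.AtPrime Q) (rs₀.map (algebraMap Rh (Localization.AtPrime Q))) :=
      hrs₀.of_flat
    haveI : IsNoetherianRing (Localization.AtPrime q) :=
      IsLocalization.isNoetherianRing q.primeCompl _ inferInstance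
    refine picTrivial_ci r _ _ _ (by simp [hlen]) hmQ hregQ g hg hgker ?_
    -- its dimension
    obtain ⟨hdq, -⟩ := dim_depth r _ (by simp [hlen]) hmQ hregQ g hg hgker
    have hcat := Groth.L04.height_add_ringKrullDim_quotient (R := Rh) Q
    rw [← IsLocalization.AtPrime.ringKrullDim_eq_height Q (Localization.AtPrime Q), ← hdq, ← hd1] at hcat
    have hone : ringKrullDim (Rh ⧸ Q) ≤ 1 := by
      have e : (Rh ⧸ Q) ≃+* B ⧸ q := RingEquiv.ofBijective
        (Ideal.quotientMap q (Ideal.Quotient.mk (Ideal.ofList rs₀)) le_rfl)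
        ⟨Ideal.quotientMap_injective, Ideal.quotientMap_surjective Ideal.Quotient.mk_surjective⟩
      rw [ringKrullDim_eq_of_ringEquiv e]
      let f' : B := Ideal.Quotient.mk (Ideal.ofList rs₀) f
      have hsp : ∀ s : Ideal B, Ideal.span {f'} ≤ s ↔ f' ∈ s := fun s => Ideal.span_singleton_le_iff_mem s
      exact (((Groth.Agent.S8804.result B (Ideal.span {f'}) ⟨q, inferInstance⟩).out 0 1 rfl rfl).1
        ⟨fun h => hfq ((hsp q).1 h), fun q' hle hn => PrimeSpectrum.ext
          (hmax q'.asIdeal q'.2 hle fun h => hn ((hsp q'.asIdeal).2 h))⟩).1.le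
    revert hcat hone hdimB
    generalize ringKrullDim (Localization.AtPrime q) = a
    generalize ringKrullDim (Rh ⧸ Q) = c
    generalize ringKrullDim B = b
    intro hb h hc
    rw [← add_assoc] at h
    have h' : c + a = b :=
      add_natCast_cancel h
    subst h'
    cases a with
    | bot => simp at hb
    | coe a =>
      cases c with
      | bot => simp at hb
      | coe c =>
        have h5 : (5 : ℕ∞) ≤ c + a := WithBot.coe_le_coe.1 hb
        have h1 : c ≤ (1 : ℕ∞) := WithBot.coe_le_coe.1 hc
        refine WithBot.coe_le_coe.2 ?_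
        cases a with
        | top => exact le_top
        | coe a =>
          cases c with
          | top => simp at h1
          | coe c =>
            have h5' : 5 ≤ c + a := by exact_mod_cast h5
            have h1' : c ≤ 1 := by exact_mod_cast h1
            exact_mod_cast (by omega : 4 ≤ a)

end Groth.L18.LocPic
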