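import Groth.Agent.L12.LineLift.System
import Groth.Agent.L16.Exist.AlgMain
import Groth.Agent.L17.ComplSquare
import Groth.Agent.L17.FSheaf.SpfCut
import Groth.Agent.L18.AmplePull
import Groth.Prelude.Def_FSch4

/-!
# Projective algebraization of a flat proper formal scheme with `H²(X₀, O) = 0`
-/

set_option autoImplicit false
set_option linter.style.haveILetI false
set_option backward.isDefEq.respectTransparency false
set_option backward.isDefEq.respectTransparency.types false
universe u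

open CategoryTheory CategoryTheory.Limits AlgebraicGeometry

noncomputable section

namespace Groth.L18.AlgebraizeH2

variable {A : Type u} [CommRing A]

theorem idealSpec_pow (J : Ideal A) (k : ℕ) : FSch.idealSpec A (J ^ k) = FSch.idealSpec A J ^ k := by
  refine Scheme.IdealSheafData.ext_of_isAffine ?_
  rw [Scheme.IdealSheafData.ideal_pow, Pi.pow_apply, Groth.L17.FSheaf.idealSpec_ideal_top,
    Groth.L17.FSheaf.idealSpec_ideal_top, Ideal.map_pow]

theorem ker_specQuot (J : Ideal A) (n : ℕ) : (CohB1.specQuot J n).ker = FSch.idealSpec A J ^ (n + 1) :=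
  idealSpec_pow J (n + 1)

/-- The levels of the completion of `Spec A`. -/
theorem exists_level_iso (J : Ideal A) :
    ∃ σ : ∀ n, (FSch.completionAlong (Spec (CommRingCat.of A)) (FSch.idealSpec A J)).X n ≅
        Spec (CommRingCat.of (A ⧸ J ^ (n + 1))),
      (∀ n, (σ n).hom ≫ CohB1.specQuot J n = FSch.completionToX _ (FSch.idealSpec A J) n) ∧
      ∀ n, IsPullback ((FSch.completionAlong (Spec (CommRingCat.of A)) (FSch.idealSpec A J)).ι n) (σ n).hom
        (σ (n + 1)).hom (CohB1.specQuotTrans J n) := by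
  have key : ∀ n, ∃ σ : (FSch.completionAlong (Spec (CommRingCat.of A)) (FSch.idealSpec A J)).X n ≅
      Spec (CommRingCat.of (A ⧸ J ^ (n + 1))), σ.hom ≫ CohB1.specQuot J n = FSch.completionToX _ (FSch.idealSpec A J) n := by
    intro n
    haveI : IsClosedImmersion (CohB1.specQuot J n) :=
      IsClosedImmersion.spec_of_surjective _ Ideal.Quotient.mk_surjective
    haveI : IsClosedImmersion (FSch.completionToX _ (FSch.idealSpec A J) n) :=
      inferInstanceAs (IsClosedImmersion (FSch.idealSpec A J ^ (n + 1)).subschemeι)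
    have hk : (CohB1.specQuot J n).ker = (FSch.completionToX _ (FSch.idealSpec A J) n).ker :=
      (ker_specQuot J n).trans (Scheme.IdealSheafData.ker_subschemeι _).symm
    haveI := IsClosedImmersion.isIso_lift _ _ hk
    exact ⟨asIso (IsClosedImmersion.lift _ _ hk.le), IsClosedImmersion.lift_fac _ _ _⟩
  choose σ hσ using key
  refine ⟨σ, hσ, fun n => ?_⟩
  haveI : IsClosedImmersion (CohB1.specQuot J (n + 1)) :=
    IsClosedImmersion.spec_of_surjective _ Ideal.Quotient.mk_surjective
  refine IsPullback.of_vert_isIso ⟨?_⟩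
  rw [← cancel_mono (CohB1.specQuot J (n + 1)), Category.assoc, Category.assoc, hσ (n + 1),
    CohB1.specQuotTrans_specQuot, hσ n]
  exact Scheme.IdealSheafData.inclusion_subschemeι _

theorem exists_algebraization [IsLocalRing A] [IsNoetherianRing A]
    [IsAdicComplete (IsLocalRing.maximalIdeal A) A] (𝔛 : FSch.Sys.{u})
    (f : 𝔛 ⟶ FSch.completionAlong (Spec (CommRingCat.of A)) (FSch.idealSpec A (IsLocalRing.maximalIdeal A)))
    (hf : FSch.IsProperHom f) (hflat : ∀ n : ℕ, Flat ((f : FSch.Hom _ _).app n))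
    (hproj : ∃ L₀ : (𝔛.X 0).Modules, CohB1.IsAmple L₀)
    (hH2 : Subsingleton (Coh.HH (𝔛.X 0) (Coh.structureModule (𝔛.X 0)) 2)) :
    ∃ (X : Scheme.{u}) (g : X ⟶ (Spec (CommRingCat.of A))) (L : X.Modules), IsProper g ∧ CohB1.IsAmple L ∧
      ∃ (h : FSch.PowCompat g ((FSch.idealSpec A (IsLocalRing.maximalIdeal A)).comap g) (FSch.idealSpec A (IsLocalRing.maximalIdeal A)))
        (e : 𝔛 ≅ FSch.completionAlong X ((FSch.idealSpec A (IsLocalRing.maximalIdeal A)).comap g)),
        e.hom ≫ FSch.completionMap g ((FSch.idealSpec A (IsLocalRing.maximalIdeal A)).comap g) (FSch.idealSpec A (IsLocalRing.maximalIdeal A)) h = f := by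
  let J := IsLocalRing.maximalIdeal A
  obtain ⟨σ, hσ, hσc⟩ := exists_level_iso J
  let p : ∀ n, 𝔛.X n ⟶ Spec (CommRingCat.of (A ⧸ J ^ (n + 1))) := fun n => (f : FSch.Hom _ _).app n ≫ (σ n).hom
  have hcart : ∀ n, IsPullback (𝔛.ι n) (p n) (p (n + 1)) (CohB1.specQuotTrans J n) := fun n =>
    (hf.1 n).paste_vert (hσc n)
  have hpfl : ∀ n, Flat (p n) := fun n => by
    haveI := hflat n
    show Flat ((f : FSch.Hom _ _).app n ≫ (σ n).hom)
    infer_instance
  haveI hp0 : IsProper (p 0) := by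
    haveI := hf.2
    show IsProper ((f : FSch.Hom _ _).app 0 ≫ (σ 0).hom)
    infer_instance
  haveI : (𝔛.X 0).IsSeparated := by
    refine ⟨?_⟩
    rw [← terminal.comp_from (p 0)]
    infer_instance
  obtain ⟨L₀, hL₀⟩ := hproj
  obtain ⟨L, hL, ⟨φ₀⟩, hφ⟩ := Groth.L12.LineLift.exists_system (A := A) (fs := p) (ts := 𝔛.ι) hcart hpfl hH2 L₀ hL₀.1
  letI : ∀ k, (𝔛.X k).Over (Spec (CommRingCat.of A)) := fun k => ⟨p k ≫ CohB1.specQuot J k⟩
  have S : Groth.L16.Exist.Adic.IsSys J 𝔛.X p 𝔛.ι :=
    Groth.L16.Exist.Adic.isSys_of_cart J (fun _ => rfl) hcart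
  haveI : IsProper (𝔛.X 0 ↘ Spec (CommRingCat.of A)) := by
    haveI := Groth.L16.Exist.Adic.isClosedImmersion_specQuot J 0
    exact inferInstanceAs (IsProper (p 0 ≫ CohB1.specQuot J 0))
  obtain ⟨Y, g, M, e, hg, hM, hMa, hcartY, hcompat, -⟩ :=
    Groth.L16.Exist.Adic.exists_algebraization_ample S L hL (fun k => (hφ k).some)
      (Groth.L18.Ample.isAmple_of_iso φ₀.symm hL₀)
  refine ⟨Y, g, M, hg, hMa, fun n => (Groth.L17.Thick.comap_pow g _ (n + 1)).le, ?_⟩
  set K := (FSch.idealSpec A J).comap g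
  have key : ∀ n, ∃ τ : 𝔛.X n ≅ (FSch.completionAlong Y K).X n, τ.hom ≫ FSch.completionToX Y K n = e n := by
    intro n
    haveI := Groth.L16.Exist.Adic.isClosedImmersion_specQuot J n
    haveI : IsClosedImmersion (e n) :=
      MorphismProperty.of_isPullback (P := @IsClosedImmersion) (hcartY n).flip inferInstance
    haveI : IsClosedImmersion (FSch.completionToX Y K n) :=
      inferInstanceAs (IsClosedImmersion (K ^ (n + 1)).subschemeι)
    have hk : (FSch.completionToX Y K n).ker = (e n).ker := by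
      rw [Groth.L17.Thick.ker_of_isPullback (hcartY n), ker_specQuot, Groth.L17.Thick.comap_pow]
      exact Scheme.IdealSheafData.ker_subschemeι _
    haveI := IsClosedImmersion.isIso_lift _ _ hk
    exact ⟨asIso (IsClosedImmersion.lift _ _ hk.le), IsClosedImmersion.lift_fac _ _ _⟩
  choose τ hτ using key
  have hmono : ∀ n, Mono (FSch.completionToX Y K n) := fun n => inferInstanceAs (Mono (K ^ (n + 1)).subschemeι)
  have hnat : ∀ n, (τ n).hom ≫ (FSch.completionAlong Y K).ι n = 𝔛.ι n ≫ (τ (n + 1)).hom := fun n => by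
    haveI := hmono (n + 1)
    rw [← cancel_mono (FSch.completionToX Y K (n + 1)), Category.assoc, Category.assoc, hτ (n + 1), ← hcompat n,
      ← hτ n]
    exact congrArg ((τ n).hom ≫ ·) (Scheme.IdealSheafData.inclusion_subschemeι _)
  have hnat' : ∀ n, (τ n).inv ≫ 𝔛.ι n = (FSch.completionAlong Y K).ι n ≫ (τ (n + 1)).inv := fun n => by
    rw [Iso.inv_comp_eq, ← Category.assoc, Iso.eq_comp_inv, hnat]
  refine ⟨⟨⟨fun n => (τ n).hom, hnat⟩, ⟨fun n => (τ n).inv, hnat'⟩,
    FSch.Hom.ext (funext fun n => (τ n).hom_inv_id), FSch.Hom.ext (funext fun n => (τ n).inv_hom_id)⟩,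
    FSch.Hom.ext (funext fun n => ?_)⟩
  haveI : Mono (FSch.completionToX (Spec (CommRingCat.of A)) (FSch.idealSpec A J) n) :=
    inferInstanceAs (Mono (FSch.idealSpec A J ^ (n + 1)).subschemeι)
  rw [← cancel_mono (FSch.completionToX (Spec (CommRingCat.of A)) (FSch.idealSpec A J) n)]
  refine (Category.assoc _ _ _).trans ?_
  refine (congrArg ((τ n).hom ≫ ·) (Groth.L17.ComplSquare.app_toX g (FSch.idealSpec A J) K _ n)).trans ?_
  rw [← Category.assoc, hτ, (hcartY n).w]
  show ((f : FSch.Hom _ _).app n ≫ (σ n).hom) ≫ CohB1.specQuot J n = _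
  rw [Category.assoc, hσ]

end Groth.L18.AlgebraizeH2
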