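import Groth.Agent.S11977
import Groth.Agent.L17.FSheaf.AlgzCompletion
import Groth.Agent.L16.Exist.AlgComplete
import Groth.Agent.L17.PushQCoh
import Groth.Agent.L16.NegPow.Gen
import Groth.Agent.L18.AlgebraizeH2
import Groth.Agent.L17.ThickBasic
import Groth.Prelude.Def_LefX

/-!
# Levelwise locally free systems on completions of opens of an affine scheme
-/

set_option autoImplicit false
set_option linter.style.haveILetI false
set_option linter.unusedSectionVars false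
set_option backward.isDefEq.respectTransparency.types false
set_option backward.isDefEq.respectTransparency false
universe u

open CategoryTheory CategoryTheory.Limits AlgebraicGeometry Opposite TopologicalSpace

noncomputable section

namespace Groth.L18.ModSysAlgz

variable {A : Type u} [CommRing A]

theorem isCoh_free [IsNoetherianRing A] {X : Scheme.{u}} [IsLocallyNoetherian X] (r : ℕ) :
    Coh.IsCoh (FlatMod.freeMod X r) :=
  Groth.L16.NegPow.isCoh_of_isFinLocFree fun _ => ⟨⊤, r, trivial, ⟨Groth.L16.NegPow.freeRestrictIso _ _⟩⟩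

theorem isFinLocFreeMod_gObj [IsNoetherianRing A] (J : Ideal A) (U : (Spec (CommRingCat.of A)).Opens)
    (𝓘 : (U : Scheme.{u}).IdealSheafData) (h𝓘 : 𝓘 = (FSch.idealSpec A J).comap U.ι)
    (𝔐 : FSch.ModSys (FSch.completionAlong (U : Scheme.{u}) 𝓘)) (hfree : LefX.LevelwiseFinLocFree 𝔐) (n : ℕ) :
    Formal2.IsFinLocFreeMod J (n + 1)
      (Groth.L17.FSheaf.gObj (FSch.completionAlong (U : Scheme.{u}) 𝓘) (FSch.completionToX (U : Scheme.{u}) 𝓘) 𝔐 n) := by
  haveI : AlgebraicGeometry.IsNoetherian (Spec (CommRingCat.of A)) := inferInstance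
  let S := CohB1.specQuot J n
  haveI : IsClosedImmersion S := IsClosedImmersion.spec_of_surjective _ Ideal.Quotient.mk_surjective
  let i := FSch.completionToX (U : Scheme.{u}) 𝓘 n
  haveI : IsClosedImmersion i := Groth.L17.FSheaf.isClosedImmersion_completionToX 𝓘 n
  -- the thickening is the pullback of the thickening of the base
  obtain ⟨π, hπ⟩ : ∃ π : (FSch.completionAlong (U : Scheme.{u}) 𝓘).X n ⟶ Spec (CommRingCat.of (A ⧸ J ^ (n + 1))),
      IsPullback i π U.ι S := by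
    haveI : IsClosedImmersion (pullback.fst U.ι S) := inferInstance
    have hk : (pullback.fst U.ι S).ker = (i).ker := by
      rw [Scheme.IdealSheafData.ker_fst_of_isClosedImmersion]
      refine Eq.trans ?_ (Scheme.IdealSheafData.ker_subschemeι (𝓘 ^ (n + 1))).symm
      rw [h𝓘, ← Groth.L17.Thick.comap_pow]
      exact congrArg (fun I : Scheme.IdealSheafData _ => I.comap U.ι) (Groth.L18.AlgebraizeH2.ker_specQuot J n)
    haveI := IsClosedImmersion.isIso_lift _ _ hk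
    let τ := asIso (IsClosedImmersion.lift (pullback.fst U.ι S) i hk.le)
    have hτ : τ.hom ≫ pullback.fst U.ι S = i := IsClosedImmersion.lift_fac _ _ _
    exact ⟨τ.hom ≫ pullback.snd U.ι S, (IsPullback.of_hasPullback U.ι S).of_iso τ.symm (Iso.refl _) (Iso.refl _)
      (Iso.refl _) (by simp [← hτ]) (by simp) (by simp) (by simp)⟩
  letI : ((FSch.completionAlong (U : Scheme.{u}) 𝓘).X n).Over (Spec (CommRingCat.of A)) := ⟨π ≫ S⟩
  intro x
  -- a neighbourhood over which the level is free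
  obtain ⟨V, r, hxV, ⟨e⟩⟩ : ∃ (V : (U : Scheme.{u}).Opens) (r : ℕ), x ∈ V ∧
      Nonempty ((𝔐.F n).restrict (i ⁻¹ᵁ V).ι ≅ FlatMod.freeMod (↑(i ⁻¹ᵁ V) : Scheme.{u}) r) := by
    by_cases hx : x ∈ Set.range i
    · obtain ⟨z, rfl⟩ := hx
      obtain ⟨W, r, hzW, ⟨e⟩⟩ := hfree n z
      obtain ⟨O, hO, hWO⟩ := (Scheme.Hom.isClosedEmbedding i).isInducing.isOpen_iff.1 W.isOpen
      have hW : i ⁻¹ᵁ (⟨O, hO⟩ : (U : Scheme.{u}).Opens) = W := Opens.ext hWO
      have hz : z ∈ i ⁻¹ᵁ (⟨O, hO⟩ : (U : Scheme.{u}).Opens) := hW.symm ▸ hzW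
      refine ⟨⟨O, hO⟩, r, hz, ?_⟩
      rw [hW]
      exact ⟨e⟩
    · let V : (U : Scheme.{u}).Opens := ⟨(Set.range i)ᶜ, (Scheme.Hom.isClosedEmbedding i).isClosed_range.isOpen_compl⟩
      refine ⟨V, 0, hx, ?_⟩
      haveI : IsEmpty (↑(i ⁻¹ᵁ V) : Scheme.{u}) := ⟨fun z => z.2 ⟨z.1, rfl⟩⟩
      have hz : ∀ M : (↑(i ⁻¹ᵁ V) : Scheme.{u}).Modules, IsZero M := fun M =>
        (IsZero.iff_id_eq_zero M).2 (Groth.L21.Mod.hom_ext_stalk fun z => isEmptyElim z)
      exact ⟨(hz _).iso (hz _)⟩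
  refine ⟨V, r, hxV, ?_⟩
  obtain ⟨q, -⟩ := Groth.L16.Exist.Adic.exists_modPow_iso_unit (I := J) (k := n) (f := i) (π := π) hπ rfl
    (isCoh_free (A := A) (X := (U : Scheme.{u})) r)
  let β := Groth.L17.PushQCoh.pushRestrictIso i V.ι (i ⁻¹ᵁ V).ι (i ∣_ V)
    (by rw [Scheme.Opens.opensRange_ι, Scheme.Opens.opensRange_ι]) (morphismRestrict_ι i V)
  let e' : ((Scheme.Modules.pullback i).obj (FlatMod.freeMod (U : Scheme.{u}) r)).restrict (i ⁻¹ᵁ V).ι ≅
      FlatMod.freeMod (↑(i ⁻¹ᵁ V) : Scheme.{u}) r :=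
    (Scheme.Modules.restrictFunctor (i ⁻¹ᵁ V).ι).mapIso (Groth.L29.LocFree.pullbackFreeIso i r) ≪≫
      Groth.L16.NegPow.freeRestrictIso _ r
  exact ⟨β.app (𝔐.F n) ≪≫ (Scheme.Modules.pushforward (i ∣_ V)).mapIso (e ≪≫ e'.symm) ≪≫ (β.app _).symm ≪≫
    (Scheme.Modules.restrictFunctor V.ι).mapIso q.symm⟩

theorem app_trans {X Z Z' : Scheme.{u}} (a : Z ⟶ Z') (b : Z' ⟶ X) (c : Z ⟶ X) (h : a ≫ b = c) (F : X.Modules) :
    (Scheme.Modules.pullbackComp a b).app F ≪≫ (Scheme.Modules.pullbackCongr h).app F =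
      (Scheme.Modules.pullbackComp a b ≪≫ Scheme.Modules.pullbackCongr h).app F := Iso.ext rfl

/-- The two packagings of a completion agree. -/
theorem completionMod_eq {X : Scheme.{u}} (𝓘 : X.IdealSheafData) (F : X.Modules) :
    FSch.completionMod 𝓘 F = FSch.complMod 𝓘 F := by
  delta FSch.completionMod FSch.complMod FSch.complTransIso
  refine congrArg (FSch.ModSys.mk _) ?_
  funext n
  exact app_trans ((FSch.completionAlong X 𝓘).ι n) (FSch.completionToX X 𝓘 (n + 1)) (FSch.completionToX X 𝓘 n)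
    (Scheme.IdealSheafData.inclusion_subschemeι (FSch.pow_succ_le X 𝓘 n)) F

/-- Algebraization of levelwise locally free systems along an ideal with flat graded pieces. -/
theorem exists_algebraization [IsNoetherianRing A] (J : Ideal A) [IsAdicComplete J A]
    (hnf : EGA4.IsNormallyFlat J A) (𝔟 : Ideal A) (U : (Spec (CommRingCat.of A)).Opens)
    (hU : U = LocCoh.puncturedOpen A 𝔟)
    (hkill : ∀ i ≤ 2, ∃ k : ℕ, ∀ a ∈ 𝔟 ^ k, ∀ z : LocCoh.H 𝔟 i (A ⧸ J), a • z = 0)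
    (𝓘 : (U : Scheme.{u}).IdealSheafData) (h𝓘 : 𝓘 = (FSch.idealSpec A J).comap U.ι)
    (𝔐 : FSch.ModSys (FSch.completionAlong (U : Scheme.{u}) 𝓘)) (hfree : LefX.LevelwiseFinLocFree 𝔐) :
    ∃ F : (U : Scheme.{u}).Modules, Coh.IsCoh F ∧ Nonempty (FSch.completionMod 𝓘 F ≅ 𝔐) := by
  haveI : AlgebraicGeometry.IsNoetherian (Spec (CommRingCat.of A)) := inferInstance
  haveI : CompactSpace ↥(U : Scheme.{u}) :=
    isCompact_iff_compactSpace.1 (NoetherianSpace.isCompact (α := PrimeSpectrum A) _)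
  haveI : AlgebraicGeometry.IsNoetherian (U : Scheme.{u}) := { }
  have hcoh : 𝔐.IsCoh := fun n => Groth.L16.NegPow.isCoh_of_isFinLocFree (hfree n)
  have hcl : ∀ k, IsClosedImmersion (FSch.completionToX (U : Scheme.{u}) 𝓘 k) :=
    Groth.L17.FSheaf.isClosedImmersion_completionToX 𝓘
  have hcut : Groth.L17.FSheaf.CutOver J (FSch.completionAlong (U : Scheme.{u}) 𝓘)
      (FSch.completionToX (U : Scheme.{u}) 𝓘) :=
    Groth.L17.FSheaf.cutOver_completion J U.ι 𝓘 h𝓘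
  have hG := Groth.L17.FSheaf.isCohFormal_gSys (FSch.completionToX_comm (U : Scheme.{u}) 𝓘) 𝔐 hcl hcut hcoh
  let G := Groth.L17.FSheaf.gSys (FSch.completionAlong (U : Scheme.{u}) 𝓘) (FSch.completionToX (U : Scheme.{u}) 𝓘)
    (FSch.completionToX_comm (U : Scheme.{u}) 𝓘) 𝔐
  have hf : ∀ n : ℕ, Formal2.IsFinLocFreeMod J (n + 1) (G.obj (op n)) := fun n => by
    have h := isFinLocFreeMod_gObj J U 𝓘 h𝓘 𝔐 hfree n
    exact h
  obtain ⟨F, hF, ⟨θ⟩⟩ := Groth.Agent.S11977.aux A J hnf 𝔟 U hU hkill G hG hf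
  obtain ⟨e⟩ := Groth.L17.FSheaf.nonempty_iso_pullSys_of_completion
    (FSch.completionToX_comm (U : Scheme.{u}) 𝓘) 𝔐 hcl hcut hF θ
  refine ⟨F, hF, ⟨eqToIso (completionMod_eq 𝓘 F) ≪≫ ?_⟩⟩
  exact eqToIso (Groth.L17.FSheaf.pullSys_completion 𝓘 F).symm ≪≫ e.symm

end Groth.L18.ModSysAlgz
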