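import Groth.Agent.L15.Ref.FreeLocus
import Groth.Agent.L20.SeeNormal.Sheaf
import Groth.Agent.L20.Infinitesimal.Flat
import Groth.Agent.L27.FEtProper.EtaleTower
import Groth.Agent.L29.Formal.OpenDepth
import Groth.Agent.L29.Formal.PuncLocFree
import Groth.Agent.L18.LocFreeTilde
import Groth.Agent.L00.PullStalk
import Groth.Prelude.Def_FSch3

/-!
# Freeness near the centre of a completion
-/

set_option autoImplicit false
set_option linter.style.haveILetI false
set_option linter.unusedSectionVars false
set_option backward.isDefEq.respectTransparency.types false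
set_option backward.isDefEq.respectTransparency false
universe u

open CategoryTheory CategoryTheory.Limits AlgebraicGeometry TopologicalSpace
open scoped TensorProduct

noncomputable section

namespace Groth.L18.FreeNearLevels

variable {X : Scheme.{u}}

theorem sI_pow (J : X.IdealSheafData) (x : X) (n : ℕ) :
    Groth.L20.SeeNormal.sI (J ^ (n + 1)) x = Groth.L20.SeeNormal.sI J x ^ (n + 1) := by
  obtain ⟨_, ⟨U, hU, rfl⟩, hxU, -⟩ :=
    X.isBasis_affineOpens.exists_subset_of_mem_open (Set.mem_univ x) isOpen_univ
  rw [Groth.L20.SeeNormal.sI_eq _ ⟨U, hU⟩ hxU, Groth.L20.SeeNormal.sI_eq _ ⟨U, hU⟩ hxU,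
    Scheme.IdealSheafData.ideal_pow, Pi.pow_apply, Ideal.map_pow]

/-- Freeness of a reduction from freeness of an extension of scalars. -/
theorem flat_quot_of_free {R S M : Type u} [CommRing R] [CommRing S] [AddCommGroup M] [Module R M]
    (φ : R →+* S) (hφ : Function.Surjective φ) (I : Ideal R) (hI : RingHom.ker φ = I)
    (h : letI := φ.toAlgebra; Module.Free S (S ⊗[R] M)) : Module.Flat (R ⧸ I) ((R ⧸ I) ⊗[R] M) := by
  letI := φ.toAlgebra
  haveI : Module.Free S (S ⊗[R] M) := h
  subst hI
  let e : (R ⧸ RingHom.ker (Algebra.ofId R S)) ≃ₐ[R] S := Ideal.quotientKerAlgEquivOfSurjective hφ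
  let E : L02.FibDepth.Semi (R ⧸ RingHom.ker (Algebra.ofId R S)) ((R ⧸ RingHom.ker (Algebra.ofId R S)) ⊗[R] M) S (S ⊗[R] M) :=
    { φ := (e : (R ⧸ RingHom.ker (Algebra.ofId R S)) →+* S)
      surj := e.surjective
      e := (TensorProduct.congr e.toLinearEquiv (LinearEquiv.refl R M)).toAddEquiv
      map_smul := fun r x => by
        induction x using TensorProduct.induction_on with
        | zero => simp
        | tmul a m => simp [TensorProduct.smul_tmul']
        | add a b ha hb => rw [smul_add, map_add, ha, hb, map_add, smul_add] }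
  haveI : Module.Free (R ⧸ RingHom.ker φ) ((R ⧸ RingHom.ker φ) ⊗[R] M) := Groth.L29.Formal.free_of_semi E e.injective
  exact Module.Flat.of_free

/-- A coherent module with finite locally free reductions has flat stalks along the centre. -/
theorem isFlatAt [IsLocallyNoetherian X] (J : X.IdealSheafData) {F : X.Modules} (hF : Coh.IsCoh F)
    (h : ∀ n : ℕ, FlatMod.IsFinLocFree ((Scheme.Modules.pullback (FSch.completionToX X J n)).obj F))
    {x : X} (hx : x ∈ J.support) : FlatMod.IsFlatAt F x := by
  haveI := Groth.L18.LFP.finite_stalk F (Groth.L15.Ref.isFP_of_isCoh hF) x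
  have hne : Groth.L20.SeeNormal.sI J x ≠ ⊤ := by
    obtain ⟨z, rfl⟩ : x ∈ Set.range J.subschemeι := by rw [J.range_subschemeι]; exact hx
    intro ht
    have hk := Groth.L20.Infinitesimal.ker_stalkMap J.subschemeι z
    rw [Scheme.IdealSheafData.ker_subschemeι] at hk
    exact RingHom.ker_ne_top _ (hk.trans ht)
  haveI : Module.Free (X.presheaf.stalk x) (F.presheaf.stalk x) := by
    refine Groth.L27.FEtProper.free_of_quotients hne (F.presheaf.stalk x) fun n => ?_
    obtain ⟨z, rfl⟩ : x ∈ Set.range (J ^ (n + 1)).subschemeι := by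
      rw [Scheme.IdealSheafData.range_subschemeι, Scheme.IdealSheafData.support_pow_succ]; exact hx
    let i := (J ^ (n + 1)).subschemeι
    refine flat_quot_of_free (i.stalkMap z).hom (i.stalkMap_surjective z) _ ?_ ?_
    · rw [Groth.L20.Infinitesimal.ker_stalkMap, Scheme.IdealSheafData.ker_subschemeι, sI_pow]
    · exact Module.Free.of_equiv' (Groth.L18.LFP.free_stalk _ (h n) z)
        ((Groth.L00.PullStalk.stalkIso i z).app F).toLinearEquiv
  exact Module.Flat.of_free

/-- A coherent module with finite locally free reductions is finite locally free near the centre. -/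
theorem exists_open [IsLocallyNoetherian X] (J : X.IdealSheafData) {F : X.Modules} (hF : Coh.IsCoh F)
    (h : ∀ n : ℕ, FlatMod.IsFinLocFree ((Scheme.Modules.pullback (FSch.completionToX X J n)).obj F)) :
    ∃ U : X.Opens, (J.support : Set X) ⊆ (U : Set X) ∧ FlatMod.IsFinLocFree (F.restrict U.ι) :=
  ⟨⟨{x | FlatMod.IsFlatAt F x}, Groth.L15.Ref.isOpen_flatAt F hF⟩, fun _ hx => isFlatAt J hF h hx,
    Groth.L15.Ref.isFinLocFree_restrict F hF _ fun _ hx => hx⟩

/-- An isomorphism of systems from isomorphisms of the levels. -/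
def isoOfApp {𝔛 : FSch.Sys.{u}} {𝔐 𝔑 : FSch.ModSys 𝔛} (φ : 𝔐 ⟶ 𝔑) [∀ n, IsIso (φ.app n)] : 𝔐 ≅ 𝔑 where
  hom := φ
  inv := ⟨fun n => inv (φ.app n), fun n => by
    rw [← cancel_epi ((Scheme.Modules.pullback (𝔛.ι n)).map (φ.app (n + 1))), ← Functor.map_comp_assoc,
      IsIso.hom_inv_id, CategoryTheory.Functor.map_id, Category.id_comp, reassoc_of% (φ.comm n), IsIso.hom_inv_id, Category.comp_id]⟩
  hom_inv_id := FSch.ModSys.Hom.ext (funext fun n => IsIso.hom_inv_id _)
  inv_hom_id := FSch.ModSys.Hom.ext (funext fun n => IsIso.inv_hom_id _)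

/-- A neighbourhood of the centre does not change the completion. -/
theorem nonempty_complMod_push (J : X.IdealSheafData) (U : X.Opens) (hU : (J.support : Set X) ⊆ (U : Set X))
    (F : X.Modules) :
    Nonempty (FSch.complMod J F ≅ FSch.complMod J ((Scheme.Modules.pushforward U.ι).obj (F.restrict U.ι))) := by
  let R := Scheme.Modules.restrictFunctor U.ι
  let adj := Scheme.Modules.restrictAdjunction U.ι
  let η := adj.unit.app F
  haveI : IsIso (R.map η) := by
    haveI : IsIso (adj.counit.app (R.obj F)) := inferInstance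
    exact IsIso.of_isIso_fac_right (adj.left_triangle_components F)
  haveI : ∀ n, IsIso ((FSch.complModMap J η).app n) := fun n => by
    let i := (J ^ (n + 1)).subschemeι
    have hr : Set.range i ⊆ Set.range U.ι := by
      rw [Scheme.IdealSheafData.range_subschemeι, Scheme.IdealSheafData.support_pow_succ, Scheme.Opens.range_ι]
      exact hU
    let l := IsOpenImmersion.lift U.ι i hr
    let e : Scheme.Modules.pullback i ≅ R ⋙ Scheme.Modules.pullback l :=
      (Scheme.Modules.pullbackCongr (IsOpenImmersion.lift_fac U.ι i hr).symm) ≪≫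
        (Scheme.Modules.pullbackComp l U.ι).symm ≪≫
        Functor.isoWhiskerRight (Scheme.Modules.restrictFunctorIsoPullback U.ι).symm _
    show IsIso ((Scheme.Modules.pullback i).map η)
    rw [NatIso.isIso_map_iff e]
    show IsIso ((Scheme.Modules.pullback l).map (R.map η))
    infer_instance
  exact ⟨isoOfApp (FSch.complModMap J η)⟩

end Groth.L18.FreeNearLevels
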