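import Groth.Agent.L18.NegVanishProj
import Groth.Agent.L17.IdealMulExtend
import Groth.Agent.L16.Rees.Consequences
import Groth.Agent.L15.CohFlat
import Groth.Agent.L18.TildeFunctor
import Groth.Agent.L29.DCoh.LocalLift

/-!
# Cohomology of high ideal powers of modules of large depth off the zero set, on projective space

`U` is an affine open of `P^r_k`, the complement of the zero set of an ideal `𝔞`, and `F` is coherent with depth
`> n` at the closed points of `U`.  Then `H^q(𝔞^N F) ⟶ H^q(F)` is zero for `q ≤ n` and `N` large.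
-/

set_option autoImplicit false
set_option linter.style.haveILetI false
set_option linter.unusedSectionVars false
set_option backward.isDefEq.respectTransparency false
set_option backward.isDefEq.respectTransparency.types false
universe u

open CategoryTheory CategoryTheory.Limits AlgebraicGeometry IsLocalRing TopologicalSpace Opposite

noncomputable section

namespace Groth.L18.OffAffine

open Groth.L22.Reg (O')
open Groth.L16
open Groth.L16.CohLinear (hmap hmap_comp delta exact_hmap_hmap exact_hmap_delta)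
open Groth.L17.IdealMulSec Groth.L17.IdealMulExtend

variable {X : Scheme.{u}}

/-- High powers of `𝔞` kill `H^q` inside `F`. -/
def Z (𝔞 : X.IdealSheafData) (q : ℕ) (F : X.Modules) : Prop :=
  ∃ N : ℕ, ∀ x : Coh.HH X ((Dual3.idealMul (𝔞 ^ N)).obj F) q, hmap (Dual3.idealMulι (𝔞 ^ N) F) q x = 0

theorem image_top {V : X.Opens} (hV : IsAffineOpen V) : hV.fromSpec ''ᵁ ⊤ = V := by
  rw [Scheme.Hom.image_top_eq_opensRange, hV.opensRange_fromSpec]

/-- The sections over an affine open as global sections of its chart, by restriction. -/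
def chartEquiv (M : X.Modules) {V : X.Opens} (hV : IsAffineOpen V) :
    (moduleSpecΓFunctor (R := Γ(X, V))).obj (M.restrict hV.fromSpec) ≃ₗ[Γ(X, V)] Γ(M, V) where
  toFun s := Groth.L18.Frame.rs M (image_top hV).ge (show Γ(M, hV.fromSpec ''ᵁ ⊤) from s)
  map_add' a b := map_add (M.presheaf.map (homOfLE (image_top hV).ge).op).hom a b
  map_smul' r s := Groth.L20.ModStalk.finitePresentation_sections_affine.appIso_smul M hV r
    (show Γ(M, hV.fromSpec ''ᵁ ⊤) from s)
  invFun t := (show Γ(M, hV.fromSpec ''ᵁ ⊤) from Groth.L18.Frame.rs M (image_top hV).le t)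
  left_inv s := by
    show Groth.L18.Frame.rs M (image_top hV).le
      (Groth.L18.Frame.rs M (image_top hV).ge (show Γ(M, hV.fromSpec ''ᵁ ⊤) from s)) = _
    rw [Groth.L18.Frame.rs_rs]
    exact Groth.L18.Frame.rs_self M _ _
  right_inv t := by
    show Groth.L18.Frame.rs M (image_top hV).ge (Groth.L18.Frame.rs M (image_top hV).le t) = t
    rw [Groth.L18.Frame.rs_rs]
    exact Groth.L18.Frame.rs_self M _ _

/-- A linear section on an affine open gives a section of the restrictions. -/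
theorem exists_restrict_section {E F : X.Modules} [Coh.IsQCoh E] [Coh.IsQCoh F] (π : E ⟶ F) {V : X.Opens}
    (hV : IsAffineOpen V) (σ : Γ(F, V) →ₗ[Γ(X, V)] Γ(E, V)) (hσ : ∀ m, π.app V (σ m) = m) :
    ∃ s : (Scheme.Modules.restrictFunctor V.ι).obj F ⟶ (Scheme.Modules.restrictFunctor V.ι).obj E,
      s ≫ (Scheme.Modules.restrictFunctor V.ι).map π = 𝟙 _ := by
  let R : CommRingCat.{u} := Γ(X, V)
  let j := hV.fromSpec
  let J := Scheme.Modules.restrictFunctor j
  let G := moduleSpecΓFunctor (R := R)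
  haveI : (F.restrict j).IsQuasicoherent := Scheme.Modules.isQuasicoherent_restrictFunctor j F
  haveI : (E.restrict j).IsQuasicoherent := Scheme.Modules.isQuasicoherent_restrictFunctor j E
  haveI : IsIso (F.restrict j).fromTildeΓ := Scheme.Modules.isIso_fromTildeΓ_of_isQuasicoherent _
  haveI : IsIso (E.restrict j).fromTildeΓ := Scheme.Modules.isIso_fromTildeΓ_of_isQuasicoherent _
  let cF : tilde (G.obj (J.obj F)) ≅ J.obj F := asIso (F.restrict j).fromTildeΓ
  let cE : tilde (G.obj (J.obj E)) ≅ J.obj E := asIso (E.restrict j).fromTildeΓ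
  let ψ : G.obj (J.obj F) ⟶ G.obj (J.obj E) :=
    ConcreteCategory.ofHom ((chartEquiv E hV).symm.toLinearMap ∘ₗ σ ∘ₗ (chartEquiv F hV).toLinearMap)
  let t : J.obj F ⟶ J.obj E := cF.inv ≫ (tilde.functor R).map ψ ≫ cE.hom
  have ht : t ≫ J.map π = 𝟙 _ := by
    have hψ : ψ ≫ G.map (J.map π) = 𝟙 _ := by
      ext m
      apply (chartEquiv F hV).injective
      have hnat : ∀ z : G.obj (J.obj E),
          chartEquiv F hV (G.map (J.map π) z) = π.app V (chartEquiv E hV z) := fun z =>
        (Groth.L19.ProjBdl.app_rs π (image_top hV).ge (show Γ(E, hV.fromSpec ''ᵁ ⊤) from z)).symm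
      show chartEquiv F hV (G.map (J.map π) ((chartEquiv E hV).symm (σ (chartEquiv F hV m)))) = chartEquiv F hV m
      refine (hnat ((chartEquiv E hV).symm (σ (chartEquiv F hV m)))).trans ?_
      rw [(chartEquiv E hV).apply_symm_apply, hσ]
    have hc : cE.hom ≫ J.map π = (tilde.functor R).map (G.map (J.map π)) ≫ cF.hom :=
      ((Scheme.Modules.fromTildeΓNatTrans (R := R)).naturality (J.map π)).symm
    simp only [t, Category.assoc, hc]
    rw [← Functor.map_comp_assoc, hψ, CategoryTheory.Functor.map_id, Category.id_comp, Iso.inv_hom_id]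
  let w := hV.isoSpec.hom
  have hw : w ≫ j = V.ι := hV.isoSpec_hom_fromSpec
  let W := Scheme.Modules.restrictFunctor w
  let e := Groth.L29.DC.resTrans j w V.ι hw
  refine ⟨e.inv.app F ≫ W.map t ≫ e.hom.app E, ?_⟩
  have hn := e.hom.naturality π
  simp only [Functor.comp_map] at hn
  rw [Category.assoc, Category.assoc, ← hn, ← Functor.map_comp_assoc, ht, CategoryTheory.Functor.map_id,
    Category.id_comp]
  exact Iso.inv_hom_id_app e F

section Proj

variable {k : Type u} [Field k] {r : ℕ}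

local notation "P" => CohB1.ProjSpace r k

theorem isNoetherian_P : IsNoetherian P := by
  let g := CohB1.ProjSpace.toSpec r k
  haveI : IsLocallyNoetherian P := LocallyOfFiniteType.isLocallyNoetherian g
  haveI : CompactSpace P := QuasiCompact.compactSpace_of_compactSpace g
  exact {}

/-- Negative twists surject onto coherent modules, with no cohomology in low degree. -/
theorem exists_presentation {F : (CohB1.ProjSpace r k).Modules} (hF : Coh.IsCoh F) :
    ∃ T : ShortComplex (CohB1.ProjSpace r k).Modules, T.ShortExact ∧ T.X₃ = F ∧ FlatMod.IsFinLocFree T.X₂ ∧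
      ∀ q, q < r → Subsingleton (Coh.HH (CohB1.ProjSpace r k) T.X₂ q) := by
  haveI := hF.1
  obtain ⟨N, hN⟩ := ProjTwist.exists_epi_neg_twists (CohB1.polyGrading r k)
    (fun i : ULift.{u} (Fin (r + 1)) => (⟨_, ProjSpace.X_mem r k i.down⟩ : CohB1.polyGrading r k 1)) one_pos
    (fun x => by
      obtain ⟨i, hi⟩ := ProjSpace.exists_mem_basicOpen_X r k x
      exact ⟨⟨i⟩, hi⟩) F hF.2
  obtain ⟨c, p, hp⟩ := hN (N + 1) (Nat.le_succ N)
  refine ⟨ShortComplex.mk (kernel.ι p) p (kernel.condition _),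
    { exact := ShortComplex.exact_kernel _, mono_f := inferInstance, epi_g := hp }, rfl,
    Groth.L18.NegVanish.isFinLocFree_sum c _, fun q hq => ProjSpace.subsingleton_sigma _ q fun _ =>
      ProjSpace.subsingleton_HH_twist r k _ q (fun h => by have := h.2; omega) (fun h => by omega)⟩

variable (𝔞 : (CohB1.ProjSpace r k).IdealSheafData) (U : (CohB1.ProjSpace r k).Opens) (hU : IsAffineOpen U)
  (hUa : (U : Set (CohB1.ProjSpace r k)) = (𝔞.support : Set (CohB1.ProjSpace r k))ᶜ)

/-- The depth condition at the closed points in `U`. -/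
def Deep (m : ℕ) (F : (CohB1.ProjSpace r k).Modules) : Prop :=
  ∀ p : CohB1.ProjSpace r k, p ∈ U → IsClosed ({p} : Set (CohB1.ProjSpace r k)) →
    (m : ℕ∞) ≤ LocCoh.depth ((CohB1.ProjSpace r k).presheaf.stalk p) (F.presheaf.stalk p)

include hU in
/-- Properties of sections over `U` are checked at the closed points. -/
theorem isClosed_point (M : Ideal Γ(CohB1.ProjSpace r k, U)) [hM : M.IsMaximal] :
    ∃ (p : CohB1.ProjSpace r k) (hp : p ∈ U), IsClosed ({p} : Set (CohB1.ProjSpace r k)) ∧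
      (hU.primeIdealOf ⟨p, hp⟩).asIdeal = M := by
  let z : Spec Γ(CohB1.ProjSpace r k, U) := ⟨M, hM.isPrime⟩
  have hp : hU.fromSpec z ∈ U := by
    have : hU.fromSpec z ∈ Set.range hU.fromSpec := ⟨z, rfl⟩
    rwa [hU.range_fromSpec] at this
  refine ⟨hU.fromSpec z, hp, ?_, congrArg PrimeSpectrum.asIdeal
    (hU.fromSpec.isOpenEmbedding.injective (hU.fromSpec_primeIdealOf ⟨_, hp⟩))⟩
  haveI : JacobsonSpace (CohB1.ProjSpace r k) :=
    LocallyOfFiniteType.jacobsonSpace (CohB1.ProjSpace.toSpec r k)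
  have hz : z ∈ closedPoints (Spec Γ(CohB1.ProjSpace r k, U)) :=
    (PrimeSpectrum.isClosed_singleton_iff_isMaximal z).2 hM
  rw [← hU.fromSpec.isOpenEmbedding.preimage_closedPoints] at hz
  exact hz

include hU in
/-- Maximal depth at the closed points of `U` gives a projective module of sections. -/
theorem projective_sections {F : (CohB1.ProjSpace r k).Modules} (hF : Coh.IsCoh F) (hd : Deep U r F) :
    Module.Projective Γ(CohB1.ProjSpace r k, U) Γ(F, U) := by
  haveI := isNoetherian_P (k := k) (r := r)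
  haveI := hF.1
  haveI : IsNoetherianRing Γ(CohB1.ProjSpace r k, U) := IsLocallyNoetherian.component_noetherian ⟨U, hU⟩
  haveI := Groth.L20.ModStalk.finite_sections F hF hU
  haveI : Module.FinitePresentation Γ(CohB1.ProjSpace r k, U) Γ(F, U) := Module.finitePresentation_of_finite _ _
  haveI : Module.Flat Γ(CohB1.ProjSpace r k, U) Γ(F, U) := by
    refine Module.flat_of_localized_maximal _ fun M hM => ?_
    obtain ⟨p, hp, hpc, hpM⟩ := isClosed_point U hU M
    let B := (CohB1.ProjSpace r k).presheaf.stalk p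
    letI := (CohB1.ProjSpace r k).presheaf.algebra_section_stalk ⟨p, hp⟩
    haveI := hU.isLocalization_stalk ⟨p, hp⟩
    letI := Groth.L20.ModStalk.stalkModule F hp
    haveI := Groth.L20.ModStalk.isLocalizedModule_germ F hU hp
    haveI : IsScalarTower Γ(CohB1.ProjSpace r k, U) B (F.presheaf.stalk p) :=
      IsScalarTower.of_algebraMap_smul fun _ _ => rfl
    haveI := Groth.L22.PDual.regular_stalk p
    haveI : Module.Finite B (F.presheaf.stalk p) :=
      Groth.L18.LFP.finite_stalk F (Groth.L15.Ref.isFP_of_isCoh hF) p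
    haveI : CategoryTheory.Projective (ModuleCat.of B (F.presheaf.stalk p)) := by
      rw [CategoryTheory.projective_iff_hasProjectiveDimensionLT_one]
      exact Groth.L04.hasProjectiveDimensionLE_of_dim_le_add_depth (t := 0) _ (Groth.L22.PDual.dim_stalk hpc)
        (by simpa using hd p hp hpc)
    haveI : Module.Projective B (F.presheaf.stalk p) := (IsProjective.iff_projective _).2 inferInstance
    haveI : Module.Flat Γ(CohB1.ProjSpace r k, U) B :=
      IsLocalization.flat B (hU.primeIdealOf ⟨p, hp⟩).asIdeal.primeCompl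
    haveI : Module.Flat Γ(CohB1.ProjSpace r k, U) (F.presheaf.stalk p) := Module.Flat.trans _ B _
    subst hpM
    exact Module.Flat.of_linearEquiv (IsLocalizedModule.iso (hU.primeIdealOf ⟨p, hp⟩).asIdeal.primeCompl
      (Groth.L20.ModStalk.germₗ F hp))
  exact Module.Flat.projective_of_finitePresentation

include hU in
/-- More depth than the dimension means no sections. -/
theorem subsingleton_sections {F : (CohB1.ProjSpace r k).Modules} (hF : Coh.IsCoh F) (hd : Deep U (r + 1) F) :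
    Subsingleton Γ(F, U) := by
  haveI := hF.1
  suffices h : ∀ (M : Ideal Γ(CohB1.ProjSpace r k, U)) [M.IsMaximal],
      Subsingleton (LocalizedModule M.primeCompl Γ(F, U)) from subsingleton_of_forall_eq 0 fun m =>
    Module.eq_zero_of_localization_maximal (fun J _ => LocalizedModule J.primeCompl Γ(F, U))
      (fun J _ => LocalizedModule.mkLinearMap J.primeCompl Γ(F, U)) m fun J hJ => @Subsingleton.elim _ (@h J hJ) _ _
  intro M hM
  obtain ⟨p, hp, hpc, hpM⟩ := isClosed_point U hU M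
  let B := (CohB1.ProjSpace r k).presheaf.stalk p
  letI := Groth.L20.ModStalk.stalkModule F hp
  haveI := Groth.L20.ModStalk.isLocalizedModule_germ F hU hp
  subst hpM
  suffices h : Subsingleton (F.presheaf.stalk p) from
    (IsLocalizedModule.iso (hU.primeIdealOf ⟨p, hp⟩).asIdeal.primeCompl
      (Groth.L20.ModStalk.germₗ F hp)).toEquiv.subsingleton
  haveI := Groth.L22.PDual.regular_stalk p
  haveI : Module.Finite B (F.presheaf.stalk p) :=
    Groth.L18.LFP.finite_stalk F (Groth.L15.Ref.isFP_of_isCoh hF) p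
  have hd' := hd p hp hpc
  haveI : CategoryTheory.Projective (ModuleCat.of B (F.presheaf.stalk p)) := by
    rw [CategoryTheory.projective_iff_hasProjectiveDimensionLT_one]
    refine Groth.L04.hasProjectiveDimensionLE_of_dim_le_add_depth (t := 0) _ (Groth.L22.PDual.dim_stalk hpc) ?_
    simpa using le_trans (show (r : ℕ∞) ≤ ((r + 1 : ℕ) : ℕ∞) by exact_mod_cast r.le_succ) hd'
  haveI : Module.Projective B (F.presheaf.stalk p) := (IsProjective.iff_projective _).2 inferInstance
  haveI : Module.Free B (F.presheaf.stalk p) := Module.free_of_flat_of_isLocalRing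
  by_contra hn
  haveI := not_subsingleton_iff_nontrivial.1 hn
  have h2 := (Groth.L01.AusBuch.depth_free (R := B) _ (r + 1)).1 hd'
  rw [Groth.L22.PDual.depth_eq_dim (A := B) (Groth.L22.PDual.dim_stalk hpc)] at h2
  exact absurd h2 (by norm_cast; omega)

include hU hUa in
/-- Zero on `U`. -/
theorem z_of_subsingleton {F : (CohB1.ProjSpace r k).Modules} (hF : Coh.IsCoh F) [Subsingleton Γ(F, U)] (q : ℕ) :
    Z 𝔞 q F := by
  haveI := isNoetherian_P (k := k) (r := r)
  haveI := hF.1
  obtain ⟨s, hs⟩ := exists_restrict_section (0 : F ⟶ F) hU LinearMap.id (fun m => Subsingleton.elim _ _)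
  have h0 : (Scheme.Modules.restrictFunctor U.ι).map (Dual3.idealMulι (𝔞 ^ 0) F) = 0 := by
    rw [← Category.comp_id ((Scheme.Modules.restrictFunctor U.ι).map _), ← hs, Functor.map_zero, comp_zero,
      comp_zero]
  obtain ⟨N, ι, hι, hι0⟩ := exists_comp_eq_zero F F hF 𝔞 hUa 0 (Dual3.idealMulι (𝔞 ^ 0) F) h0
  refine ⟨N, fun x => ?_⟩
  rw [← hι, hι0]
  exact Groth.L16.Rees.hmap_zero q x

include hU hUa in
/-- Bundles on `U`. -/
theorem z_of_projective {F : (CohB1.ProjSpace r k).Modules} (hF : Coh.IsCoh F)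
    [Module.Projective Γ(CohB1.ProjSpace r k, U) Γ(F, U)] {q : ℕ} (hq : q < r) : Z 𝔞 q F := by
  haveI := isNoetherian_P (k := k) (r := r)
  obtain ⟨T, hT, rfl, h₂, hv⟩ := exists_presentation hF
  haveI := hF.1
  haveI : Coh.IsQCoh T.X₂ := (Groth.L16.NegPow.isCoh_of_isFinLocFree h₂).1
  haveI := hT.epi_g
  obtain ⟨σ, hσ⟩ := Module.projective_lifting_property (lapp T.g U) LinearMap.id
    (Groth.L16.AffineBC.surjective_app_of_epi T.g hU)
  obtain ⟨s, hs⟩ := exists_restrict_section T.g hU σ fun m => LinearMap.congr_fun hσ m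
  obtain ⟨n, ψ, hψ⟩ := exists_extend T.X₂ T.X₃ hF 𝔞 U hUa s
  let D : (Dual3.idealMul (𝔞 ^ n)).obj T.X₃ ⟶ T.X₃ := ψ ≫ T.g - Dual3.idealMulι (𝔞 ^ n) T.X₃
  have hD : (Scheme.Modules.restrictFunctor U.ι).map D = 0 := by
    rw [Functor.map_sub, Functor.map_comp, hψ, Category.assoc, hs, Category.comp_id, sub_self]
  obtain ⟨N, ι, hι, hι0⟩ := exists_comp_eq_zero T.X₃ T.X₃ hF 𝔞 hUa n D hD
  refine ⟨N, fun x => ?_⟩
  haveI := hv q hq
  have e : Dual3.idealMulι (𝔞 ^ N) T.X₃ = (ι ≫ ψ) ≫ T.g := by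
    rw [Preadditive.comp_sub, sub_eq_zero] at hι0
    rw [← hι, Category.assoc, ← hι0]
  rw [e, hmap_comp, Subsingleton.elim (hmap (ι ≫ ψ) q x) 0, map_zero]

include hU in
/-- The depth grows along presentations. -/
theorem deep_left {T : ShortComplex (CohB1.ProjSpace r k).Modules} (hT : T.ShortExact)
    (h₂ : FlatMod.IsFinLocFree T.X₂) {m : ℕ} (hm : m + 1 ≤ r) (hd : Deep U m T.X₃) : Deep U (m + 1) T.X₁ := by
  haveI := isNoetherian_P (k := k) (r := r)
  intro p hp hpc
  let B := (CohB1.ProjSpace r k).presheaf.stalk p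
  let st := Groth.L00.Stk.F (CohB1.ProjSpace r k) p
  have hS := Groth.L12.KRes.shortExact_stalk hT p
  haveI : Module.Free B (st.obj T.X₂) := Groth.L18.LFP.free_stalk T.X₂ h₂ p
  haveI : Module.Finite B (st.obj T.X₂) :=
    Groth.L18.LFP.finite_stalk T.X₂ (Groth.L15.Ref.isFP_of_isCoh (Groth.L16.NegPow.isCoh_of_isFinLocFree h₂)) p
  haveI := Groth.L22.PDual.regular_stalk p
  haveI : Module.Finite B (st.obj T.X₁) := Module.Finite.of_injective (st.map T.f).hom hS.moduleCat_injective_f
  haveI : Module.Finite B (st.obj T.X₃) := Module.Finite.of_surjective (st.map T.g).hom hS.moduleCat_surjective_g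
  refine Groth.L04.le_idealDepth_left (f := (st.map T.f).hom) (g := (st.map T.g).hom)
    hS.moduleCat_injective_f hS.moduleCat_surjective_g
    ((ShortComplex.ShortExact.moduleCat_exact_iff_function_exact _).1 hS.exact) ?_ (hd p hp hpc)
  refine le_trans (show ((m + 1 : ℕ) : ℕ∞) ≤ (r : ℕ∞) by exact_mod_cast hm) ?_
  rcases subsingleton_or_nontrivial (st.obj T.X₂) with h | h
  · exact le_top.trans_eq (Groth.L04.idealDepth_eq_top (Subsingleton.elim _ _)).symm
  · exact (Groth.L01.AusBuch.depth_free (R := B) _ r).2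
      (Groth.L22.PDual.depth_eq_dim (A := B) (Groth.L22.PDual.dim_stalk hpc)).ge

/-- One step along a presentation. -/
theorem z_step {T : ShortComplex (CohB1.ProjSpace r k).Modules} (hT : T.ShortExact) (h₁ : Coh.IsCoh T.X₁)
    (h₂ : Coh.IsCoh T.X₂) (h₃ : Coh.IsCoh T.X₃) {q : ℕ} (hv : Subsingleton (Coh.HH (CohB1.ProjSpace r k) T.X₂ q))
    (hZ : Z 𝔞 (q + 1) T.X₁) : Z 𝔞 q T.X₃ := by
  classical
  haveI := isNoetherian_P (k := k) (r := r)
  haveI := h₁.1; haveI := h₂.1; haveI := h₃.1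
  haveI := hT.mono_f; haveI := hT.epi_g
  obtain ⟨N, hN⟩ := hZ
  obtain ⟨s, hs⟩ := exists_cover (CohB1.ProjSpace r k)
  have hAR : ∀ V : (CohB1.ProjSpace r k).affineOpens, ∃ c : ℕ, ∀ t : Γ(T.X₁, V.1),
      T.f.app V.1 t ∈ 𝔞.ideal V ^ (c + N) • (⊤ : Submodule Γ(CohB1.ProjSpace r k, V.1) Γ(T.X₂, V.1)) →
        t ∈ 𝔞.ideal V ^ N • (⊤ : Submodule Γ(CohB1.ProjSpace r k, V.1) Γ(T.X₁, V.1)) := by
    intro V
    haveI : IsNoetherianRing Γ(CohB1.ProjSpace r k, V.1) := IsLocallyNoetherian.component_noetherian V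
    haveI := Groth.L20.ModStalk.finite_sections T.X₂ h₂ V.2
    obtain ⟨c, hc⟩ := Ideal.exists_pow_inf_eq_pow_smul (𝔞.ideal V) (LinearMap.range (lapp T.f V.1))
    refine ⟨c, fun t ht => ?_⟩
    have h' : lapp T.f V.1 t ∈ 𝔞.ideal V ^ (c + N) • ⊤ ⊓ LinearMap.range (lapp T.f V.1) := ⟨ht, t, rfl⟩
    rw [hc _ (Nat.le_add_right _ _), Nat.add_sub_cancel_left] at h'
    have h'' := Submodule.smul_mono le_rfl (inf_le_right : _ ≤ LinearMap.range (lapp T.f V.1)) h'
    rw [← Submodule.map_top (f := lapp T.f V.1), ← Submodule.map_smul''] at h''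
    obtain ⟨t', ht', he⟩ := h''
    have hinj : Function.Injective (T.f.app V.1) := Groth.L16.Acc.app_injective T.f V.1
    exact hinj he ▸ ht'
  choose c hc using hAR
  let M := s.sup c + N
  let Φ := Dual3.idealMul (𝔞 ^ M)
  let π' := Φ.map T.g
  have hπ : π' ≫ Dual3.idealMulι (𝔞 ^ M) T.X₃ = Dual3.idealMulι (𝔞 ^ M) T.X₂ ≫ T.g :=
    kernel.lift_ι _ _ _
  haveI := isQCoh_idealMul (𝔞 ^ M) T.X₂
  haveI := isQCoh_idealMul (𝔞 ^ M) T.X₃
  haveI : Epi π' := by
    refine Preadditive.epi_of_cokernel_zero (Groth.L20.ResDescent.eq_zero_of_affine _ fun x => ?_)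
    obtain ⟨V, -, hxV⟩ := hs x
    refine ⟨V.1, V.2, hxV, fun m => ?_⟩
    have hm := (exists_app_eq_iff (𝔞 ^ M) T.X₃ V.2 _).1 ⟨m, rfl⟩
    rw [← LinearMap.range_eq_top.2 (show Function.Surjective (lapp T.g V.1) from
      Groth.L16.AffineBC.surjective_app_of_epi T.g V.2), ← Submodule.map_top (f := lapp T.g V.1),
      ← Submodule.map_smul''] at hm
    obtain ⟨e, he, hem⟩ := hm
    obtain ⟨w, hw⟩ := (exists_app_eq_iff (𝔞 ^ M) T.X₂ V.2 e).2 he
    have hwm : π'.app V.1 w = m := ι_app_injective (𝔞 ^ M) T.X₃ V.1 (by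
      show (π' ≫ Dual3.idealMulι (𝔞 ^ M) T.X₃).app V.1 w = _
      rw [hπ]
      exact (congrArg (T.g.app V.1) hw).trans hem)
    rw [← hwm]
    show (π' ≫ cokernel.π π').app V.1 w = 0
    rw [cokernel.condition]
    rfl
  let S' := ShortComplex.mk (kernel.ι π') π' (kernel.condition π')
  have hS' : S'.ShortExact :=
    { exact := ShortComplex.exact_kernel _, mono_f := inferInstance, epi_g := ‹Epi π'› }
  let κ : kernel π' ⟶ T.X₁ := hT.fIsKernel.lift (KernelFork.ofι (kernel.ι π' ≫ Dual3.idealMulι (𝔞 ^ M) T.X₂) (by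
    rw [Category.assoc, ← hπ, kernel.condition_assoc, zero_comp]))
  have hκ : κ ≫ T.f = kernel.ι π' ≫ Dual3.idealMulι (𝔞 ^ M) T.X₂ :=
    hT.fIsKernel.fac _ WalkingParallelPair.zero
  haveI := isQCoh_idealMul (𝔞 ^ N) T.X₁
  haveI : Coh.IsQCoh (kernel π') := Groth.L18.IdealModule.isQCoh_kernel π'
  haveI : Coh.IsQCoh (cokernel (Dual3.idealMulι (𝔞 ^ N) T.X₁)) :=
    (Groth.L00.AlgQCoh.isQCoh_kernel_cokernel _ ‹_› h₁.1).2
  haveI : Mono (Dual3.idealMulι (𝔞 ^ N) T.X₁) := inferInstanceAs (Mono (kernel.ι _))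
  have hl : κ ≫ cokernel.π (Dual3.idealMulι (𝔞 ^ N) T.X₁) = 0 := by
    refine Groth.L20.ResDescent.eq_zero_of_affine _ fun x => ?_
    obtain ⟨V, hVs, hxV⟩ := hs x
    refine ⟨V.1, V.2, hxV, fun m => ?_⟩
    have h1 : T.f.app V.1 (κ.app V.1 m) ∈
        𝔞.ideal V ^ (c V + N) • (⊤ : Submodule Γ(CohB1.ProjSpace r k, V.1) Γ(T.X₂, V.1)) := by
      have h2 := (exists_app_eq_iff (𝔞 ^ M) T.X₂ V.2 _).1 ⟨(kernel.ι π').app V.1 m, rfl⟩
      rw [Scheme.IdealSheafData.ideal_pow, Pi.pow_apply] at h2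
      have h3 : T.f.app V.1 (κ.app V.1 m) = (Dual3.idealMulι (𝔞 ^ M) T.X₂).app V.1 ((kernel.ι π').app V.1 m) :=
        congr($(hκ).app V.1 m)
      rw [h3]
      exact Submodule.smul_mono_left (Ideal.pow_le_pow_right (Nat.add_le_add_right (Finset.le_sup hVs) N)) h2
    obtain ⟨w, hw⟩ := (exists_app_eq_iff (𝔞 ^ N) T.X₁ V.2 (κ.app V.1 m)).2 (by
      rw [Scheme.IdealSheafData.ideal_pow, Pi.pow_apply]
      exact hc V _ h1)
    show (cokernel.π (Dual3.idealMulι (𝔞 ^ N) T.X₁)).app V.1 (κ.app V.1 m) = 0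
    rw [← hw]
    show (Dual3.idealMulι (𝔞 ^ N) T.X₁ ≫ cokernel.π _).app V.1 w = 0
    rw [cokernel.condition]
    rfl
  let τ : S' ⟶ T :=
    { τ₁ := κ
      τ₂ := Dual3.idealMulι (𝔞 ^ M) T.X₂
      τ₃ := Dual3.idealMulι (𝔞 ^ M) T.X₃
      comm₁₂ := hκ
      comm₂₃ := hπ.symm }
  refine ⟨M, fun x => ?_⟩
  have h0 : delta hT q (hmap (Dual3.idealMulι (𝔞 ^ M) T.X₃) q x) = 0 := by
    refine (Groth.L16.Rees.delta_naturality hS' hT τ x).trans ?_
    show hmap κ (q + 1) _ = 0
    rw [← Abelian.monoLift_comp (Dual3.idealMulι (𝔞 ^ N) T.X₁) κ hl, hmap_comp]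
    exact hN _
  obtain ⟨e, he⟩ := (exact_hmap_delta hT q _).1 h0
  rw [← he, Subsingleton.elim e 0, map_zero]

include hU hUa in
/-- High powers of `𝔞` kill the cohomology in degrees below the depth off `V(𝔞)`. -/
theorem z_of_deep : ∀ (c n : ℕ), r ≤ n + c → ∀ {F : (CohB1.ProjSpace r k).Modules}, Coh.IsCoh F →
    Deep U (n + 1) F → ∀ q, q ≤ n → Z 𝔞 q F := by
  intro c
  induction c with
  | zero =>
    intro n hn F hF hd q _
    haveI := subsingleton_sections U hU hF fun p hp hpc =>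
      le_trans (by exact_mod_cast Nat.succ_le_succ hn) (hd p hp hpc)
    exact z_of_subsingleton 𝔞 U hU hUa hF q
  | succ c ih =>
    intro n hn F hF hd q hq
    by_cases hr : r ≤ n
    · exact ih n (le_trans hr (Nat.le_add_right _ _)) hF hd q hq
    by_cases h1 : r = n + 1
    · subst h1
      haveI := projective_sections U hU hF hd
      exact z_of_projective 𝔞 U hU hUa hF (Nat.lt_succ_of_le hq)
    haveI := isNoetherian_P (k := k) (r := r)
    obtain ⟨T, hT, rfl, h₂, hv⟩ := exists_presentation hF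
    have hK : Coh.IsCoh T.X₁ := Groth.L18.NegVanish.isCoh_kernel hT h₂ hF
    exact z_step 𝔞 hT hK (Groth.L16.NegPow.isCoh_of_isFinLocFree h₂) hF (hv q (by omega))
      (ih (n + 1) (by omega) hK (deep_left U hU hT h₂ (by omega) hd) (q + 1) (by omega))

end Proj

end Groth.L18.OffAffine
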