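import Groth.Agent.L18.LefTowerPres
import Groth.Agent.L17.FSheaf.CompBridge
import Groth.Agent.L17.FSheaf.AlgzCompletion
import Groth.Agent.L16.HomCorep.Main
import Groth.Agent.L29.DCoh.RelBC
import Groth.Agent.L29.DCoh.PullTensor
import Groth.Agent.L18.FreeNearLevels
import Groth.Prelude.Def_LefX

/-!
# Systems of bundles on a completion as towers
-/

set_option autoImplicit false
set_option linter.style.haveILetI false
set_option linter.unusedSectionVars false
set_option backward.isDefEq.respectTransparency false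
set_option backward.isDefEq.respectTransparency.types false
universe u

open CategoryTheory CategoryTheory.Limits AlgebraicGeometry TopologicalSpace Opposite
open scoped TensorProduct

noncomputable section

namespace Groth.L18.LefTower

open Groth.L18.Frame (rs ro pull rs_rs rs_self)
open Groth.L17.BC.PullSec (app_rs map_pull)
open Groth.L16.AffineBC (pullRes isBaseChange_pull)
open Groth.L17.FSheaf (pullSys pullTrans_app gObj gTr gle gTr_app surjective_of_baseChange mem_map_smul_top_iff appLE_surjective_of_eq ker_appLE)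
open Groth.L22.Reg (sm sm_comp sm_map_sub sm_map_zero sm_id sm_zero)
open Groth.L20.SeeNormal (sI)
open Groth.L00.Tensor (tensorIso tensorComm tensorAssoc tensorUnitLeft tensorUnitRight)

/-- Inverting an equation of sections. -/
theorem inv_app_of {Y : Scheme.{u}} {M N : Y.Modules} (φ : M ≅ N) {V : Y.Opens} {x : Γ(M, V)} {y : Γ(N, V)}
    (h : φ.hom.app V x = y) : φ.inv.app V y = x := by
  subst h
  exact ConcreteCategory.congr_hom (congrArg (fun t => Scheme.Modules.Hom.app t V) φ.hom_inv_id) x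

theorem adjApp {A B : Scheme.{u}} (f : A ⟶ B) {F : B.Modules} {N : A.Modules}
    (g : (Scheme.Modules.pullback f).obj F ⟶ N) {W : B.Opens} (m : Γ(F, W)) :
    ((Scheme.Modules.pullbackPushforwardAdjunction f).homEquiv F N g).app W m =
      g.app (f ⁻¹ᵁ W) (pull f F W m) := by
  rw [Adjunction.homEquiv_unit]
  rfl

theorem comp3_app {A : Scheme.{u}} {N₀ N₁ N₂ N : A.Modules} (φ : N₀ ⟶ N₁) (ψ : N₁ ⟶ N₂) (χ : N₂ ⟶ N)
    (V : A.Opens) (x : Γ(N₀, V)) : (φ ≫ ψ ≫ χ).app V x = χ.app V (ψ.app V (φ.app V x)) := by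
  simp

theorem trans_step {A B C : Scheme.{u}} (f : A ⟶ B) (g : B ⟶ C) {r : A ⟶ C} (q : f ≫ g = r) (M : C.Modules)
    {N : B.Modules} (α : (Scheme.Modules.pullback g).obj M ⟶ N) (W : C.Opens) (m : Γ(M, W))
    (e0 : r ⁻¹ᵁ W ≤ f ⁻¹ᵁ (g ⁻¹ᵁ W)) :
    ((Scheme.Modules.pullback f).map α).app (r ⁻¹ᵁ W)
        (((Scheme.Modules.pullbackComp f g ≪≫ Scheme.Modules.pullbackCongr q).app M).inv.app (r ⁻¹ᵁ W)
          (pull r M W m)) =
      rs ((Scheme.Modules.pullback f).obj N) e0 (pull f N (g ⁻¹ᵁ W) (α.app (g ⁻¹ᵁ W) (pull g M W m))) := by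
  have he := pullTrans_app f g q M W m (U := g ⁻¹ᵁ W) (V := r ⁻¹ᵁ W) le_rfl e0 le_rfl
  rw [rs_self _ (le_refl _), rs_self _ (le_refl _)] at he
  rw [inv_app_of _ he, app_rs, map_pull]

variable {X : Scheme.{u}} (𝓘 : X.IdealSheafData)

local notation "𝔛" => FSch.completionAlong X 𝓘
local notation "p" => FSch.completionToX X 𝓘
local notation "hp" => FSch.completionToX_comm X 𝓘

theorem cut (k : ℕ) {U : X.Opens} (hU : IsAffineOpen U) :
    Function.Surjective ((p k).app U).hom ∧ RingHom.ker ((p k).app U).hom = (𝓘.ideal ⟨U, hU⟩) ^ (k + 1) := by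
  refine ⟨(𝓘 ^ (k + 1)).subschemeι.app_surjective U hU, ?_⟩
  haveI := Groth.L17.FSheaf.isClosedImmersion_completionToX 𝓘 k
  have h := Scheme.Hom.ker_apply (𝓘 ^ (k + 1)).subschemeι ⟨U, hU⟩
  rw [Scheme.IdealSheafData.ker_subschemeι, Scheme.IdealSheafData.ideal_pow, Pi.pow_apply] at h
  exact h.symm

theorem surjective_unit {M : X.Modules} [Coh.IsQCoh M] (k : ℕ) {W : X.Opens} (hW : IsAffineOpen W) :
    Function.Surjective (((Scheme.Modules.pullbackPushforwardAdjunction (p k)).unit.app M).app W) := by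
  haveI := Groth.L17.FSheaf.isClosedImmersion_completionToX 𝓘 k
  let U := p k ⁻¹ᵁ W
  let e : U ≤ p k ⁻¹ᵁ W := le_rfl
  let P := (Scheme.Modules.pullback (p k)).obj M
  letI : Algebra Γ(X, W) Γ((𝔛).X k, U) := ((p k).appLE W U e).hom.toAlgebra
  letI := Module.compHom Γ(P, U) ((p k).appLE W U e).hom
  haveI : IsScalarTower Γ(X, W) Γ((𝔛).X k, U) Γ(P, U) := IsScalarTower.of_algebraMap_smul fun _ _ => rfl
  obtain ⟨hs, -⟩ := surjective_of_baseChange _ (isBaseChange_pull (p k) M hW (hW.preimage _) e)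
    (appLE_surjective_of_eq (p k) rfl (cut 𝓘 k hW).1)
  intro z
  obtain ⟨m, hm⟩ := hs z
  exact ⟨m, (rs_self P e _).symm.trans hm⟩

variable (𝔐 : FSch.ModSys (FSch.completionAlong X 𝓘))

/-- The transition maps on an affine open. -/
theorem gTr_spec (h𝔐 : 𝔐.IsCoh) {W : X.Opens} (hW : IsAffineOpen W) (k : ℕ) :
    Function.Surjective ((gTr (𝔛) (p) hp 𝔐 k).app W) ∧ ∀ y, (gTr (𝔛) (p) hp 𝔐 k).app W y = 0 ↔
      y ∈ (𝓘.ideal ⟨W, hW⟩) ^ (k + 1) • (⊤ : Submodule Γ(X, W) Γ(gObj (𝔛) (p) 𝔐 (k + 1), W)) := by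
  haveI := Groth.L17.FSheaf.isClosedImmersion_completionToX 𝓘 k
  haveI := Groth.L17.FSheaf.isClosedImmersion_completionToX 𝓘 (k + 1)
  haveI := (h𝔐 (k + 1)).1
  let V := p (k + 1) ⁻¹ᵁ W
  let U := p k ⁻¹ᵁ W
  have hV : IsAffineOpen V := hW.preimage _
  have hU : IsAffineOpen U := hW.preimage _
  let e : U ≤ (𝔛).ι k ⁻¹ᵁ V := gle (𝔛) (p) k W (FSch.completionToX_comm X 𝓘 k)
  let P := (Scheme.Modules.pullback ((𝔛).ι k)).obj (𝔐.F (k + 1))
  letI : Algebra Γ((𝔛).X (k + 1), V) Γ((𝔛).X k, U) := (((𝔛).ι k).appLE V U e).hom.toAlgebra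
  letI := Module.compHom Γ(P, U) (((𝔛).ι k).appLE V U e).hom
  haveI : IsScalarTower Γ((𝔛).X (k + 1), V) Γ((𝔛).X k, U) Γ(P, U) := IsScalarTower.of_algebraMap_smul fun _ _ => rfl
  have hc : ∀ a, algebraMap Γ((𝔛).X (k + 1), V) Γ((𝔛).X k, U) ((p (k + 1)).app W a) = (p k).app W a := fun a => by
    show ((𝔛).ι k).appLE V U e ((p (k + 1)).app W a) = _
    rw [Scheme.Hom.app_eq_appLE, Scheme.Hom.app_eq_appLE]
    exact ConcreteCategory.congr_hom
      (FSch.appLE_comp_appLE_of_eq ((𝔛).ι k) (p (k + 1)) (p k) (FSch.completionToX_comm X 𝓘 k) W V U le_rfl e le_rfl) a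
  have hsur : Function.Surjective (algebraMap Γ((𝔛).X (k + 1), V) Γ((𝔛).X k, U)) := fun z => by
    obtain ⟨a, ha⟩ := (cut 𝓘 k hW).1 z
    exact ⟨(p (k + 1)).app W a, (hc a).trans ha⟩
  have hkr : RingHom.ker (algebraMap Γ((𝔛).X (k + 1), V) Γ((𝔛).X k, U)) =
      ((𝓘.ideal ⟨W, hW⟩) ^ (k + 1)).map ((p (k + 1)).app W).hom := by
    rw [← (cut 𝓘 k hW).2]
    refine le_antisymm (fun z hz => ?_) (Ideal.map_le_iff_le_comap.2 fun a ha => ?_)
    · obtain ⟨a, rfl⟩ := (cut 𝓘 (k + 1) hW).1 z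
      exact Ideal.mem_map_of_mem _ ((hc a).symm.trans hz)
    · exact (hc a).trans ha
  obtain ⟨hs, hk⟩ := surjective_of_baseChange _ (isBaseChange_pull ((𝔛).ι k) (𝔐.F (k + 1)) hV hU e) hsur
  have hbij := ConcreteCategory.bijective_of_isIso (C := Ab.{u}) ((𝔐.e k).hom.app U)
  refine ⟨fun z => ?_, fun y => ?_⟩
  · obtain ⟨w, hw⟩ := hbij.2 z
    obtain ⟨y, rfl⟩ := hs w
    exact ⟨y, (gTr_app (𝔛) (p) hp 𝔐 k W y).trans hw⟩
  · letI : Module Γ((𝔛).X (k + 1), V) Γ(gObj (𝔛) (p) 𝔐 (k + 1), W) :=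
      (inferInstance : Module Γ((𝔛).X (k + 1), V) Γ(𝔐.F (k + 1), V))
    refine Iff.trans ?_ (mem_map_smul_top_iff ((p (k + 1)).app W).hom (cut 𝓘 (k + 1) hW).1
      (fun (a : Γ(X, W)) (z : Γ(gObj (𝔛) (p) 𝔐 (k + 1), W)) =>
        (show a • z = ((p (k + 1)).app W).hom a • z from rfl)) _ y).symm
    rw [← hkr]
    refine Iff.trans ?_ (Iff.of_eq (congrArg (fun S : Submodule Γ((𝔛).X (k + 1), V) Γ(𝔐.F (k + 1), V) =>
      (show Γ(𝔐.F (k + 1), V) from y) ∈ S) hk))
    constructor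
    · intro hy
      refine LinearMap.mem_ker.2 (hbij.1 ?_)
      exact (gTr_app (𝔛) (p) hp 𝔐 k W y).symm.trans (hy.trans (map_zero ((𝔐.e k).hom.app U).hom).symm)
    · intro hy
      exact (gTr_app (𝔛) (p) hp 𝔐 k W y).trans
        ((congrArg ((𝔐.e k).hom.app U) (LinearMap.mem_ker.1 hy)).trans (map_zero _))

/-- Modules on a level are killed by a power of the generator. -/
theorem smul_eq_zero_push (k : ℕ) (M : ((𝔛).X k).Modules) {x : X} {s : X.presheaf.stalk x}
    (hs : sI 𝓘 x = Ideal.span {s}) (v : (Groth.L00.Stk.F X x).obj ((Scheme.Modules.pushforward (p k)).obj M)) :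
    s ^ (k + 1) • v = 0 := by
  haveI := Groth.L17.FSheaf.isClosedImmersion_completionToX 𝓘 k
  by_cases hx : x ∈ Set.range (p k)
  · obtain ⟨z, rfl⟩ := hx
    let E := Groth.L18.NegVanish.pushE (p k) M z
    refine E.e.injective ((E.map_smul _ _).trans ?_)
    have h : E.φ (s ^ (k + 1)) = 0 := by
      show (s ^ (k + 1)) ∈ RingHom.ker ((p k).stalkMap z).hom
      rw [show RingHom.ker ((p k).stalkMap z).hom = sI ((𝓘 ^ (k + 1)).subschemeι).ker (p k z) from
        Groth.L20.Infinitesimal.ker_stalkMap (𝓘 ^ (k + 1)).subschemeι z,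
        Scheme.IdealSheafData.ker_subschemeι, Groth.L20.Infinitesimal.sI_pow, hs, Ideal.span_singleton_pow]
      exact Ideal.mem_span_singleton_self _
    exact (congrArg (· • E.e v) h).trans ((zero_smul _ _).trans (map_zero E.e).symm)
  · haveI : Subsingleton ((Groth.L00.Stk.F X x).obj ((Scheme.Modules.pushforward (p k)).obj M)) :=
      Groth.L17.ClosedPush.subsingleton_stalk_push (p k) M hx
    exact Subsingleton.elim _ _

variable (hI : PicF.IsInvertible (ClSub.idealMod 𝓘))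

include hI in
theorem ann_push (k : ℕ) {M : ((𝔛).X k).Modules} (hM : FlatMod.IsFinLocFree M) (a b : ℕ) {x : X}
    {s : X.presheaf.stalk x} (hs : sI 𝓘 x = Ideal.span {s}) (hab : a + b = k + 1)
    (v : (Groth.L00.Stk.F X x).obj ((Scheme.Modules.pushforward (p k)).obj M)) (hv : s ^ a • v = 0) :
    ∃ w, s ^ b • w = v := by
  haveI := Groth.L17.FSheaf.isClosedImmersion_completionToX 𝓘 k
  by_cases hx : x ∈ Set.range (p k)
  · obtain ⟨z, rfl⟩ := hx
    let E := Groth.L18.NegVanish.pushE (p k) M z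
    let R := ((𝔛).X k).presheaf.stalk z
    haveI : Module.Free R (M.presheaf.stalk z) := Groth.L18.LFP.free_stalk M hM z
    let B := Module.Free.chooseBasis R (M.presheaf.stalk z)
    have h0 : E.φ (s ^ a) • E.e v = 0 := (E.map_smul _ _).symm.trans ((congrArg E.e hv).trans (map_zero _))
    have hk : ∀ c, E.φ c = 0 → c ∈ Ideal.span {s ^ (k + 1)} := fun c hc => by
      have : c ∈ RingHom.ker ((p k).stalkMap z).hom := hc
      rwa [show RingHom.ker ((p k).stalkMap z).hom = sI ((𝓘 ^ (k + 1)).subschemeι).ker (p k z) from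
        Groth.L20.Infinitesimal.ker_stalkMap (𝓘 ^ (k + 1)).subschemeι z,
        Scheme.IdealSheafData.ker_subschemeι, Groth.L20.Infinitesimal.sI_pow, hs, Ideal.span_singleton_pow] at this
    have hc : ∀ i, ∃ d, (show R from E.φ (s ^ b) * E.φ d) = B.repr (E.e v) i := fun i => by
      obtain ⟨c, hc⟩ := E.surj (B.repr (E.e v) i)
      have h1 : E.φ (s ^ a * c) = 0 := by
        rw [map_mul, hc]
        have := congrArg (fun z => B.repr z i) h0
        simpa only [map_smul, Finsupp.smul_apply, smul_eq_mul, map_zero, Finsupp.zero_apply] using this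
      obtain ⟨d, hd⟩ := Ideal.mem_span_singleton'.1 (hk _ h1)
      refine ⟨d, ?_⟩
      rw [← map_mul, ← hc]
      refine congrArg E.φ ((isSMulRegular_of_span hI hs).pow a ?_)
      show s ^ a * (s ^ b * d) = s ^ a * c
      rw [← hd, ← mul_assoc, ← pow_add, hab, mul_comm]
    choose d hd using hc
    haveI : Module.Finite R (M.presheaf.stalk z) := by
      haveI := (Groth.L18.LFP.isFP_and_free_iff M).2 hM |>.1
      exact Groth.L18.LFP.finite_stalk M ((Groth.L18.LFP.isFP_and_free_iff M).2 hM).1 z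
    obtain ⟨w, hw⟩ := E.e.surjective (∑ i, E.φ (d i) • B i)
    refine ⟨w, E.e.injective ?_⟩
    rw [E.map_smul, hw, Finset.smul_sum]
    refine Eq.trans ?_ (B.sum_repr (E.e v))
    refine Finset.sum_congr rfl fun i _ => ?_
    rw [smul_smul]
    exact congrArg (· • B i) (hd i)
  · haveI : Subsingleton ((Groth.L00.Stk.F X x).obj ((Scheme.Modules.pushforward (p k)).obj M)) :=
      Groth.L17.ClosedPush.subsingleton_stalk_push (p k) M hx
    exact ⟨0, Subsingleton.elim _ _⟩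

/-- The tower of a levelwise locally free system. -/
def sysTower [IsLocallyNoetherian X] (hfree : LefX.LevelwiseFinLocFree 𝔐) : Tower 𝓘 where
  G n := gObj (𝔛) (p) 𝔐 n
  tr n := gTr (𝔛) (p) hp 𝔐 n
  coh n := by
    haveI := Groth.L17.FSheaf.isClosedImmersion_completionToX 𝓘 n
    haveI : IsLocallyNoetherian ((𝔛).X n) := LocallyOfFiniteType.isLocallyNoetherian (p n)
    exact Groth.L16.CohClosedPush.isCoh_push (p n) (Groth.L16.NegPow.isCoh_of_isFinLocFree (hfree n))
  surj n x v := by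
    have hcoh : 𝔐.IsCoh := fun k => by
      haveI := Groth.L17.FSheaf.isClosedImmersion_completionToX 𝓘 k
      haveI : IsLocallyNoetherian ((𝔛).X k) := LocallyOfFiniteType.isLocallyNoetherian (p k)
      exact Groth.L16.NegPow.isCoh_of_isFinLocFree (hfree k)
    obtain ⟨U, hxU, z, rfl⟩ := TopCat.Presheaf.exists_germ_eq (F := (gObj (𝔛) (p) 𝔐 n).presheaf) (x := x) v
    obtain ⟨W, hW, hxW, hWU⟩ := exists_isAffineOpen_mem_and_subset (x := x) (U := U) hxU
    obtain ⟨y, hy⟩ := (gTr_spec 𝓘 𝔐 hcoh hW n).1 (rs _ hWU z)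
    refine ⟨(gObj (𝔛) (p) 𝔐 (n + 1)).presheaf.germ W x hxW y, ?_⟩
    refine (TopCat.Presheaf.stalkFunctor_map_germ_apply W x hxW _ y).trans ?_
    exact (congrArg ((gObj (𝔛) (p) 𝔐 n).presheaf.germ W x hxW) hy).trans
      (TopCat.Presheaf.germ_res_apply (gObj (𝔛) (p) 𝔐 n).presheaf (homOfLE hWU) x hxW z)
  kill n _ _ hs v := smul_eq_zero_push 𝓘 n _ hs v
  ker_tr n x s hs v hv := by
    have hcoh : 𝔐.IsCoh := fun k => by
      haveI := Groth.L17.FSheaf.isClosedImmersion_completionToX 𝓘 k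
      haveI : IsLocallyNoetherian ((𝔛).X k) := LocallyOfFiniteType.isLocallyNoetherian (p k)
      exact Groth.L16.NegPow.isCoh_of_isFinLocFree (hfree k)
    obtain ⟨U, hxU, y, rfl⟩ := TopCat.Presheaf.exists_germ_eq (F := (gObj (𝔛) (p) 𝔐 (n + 1)).presheaf) (x := x) v
    have h0 : (gObj (𝔛) (p) 𝔐 n).presheaf.germ U x hxU ((gTr (𝔛) (p) hp 𝔐 n).app U y) =
        (gObj (𝔛) (p) 𝔐 n).presheaf.germ U x hxU 0 := by
      rw [map_zero]
      exact (TopCat.Presheaf.stalkFunctor_map_germ_apply U x hxU _ y).symm.trans hv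
    obtain ⟨U', hxU', i, j, hij⟩ := TopCat.Presheaf.germ_eq _ x hxU hxU _ _ h0
    rw [map_zero] at hij
    obtain ⟨W, hW, hxW, hWU'⟩ := exists_isAffineOpen_mem_and_subset (x := x) (U := U') hxU'
    have hWU : W ≤ U := fun z hz => i.le (hWU' hz)
    have hy : (gTr (𝔛) (p) hp 𝔐 n).app W (rs _ hWU y) = 0 := by
      refine (app_rs _ hWU y).trans ?_
      show (gObj (𝔛) (p) 𝔐 n).presheaf.map (homOfLE hWU).op _ = 0
      rw [show (homOfLE hWU).op = i.op ≫ (homOfLE hWU').op from Subsingleton.elim _ _, Functor.map_comp,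
        ConcreteCategory.comp_apply, hij, map_zero]
    have hmem := ((gTr_spec 𝓘 𝔐 hcoh hW n).2 _).1 hy
    let G := gObj (𝔛) (p) 𝔐 (n + 1)
    have key : ∀ m ∈ (𝓘.ideal ⟨W, hW⟩) ^ (n + 1) • (⊤ : Submodule Γ(X, W) Γ(G, W)),
        ∃ w : (Groth.L00.Stk.F X x).obj G, s ^ (n + 1) • w = G.presheaf.germ W x hxW m := by
      intro m hm
      refine Submodule.smul_induction_on hm (fun r hr m _ => ?_) fun a b ⟨wa, ha⟩ ⟨wb, hb⟩ => ⟨wa + wb, ?_⟩
      · have h1 : X.presheaf.germ W x hxW r ∈ Ideal.span {s ^ (n + 1)} := by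
          rw [← Ideal.span_singleton_pow, ← hs, Groth.L20.SeeNormal.sI_eq _ ⟨W, hW⟩ hxW, ← Ideal.map_pow]
          exact Ideal.mem_map_of_mem _ hr
        obtain ⟨c, hc⟩ := Ideal.mem_span_singleton'.1 h1
        refine ⟨c • (show (Groth.L00.Stk.F X x).obj G from G.presheaf.germ W x hxW m), ?_⟩
        rw [Groth.L20.ModStalk.germ_smul, smul_smul, mul_comm, hc]
      · rw [smul_add, ha, hb, map_add]
    obtain ⟨w, hw⟩ := key _ hmem
    exact ⟨w, hw.trans (TopCat.Presheaf.germ_res_apply G.presheaf (homOfLE hWU) x hxW y)⟩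
  ann n a b x s hs hab v hv := ann_push 𝓘 hI n (hfree n) a b hs hab v hv

/-- A module with the levels of a system as reductions has it as completion. -/
theorem nonempty_complMod_iso [IsLocallyNoetherian X] (hfree : LefX.LevelwiseFinLocFree 𝔐) {F : X.Modules}
    (hF : Coh.IsCoh F) (β : ∀ n, F ⟶ gObj (𝔛) (p) 𝔐 n) (hβ : ∀ n, β (n + 1) ≫ gTr (𝔛) (p) hp 𝔐 n = β n)
    (hs : ∀ n x, Function.Surjective (sm x (β n)))
    (hk : ∀ n (x : X) (s : X.presheaf.stalk x), sI 𝓘 x = Ideal.span {s} →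
      ∀ v, sm x (β n) v = 0 → ∃ w, s ^ (n + 1) • w = v)
    (hgen : ∀ x, ∃ s : X.presheaf.stalk x, sI 𝓘 x = Ideal.span {s}) :
    Nonempty (FSch.complMod 𝓘 F ≅ 𝔐) := by
  haveI : Coh.IsQCoh F := hF.1
  let adj := fun k => Scheme.Modules.pullbackPushforwardAdjunction (p k)
  let a : ∀ k, (pullSys (𝔛) (p) hp F).F k ⟶ 𝔐.F k := fun k => ((adj k).homEquiv _ _).symm (β k)
  have hfac : ∀ k, (adj k).unit.app F ≫ (Scheme.Modules.pushforward (p k)).map (a k) = β k := fun k => by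
    exact ((adj k).homEquiv_unit (f := a k)).symm.trans (Equiv.apply_symm_apply _ _)
  have ha : ∀ (k : ℕ) (W : X.Opens) (m : Γ(F, W)),
      (a k).app (p k ⁻¹ᵁ W) (pull (p k) F W m) = (show Γ(𝔐.F k, p k ⁻¹ᵁ W) from (β k).app W m) := fun k W m =>
    ConcreteCategory.congr_hom (congrArg (fun t => Scheme.Modules.Hom.app t W) (hfac k)) m
  have hcomm : ∀ k, (Scheme.Modules.pullback ((𝔛).ι k)).map (a (k + 1)) ≫ (𝔐.e k).hom =
      ((pullSys (𝔛) (p) hp F).e k).hom ≫ a k := fun k => by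
    refine (cancel_epi ((pullSys (𝔛) (p) hp F).e k).inv).1 ?_
    rw [Iso.inv_hom_id_assoc]
    refine ((Scheme.Modules.pullbackPushforwardAdjunction (p k)).homEquiv F (𝔐.F k)).injective ?_
    refine Groth.L16.AffineBC.hom_ext_affine _ _ fun W _ m => ?_
    rw [adjApp, adjApp, comp3_app]
    have h4 := trans_step ((𝔛).ι k) (p (k + 1)) (FSch.completionToX_comm X 𝓘 k) F (a (k + 1)) W m
      (gle (𝔛) (p) k W (FSch.completionToX_comm X 𝓘 k))
    refine (congrArg ((𝔐.e k).hom.app (p k ⁻¹ᵁ W))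
      (h4.trans (congrArg (fun t => rs ((Scheme.Modules.pullback ((𝔛).ι k)).obj (𝔐.F (k + 1))) _
        (pull ((𝔛).ι k) (𝔐.F (k + 1)) _ t)) (ha (k + 1) W m)))).trans ?_
    refine Eq.trans ?_ (ha k W m).symm
    refine (gTr_app (𝔛) (p) hp 𝔐 k W ((β (k + 1)).app W m)).symm.trans ?_
    exact ConcreteCategory.congr_hom (congrArg (fun t => Scheme.Modules.Hom.app t W) (hβ k)) m
  haveI hai : ∀ k, IsIso (a k) := fun k => by
    haveI := Groth.L17.FSheaf.isClosedImmersion_completionToX 𝓘 k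
    let b := (Scheme.Modules.pushforward (p k)).map (a k)
    haveI : IsIso b := by
      haveI : Epi b := epi_of_sm _ fun x v => by
        obtain ⟨w, rfl⟩ := hs k x v
        exact ⟨sm x ((adj k).unit.app F) w, by rw [← sm_comp, hfac]; rfl⟩
      haveI : Mono b := mono_of_sm _ fun x => by
        refine (injective_iff_map_eq_zero ((Groth.L00.Stk.F X x).map b).hom).2 fun z hz => ?_
        obtain ⟨s, hs'⟩ := hgen x
        obtain ⟨U, hxU, t, rfl⟩ := TopCat.Presheaf.exists_germ_eq (F := ((Scheme.Modules.pushforward (p k)).obj ((Scheme.Modules.pullback (p k)).obj F)).presheaf) (x := x) z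
        obtain ⟨W, hW, hxW, hWU⟩ := exists_isAffineOpen_mem_and_subset (x := x) (U := U) hxU
        obtain ⟨m, hm⟩ := surjective_unit 𝓘 (M := F) k hW (rs _ hWU t)
        let v : (Groth.L00.Stk.F X x).obj F := F.presheaf.germ W x hxW m
        have hv : sm x ((adj k).unit.app F) v =
            ((Scheme.Modules.pushforward (p k)).obj ((Scheme.Modules.pullback (p k)).obj F)).presheaf.germ U x hxU t :=
          (TopCat.Presheaf.stalkFunctor_map_germ_apply W x hxW _ m).trans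
            ((congrArg (((Scheme.Modules.pushforward (p k)).obj ((Scheme.Modules.pullback (p k)).obj F)).presheaf.germ W x hxW) hm).trans
              (TopCat.Presheaf.germ_res_apply _ (homOfLE hWU) x hxW t))
        obtain ⟨w, hw⟩ := hk k x s hs' v (by
          rw [← hfac k, sm_comp]
          exact (congrArg (sm x b) hv).trans hz)
        rw [← hv, ← hw, sm_smul]
        exact smul_eq_zero_push 𝓘 k _ hs' _
      exact isIso_of_mono_of_epi b
    haveI := Groth.L17.ClosedPush.isIso_counit (p k)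
    have e2 : a k = inv ((adj k).counit.app _) ≫
        (Scheme.Modules.pullback (p k)).map b ≫ (adj k).counit.app _ := by
      rw [IsIso.eq_inv_comp]
      exact ((adj k).counit.naturality (a k)).symm
    rw [e2]
    infer_instance
  let Φ : pullSys (𝔛) (p) hp F ⟶ 𝔐 := ⟨a, hcomm⟩
  haveI : ∀ n, IsIso (Φ.app n) := hai
  exact (show pullSys (𝔛) (p) hp F = FSch.complMod 𝓘 F from rfl) ▸ ⟨Groth.L18.FreeNearLevels.isoOfApp Φ⟩

end Groth.L18.LefTower
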