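import Groth.Agent.L18.PicLefColim
import Groth.Agent.L18.LocPicCI
import Groth.Agent.L18.GrFreePic
import Groth.Agent.S2821
import Groth.Agent.S2824
import Groth.Agent.S2831
import Groth.Agent.S2834
import Groth.Prelude.Def_SGA2

/-!
# Picard groups of neighbourhoods with parafactorial complement
-/

set_option autoImplicit false
set_option linter.style.haveILetI false
set_option linter.unusedSectionVars false
set_option backward.isDefEq.respectTransparency false
set_option backward.isDefEq.respectTransparency.types false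
universe u

open CategoryTheory CategoryTheory.Limits AlgebraicGeometry TopologicalSpace

noncomputable section

namespace Groth.L18.PicLefPara

/-- Regular local rings of dimension at least two are parafactorial. -/
theorem parafactorial_regular {A : Type u} [CommRing A] [IsLocalRing A] (h : IsRegularLocalRing A)
    (hdim : (2 : WithBot ℕ∞) ≤ ringKrullDim A) : ParaF.IsParafactorialLocalRing A := by
  haveI := h
  obtain ⟨hd, hu⟩ := Groth.Agent.S2821.result A
  haveI := hd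
  exact Groth.Agent.S2834.result A hu hdim

/-- Complete intersections of dimension at least four are parafactorial. -/
theorem parafactorial_ci {A : Type u} [CommRing A] [IsLocalRing A] [IsNoetherianRing A]
    (h : SGA2.IsAbsCompleteIntersection A) (hdim : (4 : WithBot ℕ∞) ≤ ringKrullDim A) :
    ParaF.IsParafactorialLocalRing A := by
  obtain ⟨B, _, _, rs, hm, hreg, ⟨e⟩⟩ := h
  let π : B →+* A := e.symm.toRingHom.comp (Ideal.Quotient.mk (Ideal.span {r | r ∈ rs}))
  have hπ : Function.Surjective π := e.symm.surjective.comp Ideal.Quotient.mk_surjective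
  have hk : RingHom.ker π = Ideal.ofList rs := by
    ext b
    exact (map_eq_zero_iff _ e.symm.injective).trans Ideal.Quotient.eq_zero_iff_mem
  refine (Groth.Agent.S2824.result A).2 ⟨Groth.L18.GrFreePic.bijective_restrict
    (Groth.L18.LocPic.le_depth_of_le_dim rs hm hreg.toIsWeaklyRegular π hπ hk (k := 2)
      (le_trans (by norm_num) hdim)), ?_⟩
  exact Groth.L18.LocPic.picTrivial_ci rs.length B A rs rfl hm hreg.toIsWeaklyRegular π hπ hk hdim

variable {X Y Z : Scheme.{u}}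

theorem injective_of_iso (g : Y ⟶ X) [IsIso g] {L : X.Modules}
    (e : (Scheme.Modules.pullback g).obj L ≅ Coh.structureModule Y) : Nonempty (L ≅ Coh.structureModule X) :=
  ⟨((Scheme.Modules.pullbackId X).app L).symm ≪≫ (Scheme.Modules.pullbackCongr (IsIso.inv_hom_id g).symm).app L ≪≫
    ((Scheme.Modules.pullbackComp (inv g) g).app L).symm ≪≫ (Scheme.Modules.pullback (inv g)).mapIso e ≪≫
    Groth.L29.LocFree.pullbackUnitIso (inv g)⟩

theorem injective_comp (f : Z ⟶ Y) (g : Y ⟶ X) (hf : Formal2.PicPullbackInjective f)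
    (hg : Formal2.PicPullbackInjective g) : Formal2.PicPullbackInjective (f ≫ g) := fun L hL ⟨e⟩ =>
  hg L hL (hf _ (Groth.L18.Ample.isInvertible_pullback g hL) ⟨(Scheme.Modules.pullbackComp f g).app L ≪≫ e⟩)

theorem surjective_comp (f : Z ⟶ Y) (g : Y ⟶ X) (hf : Formal2.PicPullbackSurjective f)
    (hg : Formal2.PicPullbackSurjective g) : Formal2.PicPullbackSurjective (f ≫ g) := fun N hN => by
  obtain ⟨M, hM, ⟨e⟩⟩ := hf N hN
  obtain ⟨L, hL, ⟨e'⟩⟩ := hg M hM
  exact ⟨L, hL, ⟨((Scheme.Modules.pullbackComp f g).app L).symm ≪≫ (Scheme.Modules.pullback f).mapIso e' ≪≫ e⟩⟩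

theorem bijective_isIso (g : Y ⟶ X) [IsIso g] :
    Formal2.PicPullbackInjective g ∧ Formal2.PicPullbackSurjective g :=
  ⟨fun _ _ ⟨e⟩ => injective_of_iso g e, fun N hN => ⟨(Scheme.Modules.pullback (inv g)).obj N,
    Groth.L18.Ample.isInvertible_pullback _ hN, ⟨(Scheme.Modules.pullbackComp g (inv g)).app N ≪≫
      (Scheme.Modules.pullbackCongr (IsIso.hom_inv_id g)).app N ≪≫ (Scheme.Modules.pullbackId Y).app N⟩⟩⟩

theorem bijective_of_invRestrictEquiv (j : Y ⟶ X) [IsOpenImmersion j] (h : ParaF.InvRestrictEquiv j) :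
    Formal2.PicPullbackInjective j ∧ Formal2.PicPullbackSurjective j := by
  let R := Scheme.Modules.restrictFunctor j
  let ρ := Scheme.Modules.restrictFunctorIsoPullback j
  refine ⟨fun L hL ⟨e⟩ => ?_, fun N hN => ?_⟩
  · let O := Coh.structureModule X
    have hO : PicF.IsInvertible O := Groth.L18.Ample.isInvertible_structureModule X
    let a : R.obj L ≅ R.obj O := ρ.app L ≪≫ e ≪≫ (Groth.L29.LocFree.pullbackUnitIso j).symm ≪≫ (ρ.app O).symm
    obtain ⟨f, hf⟩ := (h.1 L O hL hO).2 a.hom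
    obtain ⟨g, hg⟩ := (h.1 O L hO hL).2 a.inv
    refine ⟨⟨f, g, (h.1 L L hL hL).1 ?_, (h.1 O O hO hO).1 ?_⟩⟩
    · show R.map (f ≫ g) = R.map (𝟙 L)
      rw [R.map_comp, R.map_id, show R.map f = a.hom from hf, show R.map g = a.inv from hg, a.hom_inv_id]
    · show R.map (g ≫ f) = R.map (𝟙 O)
      rw [R.map_comp, R.map_id, show R.map f = a.hom from hf, show R.map g = a.inv from hg, a.inv_hom_id]
  · obtain ⟨L, hL, ⟨e⟩⟩ := h.2 N hN
    exact ⟨L, hL, ⟨(ρ.app L).symm ≪≫ e⟩⟩

/-- Restriction to an open with parafactorial complement. -/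
theorem bijective_open [IsLocallyNoetherian X] (U : X.Opens)
    (h : ∀ x : X, x ∉ U → ParaF.IsParafactorialLocalRing (X.presheaf.stalk x)) :
    Formal2.PicPullbackInjective U.ι ∧ Formal2.PicPullbackSurjective U.ι := by
  let C : Closeds X := U.compl
  have h' := (Groth.Agent.S2831.result X C).2 (fun x hx => h x hx) ⊤
  have key : ∀ (W : X.Opens) (hW : W ≤ ⊤), W = U → ParaF.InvRestrictEquiv (X.homOfLE hW) →
      ParaF.InvRestrictEquiv (X.homOfLE (le_top : U ≤ ⊤)) := by
    intro W hW e hh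
    subst e
    exact hh
  have hj := bijective_of_invRestrictEquiv _ (key _ inf_le_left (by
    ext x
    simp [C]) h')
  haveI : IsIso (⊤ : X.Opens).ι := show IsIso (Scheme.topIso X).hom from inferInstance
  have hi := bijective_isIso (⊤ : X.Opens).ι
  have e : X.homOfLE (le_top : U ≤ ⊤) ≫ (⊤ : X.Opens).ι = U.ι := X.homOfLE_ι _
  rw [← e]
  exact ⟨injective_comp _ _ hj.1 hi.1, surjective_comp _ _ hj.2 hi.2⟩

variable (𝓘 : X.IdealSheafData)

/-- Restriction to the thickenings. -/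
theorem bijective_thickening [IsLocallyNoetherian X] (p : ℕ) (h1 : LefX.LeffCond X 𝓘)
    (h2 : ∀ n : ℕ, p ≤ n → ∀ i : ℕ, (i = 1 ∨ i = 2) → Subsingleton (Coh.HH X (kernel (Lef.quotMap (Lef.pow_succ_le 𝓘 n))) i))
    (h3 : ∀ U : X.Opens, (𝓘.support : Set X) ⊆ (U : Set X) → ∀ x : X, x ∉ U → ParaF.IsParafactorialLocalRing (X.presheaf.stalk x))
    (n : ℕ) (hn : p ≤ n) :
    Formal2.PicPullbackInjective (𝓘 ^ (n + 1)).subschemeι ∧ Formal2.PicPullbackSurjective (𝓘 ^ (n + 1)).subschemeι := by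
  refine ⟨fun L hL ⟨e⟩ => ?_, fun N hN => ?_⟩
  · obtain ⟨g, hg⟩ := Groth.L18.PicLefColim.exists_factor 𝓘 ⊤ (fun x _ => trivial) n
    obtain ⟨t⟩ := Groth.L18.PicLefColim.trivial_of_thickening 𝓘 h1.1 p (fun m hm => h2 m hm 1 (Or.inl rfl)) ⊤
      (fun x _ => trivial) n hn (Groth.L18.Ample.isInvertible_pullback (⊤ : X.Opens).ι hL) g hg
      ((Scheme.Modules.pullbackComp g (⊤ : X.Opens).ι).app L ≪≫ (Scheme.Modules.pullbackCongr hg).app L ≪≫ e)
    haveI : IsIso (⊤ : X.Opens).ι := show IsIso (Scheme.topIso X).hom from inferInstance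
    exact injective_of_iso (⊤ : X.Opens).ι t
  · obtain ⟨V, L, g, hV, hg, hL, ⟨e⟩⟩ := Groth.L18.PicLefColim.exists_extension 𝓘 h1 n
      (fun m hm => h2 m (le_trans hn hm) 2 (Or.inr rfl)) hN
    obtain ⟨L', hL', ⟨e'⟩⟩ := (bijective_open V (h3 V hV)).2 L hL
    exact ⟨L', hL', ⟨(Scheme.Modules.pullbackCongr hg.symm).app L' ≪≫
      ((Scheme.Modules.pullbackComp g V.ι).app L').symm ≪≫ (Scheme.Modules.pullback g).mapIso e' ≪≫ e⟩⟩

/-- Restriction from a neighbourhood to its thickenings. -/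
theorem bijective_thickening_open [IsLocallyNoetherian X] (p : ℕ) (h1 : LefX.LeffCond X 𝓘)
    (h2 : ∀ n : ℕ, p ≤ n → ∀ i : ℕ, (i = 1 ∨ i = 2) → Subsingleton (Coh.HH X (kernel (Lef.quotMap (Lef.pow_succ_le 𝓘 n))) i))
    (h3 : ∀ U : X.Opens, (𝓘.support : Set X) ⊆ (U : Set X) → ∀ x : X, x ∉ U → ParaF.IsParafactorialLocalRing (X.presheaf.stalk x))
    (U : X.Opens) (hU : (𝓘.support : Set X) ⊆ (U : Set X)) (n : ℕ) (hn : p ≤ n) :
    Formal2.PicPullbackInjective ((𝓘.comap U.ι) ^ (n + 1)).subschemeι ∧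
      Formal2.PicPullbackSurjective ((𝓘.comap U.ι) ^ (n + 1)).subschemeι := by
  obtain ⟨τ, hτ⟩ := Groth.L18.LefExtend.exists_thickeningIso 𝓘 U hU n
  obtain ⟨g, hg⟩ := Groth.L18.PicLefColim.exists_factor 𝓘 U hU n
  have hf : τ.hom ≫ g = ((𝓘.comap U.ι) ^ (n + 1)).subschemeι := by
    rw [← cancel_mono U.ι, Category.assoc, hg, hτ]
  have hτb := bijective_isIso τ.hom
  obtain ⟨-, hs⟩ := bijective_thickening 𝓘 p h1 h2 h3 n hn
  rw [← hf]
  refine ⟨injective_comp _ _ hτb.1 fun L hL ⟨e⟩ => ?_, surjective_comp _ _ hτb.2 fun N hN => ?_⟩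
  · exact Groth.L18.PicLefColim.trivial_of_thickening 𝓘 h1.1 p (fun m hm => h2 m hm 1 (Or.inl rfl)) U hU n hn hL g hg e
  · obtain ⟨L, hL, ⟨e⟩⟩ := hs N hN
    exact ⟨_, Groth.L18.Ample.isInvertible_pullback U.ι hL, ⟨(Scheme.Modules.pullbackComp g U.ι).app L ≪≫
      (Scheme.Modules.pullbackCongr hg).app L ≪≫ e⟩⟩

end Groth.L18.PicLefPara
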