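import Groth.Agent.L18.CIProjDim
import Groth.Agent.L18.PicLefPara
import Groth.Agent.L11.SmRegular.Basic
import Groth.Agent.L22.IntMult.Stalk
import Groth.Agent.L22.PDual.RegVanish
import Groth.Agent.L13.ModFibre
import Groth.Agent.L16.ProjSpace.Dim
import Groth.Agent.L07.RegularQuotient

/-!
Local rings of complete intersections of projective space at closed points.
-/

set_option autoImplicit false
set_option backward.isDefEq.respectTransparency false
set_option backward.isDefEq.respectTransparency.types false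
set_option linter.style.haveILetI false
universe u

open CategoryTheory CategoryTheory.Limits AlgebraicGeometry TopologicalSpace MvPolynomial IsLocalRing

noncomputable section

namespace Groth.L18.CIProj

open Groth.L18.CIProjRing Groth.L22.ProjDict

variable {k : Type u} [Field k] {n r : ℕ} {a : Fin r → ℕ}

/-- A complete intersection has dimension at most `n - r`. -/
theorem dim_le_of_isCI (ha : ∀ j, 1 ≤ a j) (G : ∀ j, LefPen.Form n k (a j)) (hci : IsCI (pols G)) :
    topologicalKrullDim ↥(LefPen.ciIdeal G).subscheme ≤ ((n - r : ℕ) : WithBot ℕ∞) := by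
  obtain ⟨h⟩ := exists_homeo ha G
  rw [h.isHomeomorph.topologicalKrullDim_eq]
  by_contra hlt
  push Not at hlt
  have hle : ((n - r + 1 : ℕ) : WithBot ℕ∞) ≤ topologicalKrullDim (zset G) := by
    rw [Nat.cast_add, Nat.cast_one]
    exact ENat.WithBot.add_one_le_iff.2 hlt
  have hc : IsClosed (zset G) := by
    have : zset G = ProjectiveSpectrum.zeroLocus (CohB1.polyGrading n k)
        (Ideal.span (Set.range (pols G)) : Set (MvPolynomial (Fin (n + 1)) k)) := by
      ext y; rw [ProjectiveSpectrum.mem_zeroLocus]; rfl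
    rw [this]
    exact ProjectiveSpectrum.isClosed_zeroLocus _ _
  obtain ⟨x, hx, hd⟩ := exists_mem_dim_le hc hle
  obtain ⟨e, he, he'⟩ := exists_dim_closure x
  have h1 := hci _ x.isPrime hx
  rw [he'] at h1
  rw [he] at hd
  have h2 : e + 1 + r ≤ n + 1 := by exact_mod_cast h1
  have h3 : n - r + 1 ≤ e := by exact_mod_cast hd
  omega

/-- At closed points the local rings are quotients of regular rings by regular sequences. -/
theorem exists_presentation (hr : r ≤ n) (ha : ∀ j, 1 ≤ a j) (G : ∀ j, LefPen.Form n k (a j)) (hci : IsCI (pols G))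
    {y : (LefPen.ciIdeal G).subscheme} (hy : IsClosed ({y} : Set (LefPen.ciIdeal G).subscheme)) :
    ∃ (B : Type u) (_ : CommRing B) (_ : IsRegularLocalRing B) (rs : List B)
      (π : B →+* (LefPen.ciIdeal G).subscheme.presheaf.stalk y),
      (∀ b ∈ rs, b ∈ maximalIdeal B) ∧ RingTheory.Sequence.IsWeaklyRegular B rs ∧ Function.Surjective π ∧
      RingHom.ker π = Ideal.ofList rs ∧
      ringKrullDim ((LefPen.ciIdeal G).subscheme.presheaf.stalk y) = ((n - r : ℕ) : WithBot ℕ∞) := by
  let I := LefPen.ciIdeal G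
  let P := CohB1.ProjSpace n k
  let x : P := I.subschemeι y
  haveI := Groth.L16.ProjSpace.smooth_toSpec n k
  haveI : IsRegularLocalRing ((Spec (CommRingCat.of k)).presheaf.stalk (CohB1.ProjSpace.toSpec n k x)) := by
    haveI : IsRegularRing k := inferInstance
    exact IsRegularLocalRing.of_ringEquiv (R := Localization.AtPrime (CohB1.ProjSpace.toSpec n k x).asIdeal)
      (StructureSheaf.stalkIso k (CohB1.ProjSpace.toSpec n k x)).toRingEquiv
  haveI hB : IsRegularLocalRing (P.presheaf.stalk x) :=
    Groth.L11.SmRegular.isRegularLocalRing_stalk (CohB1.ProjSpace.toSpec n k) x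
  letI : P.Over (Spec (CommRingCat.of k)) := ⟨CohB1.ProjSpace.toSpec n k⟩
  haveI : IsIntegral P := Groth.L16.ProjSpace.isIntegral (n := n) (R := k)
  haveI : LocallyOfFiniteType (P ↘ Spec (CommRingCat.of k)) :=
    inferInstanceAs (LocallyOfFiniteType (CohB1.ProjSpace.toSpec n k))
  have hx : IsClosed ({x} : Set P) := by
    rw [← Set.image_singleton]
    exact I.subschemeι.isClosedEmbedding.isClosedMap _ hy
  have hdimB := Groth.L22.PDual.dim_stalk_closed_point k (Groth.L16.ProjSpace.topologicalKrullDim_eq_of_field n k) hx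
  obtain ⟨i, hi⟩ := Groth.L21.PlaneCurve.exists_mem_chart x
  have hC := Groth.L21.PlaneCurve.isAffineOpen_chart (k := k) i
  let g : Fin r → P.presheaf.stalk x := fun j => P.presheaf.germ _ x hi (LefPen.dehom (G j) i)
  let π := (I.subschemeι.stalkMap y).hom
  have hπ : Function.Surjective π := I.subschemeι.stalkMap_surjective y
  have hker : RingHom.ker π = Ideal.ofList (List.ofFn g) := by
    rw [Groth.L22.IntMult.ker_subschemeι_stalkMap, Groth.L22.IntMult.stalkIdeal_eq,
      Groth.L20.SeeNormal.sI_eq I ⟨_, hC⟩ hi, ciIdeal_chart, Ideal.map_span, ← Set.range_comp]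
    exact congrArg Ideal.span (Set.ext fun z => (List.mem_ofFn (f := g) (a := z)).symm)
  have hm : ∀ b ∈ List.ofFn g, b ∈ maximalIdeal (P.presheaf.stalk x) := fun b hb => by
    refine (IsLocalRing.mem_maximalIdeal _).2 fun hu => ?_
    have h0 : π b = 0 := by
      rw [← RingHom.mem_ker, hker]; exact Ideal.subset_span hb
    exact not_isUnit_zero (h0 ▸ hu.map π)
  have hdimA : ringKrullDim (I.subscheme.presheaf.stalk y) ≤ ((n - r : ℕ) : WithBot ℕ∞) :=
    (Groth.L13.ModFibre.ringKrullDim_stalk_le_topologicalKrullDim y).trans (dim_le_of_isCI ha G hci)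
  have hq : ringKrullDim (P.presheaf.stalk x ⧸ Ideal.ofList (List.ofFn g)) =
      ringKrullDim (I.subscheme.presheaf.stalk y) :=
    ringKrullDim_eq_of_ringEquiv ((Ideal.quotEquivOfEq hker.symm).trans (RingHom.quotientKerEquivOfSurjective hπ))
  have hreg : RingTheory.Sequence.IsWeaklyRegular (P.presheaf.stalk x) (List.ofFn g) := by
    refine Groth.L07.RegQuot.isWeaklyRegular_of_dim _ hm ?_
    rw [hq, hdimB, List.length_ofFn]
    refine le_trans (add_le_add_left hdimA _) ?_
    exact_mod_cast (show n - r + r ≤ n by omega)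
  refine ⟨P.presheaf.stalk x, inferInstance, hB, List.ofFn g, π, hm, hreg, hπ, hker, le_antisymm hdimA ?_⟩
  have h1 := ringKrullDim_add_length_eq_ringKrullDim_of_isRegular _
    (RingTheory.Sequence.IsRegular.of_isWeaklyRegular_of_mem_maximalIdeal _ hm hreg)
  rw [hq, hdimB, List.length_ofFn] at h1
  refine le_of_eq (Groth.L18.LocPic.add_natCast_cancel (n := r) ?_).symm
  rw [h1]
  exact_mod_cast (show n = n - r + r by omega)

theorem le_depth (hr : r ≤ n) (ha : ∀ j, 1 ≤ a j) (G : ∀ j, LefPen.Form n k (a j)) (hci : IsCI (pols G))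
    {y : (LefPen.ciIdeal G).subscheme} (hy : IsClosed ({y} : Set (LefPen.ciIdeal G).subscheme)) {m : ℕ}
    (hm : m ≤ n - r) : (m : ℕ∞) ≤ LocCoh.depth ((LefPen.ciIdeal G).subscheme.presheaf.stalk y)
      ((LefPen.ciIdeal G).subscheme.presheaf.stalk y) := by
  obtain ⟨B, _, _, rs, π, h1, h2, h3, h4, h5⟩ := exists_presentation hr ha G hci hy
  haveI : IsNoetherianRing ((LefPen.ciIdeal G).subscheme.presheaf.stalk y) := isNoetherianRing_of_surjective _ _ π h3
  exact Groth.L18.LocPic.le_depth_of_le_dim rs h1 h2 π h3 h4 (by rw [h5]; exact_mod_cast hm)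

theorem parafactorial (hr : r ≤ n) (ha : ∀ j, 1 ≤ a j) (G : ∀ j, LefPen.Form n k (a j)) (hci : IsCI (pols G))
    (h4 : 4 ≤ n - r) {y : (LefPen.ciIdeal G).subscheme} (hy : IsClosed ({y} : Set (LefPen.ciIdeal G).subscheme))
    (N : (↑(FEt.puncturedSpec ((LefPen.ciIdeal G).subscheme.presheaf.stalk y)) : Scheme.{u}).Modules)
    (hN : PicF.IsInvertible N) : Nonempty (N ≅ Coh.structureModule _) := by
  obtain ⟨B, _, _, rs, π, h1, h2, h3, hk, h5⟩ := exists_presentation hr ha G hci hy
  haveI : IsNoetherianRing ((LefPen.ciIdeal G).subscheme.presheaf.stalk y) := isNoetherianRing_of_surjective _ _ π h3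
  exact Groth.L18.LocPic.picTrivial_ci rs.length B _ rs rfl h1 h2 π h3 hk (by rw [h5]; exact_mod_cast h4) N hN

end Groth.L18.CIProj
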