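import Groth.Agent.L18.NegVanishProj
import Groth.Agent.L18.LefTwists
import Groth.Agent.L16.NegPow.Affine
import Groth.Agent.L18.Ample

/-!
# Negative twists of bundles from those of the structure sheaf
-/

set_option autoImplicit false
set_option linter.style.haveILetI false
set_option linter.unusedSectionVars false
set_option backward.isDefEq.respectTransparency false
set_option backward.isDefEq.respectTransparency.types false
universe u

open CategoryTheory CategoryTheory.Limits AlgebraicGeometry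

noncomputable section

namespace Groth.L18.VanBundle

open Groth.L00.Tensor (tensorIso tensorUnitLeft tensorUnitRight tensorRightF tensorComm tensorAssoc)
open Groth.L16.CohLinear (exact_hmap_hmap exact_delta_hmap)

variable {X : Scheme.{u}}

/-- `H^q` of the large twists by `L'` vanishes. -/
def V (L' : X.Modules) (q : ℕ) (K : X.Modules) : Prop :=
  ∃ m₀ : ℕ, ∀ m : ℕ, m₀ ≤ m → Subsingleton (Coh.HH X (CohB1.tensorMod K (CohB1.tensorPow L' m)) q)

variable {L L' : X.Modules} (e : CohB1.tensorMod L L' ≅ Coh.structureModule X)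

theorem V.iso {q : ℕ} {K K' : X.Modules} (i : K ≅ K') (h : V L' q K) : V L' q K' := by
  obtain ⟨m₀, h⟩ := h
  exact ⟨m₀, fun m hm => Groth.L22.EnrSev.subsingleton_of_iso (tensorIso i (Iso.refl _)) q (h m hm)⟩

include e in
theorem shortExact_tw {T : ShortComplex X.Modules} (hT : T.ShortExact) (m : ℕ) :
    (T.map (tensorRightF (CohB1.tensorPow L' m))).ShortExact := by
  haveI := Groth.L22.PDual.isEquivalence_tensorRightF
    (tensorComm (CohB1.tensorPow L' m) (CohB1.tensorPow L m) ≪≫ Groth.L16.NegPow.powInvIso e m)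
  exact hT.map_of_exact _

include e in
theorem left_zero {T : ShortComplex X.Modules} (hT : T.ShortExact) (h : V L' 0 T.X₂) : V L' 0 T.X₁ := by
  obtain ⟨m₀, h⟩ := h
  refine ⟨m₀, fun m hm => ?_⟩
  have hS := shortExact_tw e hT m
  haveI := hS.mono_f
  let S := T.map (tensorRightF (CohB1.tensorPow L' m))
  have key : ∀ y : Coh.HH X S.X₁ 0, y = 0 := fun y => by
    haveI : Subsingleton (Coh.HH X S.X₂ 0) := h m hm
    refine (Groth.L16.HomSh.h0Equiv S.X₁).injective (Groth.L16.Acc.app_injective S.f ⊤ ?_)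
    refine (Groth.L16.HomSh.h0Equiv_map S.f y).symm.trans ?_
    rw [Subsingleton.elim (Sheaf.H.map _ 0 y) 0, map_zero, map_zero, map_zero]
  exact subsingleton_of_forall_eq 0 key

include e in
theorem left_succ {T : ShortComplex X.Modules} (hT : T.ShortExact) {q : ℕ}
    (h₂ : V L' (q + 1) T.X₂) (h₃ : V L' q T.X₃) : V L' (q + 1) T.X₁ := by
  obtain ⟨m₂, h₂⟩ := h₂
  obtain ⟨m₃, h₃⟩ := h₃
  exact ⟨max m₂ m₃, fun m hm => Groth.L22.Reg.subsingleton_of_exact
    (exact_delta_hmap (shortExact_tw e hT m) q) (h₃ m (le_of_max_le_right hm))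
    (h₂ m (le_of_max_le_left hm)) (map_zero _)⟩

include e in
theorem middle {T : ShortComplex X.Modules} (hT : T.ShortExact) {q : ℕ}
    (h₁ : V L' q T.X₁) (h₃ : V L' q T.X₃) : V L' q T.X₂ := by
  obtain ⟨m₁, h₁⟩ := h₁
  obtain ⟨m₃, h₃⟩ := h₃
  exact ⟨max m₁ m₃, fun m hm => Groth.L22.Reg.subsingleton_of_exact
    (exact_hmap_hmap (shortExact_tw e hT m) q) (h₁ m (le_of_max_le_left hm))
    (h₃ m (le_of_max_le_right hm)) (map_zero _)⟩

include e in
theorem of_isZero {q : ℕ} {K : X.Modules} (h : IsZero K) : V L' q K :=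
  ⟨0, fun m _ => by
    haveI := Groth.L22.PDual.isEquivalence_tensorRightF
      (tensorComm (CohB1.tensorPow L' m) (CohB1.tensorPow L m) ≪≫ Groth.L16.NegPow.powInvIso e m)
    have hz : IsZero ((tensorRightF (CohB1.tensorPow L' m)).obj K) := (tensorRightF _).map_isZero h
    exact Groth.L03.Euler.subsingleton_HH_of_isZero hz q⟩

include e in
/-- Positive powers vanish after large negative twists. -/
theorem of_pow {q : ℕ} (h : V L' q (Coh.structureModule X)) (a : ℕ) : V L' q (CohB1.tensorPow L a) := by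
  obtain ⟨m₀, h⟩ := h
  refine ⟨m₀ + a, fun m hm => ?_⟩
  obtain ⟨c, rfl⟩ := Nat.exists_eq_add_of_le (show a ≤ m by omega)
  refine Groth.L22.EnrSev.subsingleton_of_iso ?_ q (h c (by omega))
  exact tensorIso (Groth.L16.NegPow.powInvIso e a).symm (Iso.refl _) ≪≫ tensorAssoc _ _ _ ≪≫
    tensorIso (Iso.refl _) (Groth.L00.Tensor.tensorPowAdd L' a c)

include e in
theorem dual_sum {q : ℕ} (hL : CohB1.IsAmple L) (h : V L' q (Coh.structureModule X)) (a : ℕ) :
    ∀ k : ℕ, V L' q (RefHull.dual (∐ fun _ : Fin k => CohB1.tensorPow L' a)) := by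
  have hL' : PicF.IsInvertible L' := Groth.L22.EnrSev.isInvertible_of_inverse hL.1 e
  have hvb : FlatMod.IsFinLocFree (CohB1.tensorPow L' a) :=
    Groth.L20.ResDescent.isFinLocFree_of_isInvertible (Groth.L18.Ample.isInvertible_tensorPow hL' a)
  obtain ⟨ed⟩ := Groth.L18.NegVanish.nonempty_dual_invertible
    (tensorComm (CohB1.tensorPow L' a) (CohB1.tensorPow L a) ≪≫ Groth.L16.NegPow.powInvIso e a) hvb
  intro k
  induction k with
  | zero =>
    exact of_isZero e (Groth.L18.NegVanish.isZero_dual ((IsZero.iff_id_eq_zero _).2 (Sigma.hom_ext _ _ fun i => i.elim0)))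
  | succ k ih =>
    let M := CohB1.tensorPow L' a
    let c := Groth.L29.DC.coprodFinSuccIso fun _ : Fin (k + 1) => M
    let S : ShortComplex X.Modules :=
      ShortComplex.mk (biprod.inl : M ⟶ M ⊞ ∐ fun _ : Fin k => M) biprod.snd (by simp)
    have hS : S.ShortExact := Groth.L22.Reg.biSC_shortExact _ _
    have h3 := Groth.L29.DC.isFinLocFree_coprod_fin k (fun _ => M) fun _ => hvb
    obtain ⟨T, hT, ⟨i₁⟩, ⟨i₂⟩, ⟨i₃⟩⟩ := Groth.L12.DualVb.exists_dual_shortExact hS hvb
      (Groth.L29.LocFree.of_iso c (Groth.L29.DC.isFinLocFree_coprod_fin _ _ fun _ => hvb)) h3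
    obtain ⟨i₄⟩ := Groth.L18.NegVanish.nonempty_dual_congr c.symm
      (Groth.L29.LocFree.of_iso c (Groth.L29.DC.isFinLocFree_coprod_fin _ _ fun _ => hvb))
    exact V.iso (i₂ ≪≫ i₄) (middle e hT (ih.iso i₁.symm) ((of_pow e h a).iso (ed.symm ≪≫ i₃.symm)))

/-- A free module tensored with a module is a sum of copies of the module. -/
theorem nonempty_free_tensor (M : X.Modules) (k : ℕ) :
    Nonempty (CohB1.tensorMod (FlatMod.freeMod X k) M ≅ ∐ fun _ : Fin k => M) := by
  let G := tensorRightF M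
  haveI : PreservesColimit (Discrete.functor fun _ : Fin k => Coh.structureModule X) G := inferInstance
  haveI : HasCoproduct fun _ : Fin k => G.obj (Coh.structureModule X) := inferInstance
  exact ⟨PreservesCoproduct.iso G (fun _ : Fin k => Coh.structureModule X) ≪≫
    Sigma.mapIso fun _ => tensorUnitLeft M⟩

include e in
/-- Bundles embed in sums of twists with bundles as cokernels. -/
theorem exists_coresolution [IsNoetherian X] (hL : CohB1.IsAmple L) {K : X.Modules} (hK : FlatMod.IsFinLocFree K) :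
    ∃ (k a : ℕ) (T : ShortComplex X.Modules), T.ShortExact ∧ Nonempty (T.X₁ ≅ K) ∧
      Nonempty (T.X₂ ≅ RefHull.dual (∐ fun _ : Fin k => CohB1.tensorPow L' a)) ∧ FlatMod.IsFinLocFree T.X₃ := by
  have hD := Groth.L12.DualVb.isFinLocFree_dual hK
  obtain ⟨a, k, p, hp⟩ := Groth.L18.LefTwists.exists_epi_negPow hL e (Groth.L16.NegPow.isCoh_of_isFinLocFree hD)
  haveI := hp
  have hL' : PicF.IsInvertible L' := Groth.L22.EnrSev.isInvertible_of_inverse hL.1 e
  let S := ShortComplex.mk (kernel.ι p) p (kernel.condition p)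
  have hS : S.ShortExact := { exact := ShortComplex.exact_kernel _, mono_f := inferInstance }
  have hv2 : FlatMod.IsFinLocFree S.X₂ :=
    Groth.L16.NegPow.isFinLocFree_freeTensor (Groth.L18.Ample.isInvertible_tensorPow hL' a) k
  have hc := Groth.L12.KRes.isCoh_left hS (Groth.L16.NegPow.isCoh_of_isFinLocFree hv2)
    (Groth.L16.NegPow.isCoh_of_isFinLocFree hD)
  have hv1 : FlatMod.IsFinLocFree S.X₁ := by
    refine Groth.L15.CohFlat.isFinLocFree_of_isCoh_isFlat _ hc fun x => ?_
    let st := Groth.L00.Stk.F X x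
    have hx := Groth.L12.KRes.shortExact_stalk hS x
    haveI : Module.Free (X.presheaf.stalk x) (st.obj S.X₂) := Groth.L18.LFP.free_stalk S.X₂ hv2 x
    haveI : Module.Free (X.presheaf.stalk x) (st.obj S.X₃) := Groth.L18.LFP.free_stalk S.X₃ hD x
    exact Groth.L01.FlatCx.flat_left (f := (st.map S.f).hom) (g := (st.map S.g).hom) hx.moduleCat_injective_f
      hx.moduleCat_surjective_g ((ShortComplex.ShortExact.moduleCat_exact_iff_function_exact _).1 hx.exact)
  obtain ⟨T, hT, ⟨i₁⟩, ⟨i₂⟩, ⟨i₃⟩⟩ := Groth.L12.DualVb.exists_dual_shortExact hS hv1 hv2 hD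
  obtain ⟨f⟩ := nonempty_free_tensor (CohB1.tensorPow L' a) k
  obtain ⟨e₂⟩ := Groth.L18.NegVanish.nonempty_dual_congr f hv2
  obtain ⟨eK⟩ := Groth.L18.NegVanish.nonempty_dual_dual hK
  exact ⟨k, a, T, hT, ⟨i₁ ≪≫ eK⟩, ⟨i₂ ≪≫ e₂⟩,
    Groth.L29.LocFree.of_iso i₃.symm (Groth.L12.DualVb.isFinLocFree_dual hv1)⟩

include e in
/-- The negative twists of bundles vanish as far as those of the structure sheaf do. -/
theorem of_structure [IsNoetherian X] (hL : CohB1.IsAmple L) : ∀ (q : ℕ),
    (∀ j, j ≤ q → V L' j (Coh.structureModule X)) → ∀ {K : X.Modules}, FlatMod.IsFinLocFree K → V L' q K := by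
  intro q
  induction q with
  | zero =>
    intro h K hK
    obtain ⟨k, a, T, hT, ⟨i₁⟩, ⟨i₂⟩, -⟩ := exists_coresolution e hL hK
    exact (left_zero e hT ((dual_sum e hL (h 0 le_rfl) a k).iso i₂.symm)).iso i₁
  | succ q ih =>
    intro h K hK
    obtain ⟨k, a, T, hT, ⟨i₁⟩, ⟨i₂⟩, h₃⟩ := exists_coresolution e hL hK
    exact (left_succ e hT ((dual_sum e hL (h (q + 1) le_rfl) a k).iso i₂.symm)
      (ih (fun j hj => h j (by omega)) h₃)).iso i₁

end Groth.L18.VanBundle
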