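import Groth.Agent.L18.LefTowerVan
import Groth.Agent.L18.VanBundle
import Groth.Agent.L18.ModSysAlgz
import Groth.Agent.S2944
import Groth.Agent.S7679
import Groth.Agent.S7680

/-!
# Effective Lefschetz condition along an ample divisor with acyclic negative twists
-/

set_option autoImplicit false
set_option linter.style.haveILetI false
set_option linter.unusedSectionVars false
set_option backward.isDefEq.respectTransparency false
set_option backward.isDefEq.respectTransparency.types false
universe u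

open CategoryTheory CategoryTheory.Limits AlgebraicGeometry

noncomputable section

namespace Groth.L18.LeffField

open Groth.L00.Tensor (tensorIso tensorComm tensorAssoc tensorUnitLeft tensorUnitRight tensorRightF)
open Groth.L18.VanBundle (V)

/-- Twists of bundles on a closed subscheme, from those of its structure sheaf. -/
theorem van_push {X Y : Scheme.{u}} [IsNoetherian X] (i : Y ⟶ X) [IsClosedImmersion i] {L L' : X.Modules}
    (hL : CohB1.IsAmple L) (e : CohB1.tensorMod L L' ≅ Coh.structureModule X)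
    (h : ∀ q, q ≤ 1 → V L' q ((Scheme.Modules.pushforward i).obj (Coh.structureModule Y)))
    {K : Y.Modules} (hK : FlatMod.IsFinLocFree K) (q : ℕ) (hq : q ≤ 1) :
    V L' q ((Scheme.Modules.pushforward i).obj K) := by
  haveI : IsLocallyNoetherian Y := LocallyOfFiniteType.isLocallyNoetherian i
  haveI : CompactSpace Y := QuasiCompact.compactSpace_of_compactSpace i
  haveI : IsNoetherian Y := {}
  have hL' := Groth.L22.EnrSev.isInvertible_of_inverse hL.1 e
  let eY : CohB1.tensorMod ((Scheme.Modules.pullback i).obj L) ((Scheme.Modules.pullback i).obj L') ≅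
      Coh.structureModule Y :=
    Groth.L29.DC.PullTensor.pullTensor i _ _ ≪≫ (Scheme.Modules.pullback i).mapIso e ≪≫
      Groth.L29.LocFree.pullbackUnitIso i
  let ε : ∀ (W : Y.Modules) (m : ℕ), CohB1.tensorMod ((Coh.push i).obj W) (CohB1.tensorPow L' m) ≅
      (Coh.push i).obj (CohB1.tensorMod W (CohB1.tensorPow ((Scheme.Modules.pullback i).obj L') m)) := fun W m =>
    tensorComm _ _ ≪≫
      (Groth.L17.ProjFormula.projIso i (CohB1.tensorPow L' m) (Groth.L20.ResDescent.isFinLocFree_of_isInvertible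
        (Groth.L18.Ample.isInvertible_tensorPow hL' m))).app W ≪≫
      (Coh.push i).mapIso (tensorComm _ W ≪≫ tensorIso (Iso.refl W) (Groth.L18.Ample.pullPow i L' m))
  have hY : ∀ j, j ≤ q → V ((Scheme.Modules.pullback i).obj L') j (Coh.structureModule Y) := fun j hj => by
    obtain ⟨m₀, h⟩ := h j (hj.trans hq)
    refine ⟨m₀, fun m hm => ?_⟩
    obtain ⟨e'⟩ := Groth.L17.nonempty_HH_push_of_isClosedImmersion i
      (CohB1.tensorMod (Coh.structureModule Y) (CohB1.tensorPow ((Scheme.Modules.pullback i).obj L') m)) j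
    exact e'.toEquiv.subsingleton_congr.2 (Groth.L22.EnrSev.subsingleton_of_iso (ε _ m) j (h m hm))
  obtain ⟨m₀, hm₀⟩ :=
    Groth.L18.VanBundle.of_structure eY (Groth.L18.Ample.isAmple_pullback_of_isAffineHom i hL) q hY hK
  refine ⟨m₀, fun m hm => ?_⟩
  obtain ⟨e'⟩ := Groth.L17.nonempty_HH_push_of_isClosedImmersion i
    (CohB1.tensorMod K (CohB1.tensorPow ((Scheme.Modules.pullback i).obj L') m)) q
  exact Groth.L22.EnrSev.subsingleton_of_iso (ε K m).symm q (e'.toEquiv.subsingleton_congr.1 (hm₀ m hm))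

theorem van_level {X : Scheme.{u}} [IsNoetherian X] (𝓘 J : X.IdealSheafData) (hJ : J = 𝓘) {L L' : X.Modules}
    (hL : CohB1.IsAmple L) (e : CohB1.tensorMod L L' ≅ Coh.structureModule X)
    (h : ∀ q, q ≤ 1 → V L' q (ClSub.quotMod 𝓘)) {K : J.subscheme.Modules} (hK : FlatMod.IsFinLocFree K) :
    ∃ j₀ : ℕ, ∀ m : ℕ, j₀ ≤ m → ∀ q, q ≤ 1 → Subsingleton
      (Coh.HH X (CohB1.tensorMod ((Scheme.Modules.pushforward J.subschemeι).obj K) (CohB1.tensorPow L' m)) q) := by
  subst hJ
  obtain ⟨a, ha⟩ := van_push J.subschemeι hL e h hK 0 zero_le_one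
  obtain ⟨b, hb⟩ := van_push J.subschemeι hL e h hK 1 le_rfl
  refine ⟨max a b, fun m hm q hq => ?_⟩
  interval_cases q
  · exact ha m (le_of_max_le_left hm)
  · exact hb m (le_of_max_le_right hm)

variable (k : Type u) [Field k] {X : Scheme.{u}} [X.Over (Spec (CommRingCat.of k))]
  [IsProper (X ↘ (Spec (CommRingCat.of k)))]

include k in
theorem van_structure {L L' : X.Modules} (hamp : CohB1.IsAmple L) (hL : ClSub.IsInverseOf L L')
    (hdepth : ∀ x : X, IsClosed ({x} : Set X) → (2 : ℕ∞) ≤ LocCoh.depth (X.presheaf.stalk x) (X.presheaf.stalk x))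
    (q : ℕ) (hq : q ≤ 1) : V L' q (Coh.structureModule X) := by
  haveI := Groth.L21.RR.isNoetherian_of_proper (X := X) k
  have hO := Groth.L18.Ample.isInvertible_structureModule X
  have hc : Coh.IsCoh (Coh.structureModule X) := Groth.L18.Ample.isCoh_of_isInvertible hO
  have hd : ∀ x : X, IsClosed ({x} : Set X) → 2 ≤ LocCoh.depth (X.presheaf.stalk x) ((Coh.structureModule X).presheaf.stalk x) :=
    fun x hx => (hdepth x hx).trans_eq (Groth.L18.LefTwists.depth_stalk_invertible hO x).symm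
  interval_cases q
  · exact Groth.Agent.S7679.result k X L hamp L' hL _ hc fun x hx => Groth.L18.LefTwists.not_isAssPoint hc (hd x hx)
  · exact Groth.Agent.S7680.result k X L hamp L' hL _ hc hd

include k in
/-- The effective Lefschetz condition. -/
theorem leffCond (𝓘 : X.IdealSheafData) (L : X.Modules) (hL : ClSub.IsInverseOf L (ClSub.idealMod 𝓘))
    (hamp : CohB1.IsAmple L)
    (hdepth : ∀ x : X, IsClosed ({x} : Set X) → (2 : ℕ∞) ≤ LocCoh.depth (X.presheaf.stalk x) (X.presheaf.stalk x))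
    (h1 : V (ClSub.idealMod 𝓘) 1 (ClSub.quotMod 𝓘)) : LefX.LeffCond X 𝓘 := by
  haveI := Groth.L21.RR.isNoetherian_of_proper (X := X) k
  refine ⟨Groth.Agent.S2944.result k X 𝓘 L hL hamp hdepth, fun 𝔐 hfree => ?_⟩
  obtain ⟨i⟩ := id hL
  let M := ClSub.idealMod 𝓘
  have hI : PicF.IsInvertible M := Groth.L22.EnrSev.isInvertible_of_inverse hamp.1 i
  have hX : ∀ q, q ≤ 1 → V M q (Coh.structureModule X) := van_structure k hamp hL hdepth
  have h0 : V M 0 (ClSub.quotMod 𝓘) := by
    obtain ⟨a, ha⟩ := hX 0 zero_le_one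
    obtain ⟨b, hb⟩ := hX 1 le_rfl
    refine ⟨max a b, fun m hm => ?_⟩
    have hS := Groth.L18.VanBundle.shortExact_tw i (Groth.L18.LefTwists.shortExact_ideal 𝓘) m
    have hM1 : Subsingleton (Coh.HH X (CohB1.tensorMod M (CohB1.tensorPow M m)) (0 + 1)) := by
      refine Groth.L22.EnrSev.subsingleton_of_iso ?_ 1 (hb (m + 1) (by have := le_of_max_le_right hm; omega))
      exact tensorUnitLeft _ ≪≫ tensorComm (CohB1.tensorPow M m) M
    exact Groth.L22.Reg.subsingleton_of_exact (Groth.L16.CohLinear.exact_hmap_delta hS 0)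
      (ha m (le_of_max_le_left hm)) hM1 (map_zero _)
  have hY : ∀ q, q ≤ 1 → V M q (ClSub.quotMod 𝓘) := fun q hq => by
    interval_cases q
    · exact h0
    · exact h1
  have hJ : 𝓘 ^ (0 + 1) = 𝓘 := by rw [zero_add, pow_one]
  obtain ⟨F, β, hF, hβ, hs, hk⟩ := Groth.L18.LefTower.exists_module (A := k) hL hamp
    (Groth.L18.LefTower.sysTower 𝓘 𝔐 hI hfree)
    (van_level 𝓘 (𝓘 ^ (0 + 1)) hJ hamp i hY (hfree 0)) hI
    (fun E hE => by
      let J := 𝓘 ^ (0 + 1)
      obtain ⟨j₀, hj⟩ := van_level 𝓘 J hJ hamp i hY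
        (Groth.L29.DC.isFinLocFree_tensor (Groth.L29.LocFree.pullback J.subschemeι hE)
          (Groth.L20.ResDescent.isFinLocFree_of_isInvertible (Groth.L18.Ample.isInvertible_structureModule J.subscheme)))
      let ε : CohB1.tensorMod (ClSub.quotMod J) E ≅ (Coh.push J.subschemeι).obj
          (CohB1.tensorMod ((Scheme.Modules.pullback J.subschemeι).obj E) (Coh.structureModule J.subscheme)) :=
        tensorComm _ _ ≪≫ (Groth.L17.ProjFormula.projIso J.subschemeι E hE).app (Coh.structureModule J.subscheme)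
      exact ⟨j₀, fun m hm q hq => Groth.L22.EnrSev.subsingleton_of_iso (tensorIso ε (Iso.refl _)).symm q (hj m hm q hq)⟩)
    (fun E hE => by
      obtain ⟨a, ha⟩ := Groth.L18.VanBundle.of_structure i hamp 0 (fun j hj => hX j (hj.trans zero_le_one)) hE
      obtain ⟨b, hb⟩ := Groth.L18.VanBundle.of_structure i hamp 1 hX hE
      refine ⟨max a b, fun m hm q hq => ?_⟩
      interval_cases q
      · exact ha m (le_of_max_le_left hm)
      · exact hb m (le_of_max_le_right hm))
  obtain ⟨e⟩ := Groth.L18.LefTower.nonempty_complMod_iso 𝓘 𝔐 hfree hF β hβ hs hk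
    (fun x => (Groth.L18.LefTower.exists_gen_stalk hI x).imp fun _ h => h.1)
  have hl : ∀ n, FlatMod.IsFinLocFree ((Scheme.Modules.pullback (FSch.completionToX X 𝓘 n)).obj F) := fun n =>
    Groth.L29.LocFree.of_iso
      ({ hom := e.inv.app n, inv := e.hom.app n
         hom_inv_id := congrFun (congrArg FSch.ModSys.Hom.app e.inv_hom_id) n
         inv_hom_id := congrFun (congrArg FSch.ModSys.Hom.app e.hom_inv_id) n } :
        𝔐.F n ≅ (Scheme.Modules.pullback (FSch.completionToX X 𝓘 n)).obj F) (hfree n)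
  obtain ⟨U, hU, hE⟩ := Groth.L18.FreeNearLevels.exists_open 𝓘 hF hl
  obtain ⟨c⟩ := Groth.L18.FreeNearLevels.nonempty_complMod_push 𝓘 U hU F
  exact ⟨U, F.restrict U.ι, hU, hE, ⟨eqToIso (Groth.L18.ModSysAlgz.completionMod_eq 𝓘 _) ≪≫ c.symm ≪≫ e⟩⟩

end Groth.L18.LeffField
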