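import Groth.Agent.L13.PointBlow.Twist
import Groth.Agent.L21.Mod.Stalks
import Groth.Agent.L14.Quot.Sub
import Groth.Agent.L00.StalkFunctor
import Groth.Agent.L03.Euler.Section
import Groth.Agent.L21.RR.Coh
import Groth.Agent.L22.PDual.ExtSheafHom

/-!
# Powers of an invertible ideal whose generator is regular on a module
-/

set_option autoImplicit false
set_option linter.style.haveILetI false
set_option linter.unusedSectionVars false
set_option backward.isDefEq.respectTransparency false
set_option backward.isDefEq.respectTransparency.types false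
universe u

open CategoryTheory CategoryTheory.Limits AlgebraicGeometry Opposite
open scoped TensorProduct

noncomputable section

namespace Groth.L18.RegularPowMono

open Groth.L00.Tensor (tensorMap)
open Groth.L18.Frame (IsFrame rs ro)
open Groth.Agent.L19.IdealInvertible (io io_smul)

variable {X : Scheme.{u}}

/-- The two descriptions of a map tensored with a module. -/
theorem tensorBi_map_app {M N : X.Modules} (f : M ⟶ N) (F : X.Modules) :
    (DCoh.tensorBi.map f).app F = tensorMap f (𝟙 F) := by
  refine congrArg (Groth.L00.Tensor.shf X).map ?_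
  exact ((congrArg (fun z => MonoidalCategory.tensorHom ((Groth.L00.Tensor.preF X).map f) z)
      ((Groth.L00.Tensor.preF X).map_id F)).trans (MonoidalCategory.tensorHom_id _ _)).symm

/-- A map out of a free rank one stalk is injective after tensoring iff the image of the generator is regular. -/
theorem injective_stalk_tensor_iff {N : X.Modules} (f : N ⟶ Coh.structureModule X) (F : X.Modules) (x : X)
    (e : N.presheaf.stalk x) (he : Function.Bijective fun a : X.presheaf.stalk x => a • e) (r : X.presheaf.stalk x)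
    (hr : (show (Coh.structureModule X).presheaf.stalk x from ((Groth.L00.Stk.F X x).map f).hom e) =
      r • Groth.L21.RR.one X x) :
    Function.Injective ((Groth.L00.Stk.F X x).map (tensorMap f (𝟙 F))).hom ↔
      IsSMulRegular (F.presheaf.stalk x) r := by
  let R := X.presheaf.stalk x
  let st := Groth.L00.Stk.F X x
  let eN : R ≃ₗ[R] st.obj N :=
    LinearEquiv.ofBijective (LinearMap.toSpanSingleton R (st.obj N) e) he
  let eO : R ≃ₗ[R] st.obj (Coh.structureModule X) :=
    LinearEquiv.ofBijective (LinearMap.toSpanSingleton R (st.obj (Coh.structureModule X)) (Groth.L21.RR.one X x))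
      (Groth.L21.RR.bijective_smul_one x)
  let aN : st.obj F ≃ₗ[R] st.obj (CohB1.tensorMod N F) :=
    (TensorProduct.lid R (st.obj F)).symm ≪≫ₗ TensorProduct.congr eN (LinearEquiv.refl R (st.obj F)) ≪≫ₗ
      (Groth.L00.Stk.τ x N F).toLinearEquiv
  let aO : st.obj F ≃ₗ[R] st.obj (CohB1.tensorMod (Coh.structureModule X) F) :=
    (TensorProduct.lid R (st.obj F)).symm ≪≫ₗ TensorProduct.congr eO (LinearEquiv.refl R (st.obj F)) ≪≫ₗ
      (Groth.L00.Stk.τ x (Coh.structureModule X) F).toLinearEquiv
  have key : ∀ v : st.obj F, (st.map (tensorMap f (𝟙 F))).hom (aN v) = aO (r • v) := by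
    intro v
    have h := congr($(Groth.L00.Stk.τ_natural x f (𝟙 F)) ((eN 1) ⊗ₜ[R] v))
    refine h.symm.trans ?_
    show (Groth.L00.Stk.τ x _ F).hom.hom _ = (Groth.L00.Stk.τ x _ F).hom.hom ((eO 1) ⊗ₜ[R] (r • v))
    refine congrArg (Groth.L00.Stk.τ x _ F).hom.hom ?_
    show (st.map f).hom (eN 1) ⊗ₜ[R] (st.map (𝟙 F)).hom v = _
    rw [show (st.map (𝟙 F)).hom v = v by rw [st.map_id]; rfl, show eN 1 = e from one_smul R e,
      show eO 1 = Groth.L21.RR.one X x from one_smul R (Groth.L21.RR.one X x)]
    exact (congrArg (· ⊗ₜ[R] v) hr).trans (TensorProduct.smul_tmul _ _ _)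
  constructor
  · intro h a b hab
    refine aN.injective (h ?_)
    rw [key, key]
    exact congrArg aO hab
  · intro h a b hab
    obtain ⟨a, rfl⟩ := aN.surjective a
    obtain ⟨b, rfl⟩ := aN.surjective b
    rw [key, key] at hab
    exact congrArg aN (h (aO.injective hab))

/-- The stalk of the inclusion of an ideal on a section. -/
theorem stalk_idealModι_germ (J : X.IdealSheafData) {U : X.Opens} {x : X} (hx : x ∈ U) (m : Γ(ClSub.idealMod J, U)) :
    (show (Coh.structureModule X).presheaf.stalk x from ((Groth.L00.Stk.F X x).map (ClSub.idealModι J)).hom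
        ((ClSub.idealMod J).presheaf.germ U x hx m)) =
      X.presheaf.germ U x hx (io J U m) • Groth.L21.RR.one X x := by
  refine (TopCat.Presheaf.stalkFunctor_map_germ_apply U x hx _ m).trans ?_
  have h2 : (show Γ(Coh.structureModule X, U) from io J U m) =
      io J U m • rs (Coh.structureModule X) (show U ≤ ⊤ from le_top) (Groth.L21.RR.oneSec X) := by
    have h3 : rs (Coh.structureModule X) (show U ≤ ⊤ from le_top) (Groth.L21.RR.oneSec X) = (show Γ(X, U) from 1) :=
      map_one (X.presheaf.map (homOfLE (le_top (a := U))).op).hom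
    rw [h3]
    exact (mul_one (io J U m)).symm
  refine (congrArg ((Coh.structureModule X).presheaf.germ U x hx) h2).trans
    ((Groth.L20.ModStalk.germ_smul (Coh.structureModule X) hx (io J U m) _).trans ?_)
  refine congrArg (X.presheaf.germ U x hx (io J U m) • ·) ?_
  exact TopCat.Presheaf.germ_res_apply (Coh.structureModule X).presheaf (homOfLE (le_top (a := U))) x hx _

/-- If the inclusion of an invertible ideal stays injective on `F`, so do those of its powers. -/
theorem mono_tensor_pow (I : X.IdealSheafData) (hI : PicF.IsInvertible (ClSub.idealMod I)) (F : X.Modules)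
    (hreg : Mono ((DCoh.tensorBi.map (ClSub.idealModι I)).app F)) (n : ℕ) :
    Mono ((DCoh.tensorBi.map (ClSub.idealModι (I ^ n))).app F) := by
  rw [tensorBi_map_app] at hreg ⊢
  obtain ⟨hIn, -⟩ := Groth.L13.PointBlow.nonempty_idealMod_pow hI n
  refine Groth.L14.Quot.mono_of_stalk _ fun x => ?_
  obtain ⟨U, a, hxU, -, ha, hIU⟩ := Groth.L13.PointBlow.exists_gen hI ⊤ x trivial
  obtain ⟨V, c, hxV, hVU, hc, hIV⟩ := Groth.L13.PointBlow.exists_gen hIn U.1 x hxU
  let s := X.presheaf.germ U.1 x hxU (io I U.1 a)
  let t := X.presheaf.germ V.1 x hxV (io (I ^ n) V.1 c)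
  have h1 : IsSMulRegular (F.presheaf.stalk x) s := by
    refine (injective_stalk_tensor_iff _ F x _ (Groth.L03.Euler.bijective_toSpanSingleton_germ ha hxU) s
      (stalk_idealModι_germ I hxU a)).1 ?_
    haveI := hreg
    exact (Groth.L21.Mod.mono_iff_stalk_injective _).1 hreg x
  refine (injective_stalk_tensor_iff _ F x _ (Groth.L03.Euler.bijective_toSpanSingleton_germ hc hxV) t
    (stalk_idealModι_germ (I ^ n) hxV c)).2 ?_
  have hVI : (I ^ n).ideal V = Ideal.span {(ro hVU (io I U.1 a)) ^ n} := by
    rw [Scheme.IdealSheafData.ideal_pow, Pi.pow_apply, ← I.map_ideal (U := V) (V := U) hVU, hIU, Ideal.map_span,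
      Set.image_singleton, Ideal.span_singleton_pow]
    rfl
  obtain ⟨w, hw⟩ := Ideal.mem_span_singleton'.1
    (hIV ▸ hVI.ge (Ideal.mem_span_singleton_self _) : (ro hVU (io I U.1 a)) ^ n ∈ Ideal.span {io (I ^ n) V.1 c})
  have hs : X.presheaf.germ V.1 x hxV w * t = s ^ n := by
    rw [← map_mul, hw, map_pow]
    exact congrArg (· ^ n) (TopCat.Presheaf.germ_res_apply X.presheaf (homOfLE hVU) x hxV _)
  intro v w' hvw
  refine (h1.pow n) ?_
  show s ^ n • v = s ^ n • w'
  rw [← hs, mul_smul, mul_smul]
  exact congrArg _ hvw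

end Groth.L18.RegularPowMono
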