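import Groth.Agent.L18.NegVanishLef
import Groth.Agent.L18.RegularPowMono

/-!
# Cohomology and the inverse limit along an ample divisor
-/

set_option autoImplicit false
set_option linter.style.haveILetI false
set_option linter.unusedSectionVars false
set_option backward.isDefEq.respectTransparency false
set_option backward.isDefEq.respectTransparency.types false
universe u

open CategoryTheory CategoryTheory.Limits AlgebraicGeometry IsLocalRing

noncomputable section

namespace Groth.L18.NegVanish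

open Groth.L00.Tensor (tensorMap tensorMap_comp tensorIso tensorComm tensorRightF)
open Groth.L16.CohLinear (hmap hmap_comp exact_hmap_hmap exact_hmap_delta)

variable {X : Scheme.{u}}

/-- The comparison with the limit of a tower which becomes bijective. -/
theorem limit_of_vanish {O' : X.Modules} (K Q : ℕ → X.Modules) (ι : ∀ m, K m ⟶ O') (π : ∀ m, O' ⟶ Q m)
    (w : ∀ m, ι m ≫ π m = 0) (hS : ∀ m, (ShortComplex.mk (ι m) (π m) (w m)).ShortExact)
    (τ : ∀ m, Q (m + 1) ⟶ Q m) (hτ : ∀ m, π (m + 1) ≫ τ m = π m) (n m₀ : ℕ)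
    (hv : ∀ m, m₀ ≤ m → ∀ q, q ≤ n → Subsingleton (Coh.HH X (K m) q)) (i : ℕ) :
    (i ≤ n → ∀ x : Coh.HH X O' i, (∀ m, hmap (π m) i x = 0) → x = 0) ∧
      (i < n → ∀ y : (∀ m, Coh.HH X (Q m) i), (∀ m, hmap (τ m) i (y (m + 1)) = y m) →
        ∃ x : Coh.HH X O' i, ∀ m, hmap (π m) i x = y m) := by
  have hinj : ∀ m, m₀ ≤ m → i ≤ n → ∀ x : Coh.HH X O' i, hmap (π m) i x = 0 → x = 0 := by
    intro m hm hi x hx
    obtain ⟨z, rfl⟩ := (exact_hmap_hmap (hS m) i x).1 hx
    haveI := hv m hm i hi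
    rw [Subsingleton.elim z 0, map_zero]
  refine ⟨fun hi x hx => hinj m₀ le_rfl hi x (hx m₀), fun hi y hy => ?_⟩
  have hsurj : ∀ m, m₀ ≤ m → ∀ b : Coh.HH X (Q m) i, ∃ x, hmap (π m) i x = b := fun m hm b =>
    (exact_hmap_delta (hS m) i b).1 (@Subsingleton.elim _ (hv m hm (i + 1) hi) _ _)
  obtain ⟨x, hx⟩ := hsurj m₀ le_rfl (y m₀)
  have hτx : ∀ m (z : Coh.HH X O' i), hmap (τ m) i (hmap (π (m + 1)) i z) = hmap (π m) i z := fun m z => by
    rw [← hmap_comp, hτ]
  have up : ∀ k, hmap (π (m₀ + k)) i x = y (m₀ + k) := by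
    intro k
    induction k with
    | zero => exact hx
    | succ k ih =>
      obtain ⟨x', hx'⟩ := hsurj (m₀ + k + 1) (by omega) (y (m₀ + k + 1))
      have h1 : x' - x = 0 := hinj (m₀ + k) (by omega) hi.le _ (by
        rw [map_sub, ← hτx _ x', hx', hy, ih, sub_self])
      rw [sub_eq_zero.1 h1] at hx'
      exact hx'
  have down : ∀ k m, m + k = m₀ → hmap (π m) i x = y m := by
    intro k
    induction k with
    | zero => intro m hm; obtain rfl : m = m₀ := hm; exact hx
    | succ k ih =>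
      intro m hm
      rw [← hτx, ih (m + 1) (by omega), hy]
  refine ⟨x, fun m => ?_⟩
  rcases le_or_gt m₀ m with h | h
  · obtain ⟨k, rfl⟩ := Nat.exists_eq_add_of_le h
    exact up k
  · exact down (m₀ - m) m (by omega)

/-- A module tensored with the quotient sequence of an ideal. -/
theorem shortExact_ideal_tensor (J : X.IdealSheafData) (F : X.Modules)
    (hJ : Mono (tensorMap (ClSub.idealModι J) (𝟙 F))) :
    ∃ w, (ShortComplex.mk (tensorMap (ClSub.idealModι J) (𝟙 F)) (tensorMap (ClSub.toSubscheme J) (𝟙 F)) w).ShortExact := by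
  let S := ShortComplex.mk (ClSub.idealModι J) (ClSub.toSubscheme J) (kernel.condition _)
  have hS : S.ShortExact := Groth.L18.LefTwists.shortExact_ideal J
  haveI : (tensorRightF F).Additive := Functor.additive_of_preserves_binary_products _
  haveI := hS.epi_g
  haveI : Epi (tensorMap (ClSub.toSubscheme J) (𝟙 F)) := inferInstanceAs (Epi ((tensorRightF F).map S.g))
  refine ⟨(S.map (tensorRightF F)).zero, ?_⟩
  exact { exact := ShortComplex.exact_of_g_is_cokernel _
            (CokernelCofork.mapIsColimit _ hS.gIsCokernel (tensorRightF F))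
          mono_f := hJ
          epi_g := inferInstance }

variable {A : Type u} [CommRing A] [IsNoetherianRing A]

/-- The limit comparison for a flat module with deep fibres. -/
theorem limit_of_depth (f : X ⟶ Spec (CommRingCat.of A)) [IsProper f] (𝓘 : X.IdealSheafData) {L : X.Modules}
    (hL : ClSub.IsInverseOf L (ClSub.idealMod 𝓘)) (hamp : CohB1.IsAmple L) {F : X.Modules} (hF : Coh.IsCoh F)
    (hflat : FlatMod.IsFlatOver f F) (hreg : Mono ((DCoh.tensorBi.map (ClSub.idealModι 𝓘)).app F)) (n : ℕ)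
    (hdepth : ∀ x : X, IsClosed ({x} : Set X) → ((n + 1 : ℕ) : ℕ∞) ≤ sdep f F x) (i : ℕ) :
    (i ≤ n → ∀ x : Coh.HH X (CohB1.tensorMod (Coh.structureModule X) F) i,
      (∀ m : ℕ, hmap (tensorMap (ClSub.toSubscheme (𝓘 ^ (m + 1))) (𝟙 F)) i x = 0) → x = 0) ∧
    (i < n → ∀ y : (∀ m : ℕ, Coh.HH X (CohB1.tensorMod (ClSub.quotMod (𝓘 ^ (m + 1))) F) i),
      (∀ m : ℕ, hmap (tensorMap (Lef.quotMap (Lef.pow_succ_le 𝓘 m)) (𝟙 F)) i (y (m + 1)) = y m) →
      ∃ x : Coh.HH X (CohB1.tensorMod (Coh.structureModule X) F) i,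
        ∀ m : ℕ, hmap (tensorMap (ClSub.toSubscheme (𝓘 ^ (m + 1))) (𝟙 F)) i x = y m) := by
  obtain ⟨e⟩ := id hL
  have hI : PicF.IsInvertible (ClSub.idealMod 𝓘) := Groth.L22.EnrSev.isInvertible_of_inverse hamp.1 e
  obtain ⟨m₀, hm₀⟩ := exists_vanish f hamp e hF hflat n hdepth
  choose w hw using fun m => shortExact_ideal_tensor (𝓘 ^ (m + 1)) F (by
    rw [← Groth.L18.RegularPowMono.tensorBi_map_app]
    exact Groth.L18.RegularPowMono.mono_tensor_pow 𝓘 hI F hreg (m + 1))
  refine limit_of_vanish (fun m => CohB1.tensorMod (ClSub.idealMod (𝓘 ^ (m + 1))) F)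
    (fun m => CohB1.tensorMod (ClSub.quotMod (𝓘 ^ (m + 1))) F)
    (fun m => tensorMap (ClSub.idealModι (𝓘 ^ (m + 1))) (𝟙 F))
    (fun m => tensorMap (ClSub.toSubscheme (𝓘 ^ (m + 1))) (𝟙 F)) w hw
    (fun m => tensorMap (Lef.quotMap (Lef.pow_succ_le 𝓘 m)) (𝟙 F)) (fun m => ?_) n m₀ (fun m hm q hq => ?_) i
  · rw [← tensorMap_comp, Groth.L18.LefConnected.toSubscheme_quotMap, Category.comp_id]
  · obtain ⟨-, ⟨ε⟩⟩ := Groth.L13.PointBlow.nonempty_idealMod_pow hI (m + 1)
    exact Groth.L22.EnrSev.subsingleton_of_iso (tensorComm _ _ ≪≫ tensorIso ε.symm (Iso.refl F)) q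
      (hm₀ (m + 1) (by omega) q hq)

end Groth.L18.NegVanish
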