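import Groth.Agent.L18.LefTowerLift
import Groth.Agent.L18.NegVanishLimit
import Groth.Agent.L18.LocFreeTilde
import Groth.Agent.L16.CohKernel
import Groth.Agent.L29.DCoh.TensorPerfect

/-!
# A tower of bundles is the tower of reductions of a module
-/

set_option autoImplicit false
set_option linter.style.haveILetI false
set_option linter.unusedSectionVars false
set_option backward.isDefEq.respectTransparency false
set_option backward.isDefEq.respectTransparency.types false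
universe u

open CategoryTheory CategoryTheory.Limits AlgebraicGeometry

noncomputable section

namespace Groth.L18.LefTower

open Groth.L00.Tensor (tensorMap tensorMap_comp tensorIso tensorComm tensorAssoc tensorUnitLeft tensorUnitRight tensorRightF)
open Groth.L16.CohLinear (hmap exact_hmap_hmap exact_hmap_delta exact_delta_hmap)
open Groth.L22.Reg (sm sm_comp sm_map_sub sm_map_zero sm_id sm_zero)
open Groth.L20.SeeNormal (sI)

variable {X : Scheme.{u}} {𝓘 : X.IdealSheafData}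

theorem isSMulRegular_of_span (hI : PicF.IsInvertible (ClSub.idealMod 𝓘)) {x : X} {s : X.presheaf.stalk x}
    (hs : sI 𝓘 x = Ideal.span {s}) : IsSMulRegular (X.presheaf.stalk x) s := by
  obtain ⟨s₀, hs₀, hreg⟩ := exists_gen_stalk hI x
  obtain ⟨c, hc⟩ := Ideal.mem_span_singleton'.1 (hs ▸ hs₀.ge (Ideal.mem_span_singleton_self s₀))
  intro a b hab
  refine hreg ?_
  show s₀ * a = s₀ * b
  rw [← hc, mul_assoc, mul_assoc]
  exact congrArg (c * ·) hab

theorem regular_stalk_vb (hI : PicF.IsInvertible (ClSub.idealMod 𝓘)) {E : X.Modules} (hE : FlatMod.IsFinLocFree E)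
    {x : X} {s : X.presheaf.stalk x} (hs : sI 𝓘 x = Ideal.span {s}) (a : ℕ) :
    IsSMulRegular ((Groth.L00.Stk.F X x).obj E) (s ^ a) := by
  haveI : Module.Free (X.presheaf.stalk x) ((Groth.L00.Stk.F X x).obj E) := Groth.L18.LFP.free_stalk E hE x
  let b := Module.Free.chooseBasis (X.presheaf.stalk x) ((Groth.L00.Stk.F X x).obj E)
  intro v w h
  refine b.repr.injective (Finsupp.ext fun i => ((isSMulRegular_of_span hI hs).pow a) ?_)
  have h' := congrArg (fun z => b.repr z i) (show s ^ a • v = s ^ a • w from h)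
  simpa only [map_smul, Finsupp.smul_apply] using h'

variable (𝓘) in
/-- The `n`-th reduction of a module. -/
abbrev CE (E : X.Modules) (n : ℕ) : X.Modules := CohB1.tensorMod (ClSub.quotMod (𝓘 ^ (n + 1))) E

/-- The unit form of a module. -/
abbrev OE (E : X.Modules) : X.Modules := CohB1.tensorMod (Coh.structureModule X) E

variable (𝓘) in
/-- The reduction map. -/
abbrev etaE (E : X.Modules) (n : ℕ) : OE E ⟶ CE 𝓘 E n := tensorMap (ClSub.toSubscheme (𝓘 ^ (n + 1))) (𝟙 E)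

theorem etaE_tr (E : X.Modules) (n : ℕ) :
    etaE 𝓘 E (n + 1) ≫ tensorMap (Lef.quotMap (Lef.pow_succ_le 𝓘 n)) (𝟙 E) = etaE 𝓘 E n := by
  rw [← tensorMap_comp, Groth.L18.LefConnected.toSubscheme_quotMap, Category.comp_id]

variable {E : X.Modules}

theorem isFinLocFree_OE (hE : FlatMod.IsFinLocFree E) : FlatMod.IsFinLocFree (OE E) :=
  Groth.L29.LocFree.of_iso (tensorUnitLeft E).symm hE

theorem shortExact_CE (hI : PicF.IsInvertible (ClSub.idealMod 𝓘)) (hE : FlatMod.IsFinLocFree E) (n : ℕ) :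
    ∃ w, (ShortComplex.mk (tensorMap (ClSub.idealModι (𝓘 ^ (n + 1))) (𝟙 E)) (etaE 𝓘 E n) w).ShortExact := by
  refine Groth.L18.NegVanish.shortExact_ideal_tensor (𝓘 ^ (n + 1)) E (mono_of_sm _ fun x => ?_)
  obtain ⟨s, hs, -⟩ := exists_gen_stalk hI x
  obtain ⟨e, he, r, u, v, hr, -, hv⟩ := exists_pow_gen hI (n + 1) x hs
  refine (Groth.L18.RegularPowMono.injective_stalk_tensor_iff _ E x e he r hr).2 fun a b hab => ?_
  refine regular_stalk_vb hI hE hs (n + 1) ?_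
  show s ^ (n + 1) • a = s ^ (n + 1) • b
  rw [hv, mul_smul, mul_smul]
  exact congrArg (v • ·) hab

theorem epi_etaE (hI : PicF.IsInvertible (ClSub.idealMod 𝓘)) (hE : FlatMod.IsFinLocFree E) (n : ℕ) :
    Epi (etaE 𝓘 E n) :=
  (shortExact_CE hI hE n).choose_spec.epi_g

theorem ker_etaE (hI : PicF.IsInvertible (ClSub.idealMod 𝓘)) (hE : FlatMod.IsFinLocFree E) (n : ℕ) {x : X}
    {s : X.presheaf.stalk x} (hs : sI 𝓘 x = Ideal.span {s}) (v : (Groth.L00.Stk.F X x).obj (OE E)) :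
    sm x (etaE 𝓘 E n) v = 0 ↔ ∃ w, s ^ (n + 1) • w = v := by
  obtain ⟨w₀, hS⟩ := shortExact_CE hI hE n
  obtain ⟨e, he, r, c, d, hr, hc, hd⟩ := exists_pow_gen hI (n + 1) x hs
  let aN := tensE x (ClSub.idealMod (𝓘 ^ (n + 1))) e he E
  let aO := tensE x _ (Groth.L21.RR.one X x) (Groth.L21.RR.bijective_smul_one x) E
  have key : ∀ z, sm x (tensorMap (ClSub.idealModι (𝓘 ^ (n + 1))) (𝟙 E)) (aN z) = r • aO z := fun z => by
    rw [tensE_natural x _ e he _ (Groth.L21.RR.bijective_smul_one x) r hr, sm_id, map_smul]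
  constructor
  · intro h0
    obtain ⟨y, hy⟩ := exists_preimage_of_sm_eq_zero hS.exact x h0
    obtain ⟨z, rfl⟩ := aN.surjective y
    refine ⟨c • aO z, ?_⟩
    rw [← hy, smul_smul, mul_comm, ← hc]
    exact (key z).symm
  · rintro ⟨w, rfl⟩
    obtain ⟨z, rfl⟩ := aO.surjective w
    rw [hd, mul_smul, ← key, sm_smul, ← sm_comp, w₀, sm_zero, smul_zero]

/-- The tower of the reductions of a bundle. -/
def bundleTower [IsLocallyNoetherian X] (hI : PicF.IsInvertible (ClSub.idealMod 𝓘))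
    (hE : FlatMod.IsFinLocFree E) : Tower 𝓘 where
  G n := CE 𝓘 E n
  tr n := tensorMap (Lef.quotMap (Lef.pow_succ_le 𝓘 n)) (𝟙 E)
  coh n := by
    obtain ⟨w, hS⟩ := shortExact_CE hI hE n
    obtain ⟨hIn, -⟩ := Groth.L13.PointBlow.nonempty_idealMod_pow hI (n + 1)
    refine Groth.L16.CohSupport.isCoh_of_iso
      ((cokernelIsCokernel _).coconePointUniqueUpToIso hS.gIsCokernel) ?_
    exact (Groth.L16.CohKernel.isCoh_kernel_cokernel
      (Groth.L16.NegPow.isCoh_of_isFinLocFree (Groth.L29.DC.isFinLocFree_tensor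
        (Groth.L20.ResDescent.isFinLocFree_of_isInvertible hIn) hE))
      (Groth.L16.NegPow.isCoh_of_isFinLocFree (isFinLocFree_OE hE)) _).2
  surj n x v := by
    haveI := epi_etaE hI hE n
    obtain ⟨w, rfl⟩ := surjective_sm (etaE 𝓘 E n) x v
    exact ⟨sm x (etaE 𝓘 E (n + 1)) w, by rw [← sm_comp, etaE_tr]⟩
  kill n x s hs v := by
    haveI := epi_etaE hI hE n
    obtain ⟨w, rfl⟩ := surjective_sm (etaE 𝓘 E n) x v
    rw [← sm_smul]
    exact (ker_etaE hI hE n hs _).2 ⟨w, rfl⟩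
  ker_tr n x s hs v hv := by
    haveI := epi_etaE hI hE (n + 1)
    obtain ⟨w, rfl⟩ := surjective_sm (etaE 𝓘 E (n + 1)) x v
    rw [← sm_comp, etaE_tr] at hv
    obtain ⟨z, rfl⟩ := (ker_etaE hI hE n hs w).1 hv
    exact ⟨sm x (etaE 𝓘 E (n + 1)) z, (sm_smul _ _ _).symm⟩
  ann n a b x s hs hab v hv := by
    haveI := epi_etaE hI hE n
    obtain ⟨w, rfl⟩ := surjective_sm (etaE 𝓘 E n) x v
    rw [← sm_smul] at hv
    obtain ⟨z, hz⟩ := (ker_etaE hI hE n hs _).1 hv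
    have hw : s ^ b • z = w := regular_stalk_vb hI (isFinLocFree_OE hE) hs a (by
      show s ^ a • (s ^ b • z) = s ^ a • w
      rw [smul_smul, ← pow_add, hab, hz])
    exact ⟨sm x (etaE 𝓘 E n) z, by rw [← sm_smul, hw]⟩

/-- Vanishing passes to kernels. -/
theorem van_kernel [IsLocallyNoetherian X] (hI : PicF.IsInvertible (ClSub.idealMod 𝓘)) {L : X.Modules}
    (i : CohB1.tensorMod L (ClSub.idealMod 𝓘) ≅ Coh.structureModule X) (P T : Tower 𝓘) (φ : ∀ n, P.G n ⟶ T.G n)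
    (hφ : ∀ n, φ (n + 1) ≫ T.tr n = P.tr n ≫ φ n) (hs : ∀ n x, Function.Surjective (sm x (φ n)))
    (hgen : ∀ x, ∃ s : X.presheaf.stalk x, sI 𝓘 x = Ideal.span {s}) (hP : Van P) (hT : Van T) :
    Van (kernelTower P T φ hφ hs hgen) := by
  obtain ⟨a, ha⟩ := hP
  obtain ⟨b, hb⟩ := hT
  refine ⟨a + b, fun e he q hq => ?_⟩
  let F := tensorRightF (CohB1.tensorPow (ClSub.idealMod 𝓘) e)
  haveI : F.IsEquivalence := Groth.L22.PDual.isEquivalence_tensorRightF (Groth.L22.EnrSev.powInv i e)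
  haveI : F.Additive := Functor.additive_of_preserves_binary_products _
  let S := ShortComplex.mk (kernel.ι (φ 0)) (φ 0) (kernel.condition _)
  have hS : S.ShortExact :=
    { exact := ShortComplex.exact_kernel _, mono_f := inferInstanceAs (Mono (kernel.ι _)), epi_g := epi_of_sm _ (hs 0) }
  have hS' := hS.map_of_exact F
  rcases Nat.le_one_iff_eq_zero_or_eq_one.1 hq with rfl | rfl
  · have key : ∀ y : Coh.HH X (S.map F).X₁ 0, y = 0 := fun y => by
      haveI : Subsingleton (Coh.HH X (S.map F).X₂ 0) := ha e (by omega) 0 zero_le_one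
      haveI := hS'.mono_f
      refine (Groth.L16.HomSh.h0Equiv (S.map F).X₁).injective (Groth.L16.Acc.app_injective (S.map F).f ⊤ ?_)
      refine (Groth.L16.HomSh.h0Equiv_map (S.map F).f y).symm.trans ?_
      rw [Subsingleton.elim (Sheaf.H.map _ 0 y) 0, map_zero, map_zero, map_zero]
    exact subsingleton_of_forall_eq 0 key
  · exact Groth.L22.Reg.subsingleton_of_exact (exact_delta_hmap hS' 0) (hb e (by omega) 0 zero_le_one)
      (ha e (by omega) 1 le_rfl) (map_zero _)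

/-- Compatible maps to the reductions of a bundle come from a map to the bundle. -/
theorem exists_hom {L : X.Modules} (hI : PicF.IsInvertible (ClSub.idealMod 𝓘))
    (i : CohB1.tensorMod L (ClSub.idealMod 𝓘) ≅ Coh.structureModule X) (hE : FlatMod.IsFinLocFree E)
    (k m : ℕ) (hv : ∃ n₀ : ℕ, ∀ e : ℕ, n₀ ≤ e → ∀ q, q ≤ 1 → Subsingleton (Coh.HH X
      (CohB1.tensorMod (CohB1.tensorMod E (CohB1.tensorPow L m)) (CohB1.tensorPow (ClSub.idealMod 𝓘) e)) q))
    (ω : ∀ n, CohB1.tensorMod (FlatMod.freeMod X k) (CohB1.tensorPow (ClSub.idealMod 𝓘) m) ⟶ CE 𝓘 E n)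
    (hω : ∀ n, ω (n + 1) ≫ tensorMap (Lef.quotMap (Lef.pow_succ_le 𝓘 n)) (𝟙 E) = ω n) :
    ∃ φ, ∀ n, φ ≫ etaE 𝓘 E n = ω n := by
  obtain ⟨n₀, hn₀⟩ := hv
  let P := CohB1.tensorMod (FlatMod.freeMod X k) (CohB1.tensorPow (ClSub.idealMod 𝓘) m)
  let U := CohB1.tensorPow L m
  let T := tensorRightF U
  let p := Groth.L22.EnrSev.powInv i m
  haveI : T.IsEquivalence := Groth.L22.PDual.isEquivalence_tensorRightF (tensorComm _ _ ≪≫ p)
  haveI : T.Additive := Functor.additive_of_preserves_binary_products _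
  let e : T.obj P ≅ FlatMod.freeMod X k := tensorAssoc _ _ _ ≪≫ tensorIso (Iso.refl _) p ≪≫ tensorUnitRight _
  have hvan : ∀ n, n₀ ≤ n → ∀ q, q ≤ 1 →
      Subsingleton (Coh.HH X (T.obj (CohB1.tensorMod (ClSub.idealMod (𝓘 ^ (n + 1))) E)) q) := fun n hn q hq => by
    obtain ⟨-, ⟨ι₁⟩⟩ := Groth.L13.PointBlow.nonempty_idealMod_pow hI (n + 1)
    exact Groth.L22.EnrSev.subsingleton_of_iso (tensorComm _ _ ≪≫ tensorIso ι₁.symm (Iso.refl _) ≪≫
      (tensorAssoc _ _ _).symm) q (hn₀ (n + 1) (by omega) q hq)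
  choose w hS using fun n => shortExact_CE hI hE n
  have lift : ∀ n, n₀ ≤ n → ∃ φ, φ ≫ etaE 𝓘 E n = ω n := fun n hn => by
    have hS' := (hS n).map_of_exact T
    obtain ⟨g, hg⟩ := exists_lift_free _ (fun y => (exact_hmap_delta hS' 0 y).1
      (@Subsingleton.elim _ (hvan n hn 1 le_rfl) _ _)) (e.inv ≫ T.map (ω n))
    refine ⟨T.preimage (e.hom ≫ g), T.map_injective ?_⟩
    rw [Functor.map_comp, Functor.map_preimage, Category.assoc, ← cancel_epi e.inv, e.inv_hom_id_assoc]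
    exact hg
  have inj : ∀ n, n₀ ≤ n → ∀ φ : P ⟶ OE E, φ ≫ etaE 𝓘 E n = 0 → φ = 0 := fun n hn φ hφ => by
    haveI := hvan n hn 0 zero_le_one
    haveI := (hS n).mono_f
    let l : P ⟶ CohB1.tensorMod (ClSub.idealMod (𝓘 ^ (n + 1))) E := (hS n).exact.lift φ hφ
    have hl : e.inv ≫ T.map l = 0 :=
      Sigma.hom_ext _ _ fun j => (Groth.L18.LefTwists.hom_eq_zero _).trans comp_zero.symm
    have hl0 : l = 0 := T.map_injective (by rw [Functor.map_zero, ← cancel_epi e.inv, hl, comp_zero])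
    rw [show φ = l ≫ _ from ((hS n).exact.lift_f φ hφ).symm, hl0, zero_comp]
  have down : ∀ (φ : P ⟶ OE E) (a d : ℕ), φ ≫ etaE 𝓘 E (a + d) = ω (a + d) → φ ≫ etaE 𝓘 E a = ω a := by
    intro φ a d
    induction d with
    | zero => exact id
    | succ d ih =>
      intro hd
      refine ih ?_
      rw [← hω (a + d), ← etaE_tr, ← Category.assoc]
      exact congrArg (· ≫ tensorMap (Lef.quotMap (Lef.pow_succ_le 𝓘 (a + d))) (𝟙 E)) hd
  obtain ⟨φ, hφ⟩ := lift n₀ le_rfl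
  refine ⟨φ, fun n => down φ n n₀ ?_⟩
  obtain ⟨ψ, hψ⟩ := lift (n₀ + n) (Nat.le_add_right _ _)
  have : φ = ψ := sub_eq_zero.1 (inj n₀ le_rfl _ (by rw [Preadditive.sub_comp, hφ, down ψ n₀ n hψ, sub_self]))
  rw [this, add_comm n n₀]
  exact hψ

/-- A tower is the tower of the reductions of a coherent module. -/
theorem exists_module {A : Type u} [CommRing A] [IsNoetherianRing A] [X.Over (Spec (CommRingCat.of A))]
    [IsProper (X ↘ Spec (CommRingCat.of A))] [IsLocallyNoetherian X] {L : X.Modules}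
    (hL : ClSub.IsInverseOf L (ClSub.idealMod 𝓘)) (hamp : CohB1.IsAmple L) (T : Tower 𝓘) (hT : Van T)
    (hI : PicF.IsInvertible (ClSub.idealMod 𝓘))
    (hY : ∀ (E : X.Modules) (hE : FlatMod.IsFinLocFree E), Van (bundleTower hI hE))
    (hX : ∀ E : X.Modules, FlatMod.IsFinLocFree E → ∃ n₀ : ℕ, ∀ e : ℕ, n₀ ≤ e → ∀ q, q ≤ 1 → Subsingleton
      (Coh.HH X (CohB1.tensorMod E (CohB1.tensorPow (ClSub.idealMod 𝓘) e)) q)) :
    ∃ (F : X.Modules) (β : ∀ n, F ⟶ T.G n), Coh.IsCoh F ∧ (∀ n, β (n + 1) ≫ T.tr n = β n) ∧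
      (∀ n x, Function.Surjective (sm x (β n))) ∧
      ∀ n (x : X) (s : X.presheaf.stalk x), sI 𝓘 x = Ideal.span {s} →
        ∀ v, sm x (β n) v = 0 → ∃ w, s ^ (n + 1) • w = v := by
  obtain ⟨i⟩ := id hL
  have hgen : ∀ x, ∃ s : X.presheaf.stalk x, sI 𝓘 x = Ideal.span {s} := fun x =>
    ⟨_, (exists_gen_stalk hI x).choose_spec.1⟩
  obtain ⟨k, m, ψ, hψ, hψe⟩ := exists_cover (A := A) hL hamp T hT
  let E := CohB1.tensorMod (FlatMod.freeMod X k) (CohB1.tensorPow (ClSub.idealMod 𝓘) m)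
  have hE : FlatMod.IsFinLocFree E :=
    Groth.L16.NegPow.isFinLocFree_freeTensor (Groth.L18.Ample.isInvertible_tensorPow hI m) k
  let Pt := bundleTower hI hE
  let ψ' : ∀ n, OE E ⟶ T.G n := fun n => (tensorUnitLeft E).hom ≫ ψ n
  haveI := fun n => epi_etaE hI hE n
  have hk : ∀ n, kernel.ι (etaE 𝓘 E n) ≫ ψ' n = 0 := fun n => by
    refine Groth.L21.Mod.hom_ext_stalk fun x => ?_
    ext z
    show sm x (kernel.ι (etaE 𝓘 E n) ≫ ψ' n) z = sm x (0 : kernel (etaE 𝓘 E n) ⟶ T.G n) z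
    obtain ⟨s, hs⟩ := hgen x
    obtain ⟨w, hw⟩ := (ker_etaE hI hE n hs (sm x (kernel.ι (etaE 𝓘 E n)) z)).1 (by
      rw [← sm_comp, kernel.condition, sm_zero])
    rw [sm_comp, sm_zero, ← hw, sm_smul, T.kill n x s hs]
  let φ : ∀ n, Pt.G n ⟶ T.G n := fun n => Abelian.epiDesc (etaE 𝓘 E n) (ψ' n) (hk n)
  have hφη : ∀ n, etaE 𝓘 E n ≫ φ n = ψ' n := fun n => Abelian.comp_epiDesc _ _ _
  have hφ : ∀ n, φ (n + 1) ≫ T.tr n = Pt.tr n ≫ φ n := fun n => by
    rw [← cancel_epi (etaE 𝓘 E (n + 1)), reassoc_of% hφη]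
    show _ = etaE 𝓘 E (n + 1) ≫ tensorMap (Lef.quotMap (Lef.pow_succ_le 𝓘 n)) (𝟙 E) ≫ φ n
    rw [reassoc_of% etaE_tr, hφη, Category.assoc, hψ]
  have hφs : ∀ n x, Function.Surjective (sm x (φ n)) := fun n x v => by
    haveI := hψe n
    haveI : Epi (ψ' n) := epi_comp _ _
    obtain ⟨w, rfl⟩ := surjective_sm (ψ' n) x v
    exact ⟨sm x (etaE 𝓘 E n) w, by rw [← sm_comp, hφη]⟩
  let K := kernelTower Pt T φ hφ hφs hgen
  obtain ⟨k', m', ψ₁, hψ₁, hψ₁e⟩ := exists_cover (A := A) hL hamp K (van_kernel hI i Pt T φ hφ hφs hgen (hY E hE) hT)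
  let ω : ∀ n, CohB1.tensorMod (FlatMod.freeMod X k') (CohB1.tensorPow (ClSub.idealMod 𝓘) m') ⟶ CE 𝓘 E n :=
    fun n => ψ₁ n ≫ kernel.ι (φ n)
  obtain ⟨g, hg⟩ := exists_hom hI i hE k' m' (hX _ (Groth.L29.DC.isFinLocFree_tensor hE
      (Groth.L20.ResDescent.isFinLocFree_of_isInvertible (Groth.L18.Ample.isInvertible_tensorPow hamp.1 m')))) ω fun n => by
    show (ψ₁ (n + 1) ≫ kernel.ι (φ (n + 1))) ≫ Pt.tr n = ψ₁ n ≫ kernel.ι (φ n)
    rw [← hψ₁ n, Category.assoc, Category.assoc]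
    exact congrArg (ψ₁ (n + 1) ≫ ·) (kernel.lift_ι _ _ _).symm
  have hgψ : ∀ n, g ≫ ψ' n = 0 := fun n => by
    rw [← hφη, ← Category.assoc, hg]
    show (ψ₁ n ≫ kernel.ι (φ n)) ≫ φ n = 0
    rw [Category.assoc, kernel.condition, comp_zero]
  let F := cokernel g
  let β : ∀ n, F ⟶ T.G n := fun n => cokernel.desc g (ψ' n) (hgψ n)
  have hπβ : ∀ n, cokernel.π g ≫ β n = ψ' n := fun n => cokernel.π_desc _ _ _
  refine ⟨F, β, ?_, fun n => ?_, fun n x v => ?_, fun n x s hs v hv => ?_⟩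
  · exact (Groth.L16.CohKernel.isCoh_kernel_cokernel
      (Groth.L16.NegPow.isCoh_of_isFinLocFree
        (Groth.L16.NegPow.isFinLocFree_freeTensor (Groth.L18.Ample.isInvertible_tensorPow hI m') k'))
      (Groth.L16.NegPow.isCoh_of_isFinLocFree (isFinLocFree_OE hE)) g).2
  · rw [← cancel_epi (cokernel.π g), reassoc_of% hπβ, hπβ, Category.assoc, hψ]
  · haveI := hψe n
    haveI : Epi (ψ' n) := epi_comp _ _
    obtain ⟨w, rfl⟩ := surjective_sm (ψ' n) x v
    exact ⟨sm x (cokernel.π g) w, by rw [← sm_comp, hπβ]⟩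
  · obtain ⟨w, rfl⟩ := surjective_sm (cokernel.π g) x v
    rw [← sm_comp, hπβ, ← hφη, sm_comp] at hv
    obtain ⟨c, hc⟩ := exists_kernel_preimage (φ n) x hv
    haveI := hψ₁e n
    obtain ⟨y, rfl⟩ := surjective_sm (ψ₁ n) x c
    obtain ⟨z, hz⟩ := (ker_etaE hI hE n hs (w - sm x g y)).1 (by
      rw [sm_map_sub, ← sm_comp, hg]
      exact sub_eq_zero.2 (hc.symm.trans (sm_comp x (ψ₁ n) (kernel.ι (φ n)) y).symm))
    refine ⟨sm x (cokernel.π g) z, ?_⟩
    rw [← sm_smul, hz, sm_map_sub, ← sm_comp, cokernel.condition, sm_zero, sub_zero]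

end Groth.L18.LefTower
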