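import Groth.Agent.L18.PicLefPara
import Groth.Agent.L18.LefTowerPres
import Groth.Agent.L18.NegVanish
import Groth.Agent.L06.AmpleDisjoint
import Groth.Agent.L07.CIScheme
import Groth.Agent.L16.EtaleFibre.Epi
import Groth.Agent.S2951

/-!
# Fibrewise depth and parafactoriality along a relative divisor
-/

set_option autoImplicit false
set_option linter.style.haveILetI false
set_option linter.unusedSectionVars false
set_option backward.isDefEq.respectTransparency false
set_option backward.isDefEq.respectTransparency.types false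
universe u

open CategoryTheory CategoryTheory.Limits AlgebraicGeometry TopologicalSpace IsLocalRing

noncomputable section

namespace Groth.L18.PicLefFibre

open Groth.L18.NegVanish (sdep fibI fib Red dep mem_of_flat)
open Groth.L00.Tensor (tensorIso tensorUnitLeft tensorUnitRight tensorComm tensorMap)

variable {A : Type u} [CommRing A] [IsNoetherianRing A]

/-- A flat local homomorphism with parafactorial closed fibre of depth three. -/
theorem parafactorial_stalk {X : Scheme.{u}} (f : X ⟶ Spec (CommRingCat.of A)) [LocallyOfFiniteType f] [Flat f] (x : X)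
    (hd : (3 : ℕ∞) ≤ LocCoh.depth ↑(CInt.fiberStalk f x) ↑(CInt.fiberStalk f x))
    (hp : ParaF.IsParafactorialLocalRing ↑(CInt.fiberStalk f x)) :
    ParaF.IsParafactorialLocalRing (X.presheaf.stalk x) := by
  haveI : IsLocallyNoetherian X := LocallyOfFiniteType.isLocallyNoetherian f
  let B := X.presheaf.stalk x
  let A₀ := (Spec (CommRingCat.of A)).presheaf.stalk (f x)
  letI : Algebra A₀ B := (f.stalkMap x).hom.toAlgebra
  haveI : IsLocalHom (algebraMap A₀ B) := inferInstanceAs (IsLocalHom (f.stalkMap x).hom)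
  haveI : Module.Flat A₀ B := Flat.stalkMap f x
  obtain ⟨e⟩ := Groth.L07.CIScheme.exists_fiberStalkEquiv f (f x) (f.asFiber x) x (f.fiberι_asFiber x)
  let R₁ := B ⧸ (maximalIdeal A₀).map (algebraMap A₀ B)
  let e' : R₁ ≃+* ↑(CInt.fiberStalk f x) := e
  haveI : IsLocalRing R₁ := e'.symm.isLocalRing
  have hd₁ : (3 : ℕ∞) ≤ LocCoh.depth R₁ R₁ := by
    refine le_trans hd (le_of_eq ?_)
    exact (L02.FibDepth.Semi.depth_eq
      { φ := e'.toRingHom
        surj := e'.surjective
        e := e'.toAddEquiv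
        map_smul := fun r m => map_mul e' r m }).symm
  have hP : ParaF.PicTrivial (↑(FEt.puncturedSpec R₁) : Scheme.{u}) := by
    have h2 : Formal2.PicTrivial (↑(FEt.puncturedSpec ↑(CInt.fiberStalk f x)) : Scheme.{u}) :=
      ((Groth.Agent.S2824.result ↑(CInt.fiberStalk f x)).1 hp).2
    haveI : IsIso (CommRingCat.ofHom e'.toRingHom) := (e'.toCommRingCatIso).isIso_hom
    haveI : IsIso (Spec.map (CommRingCat.ofHom e'.toRingHom)) := inferInstance
    rw [← Groth.L18.LocPic.preimage_punctured e'.toRingHom (fun P hP => ?_)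
      (Groth.L18.LocPic.comap_maximal_of_surjective _ e'.surjective)] at h2
    · exact Groth.L18.LocPic.picTrivial_of_iso
        (asIso (Spec.map (CommRingCat.ofHom e'.toRingHom) ∣_ FEt.puncturedSpec R₁)) h2
    · rw [← Ideal.map_comap_of_surjective e'.toRingHom e'.surjective P.asIdeal, hP]
      exact IsLocalRing.map_maximalIdeal_of_surjective _ e'.surjective
  refine (Groth.Agent.S2824.result B).2 ⟨Groth.L18.GrFreePic.bijective_restrict
    (Groth.L06.AmpleDisj.le_depth f x 2 ((show (2 : ℕ∞) ≤ 3 by norm_num).trans hd)), fun L hL => ?_⟩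
  exact Groth.Agent.S2951.result A₀ B hd₁ hP L hL

section Depth

variable (A₀ : Type u) {B : Type u} [CommRing A₀] [IsLocalRing A₀] [CommRing B] [Algebra A₀ B] [IsLocalRing B]
  [IsNoetherianRing B] {K E M : Type u} [AddCommGroup K] [Module B K] [AddCommGroup E] [Module B E] [AddCommGroup M]
  [Module B M] [Module A₀ K] [IsScalarTower A₀ B K] [Module A₀ E] [IsScalarTower A₀ B E] [Module A₀ M]
  [IsScalarTower A₀ B M]

theorem le_dep_right [Module.Finite B E] [Module.Flat A₀ M] (f : K →ₗ[B] E) (g : E →ₗ[B] M)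
    (hf : Function.Injective f) (hg : Function.Surjective g) (hfg : Function.Exact f g) {n : ℕ}
    (hK : ((n + 1 : ℕ) : ℕ∞) ≤ dep A₀ (B := B) K) (hE : (n : ℕ∞) ≤ dep A₀ (B := B) E) :
    (n : ℕ∞) ≤ dep A₀ (B := B) M := by
  haveI : Module.Finite B K := Module.Finite.of_injective f hf
  haveI : Module.Finite B M := Module.Finite.of_surjective g hg
  let J := fib A₀ (B := B)
  let f' : Red A₀ (B := B) K →ₗ[B] Red A₀ (B := B) E := Submodule.mapQ _ _ f fun x hx => by
    exact Submodule.smul_top_le_comap_smul_top J f hx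
  let g' : Red A₀ (B := B) E →ₗ[B] Red A₀ (B := B) M := Submodule.mapQ _ _ g fun x hx => by
    exact Submodule.smul_top_le_comap_smul_top J g hx
  refine Groth.L04.le_idealDepth_right (f := f') (g := g') ?_ ?_ ?_ hK hE
  · refine (injective_iff_map_eq_zero f').2 fun z hz => ?_
    obtain ⟨z, rfl⟩ := Submodule.Quotient.mk_surjective _ z
    exact (Submodule.Quotient.mk_eq_zero _).2 (mem_of_flat f g hf hg hfg ((Submodule.Quotient.mk_eq_zero _).1 hz))
  · intro z
    obtain ⟨z, rfl⟩ := Submodule.Quotient.mk_surjective _ z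
    obtain ⟨y, rfl⟩ := hg z
    exact ⟨Submodule.Quotient.mk y, rfl⟩
  · intro z
    obtain ⟨y, rfl⟩ := Submodule.Quotient.mk_surjective _ z
    constructor
    · intro hy
      have h1 : g y ∈ J • (⊤ : Submodule B M) := (Submodule.Quotient.mk_eq_zero _).1 hy
      rw [← Submodule.map_top (f := g) |>.trans (LinearMap.range_eq_top.2 hg), ← Submodule.map_smul''] at h1
      obtain ⟨w, hw, hgw⟩ := h1
      obtain ⟨x, hx⟩ := (hfg (y - w)).1 (by rw [map_sub, hgw, sub_self])
      refine ⟨Submodule.Quotient.mk x, (Submodule.Quotient.eq _).2 ?_⟩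
      rw [hx, sub_sub_cancel_left]
      exact Submodule.neg_mem _ hw
    · rintro ⟨w, hw⟩
      obtain ⟨x, rfl⟩ := Submodule.Quotient.mk_surjective _ w
      rw [← hw]
      exact congrArg Submodule.Quotient.mk (hfg.apply_apply_eq_zero x) |>.trans (Submodule.Quotient.mk_zero _)

end Depth

variable {X : Scheme.{u}}

theorem sdep_congr {S : Scheme.{u}} (f : X ⟶ S) {F G : X.Modules} (e : F ≅ G) (x : X) : sdep f F x = sdep f G x := by
  let l := ((Groth.L00.Stk.F X x).mapIso e).toLinearEquiv
  let E : L02.FibDepth.Semi (X.presheaf.stalk x) (F.presheaf.stalk x) (X.presheaf.stalk x) (G.presheaf.stalk x) :=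
    { φ := RingHom.id _
      surj := Function.surjective_id
      e := l.toAddEquiv
      map_smul := fun r z => l.map_smul r z }
  obtain ⟨E'⟩ := Groth.L18.NegVanish.nonempty_semi_quot E (fibI f x)
  rw [show (fibI f x).map E.φ = fibI f x from Ideal.map_id _] at E'
  exact E'.depth_eq

/-- A closed point of a fibre of a closed subscheme is closed in the fibre. -/
theorem isClosed_asFiber_push {Y S : Scheme.{u}} (i : Y ⟶ X) [IsClosedImmersion i] (f : X ⟶ S) (y : Y)
    (h : IsClosed ({(i ≫ f).asFiber y} : Set ↥((i ≫ f).fiber ((i ≫ f).base y)))) :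
    IsClosed ({f.asFiber (i y)} : Set ↥(f.fiber (f.base (i y)))) := by
  refine isClosed_of_closure_subset fun v hv => ?_
  rw [Set.mem_singleton_iff]
  apply (f.fiberι _).isEmbedding.injective
  rw [f.fiberι_asFiber]
  let z := f.fiberι (f.base (i y)) v
  have hs : i y ⤳ z := by
    have := (specializes_iff_mem_closure.2 hv).map (f.fiberι (f.base (i y))).continuous
    rwa [f.fiberι_asFiber] at this
  obtain ⟨w, hw⟩ : z ∈ Set.range i :=
    hs.mem_closed i.isClosedEmbedding.isClosed_range ⟨y, rfl⟩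
  have hfw : (i ≫ f).base w = (i ≫ f).base y := by
    have hz : z ∈ Set.range (f.fiberι (f.base (i y))) := ⟨v, rfl⟩
    rw [Scheme.Hom.range_fiberι] at hz
    show f (i w) = f (i y)
    rw [hw]
    exact hz
  obtain ⟨w', hw'⟩ : w ∈ Set.range ((i ≫ f).fiberι ((i ≫ f).base y)) := by
    rw [Scheme.Hom.range_fiberι]
    exact hfw
  have hyw : (i ≫ f).asFiber y ⤳ w' := by
    rw [← ((i ≫ f).fiberι _).isEmbedding.isInducing.specializes_iff, hw', (i ≫ f).fiberι_asFiber,
      ← i.isEmbedding.isInducing.specializes_iff, hw]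
    exact hs
  have hwy : w' = (i ≫ f).asFiber y := hyw.mem_closed h rfl
  rw [show f.fiberι (f.base (i y)) v = z from rfl, ← hw, ← hw', hwy, (i ≫ f).fiberι_asFiber]

/-- The divisor loses at most one depth on the fibres. -/
theorem depth_divisor (f : X ⟶ Spec (CommRingCat.of A)) [LocallyOfFiniteType f] (𝓘 : X.IdealSheafData)
    [Flat (𝓘.subschemeι ≫ f)] (hI : PicF.IsInvertible (ClSub.idealMod 𝓘)) {n : ℕ} (y : 𝓘.subscheme)
    (h : ((n + 1 : ℕ) : ℕ∞) ≤ LocCoh.depth ↑(CInt.fiberStalk f (𝓘.subschemeι y)) ↑(CInt.fiberStalk f (𝓘.subschemeι y))) :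
    (n : ℕ∞) ≤ LocCoh.depth ↑(CInt.fiberStalk (𝓘.subschemeι ≫ f) y) ↑(CInt.fiberStalk (𝓘.subschemeι ≫ f) y) := by
  haveI : IsLocallyNoetherian X := LocallyOfFiniteType.isLocallyNoetherian f
  let i := 𝓘.subschemeι
  let x := i y
  let O := Coh.structureModule X
  rw [← Groth.L18.NegVanish.sdep_structureModule, ← Groth.L18.NegVanish.sdep_push]
  let T := ShortComplex.mk (ClSub.idealModι 𝓘) (ClSub.toSubscheme 𝓘) (kernel.condition _)
  have hT : T.ShortExact := Groth.L18.LefTwists.shortExact_ideal 𝓘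
  have hfl : FlatMod.IsFlatOver f T.X₃ := Groth.L18.NegVanish.isFlatOver_push i f _
    (Groth.L16.EtaleFibre.isFlatOver_structure (i ≫ f))
  have h₂ : ((n + 1 : ℕ) : ℕ∞) ≤ sdep f T.X₂ x := by
    rw [show T.X₂ = O from rfl, Groth.L18.NegVanish.sdep_structureModule]
    exact h
  have h₁ : ((n + 1 : ℕ) : ℕ∞) ≤ sdep f T.X₁ x := by
    rw [sdep_congr f (tensorUnitLeft T.X₁).symm x, Groth.L18.NegVanish.sdep_tensor f O hI]
    exact h₂
  let B := X.presheaf.stalk x
  let A₀ := (Spec (CommRingCat.of A)).presheaf.stalk (f x)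
  letI : Algebra A₀ B := (f.stalkMap x).hom.toAlgebra
  let st := Groth.L00.Stk.F X x
  have hS := Groth.L12.KRes.shortExact_stalk hT x
  letI : Module A₀ (st.obj T.X₁) := FlatMod.moduleStalkOver f T.X₁ x
  letI : Module A₀ (st.obj T.X₂) := FlatMod.moduleStalkOver f T.X₂ x
  letI : Module A₀ (st.obj T.X₃) := FlatMod.moduleStalkOver f T.X₃ x
  haveI : IsScalarTower A₀ B (st.obj T.X₁) := IsScalarTower.of_algebraMap_smul fun _ _ => rfl
  haveI : IsScalarTower A₀ B (st.obj T.X₂) := IsScalarTower.of_algebraMap_smul fun _ _ => rfl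
  haveI : IsScalarTower A₀ B (st.obj T.X₃) := IsScalarTower.of_algebraMap_smul fun _ _ => rfl
  haveI : Module.Flat A₀ (st.obj T.X₃) := hfl x
  haveI : Module.Finite B (st.obj T.X₂) :=
    Groth.L18.LFP.finite_stalk T.X₂ (Groth.L15.Ref.isFP_of_isCoh Groth.L16.CohClosedPush.isCoh_structure) x
  exact le_dep_right A₀ (st.map T.f).hom (st.map T.g).hom hS.moduleCat_injective_f hS.moduleCat_surjective_g
    ((ShortComplex.ShortExact.moduleCat_exact_iff_function_exact _).1 hS.exact) h₁
    (le_trans (by exact_mod_cast n.le_succ) h₂)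

/-- The graded pieces as twists of the structure sheaf of the closed subscheme. -/
theorem nonempty_kernel_tensor [IsLocallyNoetherian X] (𝓘 : X.IdealSheafData)
    (hI : PicF.IsInvertible (ClSub.idealMod 𝓘)) (n : ℕ) :
    Nonempty (kernel (Lef.quotMap (Lef.pow_succ_le 𝓘 n)) ≅
      CohB1.tensorMod (CohB1.tensorPow (ClSub.idealMod 𝓘) (n + 1)) (ClSub.quotMod 𝓘)) := by
  have hO : FlatMod.IsFinLocFree (Coh.structureModule X) :=
    Groth.L20.ResDescent.isFinLocFree_of_isInvertible (Groth.L18.Ample.isInvertible_structureModule X)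
  obtain ⟨e⟩ := (Groth.L18.LefTower.bundleTower hI hO).nonempty_kernel_tr hI n
  obtain ⟨-, ⟨p⟩⟩ := Groth.L13.PointBlow.nonempty_idealMod_pow hI (n + 1)
  have h1 : 𝓘 ^ (0 + 1) = 𝓘 := by rw [zero_add, pow_one]
  exact ⟨kernel.mapIso (Lef.quotMap (Lef.pow_succ_le 𝓘 n))
      (tensorMap (Lef.quotMap (Lef.pow_succ_le 𝓘 n)) (𝟙 (Coh.structureModule X)))
      (tensorUnitRight _).symm (tensorUnitRight _).symm (by
        rw [Iso.symm_hom, Iso.symm_hom, Iso.eq_inv_comp, ← Category.assoc, Iso.comp_inv_eq]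
        exact (Groth.L20.ResDescent.tensorUnitRight_natural (Lef.quotMap (Lef.pow_succ_le 𝓘 n))).symm) ≪≫ e ≪≫
    tensorIso p (tensorUnitRight _ ≪≫ eqToIso (congrArg ClSub.quotMod h1))⟩

end Groth.L18.PicLefFibre
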