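import Groth.Agent.L18.CIProjCoh
import Groth.Agent.L18.CIProjLocal
import Groth.Agent.L20.PnPic.Main
import Groth.Agent.L16.ProjSpace.AmpleIff
import Groth.Agent.S2949

/-!
Picard groups of complete intersections of dimension at least three.
-/

set_option autoImplicit false
set_option backward.isDefEq.respectTransparency false
set_option backward.isDefEq.respectTransparency.types false
set_option linter.style.haveILetI false
universe u

open CategoryTheory CategoryTheory.Limits AlgebraicGeometry TopologicalSpace MvPolynomial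

noncomputable section

namespace Groth.L18.CIProj

open Groth.L18.CIProjRing
open Groth.L21.PlaneCurve (OC)
open Groth.L00.Tensor (tensorIso tensorComm tensorUnitLeft)

variable {k : Type u} [Field k] {n : ℕ}

theorem nonempty_pow (I : (CohB1.ProjSpace n k).IdealSheafData) (c : ℤ) :
    ∀ m : ℕ, Nonempty (CohB1.tensorPow (OC I c) m ≅ OC I (m * c))
  | 0 => by
    obtain ⟨e⟩ := nonempty_OC_zero I
    rw [show ((0 : ℕ) : ℤ) * c = 0 by simp]
    exact ⟨e.symm⟩
  | m + 1 => by
    obtain ⟨e⟩ := nonempty_pow I c m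
    obtain ⟨a⟩ := nonempty_pullback_add I (show (m : ℤ) * c + c = ((m + 1 : ℕ) : ℤ) * c by push_cast; ring)
    exact ⟨tensorIso e (Iso.refl _) ≪≫ a⟩

theorem nonempty_powCongr {X : Scheme.{u}} {M N : X.Modules} (e : M ≅ N) :
    ∀ m : ℕ, Nonempty (CohB1.tensorPow M m ≅ CohB1.tensorPow N m)
  | 0 => ⟨Iso.refl _⟩
  | m + 1 => by
    obtain ⟨f⟩ := nonempty_powCongr e m
    exact ⟨tensorIso f e⟩

/-- Every invertible module on a complete intersection of dimension at least three is a twist. -/
theorem exists_iso_OC : ∀ (r : ℕ) (a : Fin r → ℕ) (_ : ∀ j, 1 ≤ a j) (G : ∀ j, LefPen.Form n k (a j)),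
    IsCI (pols G) → r + 3 ≤ n → ∀ L : (LefPen.ciIdeal G).subscheme.Modules, PicF.IsInvertible L →
      ∃ e : ℤ, Nonempty (L ≅ OC (LefPen.ciIdeal G) e) := by
  intro r
  induction r with
  | zero =>
    intro a _ G _ _ L hL
    haveI : IsIso (LefPen.ciIdeal G).subschemeι :=
      (Scheme.isIso_subschemeι_iff_eq_bot _).2 (by rw [LefPen.ciIdeal, iSup_of_empty])
    obtain ⟨M, hM, ⟨t⟩⟩ := (Groth.L18.PicLefPara.bijective_isIso (LefPen.ciIdeal G).subschemeι).2 L hL
    obtain ⟨e, ⟨s⟩⟩ := Groth.L20.PnPic.exists_iso_twist M hM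
    exact ⟨e, ⟨t.symm ≪≫ (Scheme.Modules.pullback _).mapIso s⟩⟩
  | succ r ih =>
    intro a ha G hci hr N hN
    have hci' := hci.castSucc (isHomogeneous_pols G) ha
    have ha' : ∀ j : Fin r, 1 ≤ a j.castSucc := fun j => ha _
    let I := LefPen.ciIdeal (init G)
    let J := lastIdeal G
    let Y := I.subscheme
    let b : ℤ := (a (Fin.last r) : ℤ)
    letI : Y.Over (Spec (CommRingCat.of k)) := ⟨I.subschemeι ≫ CohB1.ProjSpace.toSpec n k⟩
    haveI := Groth.L16.ProjSpace.isProper_toSpec n k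
    haveI : IsProper (Y ↘ Spec (CommRingCat.of k)) :=
      inferInstanceAs (IsProper (I.subschemeι ≫ CohB1.ProjSpace.toSpec n k))
    obtain ⟨i⟩ := nonempty_idealMod_lastIdeal G ha hci
    obtain ⟨p⟩ := nonempty_pullback_add I (show b + -b = 0 by omega)
    obtain ⟨q⟩ := nonempty_OC_zero I
    have hL : ClSub.IsInverseOf (OC I b) (ClSub.idealMod J) := ⟨tensorIso (Iso.refl _) i ≪≫ p ≪≫ q⟩
    have hamp : CohB1.IsAmple (OC I b) :=
      Groth.L18.Ample.isAmple_pullback_of_isAffineHom I.subschemeι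
        ((Groth.L16.ProjSpace.isAmple_twistProjSpace_iff n k (by omega) b).2 (by
          have := ha (Fin.last r); omega))
    have hH : ∀ m : ℕ, 1 ≤ m → ∀ j : ℕ, (j = 1 ∨ j = 2) →
        Subsingleton (Coh.HH Y ((DCoh.tensorBi.obj (CohB1.tensorPow (ClSub.idealMod J) m)).obj (ClSub.quotMod J)) j) := by
      intro m _ j hj
      obtain ⟨w⟩ := nonempty_powCongr i m
      obtain ⟨v⟩ := nonempty_pow I (-b) m
      let d : ℤ := (m : ℤ) * -b
      have hd : PicF.IsInvertible (OC I d) := Groth.L21.PlaneCurve.isInvertible_OC I d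
      obtain ⟨f⟩ := nonempty_pullback_add I (show d + -b = d - b by omega)
      have hv := (vanishing_surjective r _ ha' (init G) hci').1
      have h0 := subsingleton_pullback_subscheme J hd (hv d j (by omega) (by omega))
        (Groth.L22.EnrSev.subsingleton_of_iso (tensorIso (Iso.refl _) i ≪≫ f).symm (j + 1)
          (hv (d - b) (j + 1) (by omega) (by omega)))
      obtain ⟨c⟩ := nonempty_quot_iso J hd
      obtain ⟨h⟩ := Groth.L17.nonempty_HH_push_of_isClosedImmersion J.subschemeι
        ((Scheme.Modules.pullback J.subschemeι).obj (OC I d)) j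
      haveI := h0
      have h1 : Subsingleton (Coh.HH Y (CohB1.tensorMod (OC I d) (ClSub.quotMod J)) j) :=
        Groth.L22.EnrSev.subsingleton_of_iso c.symm j h.symm.toEquiv.subsingleton
      exact Groth.L22.EnrSev.subsingleton_of_iso (tensorIso (w ≪≫ v) (Iso.refl _)).symm j h1
    have hres := (Groth.Agent.S2949.result k Y J (OC I b) hL hamp
      (fun y hy => le_depth (by omega) ha' (init G) hci' hy (m := 2) (by omega)) hH
      (fun y hy _ M hM => parafactorial (by omega) ha' (init G) hci' (by omega) hy M hM)).2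
    obtain ⟨d, hd⟩ := Groth.L17.ComplExt.BaseCompl.exists_iso_of_ker_eq (LefPen.ciIdeal G).subschemeι
      (J.subschemeι ≫ I.subschemeι) (by rw [Scheme.IdealSheafData.ker_subschemeι, ker_step])
    obtain ⟨N', hN', ⟨t⟩⟩ := (Groth.L18.PicLefPara.bijective_isIso d.hom).2 N hN
    obtain ⟨M, hM, ⟨u⟩⟩ := hres N' hN'
    obtain ⟨e, ⟨s⟩⟩ := ih _ ha' (init G) hci' (by omega) M hM
    refine ⟨e, ⟨t.symm ≪≫ (Scheme.Modules.pullback d.hom).mapIso (u.symm ≪≫
      (Scheme.Modules.pullback J.subschemeι).mapIso s ≪≫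
      (Scheme.Modules.pullbackComp J.subschemeι I.subschemeι).app _) ≪≫
      (Scheme.Modules.pullbackComp d.hom (J.subschemeι ≫ I.subschemeι)).app _ ≪≫
      (Scheme.Modules.pullbackCongr hd).app _⟩⟩

/-- A twist on a positive-dimensional complete intersection is trivial only in degree zero. -/
theorem eq_zero_of_iso {r : ℕ} {a : Fin r → ℕ} (ha : ∀ j, 1 ≤ a j) (G : ∀ j, LefPen.Form n k (a j))
    (hci : IsCI (pols G)) (h1 : 1 ≤ n - r) [Nonempty (LefPen.ciIdeal G).subscheme] (e : ℤ)
    (he : Nonempty (OC (LefPen.ciIdeal G) e ≅ Coh.structureModule (LefPen.ciIdeal G).subscheme)) : e = 0 := by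
  let I := LefPen.ciIdeal G
  have key : ∀ d : ℤ, d < 0 → Nonempty (OC I d ≅ Coh.structureModule I.subscheme) → False := by
    rintro d hd ⟨φ⟩
    haveI : Nontrivial Γ(I.subscheme, ⊤) := by
      obtain ⟨x⟩ := ‹Nonempty (LefPen.ciIdeal G).subscheme›
      exact RingHom.domain_nontrivial (I.subscheme.presheaf.germ ⊤ x trivial).hom
    haveI : Subsingleton Γ(Twist.twistProjSpace n k d, ⊤) := by
      haveI := Groth.L16.ProjSpace.subsingleton_HH_twist n k d 0 (fun h => by omega) (fun h => by omega)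
      exact (Groth.L21.RR.e0 (Twist.twistProjSpace n k d)).symm.toEquiv.subsingleton
    have hs := (vanishing_surjective r a ha G hci).2 h1 d
    haveI : Subsingleton Γ(OC I d, ⊤) := hs.subsingleton
    haveI : Subsingleton Γ(Coh.structureModule I.subscheme, ⊤) :=
      ((ConcreteCategory.bijective_of_isIso (φ.hom.app ⊤)).2).subsingleton
    exact not_subsingleton Γ(I.subscheme, ⊤) (inferInstanceAs (Subsingleton Γ(Coh.structureModule I.subscheme, ⊤)))
  obtain ⟨φ⟩ := he
  rcases lt_trichotomy e 0 with h | h | h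
  · exact (key e h ⟨φ⟩).elim
  · exact h
  · obtain ⟨p⟩ := nonempty_pullback_add I (show e + -e = 0 by omega)
    obtain ⟨q⟩ := nonempty_OC_zero I
    exact (key (-e) (by omega) ⟨(tensorUnitLeft _).symm ≪≫ tensorIso φ.symm (Iso.refl _) ≪≫ p ≪≫ q⟩).elim

end Groth.L18.CIProj
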