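import Groth.Agent.L18.CIProjCoh
import Groth.Agent.L18.LefTwists
import Groth.Agent.L16.Connected.AppIso

/-!
Complete intersections of projective space are geometrically connected.
-/

set_option autoImplicit false
set_option backward.isDefEq.respectTransparency false
set_option backward.isDefEq.respectTransparency.types false
set_option linter.style.haveILetI false
universe u

open CategoryTheory CategoryTheory.Limits AlgebraicGeometry TopologicalSpace MvPolynomial

noncomputable section

namespace Groth.L18.CIProj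

open Groth.L18.CIProjRing
open Groth.L21.RR (e0 e0_hmap)

variable {k : Type u} [Field k] {n : ℕ}

theorem surjective_appTop_subscheme {Y : Scheme.{u}} (J : Y.IdealSheafData)
    (h : Subsingleton (Coh.HH Y (ClSub.idealMod J) 1)) : Function.Surjective J.subschemeι.appTop := by
  intro y
  let v : Γ(ClSub.quotMod J, ⊤) := y
  obtain ⟨z, hz⟩ := ((Groth.L16.CohLinear.exact_hmap_delta (Groth.L18.LefTwists.shortExact_ideal J)) 0
    ((e0 _).symm v)).1 (@Subsingleton.elim _ h _ _)
  refine ⟨e0 _ z, ?_⟩
  show (ClSub.toSubscheme J).app ⊤ (e0 _ z) = v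
  refine (e0_hmap (ClSub.toSubscheme J) z).symm.trans ?_
  exact (congrArg (e0 _) hz).trans ((e0 _).apply_symm_apply v)

theorem surjective_appTop_ciIdeal : ∀ (r : ℕ) (a : Fin r → ℕ) (_ : ∀ j, 1 ≤ a j) (G : ∀ j, LefPen.Form n k (a j)),
    IsCI (pols G) → 1 ≤ n - r → Function.Surjective (LefPen.ciIdeal G).subschemeι.appTop := by
  intro r
  induction r with
  | zero =>
    intro a _ G _ _
    haveI : IsIso (LefPen.ciIdeal G).subschemeι :=
      (Scheme.isIso_subschemeι_iff_eq_bot _).2 (by rw [LefPen.ciIdeal, iSup_of_empty])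
    exact (ConcreteCategory.bijective_of_isIso _).2
  | succ r ih =>
    intro a ha G hci h1
    have hci' := hci.castSucc (isHomogeneous_pols G) ha
    have hs := ih (fun j => a j.castSucc) (fun j => ha _) (init G) hci' (by omega)
    let I := LefPen.ciIdeal (init G)
    let J := lastIdeal G
    obtain ⟨e⟩ := nonempty_idealMod_lastIdeal G ha hci
    have hJ : Function.Surjective J.subschemeι.appTop :=
      surjective_appTop_subscheme J (Groth.L22.EnrSev.subsingleton_of_iso e.symm 1
        ((vanishing_surjective r _ (fun j => ha _) (init G) hci').1 _ 1 one_pos (by omega)))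
    obtain ⟨d, hd⟩ := Groth.L17.ComplExt.BaseCompl.exists_iso_of_ker_eq (LefPen.ciIdeal G).subschemeι
      (J.subschemeι ≫ I.subschemeι) (by rw [Scheme.IdealSheafData.ker_subschemeι, ker_step])
    rw [← hd, Scheme.Hom.comp_appTop, Scheme.Hom.comp_appTop]
    exact ((ConcreteCategory.bijective_of_isIso d.hom.appTop).2.comp hJ).comp hs

theorem nonempty_subscheme {r : ℕ} {a : Fin r → ℕ} (G : ∀ j, LefPen.Form n k (a j)) {d : ℕ}
    (hdim : topologicalKrullDim ↥(LefPen.ciIdeal G).subscheme = (d : WithBot ℕ∞)) :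
    Nonempty (LefPen.ciIdeal G).subscheme := by
  by_contra h
  haveI := not_nonempty_iff.1 h
  haveI : IsEmpty (IrreducibleCloseds ↥(LefPen.ciIdeal G).subscheme) := ⟨fun Z => isEmptyElim Z.isIrreducible.nonempty.some⟩
  rw [topologicalKrullDim, Order.krullDim_eq_bot] at hdim
  exact WithBot.bot_ne_coe hdim

theorem geometricallyConnected {r : ℕ} (hr : r ≤ n) {a : Fin r → ℕ} (ha : ∀ j, 1 ≤ a j)
    (G : ∀ j, LefPen.Form n k (a j))
    (hdim : topologicalKrullDim ↥(LefPen.ciIdeal G).subscheme = ((n - r : ℕ) : WithBot ℕ∞)) (h1 : 1 ≤ n - r) :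
    GeometricallyConnected ((LefPen.ciIdeal G).subschemeι ≫ CohB1.ProjSpace.toSpec n k) := by
  haveI := Groth.L16.ProjSpace.isProper_toSpec n k
  haveI := nonempty_subscheme G hdim
  haveI : Nontrivial Γ((LefPen.ciIdeal G).subscheme, ⊤) := by
    obtain ⟨x⟩ := ‹Nonempty (LefPen.ciIdeal G).subscheme›
    exact RingHom.domain_nontrivial ((LefPen.ciIdeal G).subscheme.presheaf.germ ⊤ x trivial).hom
  set f := (LefPen.ciIdeal G).subschemeι ≫ CohB1.ProjSpace.toSpec n k with hf
  have hsurj : Function.Surjective f.appTop := by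
    haveI := Groth.L16.ProjSpace.isIso_toSpec_appTop (n := n) (R := k)
    rw [hf, Scheme.Hom.comp_appTop]
    exact (surjective_appTop_ciIdeal r a ha G (isCI_pols hr ha G hdim.le) h1).comp
      (ConcreteCategory.bijective_of_isIso (CohB1.ProjSpace.toSpec n k).appTop).2
  haveI : IsField Γ(Spec (CommRingCat.of k), ⊤) :=
    MulEquiv.isField (Field.toIsField k) (Scheme.ΓSpecIso (CommRingCat.of k)).commRingCatIsoToRingEquiv.toMulEquiv
  letI := (‹IsField Γ(Spec (CommRingCat.of k), ⊤)›).toField
  have hbij : Function.Bijective (f.app ⊤) := ⟨RingHom.injective (f.appTop).hom, hsurj⟩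
  exact (GeometricallyConnected.iff_geometricallyConnected_fiber f).2 fun y =>
    Groth.L16.Connected.geometricallyConnected_fiber_of_bijective f (isAffineOpen_top _) hbij trivial

end Groth.L18.CIProj
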