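import Groth.Agent.L18.LefExtend
import Groth.Agent.L18.LefTwists
import Groth.Agent.L18.LefTowerPres
import Groth.Agent.L18.NegVanish
import Groth.Agent.L17.KilledUnit
import Groth.Agent.L22.Reg.ClosedQuot
import Groth.Agent.L02.Canon.DescInvertible
import Groth.Agent.L08.Cube.Inverse

/-!
# Injectivity of restriction of line bundles to a thickening under the Lefschetz condition
-/

set_option autoImplicit false
set_option linter.style.haveILetI false
set_option linter.unusedSectionVars false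
set_option backward.isDefEq.respectTransparency false
set_option backward.isDefEq.respectTransparency.types false
universe u

open CategoryTheory CategoryTheory.Limits AlgebraicGeometry TopologicalSpace

noncomputable section

namespace Groth.L18.PicLefInj

open Groth.L00.Tensor (tensorMap tensorMap_comp tensorRightF tensorIso tensorComm tensorAssoc tensorUnitLeft tensorUnitRight)
open Groth.L22.Reg (sm sm_comp sm_zero)
open Groth.L18.LefTower (surjective_sm epi_of_sm)

/-- Nakayama for maps to a cyclic module. -/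
theorem surjective_of_comp {R M P N : Type u} [CommRing R] [IsLocalRing R] [AddCommGroup M] [Module R M]
    [AddCommGroup P] [Module R P] [AddCommGroup N] [Module R N] [Nontrivial N] (g : P)
    (hg : Function.Surjective fun a : R => a • g) (h : M →ₗ[R] P) (η : P →ₗ[R] N)
    (hs : Function.Surjective fun m => η (h m)) : Function.Surjective h := by
  obtain ⟨m, hm⟩ := hs (η g)
  obtain ⟨a, ha⟩ := hg (h m)
  suffices hu : IsUnit a by
    intro z
    obtain ⟨c, rfl⟩ := hg z
    obtain ⟨b, hb⟩ := hu.exists_left_inv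
    refine ⟨(c * b) • m, ?_⟩
    rw [map_smul, ← ha]
    show (c * b) • a • g = c • g
    rw [smul_smul, mul_assoc, hb, mul_one]
  rcases IsLocalRing.isUnit_or_isUnit_one_sub_self a with hu | hu
  · exact hu
  · exfalso
    have h0 : (1 - a) • η g = 0 := by
      rw [sub_smul, one_smul, sub_eq_zero, ← map_smul]
      exact hm.symm.trans (congrArg η ha.symm)
    have h1 : η g = 0 := hu.smul_eq_zero.1 h0
    obtain ⟨z, hz⟩ := exists_ne (0 : N)
    obtain ⟨m', rfl⟩ := hs z
    obtain ⟨c, hc⟩ := hg (h m')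
    exact hz (by
      show η (h m') = 0
      rw [← hc]
      show η (c • g) = 0
      rw [map_smul, h1, smul_zero])

variable {X : Scheme.{u}}

/-- An epimorphism onto a direct image along a closed immersion comes from one. -/
theorem epi_symm {Z : Scheme.{u}} (i : Z ⟶ X) [IsClosedImmersion i] {M : X.Modules} {N : Z.Modules}
    (d : M ⟶ (Scheme.Modules.pushforward i).obj N) [Epi d] :
    Epi (((Scheme.Modules.pullbackPushforwardAdjunction i).homEquiv M N).symm d) := by
  haveI := Groth.L17.ClosedPush.isIso_counit i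
  let adj := Scheme.Modules.pullbackPushforwardAdjunction i
  haveI := adj.leftAdjoint_preservesColimits
  haveI : Epi ((Scheme.Modules.pullback i).map d) := inferInstance
  rw [Adjunction.homEquiv_counit]
  exact epi_comp _ _

theorem quotMap_trans {I J K : X.IdealSheafData} (h : I ≤ J) (h' : J ≤ K) :
    Lef.quotMap h ≫ Lef.quotMap h' = Lef.quotMap (h.trans h') := by
  haveI := Groth.L18.AffineCrit.epi_toSubscheme I
  rw [← cancel_epi (ClSub.toSubscheme I), ← Category.assoc, Groth.L18.LefConnected.toSubscheme_quotMap,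
    Groth.L18.LefConnected.toSubscheme_quotMap, Groth.L18.LefConnected.toSubscheme_quotMap]

theorem epi_quotMap {I J : X.IdealSheafData} (h : I ≤ J) : Epi (Lef.quotMap h) := by
  haveI := Groth.L18.AffineCrit.epi_toSubscheme J
  exact epi_of_epi_fac (Groth.L18.LefConnected.toSubscheme_quotMap h)

theorem pow_le {𝓙 : X.IdealSheafData} {a b : ℕ} (h : a ≤ b) : 𝓙 ^ b ≤ 𝓙 ^ a := by
  obtain ⟨c, rfl⟩ := Nat.exists_eq_add_of_le h
  rw [pow_add]
  exact mul_le_of_le_one_right' le_top

variable (𝓙 : X.IdealSheafData)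

set_option quotPrecheck false in
local notation "Q[" m "]" => ClSub.quotMod (𝓙 ^ (m + 1))
set_option quotPrecheck false in
local notation "ι[" m "]" => Scheme.IdealSheafData.subschemeι (𝓙 ^ (m + 1))
set_option quotPrecheck false in
local notation "K[" m "]" => kernel (Lef.quotMap (Lef.pow_succ_le 𝓙 m))

theorem nontrivial_quot (m : ℕ) {x : X} (hx : x ∈ (𝓙.support : Set X)) :
    Nontrivial ((Groth.L00.Stk.F X x).obj Q[m]) := by
  rw [← Groth.L18.LefConnected.range_pow 𝓙 m] at hx
  obtain ⟨z, rfl⟩ := hx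
  let R := (𝓙 ^ (m + 1)).subscheme.presheaf.stalk z
  let O₁ := (Coh.structureModule (𝓙 ^ (m + 1)).subscheme).presheaf.stalk z
  haveI : Nontrivial O₁ := (Equiv.ofBijective _
    (Groth.L21.RR.bijective_smul_one (X := (𝓙 ^ (m + 1)).subscheme) z)).nontrivial_congr.1
    (inferInstance : Nontrivial R)
  exact (Groth.L18.NegVanish.pushE ι[m] (Coh.structureModule _) z).e.toEquiv.nontrivial

theorem subsingleton_quot (m : ℕ) {x : X} (hx : x ∉ (𝓙.support : Set X)) :
    Subsingleton ((Groth.L00.Stk.F X x).obj Q[m]) :=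
  Groth.L17.ClosedPush.subsingleton_stalk_push ι[m] _
    (fun h => hx ((Groth.L18.LefConnected.range_pow 𝓙 m) ▸ h))

/-- Reductions of a map which is surjective along the support are epimorphisms. -/
theorem epi_red {M : X.Modules} (φ : M ⟶ Coh.structureModule X)
    (h : ∀ x, x ∈ (𝓙.support : Set X) → Function.Surjective (sm x φ)) (m : ℕ) :
    Epi (φ ≫ ClSub.toSubscheme (𝓙 ^ (m + 1))) := by
  haveI := Groth.L18.AffineCrit.epi_toSubscheme (𝓙 ^ (m + 1))
  refine epi_of_sm _ fun x v => ?_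
  by_cases hx : x ∈ (𝓙.support : Set X)
  · obtain ⟨w, rfl⟩ := surjective_sm (ClSub.toSubscheme (𝓙 ^ (m + 1))) x v
    obtain ⟨z, rfl⟩ := h x hx w
    exact ⟨z, sm_comp x φ _ z⟩
  · haveI := subsingleton_quot 𝓙 m hx
    exact ⟨0, Subsingleton.elim _ _⟩

section Killed

theorem toSubscheme_app (I : X.IdealSheafData) {U : X.Opens} (hU : IsAffineOpen U) :
    (∀ v, ∃ b : Γ(X, U), (ClSub.toSubscheme I).app U b = v) ∧
      ∀ b : Γ(X, U), (ClSub.toSubscheme I).app U b = 0 ↔ b ∈ I.ideal ⟨U, hU⟩ := by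
  refine ⟨I.subschemeι.app_surjective U hU, fun b => ?_⟩
  have h := Scheme.Hom.ker_apply I.subschemeι ⟨U, hU⟩
  rw [Scheme.IdealSheafData.ker_subschemeι] at h
  rw [h]
  exact Iff.rfl

theorem killed_kernel (m : ℕ) : ClSub.KilledByIdeal (𝓙 ^ (0 + 1)).subschemeι.ker K[m] := by
  intro U a ha z
  rw [Scheme.IdealSheafData.ker_subschemeι, Scheme.IdealSheafData.ideal_pow, Pi.pow_apply, zero_add, pow_one] at ha
  let q := Lef.quotMap (Lef.pow_succ_le 𝓙 m)
  apply Groth.L16.Acc.app_injective (kernel.ι q) U.1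
  obtain ⟨b, hb⟩ := (toSubscheme_app (𝓙 ^ (m + 1 + 1)) U.2).1 ((kernel.ι q).app U.1 z)
  have hb' : b ∈ (𝓙 ^ (m + 1)).ideal U := by
    refine ((toSubscheme_app (𝓙 ^ (m + 1)) U.2).2 b).1 ?_
    rw [← Groth.L18.LefConnected.toSubscheme_quotMap (Lef.pow_succ_le 𝓙 m)]
    show q.app U.1 ((ClSub.toSubscheme (𝓙 ^ (m + 1 + 1))).app U.1 b) = 0
    rw [hb]
    exact ConcreteCategory.congr_hom (congrArg (fun t => Scheme.Modules.Hom.app t U.1) (kernel.condition q)) z
  have hab : (ClSub.toSubscheme (𝓙 ^ (m + 1 + 1))).app U.1 (a * b) = 0 := by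
    refine ((toSubscheme_app (𝓙 ^ (m + 1 + 1)) U.2).2 _).2 ?_
    rw [Scheme.IdealSheafData.ideal_pow, Pi.pow_apply, pow_succ', ← Pi.pow_apply, ← Scheme.IdealSheafData.ideal_pow]
    exact Ideal.mul_mem_mul ha hb'
  refine (Scheme.Modules.Hom.app_smul (kernel.ι q) a z).trans ?_
  rw [← hb]
  refine ((Scheme.Modules.Hom.app_smul (ClSub.toSubscheme (𝓙 ^ (m + 1 + 1))) a _).symm.trans ?_).trans (map_zero _).symm
  exact hab

variable [IsLocallyNoetherian X]

theorem isCoh_quot (m : ℕ) : Coh.IsCoh Q[m] := by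
  haveI : IsLocallyNoetherian (𝓙 ^ (m + 1)).subscheme := LocallyOfFiniteType.isLocallyNoetherian ι[m]
  exact Groth.L16.CohClosedPush.isCoh_push ι[m] Groth.L16.CohClosedPush.isCoh_structure

theorem exists_push (m : ℕ) :
    ∃ A : (𝓙 ^ (0 + 1)).subscheme.Modules, Nonempty (K[m] ≅ (Scheme.Modules.pushforward ι[0]).obj A) := by
  haveI : Coh.IsQCoh K[m] := (Groth.L16.CohKernel.isCoh_kernel_cokernel (isCoh_quot 𝓙 (m + 1)) (isCoh_quot 𝓙 m) _).1.1
  haveI := Groth.L17.KilledUnit.isIso_of_killed ι[0] K[m] (killed_kernel 𝓙 m)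
  exact ⟨_, ⟨asIso ((Scheme.Modules.pullbackPushforwardAdjunction ι[0]).unit.app K[m])⟩⟩

/-- The graded pieces do not see a twist which is trivial on the closed subscheme. -/
theorem nonempty_kernel_twist (m : ℕ) {D : X.Modules} (hD : PicF.IsInvertible D)
    (a : (Scheme.Modules.pullback ι[0]).obj D ≅ Coh.structureModule _) :
    Nonempty (CohB1.tensorMod K[m] D ≅ K[m]) := by
  obtain ⟨A, ⟨α⟩⟩ := exists_push 𝓙 m
  exact ⟨tensorIso α (Iso.refl D) ≪≫ tensorComm _ _ ≪≫
    (Groth.L17.ProjFormula.projIso ι[0] D (Groth.L20.ResDescent.isFinLocFree_of_isInvertible hD)).app A ≪≫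
    (Coh.push ι[0]).mapIso (tensorIso a (Iso.refl A) ≪≫ tensorUnitLeft A) ≪≫ α.symm⟩

end Killed

/-- Morphisms out of an invertible module lift when the twisted kernel has no first cohomology. -/
theorem exists_lift_hom {D D' : X.Modules} (e : CohB1.tensorMod D D' ≅ Coh.structureModule X)
    {S : ShortComplex X.Modules} (hS : S.ShortExact) (h : Subsingleton (Coh.HH X (CohB1.tensorMod S.X₁ D') 1))
    (f : D ⟶ S.X₃) : ∃ g : D ⟶ S.X₂, g ≫ S.g = f := by
  let T := tensorRightF D'
  haveI : T.IsEquivalence := Groth.L22.PDual.isEquivalence_tensorRightF (tensorComm D' D ≪≫ e)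
  haveI : T.Additive := Functor.additive_of_preserves_binary_products _
  haveI : Subsingleton (Coh.HH X (S.map T).X₁ 1) := h
  obtain ⟨w, hw⟩ := Groth.L18.LefTwists.exists_lift (hS.map_of_exact T) (e.inv ≫ T.map f)
  refine ⟨T.preimage (e.hom ≫ w), T.map_injective ?_⟩
  rw [T.map_comp, T.map_preimage, Category.assoc]
  exact (congrArg (e.hom ≫ ·) hw).trans (e.hom_inv_id_assoc _)

variable [IsLocallyNoetherian X]

/-- A compatible system of epimorphisms extending a trivialisation of a thickening. -/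
theorem exists_family {D D' : X.Modules} (e : CohB1.tensorMod D D' ≅ Coh.structureModule X) (hD : PicF.IsInvertible D)
    (n : ℕ) (a : (Scheme.Modules.pullback ι[n]).obj D ≅ Coh.structureModule _)
    (a' : (Scheme.Modules.pullback ι[0]).obj D' ≅ Coh.structureModule _)
    (hH1 : ∀ m, n ≤ m → Subsingleton (Coh.HH X K[m] 1)) :
    ∃ y : ∀ m, D ⟶ Q[m], Lef.IsFormalHom 𝓙 D y ∧ Epi (y 0) := by
  let y₀ : D ⟶ Q[n] := (Scheme.Modules.pullbackPushforwardAdjunction ι[n]).homEquiv _ _ a.hom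
  haveI : Epi y₀ := by
    haveI := Groth.L22.Reg.epi_unit ι[n] D
    show Epi ((Scheme.Modules.pullbackPushforwardAdjunction ι[n]).homEquiv _ _ a.hom)
    rw [Adjunction.homEquiv_unit]
    exact epi_comp _ _
  have hlift : ∀ m, n ≤ m → ∀ f : D ⟶ Q[m], ∃ g : D ⟶ Q[m + 1], g ≫ Lef.quotMap (Lef.pow_succ_le 𝓙 m) = f := by
    intro m hm f
    haveI := epi_quotMap (Lef.pow_succ_le 𝓙 m)
    have hS : (ShortComplex.mk (kernel.ι (Lef.quotMap (Lef.pow_succ_le 𝓙 m))) (Lef.quotMap (Lef.pow_succ_le 𝓙 m))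
        (kernel.condition _)).ShortExact :=
      { exact := ShortComplex.exact_kernel _, mono_f := inferInstance }
    obtain ⟨t⟩ := nonempty_kernel_twist 𝓙 m (Groth.L22.EnrSev.isInvertible_of_inverse hD e) a'
    exact exists_lift_hom e hS (Groth.L22.EnrSev.subsingleton_of_iso t.symm 1 (hH1 m hm)) f
  let Z : ∀ j : ℕ, D ⟶ Q[n + j] := fun j => Nat.rec (motive := fun j => D ⟶ Q[n + j]) y₀
    (fun j g => (hlift (n + j) (Nat.le_add_right n j) g).choose) j
  have hZ : ∀ j, Z (j + 1) ≫ Lef.quotMap (Lef.pow_succ_le 𝓙 (n + j)) = Z j := fun j =>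
    (hlift (n + j) (Nat.le_add_right n j) (Z j)).choose_spec
  refine ⟨fun m => Z m ≫ Lef.quotMap (pow_le (show m + 1 ≤ n + m + 1 by omega)), fun m => ?_, ?_⟩
  · show (Z (m + 1) ≫ Lef.quotMap _) ≫ Lef.quotMap _ = Z m ≫ Lef.quotMap _
    rw [Category.assoc, quotMap_trans, ← hZ m, Category.assoc, quotMap_trans]
  · haveI := epi_quotMap (pow_le (𝓙 := 𝓙) (show 0 + 1 ≤ n + 0 + 1 by omega))
    exact epi_comp (Z 0) _

variable (hLef : ∀ D : X.Modules, FlatMod.IsFinLocFree D → Lef.HomToFormalBijective 𝓙 D)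

include hLef in
theorem exists_hom {D D' : X.Modules} (e : CohB1.tensorMod D D' ≅ Coh.structureModule X) (hD : PicF.IsInvertible D)
    (n : ℕ) (a : (Scheme.Modules.pullback ι[n]).obj D ≅ Coh.structureModule _)
    (a' : (Scheme.Modules.pullback ι[0]).obj D' ≅ Coh.structureModule _)
    (hH1 : ∀ m, n ≤ m → Subsingleton (Coh.HH X K[m] 1)) :
    ∃ φ : D ⟶ Coh.structureModule X, Epi (φ ≫ ClSub.toSubscheme (𝓙 ^ (0 + 1))) := by
  obtain ⟨y, hy, h0⟩ := exists_family 𝓙 e hD n a a' hH1
  obtain ⟨φ, hφ⟩ := (hLef D (Groth.L20.ResDescent.isFinLocFree_of_isInvertible hD)).2 y hy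
  exact ⟨φ, (hφ 0).symm ▸ h0⟩

include hLef in
/-- A line bundle trivial on a thickening is trivial. -/
theorem nonempty_iso_structure {D D' : X.Modules} (e : CohB1.tensorMod D D' ≅ Coh.structureModule X)
    (hD : PicF.IsInvertible D) (n : ℕ) (a : (Scheme.Modules.pullback ι[n]).obj D ≅ Coh.structureModule _)
    (a' : (Scheme.Modules.pullback ι[n]).obj D' ≅ Coh.structureModule _)
    (a₀ : (Scheme.Modules.pullback ι[0]).obj D ≅ Coh.structureModule _)
    (a₀' : (Scheme.Modules.pullback ι[0]).obj D' ≅ Coh.structureModule _)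
    (hH1 : ∀ m, n ≤ m → Subsingleton (Coh.HH X K[m] 1)) : Nonempty (D ≅ Coh.structureModule X) := by
  let O := Coh.structureModule X
  have hO : PicF.IsInvertible O := Groth.L18.Ample.isInvertible_structureModule X
  have hD' := Groth.L22.EnrSev.isInvertible_of_inverse hD e
  let e' : CohB1.tensorMod D' D ≅ O := tensorComm D' D ≪≫ e
  obtain ⟨φ, hφ⟩ := exists_hom 𝓙 hLef e hD n a a₀' hH1
  obtain ⟨ψ', hψ'⟩ := exists_hom 𝓙 hLef e' hD' n a' a₀ hH1
  let t := ClSub.toSubscheme (𝓙 ^ (0 + 1))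
  let T := tensorRightF D
  haveI : T.IsEquivalence := Groth.L22.PDual.isEquivalence_tensorRightF e
  let ψ : O ⟶ D := e'.inv ≫ tensorMap ψ' (𝟙 D) ≫ (tensorUnitLeft D).hom
  have hφs : ∀ x, x ∈ (𝓙.support : Set X) → Function.Surjective (sm x φ) := fun x hx => by
    haveI := nontrivial_quot 𝓙 0 hx
    refine surjective_of_comp (Groth.L21.RR.one X x) (Groth.L21.RR.bijective_smul_one x).2 ((Groth.L00.Stk.F X x).map φ).hom ((Groth.L00.Stk.F X x).map t).hom ?_
    intro v
    obtain ⟨w, hw⟩ := surjective_sm (φ ≫ t) x v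
    exact ⟨w, (sm_comp x φ t w).symm.trans hw⟩
  have hψs : ∀ x, x ∈ (𝓙.support : Set X) → Function.Surjective (sm x ψ) := fun x hx => by
    haveI := nontrivial_quot 𝓙 0 hx
    obtain ⟨u⟩ := Groth.L03.Euler.nonempty_stalk_tensor hD (ClSub.quotMod (𝓙 ^ (0 + 1))) x
    obtain ⟨v⟩ := Groth.L03.Euler.nonempty_stalk_tensor hD O x
    haveI := u.toEquiv.symm.nontrivial
    let ψ₁ : O ⟶ CohB1.tensorMod O D := e'.inv ≫ tensorMap ψ' (𝟙 D)
    have h1 : Function.Surjective (sm x ψ₁) := by
      refine surjective_of_comp (v (Groth.L21.RR.one X x))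
        (fun z => ?_) ((Groth.L00.Stk.F X x).map ψ₁).hom ((Groth.L00.Stk.F X x).map (tensorMap t (𝟙 D))).hom ?_
      · obtain ⟨c, hc⟩ := (Groth.L21.RR.bijective_smul_one x).2 (v.symm z)
        exact ⟨c, (v.map_smul c _).symm.trans ((congrArg v hc).trans (v.apply_symm_apply z))⟩
      · intro z
        haveI : Epi (ψ₁ ≫ tensorMap t (𝟙 D)) := by
          haveI := hψ'
          rw [Category.assoc, ← tensorMap_comp, Category.comp_id]
          haveI : Epi (tensorMap (ψ' ≫ t) (𝟙 D)) := inferInstanceAs (Epi (T.map (ψ' ≫ t)))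
          exact epi_comp _ _
        obtain ⟨w, hw⟩ := surjective_sm (ψ₁ ≫ tensorMap t (𝟙 D)) x z
        exact ⟨w, (sm_comp x _ _ w).symm.trans hw⟩
    intro z
    obtain ⟨z', rfl⟩ := surjective_sm (tensorUnitLeft D).hom x z
    obtain ⟨w, rfl⟩ := h1 z'
    refine ⟨w, ?_⟩
    rw [← sm_comp]
    exact congrArg (fun f => sm x f w) (Category.assoc _ _ _).symm
  let c : O ⟶ O := ψ ≫ φ
  have hcs : ∀ x, x ∈ (𝓙.support : Set X) → Function.Surjective (sm x c) := fun x hx z => by
    obtain ⟨w, rfl⟩ := hφs x hx z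
    obtain ⟨v, rfl⟩ := hψs x hx w
    exact ⟨v, sm_comp x ψ φ v⟩
  let adj := fun m : ℕ => Scheme.Modules.pullbackPushforwardAdjunction ι[m]
  let τ : ∀ m, (Scheme.Modules.pullback ι[m]).obj O ⟶ Coh.structureModule _ := fun m =>
    ((adj m).homEquiv _ _).symm (ClSub.toSubscheme (𝓙 ^ (m + 1)))
  have hpc : ∀ m, IsIso ((Scheme.Modules.pullback ι[m]).map c) := fun m => by
    have hp := Groth.L18.Ample.isInvertible_pullback ι[m] hO
    haveI := Groth.L18.AffineCrit.epi_toSubscheme (𝓙 ^ (m + 1))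
    haveI : Epi (τ m) := epi_symm ι[m] _
    haveI : IsIso (τ m) := Groth.L02.Canon.DescInvertible.isIso_of_epi_invertible _ hp
      (Groth.L18.Ample.isInvertible_structureModule _)
    haveI := epi_red 𝓙 c hcs m
    have h2 : ((adj m).homEquiv _ _).symm (c ≫ ClSub.toSubscheme (𝓙 ^ (m + 1))) =
        (Scheme.Modules.pullback ι[m]).map c ≫ τ m := (adj m).homEquiv_naturality_left_symm _ _
    haveI : Epi ((Scheme.Modules.pullback ι[m]).map c ≫ τ m) := h2 ▸ epi_symm ι[m] _
    haveI : Epi ((Scheme.Modules.pullback ι[m]).map c) := by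
      rw [show (Scheme.Modules.pullback ι[m]).map c =
        ((Scheme.Modules.pullback ι[m]).map c ≫ τ m) ≫ inv (τ m) by rw [Category.assoc, IsIso.hom_inv_id, Category.comp_id]]
      exact epi_comp _ _
    exact Groth.L02.Canon.DescInvertible.isIso_of_epi_invertible _ hp hp
  have hinj : ∀ (m : ℕ) {g g' : O ⟶ Q[m]}, c ≫ g = c ≫ g' → g = g' := fun m g g' h => by
    haveI := hpc m
    refine ((adj m).homEquiv _ _).symm.injective ((cancel_epi ((Scheme.Modules.pullback ι[m]).map c)).1 ?_)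
    rw [← (adj m).homEquiv_naturality_left_symm, ← (adj m).homEquiv_naturality_left_symm, h]
  let f : ∀ m, O ⟶ Q[m] := fun m =>
    haveI := hpc m
    (adj m).homEquiv _ _ (inv ((Scheme.Modules.pullback ι[m]).map c) ≫ τ m)
  have hf : ∀ m, c ≫ f m = ClSub.toSubscheme (𝓙 ^ (m + 1)) := fun m => by
    haveI := hpc m
    rw [← (adj m).homEquiv_naturality_left, IsIso.hom_inv_id_assoc]
    exact Equiv.apply_symm_apply _ _
  have hOf := hLef O (Groth.L20.ResDescent.isFinLocFree_of_isInvertible hO)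
  obtain ⟨r, hr⟩ := hOf.2 f fun m => hinj m (by
    rw [← Category.assoc, hf, hf, Groth.L18.LefConnected.toSubscheme_quotMap])
  have h1 : c ≫ r = 𝟙 O := hOf.1 _ _ fun m => by rw [Category.assoc, hr, hf, Category.id_comp]
  have h2 : r ≫ c = 𝟙 O := hOf.1 _ _ fun m => hinj m (by rw [← Category.assoc, ← Category.assoc, h1, Category.id_comp, Category.id_comp])
  haveI : Epi φ := by
    haveI : Epi (ψ ≫ φ) := (show Epi c from (show IsIso c from ⟨r, h1, h2⟩) |> fun h => @IsIso.epi_of_iso _ _ _ _ _ h)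
    exact epi_of_epi ψ φ
  haveI := Groth.L02.Canon.DescInvertible.isIso_of_epi_invertible φ hD hO
  exact ⟨asIso φ⟩

end Groth.L18.PicLefInj
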