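import Groth.Agent.L18.PicLefLevels
import Groth.Agent.L18.ModSysAlgz
import Groth.Agent.S2948
import Groth.Prelude.Def_LefX

/-!
# Line bundles near a closed subscheme and on its thickenings
-/

set_option autoImplicit false
set_option linter.style.haveILetI false
set_option linter.unusedSectionVars false
set_option backward.isDefEq.respectTransparency false
set_option backward.isDefEq.respectTransparency.types false
universe u

open CategoryTheory CategoryTheory.Limits AlgebraicGeometry TopologicalSpace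

noncomputable section

namespace Groth.L18.PicLefColim

variable {X : Scheme.{u}} (𝓘 : X.IdealSheafData)

/-- The factorisation of a thickening through an open containing the support. -/
theorem exists_factor (U : X.Opens) (hU : (𝓘.support : Set X) ⊆ (U : Set X)) (n : ℕ) :
    ∃ g : (𝓘 ^ (n + 1)).subscheme ⟶ U, g ≫ U.ι = (𝓘 ^ (n + 1)).subschemeι := by
  refine ⟨IsOpenImmersion.lift U.ι _ ?_, IsOpenImmersion.lift_fac _ _ _⟩
  rw [Scheme.Opens.range_ι, Groth.L18.LefConnected.range_pow]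
  exact hU

theorem nonempty_pullback_push {Z : Scheme.{u}} {U : X.Opens} (g : Z ⟶ U) (f : Z ⟶ X) (hf : g ≫ U.ι = f)
    (E : (U : Scheme.{u}).Modules) :
    Nonempty ((Scheme.Modules.pullback f).obj ((Scheme.Modules.pushforward U.ι).obj E) ≅
      (Scheme.Modules.pullback g).obj E) :=
  ⟨(Scheme.Modules.pullbackCongr hf.symm).app _ ≪≫ ((Scheme.Modules.pullbackComp g U.ι).app _).symm ≪≫
    (Scheme.Modules.pullback g).mapIso (((Scheme.Modules.restrictFunctorIsoPullback U.ι).app _).symm ≪≫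
      (Scheme.Modules.restrictFunctorAdjCounitIso U.ι).app E)⟩

/-- Line bundles on a thickening extend near the closed subscheme. -/
theorem exists_extension [IsLocallyNoetherian X] (h1 : LefX.LeffCond X 𝓘) (n : ℕ)
    (h2 : ∀ m, n ≤ m → Subsingleton (Coh.HH X (kernel (Lef.quotMap (Lef.pow_succ_le 𝓘 m))) 2))
    {N : (𝓘 ^ (n + 1)).subscheme.Modules} (hN : PicF.IsInvertible N) :
    ∃ (V : X.Opens) (L : (V : Scheme.{u}).Modules) (g : (𝓘 ^ (n + 1)).subscheme ⟶ V),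
      (𝓘.support : Set X) ⊆ (V : Set X) ∧ g ≫ V.ι = (𝓘 ^ (n + 1)).subschemeι ∧ PicF.IsInvertible L ∧
        Nonempty ((Scheme.Modules.pullback g).obj L ≅ N) := by
  obtain ⟨𝔐, h𝔐, ⟨eN⟩⟩ := Groth.L18.PicLefLevels.exists_system 𝓘 n h2 hN
  obtain ⟨U, E, hU, hE, ⟨θ⟩⟩ := h1.2 𝔐 fun m => Groth.L20.ResDescent.isFinLocFree_of_isInvertible (h𝔐 m)
  obtain ⟨g, hg⟩ := exists_factor 𝓘 U hU n
  obtain ⟨r⟩ := nonempty_pullback_push g _ hg E
  let lvl : (FSch.completionMod 𝓘 ((Scheme.Modules.pushforward U.ι).obj E)).F n ≅ 𝔐.F n :=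
    { hom := θ.hom.app n, inv := θ.inv.app n
      hom_inv_id := congrFun (congrArg FSch.ModSys.Hom.app θ.hom_inv_id) n
      inv_hom_id := congrFun (congrArg FSch.ModSys.Hom.app θ.inv_hom_id) n }
  let eg : (Scheme.Modules.pullback g).obj E ≅ N := r.symm ≪≫ lvl ≪≫ eN
  have hgi : PicF.IsInvertible ((Scheme.Modules.pullback g).obj E) := Groth.L18.Ample.isInvertible_of_iso eg.symm hN
  let S : Set X := {x | ∃ W : (U : Scheme.{u}).Opens, x ∈ U.ι ''ᵁ W ∧
    Nonempty (E.restrict W.ι ≅ FlatMod.freeMod (W : Scheme.{u}) 1)}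
  have hS : IsOpen S := by
    refine isOpen_iff_forall_mem_open.2 fun x ⟨W, hx, hW⟩ => ⟨_, fun y hy => ⟨W, hy, hW⟩, (U.ι ''ᵁ W).2, hx⟩
  let V : X.Opens := ⟨S, hS⟩
  have hVU : V ≤ U := fun x ⟨W, ⟨w, _, hw⟩, _⟩ => hw ▸ w.2
  have hV : (𝓘.support : Set X) ⊆ (V : Set X) := fun x hx => by
    rw [← Groth.L18.LefConnected.range_pow 𝓘 n] at hx
    obtain ⟨z, rfl⟩ := hx
    obtain ⟨W, hW, hW'⟩ := Groth.L18.PicLefLevels.rank_one_of_pullback g hE hgi z
    refine ⟨W, ⟨g z, hW, ?_⟩, hW'⟩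
    exact congrArg (fun f : (𝓘 ^ (n + 1)).subscheme ⟶ X => f z) hg
  obtain ⟨g', hg'⟩ := exists_factor 𝓘 V hV n
  let j := X.homOfLE hVU
  have hj : g' ≫ j = g := by rw [← cancel_mono U.ι, Category.assoc, X.homOfLE_ι, hg', hg]
  refine ⟨V, (Scheme.Modules.pullback j).obj E, g', hV, hg', ?_, ⟨(Scheme.Modules.pullbackComp g' j).app E ≪≫
    (Scheme.Modules.pullbackCongr hj).app E ≪≫ eg⟩⟩
  refine Groth.L18.PicLefLevels.isInvertible_pullback_of_rank j fun y => ?_
  obtain ⟨W, ⟨w, hw, hwy⟩, hW⟩ := y.2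
  refine ⟨W, ?_, hW⟩
  have h : j y = w := U.ι.isOpenEmbedding.injective
    ((congrArg (fun f : (V : Scheme.{u}) ⟶ X => f y) (X.homOfLE_ι hVU)).trans hwy.symm)
  exact h ▸ hw

/-- A line bundle trivial on a thickening is trivial. -/
theorem trivial_of_thickening [IsLocallyNoetherian X] (h : Lef.LefCond X 𝓘) (p : ℕ)
    (hH1 : ∀ m, p ≤ m → Subsingleton (Coh.HH X (kernel (Lef.quotMap (Lef.pow_succ_le 𝓘 m))) 1))
    (U : X.Opens) (hU : (𝓘.support : Set X) ⊆ (U : Set X)) (n : ℕ) (hn : p ≤ n)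
    {L : (U : Scheme.{u}).Modules} (hL : PicF.IsInvertible L) (g : (𝓘 ^ (n + 1)).subscheme ⟶ U)
    (hg : g ≫ U.ι = (𝓘 ^ (n + 1)).subschemeι)
    (e : (Scheme.Modules.pullback g).obj L ≅ Coh.structureModule _) :
    Nonempty (L ≅ Coh.structureModule (U : Scheme.{u})) := by
  obtain ⟨τ, hτ⟩ := Groth.L18.LefExtend.exists_thickeningIso 𝓘 U hU n
  have hf : τ.hom ≫ g = ((𝓘.comap U.ι) ^ (n + 1)).subschemeι := by
    rw [← cancel_mono U.ι, Category.assoc, hg, hτ]
  let i := ((𝓘.comap U.ι) ^ (n + 1)).subschemeι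
  refine Groth.Agent.S2948.result X 𝓘 h p hH1 U hU n hn L (Coh.structureModule _) hL
    (Groth.L18.Ample.isInvertible_structureModule _) ⟨?_⟩
  exact (Scheme.Modules.pullbackCongr hf.symm).app L ≪≫ ((Scheme.Modules.pullbackComp τ.hom g).app L).symm ≪≫
    (Scheme.Modules.pullback τ.hom).mapIso e ≪≫ Groth.L29.LocFree.pullbackUnitIso τ.hom ≪≫
    (Groth.L29.LocFree.pullbackUnitIso i).symm

end Groth.L18.PicLefColim
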