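import Groth.Agent.L20.ResAmple
import Groth.Agent.L22.Reg.Mult
import Groth.Agent.L08.Cube.Inverse
import Groth.Prelude.Def_KSix

/-!
# Quotients of sums of negative powers of an ample family
-/

set_option autoImplicit false
set_option linter.style.haveILetI false
set_option backward.isDefEq.respectTransparency.types false
set_option backward.isDefEq.respectTransparency false

universe u

open CategoryTheory CategoryTheory.Limits AlgebraicGeometry TopologicalSpace Opposite MonoidalCategory TensorProduct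

noncomputable section

namespace Groth.L18.AmpleFamilyQuot

open Groth.L18.Frame (rs ro rs_rs ro_ro rs_smul ro_self rs_self IsFrame)
open Groth.L18.GenLoc Groth.L18.SecTwistExt
open Groth.L20.ResDescent (isFinLocFree_of_isInvertible isFrame_epow tens_injective eq_zero_of_affine)
open Groth.L00.Tensor (tensorIso)

variable {X : Scheme.{u}}

theorem exists_epi {ι : Type u} (K : ι → X.Modules) (hK : KSix.IsAmpleFamily K) (M : X.Modules) (hMq : Coh.IsQCoh M)
    (hMft : CohB1.IsFT M) : ∃ (P : X.Modules) (π : P ⟶ M), KSix.InAddL K P ∧ Epi π := by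
  haveI := hK.1
  haveI := hK.2.1
  have hloc := hK.2.2.2
  choose j p s hx hs using hloc
  haveI : Coh.IsQCoh M := hMq
  let L : X → X.Modules := fun x => CohB1.tensorPow (K (j x)) (p x + 1)
  have hL : ∀ x, PicF.IsInvertible (L x) := fun x => Groth.L18.Ample.isInvertible_tensorPow (hK.2.2.1 _) _
  obtain ⟨T, hT⟩ := isCompact_univ.elim_finite_subcover (fun x : X => (CohB1.genLocus _ (s x) : Set X))
    (fun x => (CohB1.genLocus _ (s x)).2) (fun x _ => Set.mem_iUnion.2 ⟨x, hx x⟩)
  have hfin : ∀ x : X, Module.Finite Γ(X, CohB1.genLocus _ (s x)) Γ(M, CohB1.genLocus _ (s x)) := fun x =>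
    Groth.L20.ModStalk.finite_sections M ⟨hMq, hMft⟩ (hs x)
  choose n t ht using fun x : X => (hfin x).exists_fin
  let I := Σ x : T, Fin (n x.1)
  choose d hd t' ht' using fun i : I => exists_twist_extend (s i.1.1) M (hL i.1.1) (t i.1.1 i.2)
  let N : I → X.Modules := fun i => CohB1.tensorPow (L i.1.1) (d i)
  have hNi : ∀ i, PicF.IsInvertible (N i) := fun i => Groth.L18.Ample.isInvertible_tensorPow (hL i.1.1) _
  have hN : ∀ i, FlatMod.IsFinLocFree (N i) := fun i => isFinLocFree_of_isInvertible (hNi i)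
  choose E hEi he using fun i => Groth.L08.Cube.exists_inverse (hNi i)
  let e : ∀ i, CohB1.tensorMod (N i) (E i) ≅ Coh.structureModule X := fun i => (he i).some
  have hneg : ∀ i, KSix.IsNegPower K (E i) := fun i =>
    ⟨j i.1.1, (p i.1.1 + 1) * d i, Nat.mul_pos (Nat.succ_pos _) (hd i),
      ⟨tensorIso (Iso.refl _) (Groth.L00.Tensor.tensorPowMul (K (j i.1.1)) (p i.1.1 + 1) (d i)).symm ≪≫
        Groth.L00.Tensor.tensorComm _ _ ≪≫ e i⟩⟩
  haveI : ∀ i, (Groth.L00.Tensor.tensorRightF (N i)).IsRightAdjoint := fun i =>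
    haveI : ModSite.HasSheafHom (O := X.sheaf) (N i) := Groth.L17.Duality.hasSheafHom (N i)
    (Groth.L17.Duality.dualAdj (N i) (hN i)).isRightAdjoint
  haveI : ∀ i, (Groth.L00.Tensor.tensorRightF (E i)).IsRightAdjoint := fun i =>
    haveI : ModSite.HasSheafHom (O := X.sheaf) (E i) := Groth.L17.Duality.hasSheafHom (E i)
    (Groth.L17.Duality.dualAdj (E i) (isFinLocFree_of_isInvertible (hEi i))).isRightAdjoint
  let g : ∀ i, Coh.structureModule X ⟶ CohB1.tensorMod M (N i) := fun i =>
    Groth.L16.homOfSection (CohB1.tensorMod M (N i)) (t' i)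
  let h : ∀ i, E i ⟶ M := fun i => (Groth.L00.Tensor.tensorUnitLeft (E i)).inv ≫
    (Groth.L00.Tensor.tensorRightF (E i)).map (g i) ≫ (Groth.L22.Reg.cI (e i) M).hom
  obtain ⟨q, ⟨σ⟩⟩ := Finite.exists_equiv_fin I
  let π : (⨁ fun k : Fin q => E (σ.symm k)) ⟶ M := biproduct.desc fun k => h (σ.symm k)
  refine ⟨_, π, ⟨q, _, fun k => hneg _, ⟨Iso.refl _⟩⟩, Abelian.epi_of_cokernel_π_eq_zero _ ?_⟩
  let c := cokernel.π π
  have hker : ∀ i, h i ≫ c = 0 := fun i => by
    obtain ⟨k, rfl⟩ := σ.symm.surjective i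
    have := congrArg (biproduct.ι (fun k : Fin q => E (σ.symm k)) k ≫ ·) (cokernel.condition π)
    simpa only [π, biproduct.ι_desc_assoc, comp_zero] using this
  refine eq_zero_of_affine c fun y => ?_
  obtain ⟨x, hxT, hyx⟩ := Set.mem_iUnion₂.1 (hT (Set.mem_univ y))
  refine ⟨CohB1.genLocus _ (s x), hs x, hyx, fun m => ?_⟩
  have hgen : ∀ q : Fin (n x), c.app _ (t x q) = 0 := fun q => by
    let i : I := ⟨⟨x, hxT⟩, q⟩
    let G := CohB1.genLocus _ (s x)
    have h1 : g i ≫ (Groth.L00.Tensor.tensorRightF (N i)).map c = 0 := by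
      have h2 : (Groth.L00.Tensor.tensorRightF (E i)).map (g i ≫ Groth.L00.Tensor.tensorMap c (𝟙 (N i))) = 0 := by
        have h3 := hker i
        simp only [h, Category.assoc] at h3
        rw [← cancel_epi (Groth.L00.Tensor.tensorUnitLeft (E i)).inv,
          ← cancel_mono (Groth.L22.Reg.cI (e i) (cokernel π)).hom, Functor.map_comp, Category.assoc, Category.assoc,
          Groth.L22.Reg.cI_natural (e i) c, comp_zero, zero_comp]
        exact h3
      let e' : CohB1.tensorMod (E i) (N i) ≅ Coh.structureModule X := Groth.L00.Tensor.tensorComm _ _ ≪≫ e i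
      have h4 := Groth.L22.Reg.cI_natural e' (g i ≫ Groth.L00.Tensor.tensorMap c (𝟙 (N i)))
      rw [show Groth.L00.Tensor.tensorMap (g i ≫ Groth.L00.Tensor.tensorMap c (𝟙 (N i))) (𝟙 (E i)) = 0 from h2,
        Functor.map_zero, zero_comp] at h4
      exact (cancel_epi _).1 (h4.symm.trans comp_zero.symm)
    have h3 : (Groth.L00.Tensor.tensorMap c (𝟙 (N i))).app ⊤ (t' i) = 0 := by
      have h4 := congr($(congrArg (fun k => Scheme.Modules.Hom.app k ⊤) h1) (1 : Γ(X, ⊤)))
      refine Eq.trans ?_ h4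
      exact (congrArg ((Groth.L00.Tensor.tensorMap c (𝟙 (N i))).app ⊤) (secOf_homOfSection (t' i))).symm
    have h5 : tens (cokernel π) (N i) G (c.app G (t x q))
        (epow (rs (L x) le_top (secOf (s x))) (d i)) = 0 := by
      have h6 := congrArg (rs (CohB1.tensorMod (cokernel π) (N i)) (le_top : G ≤ ⊤)) h3
      rw [← Groth.L19.ProjBdl.app_rs] at h6
      refine Eq.trans ?_ (h6.trans (map_zero _))
      refine Eq.trans ?_ (congrArg ((Groth.L00.Tensor.tensorMap c (𝟙 (N i))).app G) (ht' i)).symm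
      refine Eq.trans ?_ (Groth.L17.ClosedPush.tensorMap_unit c (𝟙 (N i)) G (t x q) (SecTwist.pow (s x) (d i) G)).symm
      exact congrArg (tens (cokernel π) (N i) G (c.app G (t x q))) (pow_eq (s x) G (d i)).symm
    refine tens_injective (hN i) (cokernel π) (isFrame_epow (isFrame_genLocus (s x)) (d i)) ?_
    show tens _ _ G (c.app G (t x q)) _ = tens _ _ G 0 _
    rw [h5, ← zero_smul Γ(X, G) (0 : Γ(cokernel π, G)), tens_smul_left, zero_smul]
  have hm : m ∈ Submodule.span Γ(X, CohB1.genLocus _ (s x)) (Set.range (t x)) := (ht x).ge Submodule.mem_top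
  induction hm using Submodule.span_induction with
  | mem z hz => obtain ⟨q, rfl⟩ := hz; exact hgen q
  | zero => exact map_zero _
  | add a b _ _ ha hb => rw [map_add, ha, hb, add_zero]
  | smul a z _ hz => rw [Scheme.Modules.Hom.app_smul, hz, smul_zero]

end Groth.L18.AmpleFamilyQuot
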