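import Groth.Agent.L18.AmpleComp
import Groth.Prelude.Def_MoreMor

/-!
Ample families of invertible modules along relatively ample morphisms.
-/

set_option autoImplicit false
set_option backward.isDefEq.respectTransparency false
universe u

open CategoryTheory CategoryTheory.Limits AlgebraicGeometry TopologicalSpace Opposite

noncomputable section

namespace Groth.L18.Ample

open Groth.L18.GenLoc

variable {X Y : Scheme.{u}} {L : X.Modules}

theorem quasiSeparatedSpace_of_family {X : Scheme.{u}}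
    (h : ∀ x : X, ∃ (M : X.Modules) (s : Coh.structureModule X ⟶ M), PicF.IsInvertible M ∧
      x ∈ CohB1.genLocus M s ∧ IsAffineOpen (CohB1.genLocus M s)) : QuasiSeparatedSpace X := by
  choose M s hM hx ha using h
  refine Scheme.quasiSeparatedSpace_of_isOpenCover (fun x => CohB1.genLocus _ (s x)) ?_ ha fun x y => ?_
  · exact top_le_iff.mp fun z _ => Opens.mem_iSup.mpr ⟨z, hx z⟩
  · rw [Set.inter_comm]; exact (isAffineOpen_genLocus_inf (hM y) (s y) (ha x)).isCompact

theorem hasAmpleFamily_of_isRelAmple (f : X ⟶ Y) (hY : MoreMor.HasAmpleFamily Y)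
    (hL : RelAmple.IsRelAmple f L) : MoreMor.HasAmpleFamily X := by
  haveI := hY.1
  choose M n s hM hn hys hs using hY.2
  haveI : QuasiSeparatedSpace Y := quasiSeparatedSpace_of_family fun y =>
    ⟨_, s y, isInvertible_tensorPow (hM y) _, hys y, hs y⟩
  haveI : QuasiCompact f := hL.1
  haveI : CompactSpace X := QuasiCompact.compactSpace_of_compactSpace f
  haveI : IsSeparated f := by
    refine IsZariskiLocalAtTarget.of_iSup_eq_top (P := @IsSeparated) _ (iSup_affineOpens_eq_top Y) fun W => ?_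
    haveI := isSeparated_of_isAmple (hL.2 W)
    infer_instance
  haveI : QuasiSeparatedSpace X := quasiSeparatedSpace_of_quasiSeparated f
  have hLi : PicF.IsInvertible L := isInvertible_of_cover fun x =>
    ⟨f ⁻¹ᵁ CohB1.genLocus _ (s (f x)), hys (f x), (hL.2 ⟨_, hs (f x)⟩).1⟩
  refine ⟨inferInstance, fun x => ?_⟩
  set G := f ⁻¹ᵁ CohB1.genLocus _ (s (f x)) with hG
  have hxG : x ∈ G := hys (f x)
  obtain ⟨b, t, hxt, ht⟩ := (hL.2 ⟨_, hs (f x)⟩).2.2 ⟨x, hxG⟩
  set K := (Scheme.Modules.pullback f).obj (CohB1.tensorPow (M (f x)) (n (f x)))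
  have hMn := isInvertible_tensorPow (hM (f x)) (n (f x))
  obtain ⟨φ, hφ⟩ : ∃ φ : Coh.structureModule X ⟶ K, CohB1.genLocus _ φ = G :=
    ⟨pullHom f (s (f x)), genLocus_pullHom f hMn _⟩
  obtain ⟨k, hk⟩ := exists_genLocus_eq_of_restrict_gen (isInvertible_tensorPow hLi (b + 1))
    (isInvertible_pullback f hMn) φ hφ (t ≫ (Groth.L00.Tensor.tensorPowRestrict G.ι L (b + 1)).hom)
  obtain ⟨u, hu⟩ := hk (k + 1) (Nat.lt_succ_self k)
  refine ⟨_, 1, u ≫ (Groth.L00.Tensor.tensorPowOne _).symm.hom,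
    isInvertible_tensor (isInvertible_tensorPow hLi (b + 1))
      (isInvertible_tensorPow (isInvertible_pullback f hMn) (k + 1)), le_rfl, ?_, ?_⟩
  · rw [Groth.L16.genLocus_comp_iso, hu, Groth.L16.genLocus_comp_iso]
    exact ⟨⟨x, hxG⟩, hxt, rfl⟩
  · rw [Groth.L16.genLocus_comp_iso, hu, Groth.L16.genLocus_comp_iso]
    exact ht.image_of_isOpenImmersion _

theorem hasAmpleFamily_of_quasiAffine (f : X ⟶ Y) (hf : IsAffineHom f ∨ Mor2.IsQuasiAffine f)
    (hY : MoreMor.HasAmpleFamily Y) : MoreMor.HasAmpleFamily X := by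
  have h : Mor2.IsQuasiAffine f := by
    rcases hf with hf | hf
    · refine ⟨inferInstance, fun V hV => ?_⟩
      haveI : IsAffine (f ⁻¹ᵁ V : Scheme.{u}) := hV.preimage f
      infer_instance
    · exact hf
  haveI := h.1
  exact hasAmpleFamily_of_isRelAmple f hY ((isQuasiAffineHom_iff f).1 h)

end Groth.L18.Ample
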