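import Groth.Agent.L18.GrFreePic
import Groth.Agent.L18.AlgebraizeH2
import Groth.Agent.L17.ThickBasic
import Groth.Agent.L18.LefConnected
import Groth.Agent.S9489
import Groth.Agent.S0335

/-!
# Finite étale covers of a punctured spectrum along an ideal with free graded pieces
-/

set_option autoImplicit false
set_option linter.style.haveILetI false
set_option linter.unusedSectionVars false
set_option backward.isDefEq.respectTransparency.types false
set_option backward.isDefEq.respectTransparency false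
universe u

open CategoryTheory CategoryTheory.Limits AlgebraicGeometry Opposite TopologicalSpace
open IsLocalRing RingTheory.Sequence
open Groth.L18.GenLoc (secOf homOfSection_secOf secOf_homOfSection)

noncomputable section

namespace Groth.L18.GrFreeFEt

variable {A : Type u} [CommRing A] [IsNoetherianRing A] [IsLocalRing A]

theorem preimage_quot (J : Ideal A) [IsLocalRing (A ⧸ J)] :
    Spec.map (CommRingCat.ofHom (Ideal.Quotient.mk J)) ⁻¹ᵁ FEt.puncturedSpec A =
      FEt.puncturedSpec (A ⧸ J) := by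
  refine Groth.L18.LocPic.preimage_punctured _ (fun P hP => ?_)
    (Groth.L18.LocPic.comap_maximal_of_surjective _ Ideal.Quotient.mk_surjective)
  rw [← Ideal.map_comap_of_surjective _ Ideal.Quotient.mk_surjective P.asIdeal, hP,
    IsLocalRing.map_maximalIdeal_of_surjective _ Ideal.Quotient.mk_surjective]

/-- A regular sequence on the reduction is regular on every thickening. -/
theorem isWeaklyRegular_pow (J : Ideal A)
    (hgr : ∀ n : ℕ, Module.Free (A ⧸ J) (↥(J ^ n) ⧸ (J • (⊤ : Submodule A ↥(J ^ n)))))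
    (rs : List A) (hrs : IsWeaklyRegular (A ⧸ J) rs) :
    ∀ n : ℕ, IsWeaklyRegular (A ⧸ (J ^ n : Ideal A)) rs := by
  intro n
  induction n with
  | zero =>
    haveI : Subsingleton (A ⧸ (J ^ 0 : Ideal A)) :=
      Ideal.Quotient.subsingleton_iff.2 (by rw [pow_zero, Ideal.one_eq_top])
    exact (isWeaklyRegular_iff_Fin _ _).2 fun i => by
      haveI : Subsingleton ((A ⧸ (J ^ 0 : Ideal A)) ⧸ (Ideal.ofList (rs.take i) • ⊤ : Submodule A (A ⧸ (J ^ 0 : Ideal A)))) :=
        (Submodule.Quotient.mk_surjective _).subsingleton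
      exact fun a b _ => Subsingleton.elim a b
  | succ n ih =>
    let P := ↥(J ^ n)
    let G := P ⧸ (J • (⊤ : Submodule A P))
    haveI : Module.Free (A ⧸ J) G := hgr n
    haveI : IsScalarTower A (A ⧸ J) G := IsScalarTower.of_algebraMap_smul fun _ _ => rfl
    have hG : IsWeaklyRegular G rs := by
      rw [← isWeaklyRegular_map_algebraMap_iff (S := A ⧸ J)]
      have h1 : IsWeaklyRegular (A ⧸ J) (rs.map (algebraMap A (A ⧸ J))) :=
        (isWeaklyRegular_map_algebraMap_iff _ _ _).2 hrs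
      exact ((TensorProduct.rid (A ⧸ J) G).isWeaklyRegular_congr _).1 (h1.isWeaklyRegular_lTensor (M₂ := G))
    have hle : J ^ (n + 1) ≤ J ^ n := Ideal.pow_le_pow_right (Nat.le_succ n)
    have hmem : ∀ w : P, w ∈ J • (⊤ : Submodule A P) ↔ (w : A) ∈ J ^ (n + 1) := by
      intro w
      have h : (J • (⊤ : Submodule A P)).map (J ^ n : Submodule A A).subtype = J ^ (n + 1) := by
        rw [Submodule.map_smul'', Submodule.map_top, Submodule.range_subtype, pow_succ' J n]
        rfl
      rw [← h]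
      exact ⟨fun hw => ⟨w, hw, rfl⟩, fun ⟨w', hw', he⟩ => Subtype.ext he ▸ hw'⟩
    let f : G →ₗ[A] A ⧸ (J ^ (n + 1) : Ideal A) :=
      Submodule.mapQ _ (J ^ (n + 1) : Ideal A) (J ^ n : Submodule A A).subtype fun w hw => (hmem w).1 hw
    refine Groth.L06.RegularPow.isWeaklyRegular_of_exact rs f (Submodule.factor hle) ?_ ?_
      (Submodule.factor_surjective hle) hG ih
    · refine (injective_iff_map_eq_zero f).2 fun z hz => ?_
      obtain ⟨z, rfl⟩ := Submodule.Quotient.mk_surjective _ z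
      exact (Submodule.Quotient.mk_eq_zero _).2 ((hmem z).2 ((Submodule.Quotient.mk_eq_zero _).1 hz))
    · intro z
      obtain ⟨b, rfl⟩ := Submodule.Quotient.mk_surjective _ z
      constructor
      · intro hz
        exact ⟨Submodule.Quotient.mk ⟨b, (Submodule.Quotient.mk_eq_zero _).1 hz⟩, rfl⟩
      · rintro ⟨w, hw⟩
        obtain ⟨w, rfl⟩ := Submodule.Quotient.mk_surjective _ w
        rw [← hw]
        exact (Submodule.Quotient.mk_eq_zero _).2 w.2

/-- The global functions on a punctured spectrum of depth at least two. -/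
theorem bijective_punctured (hdepth : (2 : ℕ∞) ≤ LocCoh.depth A A) :
    Function.Bijective fun a : A => (FEt.puncturedSpec A).ι.appTop ((Scheme.ΓSpecIso (CommRingCat.of A)).inv a) := by
  let U := FEt.puncturedSpec A
  have h1 := Groth.L18.GrFreePic.bijective_restrict (A := A) hdepth
  have h2 : Function.Bijective ((Spec (CommRingCat.of A)).presheaf.map
      (homOfLE (le_top : U.ι ''ᵁ U.ι ⁻¹ᵁ (⊤ : (Spec (CommRingCat.of A)).Opens) ≤ ⊤)).op) := by
    have : ∀ {b : (Spec (CommRingCat.of A)).Opens}, U = b → ∀ h : b ≤ ⊤,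
        Function.Bijective ((Spec (CommRingCat.of A)).presheaf.map (homOfLE h).op) := by
      intro b hb h
      subst hb
      exact h1
    exact this (by rw [Scheme.Hom.preimage_top, U.ι_image_top]) _
  show Function.Bijective fun a : A => U.ι.app ⊤ ((Scheme.ΓSpecIso (CommRingCat.of A)).inv a)
  rw [Scheme.Opens.ι_app]
  exact h2.comp (ConcreteCategory.bijective_of_isIso (Scheme.ΓSpecIso (CommRingCat.of A)).inv)

variable (J : Ideal A)

/-- The ideal of the special locus on the punctured spectrum. -/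
abbrev Jc : (↑(FEt.puncturedSpec A) : Scheme.{u}).IdealSheafData :=
  (Spec.map (CommRingCat.ofHom (Ideal.Quotient.mk J))).ker.comap (FEt.puncturedSpec A).ι

/-- The functions on the thickenings of the special locus. -/
def rho (n : ℕ) : A →+* Γ((Jc J ^ (n + 1)).subscheme, ⊤) :=
  ((Jc J ^ (n + 1)).subschemeι ≫ (FEt.puncturedSpec A).ι).appTop.hom.comp
    (Scheme.ΓSpecIso (CommRingCat.of A)).inv.hom

variable [IsLocalRing (A ⧸ J)]

theorem rho_spec (hd : (3 : ℕ∞) ≤ LocCoh.depth (A ⧸ J) (A ⧸ J))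
    (hgr : ∀ n : ℕ, Module.Free (A ⧸ J) (↥(J ^ n) ⧸ (J • (⊤ : Submodule A ↥(J ^ n))))) (n : ℕ) :
    Function.Surjective (rho J n) ∧ RingHom.ker (rho J n) = J ^ (n + 1) := by
  let U := FEt.puncturedSpec A
  let K : Ideal A := J ^ (n + 1)
  have hJm : J ≤ maximalIdeal A := IsLocalRing.le_maximalIdeal (fun h => by
    haveI := (Ideal.Quotient.subsingleton_iff (I := J)).2 h
    exact not_subsingleton (A ⧸ J) inferInstance)
  have hKm : K ≤ maximalIdeal A := (Ideal.pow_le_self (Nat.succ_ne_zero n)).trans hJm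
  haveI : IsLocalRing (A ⧸ K) :=
    Groth.L01.isLocalRing_quotient (ne_top_of_le_ne_top (maximalIdeal.isMaximal A).ne_top hKm)
  have hdK : (2 : ℕ∞) ≤ LocCoh.depth (A ⧸ K) (A ⧸ K) := by
    obtain ⟨rs, hlen, hm, hrs⟩ := Groth.L18.GrFreePic.exists_regular J hd
    have h := Groth.L04.length_le_idealDepth (isWeaklyRegular_pow J hgr rs hrs (n + 1)) hm
    have hmax : (maximalIdeal A).map (algebraMap A (A ⧸ K)) = maximalIdeal (A ⧸ K) :=
      IsLocalRing.map_maximalIdeal_of_surjective _ Ideal.Quotient.mk_surjective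
    rw [hlen, Groth.L04.idealDepth_eq_idealDepth_map_of_finite (B := A ⧸ K) (maximalIdeal A), hmax] at h
    exact (show (2 : ℕ∞) ≤ 3 by norm_num).trans h
  let gK := Spec.map (CommRingCat.ofHom (Ideal.Quotient.mk K))
  have hcomap : gK.ker.comap U.ι = Jc J ^ (n + 1) := by
    rw [← Groth.L17.Thick.comap_pow]
    exact congrArg (fun I : Scheme.IdealSheafData _ => I.comap U.ι) (Groth.L18.AlgebraizeH2.ker_specQuot J n)
  obtain ⟨ℓ, hℓ⟩ := Groth.L18.GrFreePic.exists_iso_subscheme K U
  -- functions on the punctured spectrum of the thickening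
  have h1 : Function.Surjective (fun a : A => ((gK ⁻¹ᵁ U).ι ≫ gK).appTop ((Scheme.ΓSpecIso (CommRingCat.of A)).inv a)) ∧
      ∀ a : A, ((gK ⁻¹ᵁ U).ι ≫ gK).appTop ((Scheme.ΓSpecIso (CommRingCat.of A)).inv a) = 0 ↔ a ∈ K := by
    have hnat : ∀ a : A, gK.appTop ((Scheme.ΓSpecIso (CommRingCat.of A)).inv a) =
        (Scheme.ΓSpecIso (CommRingCat.of (A ⧸ K))).inv (Ideal.Quotient.mk K a) := fun a =>
      (ConcreteCategory.congr_hom (Scheme.ΓSpecIso_inv_naturality (CommRingCat.ofHom (Ideal.Quotient.mk K))) a).symm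
    have hb : Function.Bijective fun b : A ⧸ K =>
        (gK ⁻¹ᵁ U).ι.appTop ((Scheme.ΓSpecIso (CommRingCat.of (A ⧸ K))).inv b) := by
      have : ∀ V : (Spec (CommRingCat.of (A ⧸ K))).Opens, V = FEt.puncturedSpec (A ⧸ K) →
          Function.Bijective fun b : A ⧸ K => V.ι.appTop ((Scheme.ΓSpecIso (CommRingCat.of (A ⧸ K))).inv b) := by
        rintro V rfl
        exact bijective_punctured hdK
      exact this _ (preimage_quot K)
    have he : ∀ a : A, ((gK ⁻¹ᵁ U).ι ≫ gK).appTop ((Scheme.ΓSpecIso (CommRingCat.of A)).inv a) =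
        (gK ⁻¹ᵁ U).ι.appTop ((Scheme.ΓSpecIso (CommRingCat.of (A ⧸ K))).inv (Ideal.Quotient.mk K a)) := fun a => by
      rw [Scheme.Hom.comp_appTop, ConcreteCategory.comp_apply, hnat]
    refine ⟨fun y => ?_, fun a => ?_⟩
    · obtain ⟨b, hb'⟩ := hb.2 y
      obtain ⟨a, rfl⟩ := Ideal.Quotient.mk_surjective b
      exact ⟨a, (he a).trans hb'⟩
    · rw [he, ← Ideal.Quotient.eq_zero_iff_mem]
      exact ⟨fun h => hb.1 (h.trans (by simp [map_zero])), fun h => by rw [h]; simp [map_zero]⟩
  -- transport to the subscheme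
  suffices H : ∀ I : (↑U : Scheme.{u}).IdealSheafData, I = gK.ker.comap U.ι →
      Function.Surjective (fun a : A => (I.subschemeι ≫ U.ι).appTop ((Scheme.ΓSpecIso (CommRingCat.of A)).inv a)) ∧
        ∀ a : A, (I.subschemeι ≫ U.ι).appTop ((Scheme.ΓSpecIso (CommRingCat.of A)).inv a) = 0 ↔ a ∈ K by
    obtain ⟨h2, h3⟩ := H _ hcomap.symm
    exact ⟨h2, Ideal.ext fun a => h3 a⟩
  rintro I rfl
  have hcomp : (gK ⁻¹ᵁ U).ι ≫ gK = ℓ.hom ≫ (gK.ker.comap U.ι).subschemeι ≫ U.ι := by
    rw [← Category.assoc, hℓ, morphismRestrict_ι]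
  rw [hcomp, Scheme.Hom.comp_appTop] at h1
  have hbij : Function.Bijective ℓ.hom.appTop := ConcreteCategory.bijective_of_isIso _
  refine ⟨fun y => ?_, fun a => ?_⟩
  · obtain ⟨a, ha⟩ := h1.1 (ℓ.hom.appTop y)
    exact ⟨a, hbij.1 ha⟩
  · rw [← h1.2 a]
    exact ⟨fun h => (congrArg ℓ.hom.appTop h).trans (map_zero _), fun h => hbij.1 (h.trans (map_zero _).symm)⟩

/-- Functions on the punctured spectrum are the compatible systems of functions on the thickenings. -/
theorem homToFormalBijective [IsAdicComplete J A] (hd : (3 : ℕ∞) ≤ LocCoh.depth (A ⧸ J) (A ⧸ J))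
    (hgr : ∀ n : ℕ, Module.Free (A ⧸ J) (↥(J ^ n) ⧸ (J • (⊤ : Submodule A ↥(J ^ n))))) :
    Lef.HomToFormalBijective (Jc J) (Coh.structureModule (↑(FEt.puncturedSpec A) : Scheme.{u})) := by
  let U := FEt.puncturedSpec A
  let X : Scheme.{u} := U
  have hdA : (2 : ℕ∞) ≤ LocCoh.depth A A :=
    (show (2 : ℕ∞) ≤ 3 by norm_num).trans (Groth.L18.GrFreePic.three_le_depth J hd hgr)
  let θ : A → Γ(X, ⊤) := fun a => U.ι.appTop ((Scheme.ΓSpecIso (CommRingCat.of A)).inv a)
  have hθ : Function.Bijective θ := bijective_punctured hdA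
  have hrho : ∀ n a, (Jc J ^ (n + 1)).subschemeι.appTop (θ a) = rho J n a := fun n a => by
    show _ = ((Jc J ^ (n + 1)).subschemeι ≫ U.ι).appTop _
    rw [Scheme.Hom.comp_appTop]
    rfl
  have hsec : ∀ (n : ℕ) (φ : Coh.structureModule X ⟶ Coh.structureModule X),
      secOf (φ ≫ ClSub.toSubscheme (Jc J ^ (n + 1))) = (Jc J ^ (n + 1)).subschemeι.appTop (secOf φ) := fun n φ => rfl
  refine ⟨fun φ ψ h => ?_, fun y hy => ?_⟩
  · refine Groth.L18.LefConnected.hom_ext_secOf ?_
    obtain ⟨a, ha⟩ := hθ.2 (secOf φ)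
    obtain ⟨b, hb⟩ := hθ.2 (secOf ψ)
    rw [← ha, ← hb]
    refine congrArg θ (sub_eq_zero.1 (IsHausdorff.haus (I := J) inferInstance (a - b) fun n => ?_))
    rw [SModEq.zero, smul_eq_mul, Ideal.mul_top]
    rcases n with - | n
    · simp
    · rw [← (rho_spec J hd hgr n).2, RingHom.mem_ker, map_sub, sub_eq_zero, ← hrho, ← hrho, ha, hb, ← hsec, ← hsec, h]
  · choose a ha using fun n => (rho_spec J hd hgr n).1
      (show Γ((Jc J ^ (n + 1)).subscheme, ⊤) from secOf (y n))
    have hcompat : ∀ n, a (n + 1) - a n ∈ J ^ (n + 1) := by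
      intro n
      rw [← (rho_spec J hd hgr n).2, RingHom.mem_ker, map_sub, sub_eq_zero, ha]
      have h1 : rho J n (a (n + 1)) = secOf ((Groth.L16.homOfSection (Coh.structureModule X) (θ (a (n + 1))) ≫
          ClSub.toSubscheme (Jc J ^ (n + 1 + 1))) ≫ Lef.quotMap (Lef.pow_succ_le (Jc J) n)) := by
        rw [Category.assoc, Groth.L18.LefConnected.toSubscheme_quotMap, hsec, secOf_homOfSection, hrho]
      have h2 : Groth.L16.homOfSection (Coh.structureModule X) (θ (a (n + 1))) ≫
          ClSub.toSubscheme (Jc J ^ (n + 1 + 1)) = y (n + 1) := by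
        refine Groth.L18.LefConnected.hom_ext_secOf ?_
        rw [hsec, secOf_homOfSection, hrho, ha]
      rw [h1, h2, hy n]
    obtain ⟨L, hL⟩ := IsPrecomplete.prec (I := J) (M := A) inferInstance (f := fun n => a n) (by
      intro m n hmn
      rw [SModEq.sub_mem, smul_eq_mul, Ideal.mul_top]
      induction n, hmn using Nat.le_induction with
      | base => simp
      | succ n hn ih =>
        rw [show a m - a (n + 1) = (a m - a n) - (a (n + 1) - a n) by ring]
        exact sub_mem ih (Ideal.pow_le_pow_right (by omega) (hcompat n)))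
    refine ⟨Groth.L16.homOfSection (Coh.structureModule X) (θ L), fun n => Groth.L18.LefConnected.hom_ext_secOf ?_⟩
    rw [hsec, secOf_homOfSection, hrho]
    refine Eq.trans ?_ (ha n)
    show rho J n L = rho J n (a n)
    rw [← sub_eq_zero, ← map_sub, ← RingHom.mem_ker, (rho_spec J hd hgr n).2]
    have h1 := SModEq.sub_mem.1 (hL (n + 1))
    rw [smul_eq_mul, Ideal.mul_top] at h1
    rw [show L - a n = (a (n + 1) - a n) - (a (n + 1) - L) by ring]
    exact sub_mem (hcompat n) h1

end Groth.L18.GrFreeFEt
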