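import Groth.Agent.L18.NegVanish
import Groth.Agent.L18.LefTwists
import Groth.Agent.L16.EtaleFibre.Epi

/-!
# Formal comparison of homomorphisms along a relatively ample divisor
-/

set_option autoImplicit false
set_option linter.style.haveILetI false
set_option linter.unusedSectionVars false
set_option backward.isDefEq.respectTransparency false
set_option backward.isDefEq.respectTransparency.types false
universe u

open CategoryTheory CategoryTheory.Limits AlgebraicGeometry IsLocalRing

noncomputable section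

namespace Groth.L18.NegVanish

open Groth.L00.Tensor (tensorIso tensorComm tensorAssoc tensorUnitRight tensorUnitLeft tensorRightF)

variable {A : Type u} [CommRing A] [IsNoetherianRing A] {X : Scheme.{u}}

/-- Vanishing for twists of powers of an ample module, in the flat case. -/
theorem exists_vanish_pow (f : X ⟶ Spec (CommRingCat.of A)) [IsProper f] [Flat f] {L L' : X.Modules}
    (hL : CohB1.IsAmple L) (e : CohB1.tensorMod L L' ≅ Coh.structureModule X) (n : ℕ)
    (h : ∀ x : X, IsClosed ({f.asFiber x} : Set ↥(f.fiber (f.base x))) →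
      ((n + 1 : ℕ) : ℕ∞) ≤ LocCoh.depth ↑(CInt.fiberStalk f x) ↑(CInt.fiberStalk f x)) (a : ℕ) :
    ∃ m₀ : ℕ, ∀ m : ℕ, m₀ ≤ m → ∀ q, q ≤ n →
      Subsingleton (Coh.HH X (CohB1.tensorMod (CohB1.tensorPow L a) (CohB1.tensorPow L' m)) q) := by
  haveI : IsLocallyNoetherian X := LocallyOfFiniteType.isLocallyNoetherian f
  have ha := Groth.L18.Ample.isInvertible_tensorPow hL.1 a
  have hO : Coh.IsCoh (Coh.structureModule X) := Groth.L16.CohClosedPush.isCoh_structure
  let F := CohB1.tensorMod (Coh.structureModule X) (CohB1.tensorPow L a)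
  have hfl : FlatMod.IsFlatOver f F :=
    Groth.L22.Inter.FlatTwist.isFlatOver_tensor f (Groth.L16.EtaleFibre.isFlatOver_structure f) ha
  obtain ⟨m₀, hm₀⟩ := exists_vanish f hL e (Groth.L03.Euler.isCoh_tensor ha hO) hfl n (fun x hx => by
    rw [sdep_tensor f _ ha, sdep_structureModule]
    exact h x (isClosed_asFiber f hx))
  exact ⟨m₀, fun m hm q hq => Groth.L22.EnrSev.subsingleton_of_iso
    (tensorIso (tensorUnitLeft (CohB1.tensorPow L a)) (Iso.refl _)) q (hm₀ m hm q hq)⟩

/-- Formal comparison of homomorphisms out of a coherent module along a divisor, given vanishing. -/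
theorem homToFormalBijective_of_vanishing [IsNoetherian X] (𝓘 : X.IdealSheafData) {L : X.Modules}
    (hL : ClSub.IsInverseOf L (ClSub.idealMod 𝓘)) (hamp : CohB1.IsAmple L)
    (hv : ∀ a : ℕ, ∃ m₀ : ℕ, ∀ m : ℕ, m₀ ≤ m → ∀ q, q ≤ 1 → Subsingleton
      (Coh.HH X (CohB1.tensorMod (CohB1.tensorPow L a) (CohB1.tensorPow (ClSub.idealMod 𝓘) m)) q))
    {G : X.Modules} (hG : Coh.IsCoh G) : Lef.HomToFormalBijective 𝓘 G := by
  obtain ⟨i⟩ := id hL
  let M := ClSub.idealMod 𝓘
  have hM : PicF.IsInvertible M := Groth.L22.EnrSev.isInvertible_of_inverse hamp.1 i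
  have key : ∀ (a r : ℕ), Lef.HomToFormalBijective 𝓘 (CohB1.tensorMod (FlatMod.freeMod X r) (CohB1.tensorPow M a)) := by
    intro a r
    let La := CohB1.tensorPow L a
    obtain ⟨m₀, hm₀⟩ := hv a
    let pinv := Groth.L22.EnrSev.powInv i a
    haveI : (tensorRightF La).IsEquivalence := Groth.L22.PDual.isEquivalence_tensorRightF
      (tensorComm La (CohB1.tensorPow M a) ≪≫ pinv)
    haveI : (tensorRightF La).Additive := Functor.additive_of_preserves_binary_products _
    refine Groth.L18.LefTwists.homToFormalBijective_of_vanish 𝓘 (tensorRightF La) (k := r)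
      (tensorAssoc _ _ _ ≪≫ tensorIso (Iso.refl _) pinv ≪≫ tensorUnitRight _) m₀ fun n hn => ?_
    obtain ⟨-, ⟨e⟩⟩ := Groth.L13.PointBlow.nonempty_idealMod_pow hM (n + 1)
    let ε : CohB1.tensorMod La (CohB1.tensorPow M (n + 1)) ≅ CohB1.tensorMod (ClSub.idealMod (𝓘 ^ (n + 1))) La :=
      tensorComm _ _ ≪≫ tensorIso e.symm (Iso.refl La)
    exact ⟨Groth.L22.EnrSev.subsingleton_of_iso ε 0 (hm₀ (n + 1) (by omega) 0 zero_le_one),
      Groth.L22.EnrSev.subsingleton_of_iso ε 1 (hm₀ (n + 1) (by omega) 1 le_rfl)⟩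
  have hfree : ∀ (a r : ℕ), Coh.IsCoh (CohB1.tensorMod (FlatMod.freeMod X r) (CohB1.tensorPow M a)) := fun a r =>
    Groth.L16.NegPow.isCoh_of_isFinLocFree
      (Groth.L16.NegPow.isFinLocFree_freeTensor (Groth.L18.Ample.isInvertible_tensorPow hM a) r)
  obtain ⟨a, r, p, hp⟩ := Groth.L18.LefTwists.exists_epi_negPow hamp i hG
  haveI := hp
  haveI : Coh.IsQCoh G := hG.1
  obtain ⟨a', r', q, hq⟩ :=
    Groth.L18.LefTwists.exists_epi_negPow hamp i (Groth.L16.CohSupport.isCoh_kernel (hfree a r) p)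
  haveI := hq
  exact Groth.L18.LefTwists.homToFormalBijective_of_presentation 𝓘 p q (key a r) (key a' r')

end Groth.L18.NegVanish
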