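import Groth.Agent.L18.LefTowerSys
import Groth.Agent.L18.NegVanishLef
import Groth.Agent.L18.AmplePull
import Groth.Agent.L22.IntMult.Acyclic

/-!
# Vanishing of negative twists for the towers on a relatively ample divisor
-/

set_option autoImplicit false
set_option linter.style.haveILetI false
set_option linter.unusedSectionVars false
set_option backward.isDefEq.respectTransparency false
set_option backward.isDefEq.respectTransparency.types false
universe u

open CategoryTheory CategoryTheory.Limits AlgebraicGeometry TopologicalSpace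
open scoped TensorProduct

noncomputable section

namespace Groth.L18.LefTower

open Groth.L00.Tensor (tensorIso tensorComm tensorAssoc tensorUnitLeft tensorUnitRight)
open Groth.L18.NegVanish (sdep fibI)

/-- A bundle has the depth of the structure sheaf on the fibres. -/
theorem le_sdep_vb {X S : Scheme.{u}} (f : X ⟶ S) [IsLocallyNoetherian X] {E : X.Modules}
    (hE : FlatMod.IsFinLocFree E) (x : X) {n : ℕ} (h : (n : ℕ∞) ≤ sdep f (Coh.structureModule X) x) :
    (n : ℕ∞) ≤ sdep f E x := by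
  let R := X.presheaf.stalk x
  let I : Ideal R := fibI f x
  let M := E.presheaf.stalk x
  haveI : Module.Free R M := Groth.L18.LFP.free_stalk E hE x
  haveI : Module.Finite R M := Groth.L18.LFP.finite_stalk E ((Groth.L18.LFP.isFP_and_free_iff E).2 hE).1 x
  let O₁ := (Coh.structureModule X).presheaf.stalk x
  let e1 : R ≃ₗ[R] O₁ := LinearEquiv.ofBijective (LinearMap.toSpanSingleton R O₁ (Groth.L21.RR.one X x))
    (Groth.L21.RR.bijective_smul_one x)
  let eO : (O₁ ⧸ I • (⊤ : Submodule R O₁)) ≃ₗ[R] R ⧸ I :=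
    (TensorProduct.quotTensorEquivQuotSMul O₁ I).symm ≪≫ₗ e1.symm.lTensor (R ⧸ I) ≪≫ₗ TensorProduct.rid R (R ⧸ I)
  have hR : (n : ℕ∞) ≤ LocCoh.depth R (R ⧸ I) := by
    refine le_trans h (le_of_eq ?_)
    exact Groth.L04.idealDepth_congr eO
  let b := Module.finBasis R M
  let e : (M ⧸ I • (⊤ : Submodule R M)) ≃ₗ[R] (Fin (Module.finrank R M) → R ⧸ I) :=
    (TensorProduct.quotTensorEquivQuotSMul M I).symm ≪≫ₗ b.equivFun.lTensor (R ⧸ I) ≪≫ₗ
      TensorProduct.piScalarRight R R (R ⧸ I) (Fin (Module.finrank R M))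
  refine le_trans (Groth.L22.IntMult.le_depth_pi hR (Module.finrank R M)) (le_of_eq ?_)
  exact (Groth.L04.idealDepth_congr e).symm

variable {A : Type u} [CommRing A] [IsNoetherianRing A]

/-- Vanishing of negative twists of bundles on a closed subscheme. -/
theorem van_push {X Y : Scheme.{u}} (f : X ⟶ Spec (CommRingCat.of A)) [IsProper f] (i : Y ⟶ X) [IsClosedImmersion i]
    [Flat (i ≫ f)] {L L' : X.Modules} (hL : CohB1.IsAmple L) (e : CohB1.tensorMod L L' ≅ Coh.structureModule X)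
    (h : ∀ y : Y, IsClosed ({(i ≫ f).asFiber y} : Set ↥((i ≫ f).fiber ((i ≫ f).base y))) →
      (2 : ℕ∞) ≤ LocCoh.depth ↑(CInt.fiberStalk (i ≫ f) y) ↑(CInt.fiberStalk (i ≫ f) y))
    {V : Y.Modules} (hV : FlatMod.IsFinLocFree V) :
    ∃ j₀ : ℕ, ∀ m : ℕ, j₀ ≤ m → ∀ q, q ≤ 1 → Subsingleton
      (Coh.HH X (CohB1.tensorMod ((Scheme.Modules.pushforward i).obj V) (CohB1.tensorPow L' m)) q) := by
  haveI : IsLocallyNoetherian Y := LocallyOfFiniteType.isLocallyNoetherian (i ≫ f)
  haveI : IsProper (i ≫ f) := inferInstance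
  let eY : CohB1.tensorMod ((Scheme.Modules.pullback i).obj L) ((Scheme.Modules.pullback i).obj L') ≅
      Coh.structureModule Y :=
    Groth.L29.DC.PullTensor.pullTensor i _ _ ≪≫ (Scheme.Modules.pullback i).mapIso e ≪≫
      Groth.L29.LocFree.pullbackUnitIso i
  have hfl : FlatMod.IsFlatOver (i ≫ f) V := Groth.L29.DC.RelBC.isFlatOver_of_iso (i ≫ f) (tensorUnitLeft V)
    (Groth.L16.HomCorep.isFlatOver_tensor (i ≫ f) (Groth.L16.EtaleFibre.isFlatOver_structure (i ≫ f)) hV)
  obtain ⟨m₀, hm₀⟩ := Groth.L18.NegVanish.exists_vanish (i ≫ f) (Groth.L18.Ample.isAmple_pullback_of_isAffineHom i hL) eY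
    (Groth.L16.NegPow.isCoh_of_isFinLocFree hV) hfl 1 (fun y hy => le_sdep_vb _ hV y (by
      rw [Groth.L18.NegVanish.sdep_structureModule]
      exact h y (Groth.L18.NegVanish.isClosed_asFiber _ hy)))
  refine ⟨m₀, fun m hm q hq => ?_⟩
  have hL' := Groth.L22.EnrSev.isInvertible_of_inverse hL.1 e
  let M := CohB1.tensorPow L' m
  let P := (Scheme.Modules.pullback i).obj M
  let ε : CohB1.tensorMod ((Coh.push i).obj V) M ≅ (Coh.push i).obj (CohB1.tensorMod V P) :=
    tensorComm _ _ ≪≫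
      (Groth.L17.ProjFormula.projIso i M (Groth.L20.ResDescent.isFinLocFree_of_isInvertible
        (Groth.L18.Ample.isInvertible_tensorPow hL' m))).app V ≪≫
      (Coh.push i).mapIso (tensorComm P V)
  obtain ⟨e'⟩ := Groth.L17.nonempty_HH_push_of_isClosedImmersion i (CohB1.tensorMod V P) q
  have h1 : Subsingleton (Coh.HH Y (CohB1.tensorMod V P) q) := Groth.L22.EnrSev.subsingleton_of_iso
    (tensorIso (Iso.refl V) (Groth.L18.Ample.pullPow i L' m).symm) q (hm₀ m hm q hq)
  have h2 : Subsingleton (Coh.HH X ((Coh.push i).obj (CohB1.tensorMod V P)) q) := e'.toEquiv.subsingleton_congr.1 h1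
  exact Groth.L22.EnrSev.subsingleton_of_iso ε.symm q h2

/-- Vanishing at the zeroth level of the completion. -/
theorem van_level {X : Scheme.{u}} (f : X ⟶ Spec (CommRingCat.of A)) [IsProper f] (𝓘 J : X.IdealSheafData) (hJ : J = 𝓘)
    [Flat (𝓘.subschemeι ≫ f)] {L L' : X.Modules} (hL : CohB1.IsAmple L)
    (e : CohB1.tensorMod L L' ≅ Coh.structureModule X)
    (h : ∀ y : ↥(𝓘.subscheme), IsClosed ({(𝓘.subschemeι ≫ f).asFiber y} : Set ↥((𝓘.subschemeι ≫ f).fiber
        ((𝓘.subschemeι ≫ f).base y))) →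
      (2 : ℕ∞) ≤ LocCoh.depth ↑(CInt.fiberStalk (𝓘.subschemeι ≫ f) y) ↑(CInt.fiberStalk (𝓘.subschemeι ≫ f) y))
    {V : J.subscheme.Modules} (hV : FlatMod.IsFinLocFree V) :
    ∃ j₀ : ℕ, ∀ m : ℕ, j₀ ≤ m → ∀ q, q ≤ 1 → Subsingleton
      (Coh.HH X (CohB1.tensorMod ((Scheme.Modules.pushforward J.subschemeι).obj V) (CohB1.tensorPow L' m)) q) := by
  subst hJ
  exact van_push f J.subschemeι hL e h hV

section Instances

variable {X : Scheme.{u}} [IsLocallyNoetherian X] (f : X ⟶ Spec (CommRingCat.of A)) [IsProper f] (𝓘 : X.IdealSheafData)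
  [Flat (𝓘.subschemeι ≫ f)] {L : X.Modules} (hamp : CohB1.IsAmple L)
  (e : CohB1.tensorMod L (ClSub.idealMod 𝓘) ≅ Coh.structureModule X)
  (h0 : ∀ y : ↥(𝓘.subscheme), IsClosed ({(𝓘.subschemeι ≫ f).asFiber y} : Set ↥((𝓘.subschemeι ≫ f).fiber
        ((𝓘.subschemeι ≫ f).base y))) →
    (2 : ℕ∞) ≤ LocCoh.depth ↑(CInt.fiberStalk (𝓘.subschemeι ≫ f) y) ↑(CInt.fiberStalk (𝓘.subschemeι ≫ f) y))

include hamp e h0 in
theorem van_bundleTower (hI : PicF.IsInvertible (ClSub.idealMod 𝓘)) {E : X.Modules} (hE : FlatMod.IsFinLocFree E) :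
    Van (bundleTower hI hE) := by
  let J := 𝓘 ^ (0 + 1)
  haveI : IsLocallyNoetherian J.subscheme := LocallyOfFiniteType.isLocallyNoetherian J.subschemeι
  obtain ⟨j₀, hj⟩ := van_level f 𝓘 J (by show 𝓘 ^ (0 + 1) = 𝓘; rw [zero_add, pow_one]) hamp e h0
    (Groth.L29.DC.isFinLocFree_tensor (Groth.L29.LocFree.pullback J.subschemeι hE)
      (Groth.L20.ResDescent.isFinLocFree_of_isInvertible (Groth.L18.Ample.isInvertible_structureModule J.subscheme)))
  let ε : CohB1.tensorMod (ClSub.quotMod J) E ≅ (Coh.push J.subschemeι).obj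
      (CohB1.tensorMod ((Scheme.Modules.pullback J.subschemeι).obj E) (Coh.structureModule J.subscheme)) :=
    tensorComm _ _ ≪≫ (Groth.L17.ProjFormula.projIso J.subschemeι E hE).app (Coh.structureModule J.subscheme)
  exact ⟨j₀, fun m hm q hq => Groth.L22.EnrSev.subsingleton_of_iso (tensorIso ε (Iso.refl _)).symm q (hj m hm q hq)⟩

include hamp e h0 in
theorem van_sysTower (hI : PicF.IsInvertible (ClSub.idealMod 𝓘)) {𝔐 : FSch.ModSys (FSch.completionAlong X 𝓘)}
    (hfree : LefX.LevelwiseFinLocFree 𝔐) : Van (sysTower 𝓘 𝔐 hI hfree) :=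
  van_level f 𝓘 (𝓘 ^ (0 + 1)) (by rw [zero_add, pow_one]) hamp e h0 (hfree 0)

end Instances

/-- Vanishing of negative twists of bundles on the ambient scheme. -/
theorem van_bundle {X : Scheme.{u}} (f : X ⟶ Spec (CommRingCat.of A)) [IsProper f] [Flat f] {L L' : X.Modules}
    (hL : CohB1.IsAmple L) (e : CohB1.tensorMod L L' ≅ Coh.structureModule X)
    (h : ∀ x : X, IsClosed ({f.asFiber x} : Set ↥(f.fiber (f.base x))) →
      (2 : ℕ∞) ≤ LocCoh.depth ↑(CInt.fiberStalk f x) ↑(CInt.fiberStalk f x))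
    {E : X.Modules} (hE : FlatMod.IsFinLocFree E) :
    ∃ n₀ : ℕ, ∀ m : ℕ, n₀ ≤ m → ∀ q, q ≤ 1 →
      Subsingleton (Coh.HH X (CohB1.tensorMod E (CohB1.tensorPow L' m)) q) := by
  haveI : IsLocallyNoetherian X := LocallyOfFiniteType.isLocallyNoetherian f
  exact Groth.L18.NegVanish.exists_vanish f hL e (Groth.L16.NegPow.isCoh_of_isFinLocFree hE)
    (Groth.L29.DC.RelBC.isFlatOver_of_iso f (tensorUnitLeft E)
      (Groth.L16.HomCorep.isFlatOver_tensor f (Groth.L16.EtaleFibre.isFlatOver_structure f) hE)) 1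
    (fun x hx => le_sdep_vb f hE x (by
      rw [Groth.L18.NegVanish.sdep_structureModule]
      exact h x (Groth.L18.NegVanish.isClosed_asFiber f hx)))

end Groth.L18.LefTower
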