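import Groth.Agent.L16.Exist.AlgMain
import Groth.Agent.L16.Exist.FormalSect
import Groth.Agent.L18.GenLocus

/-!
# An invertible module trivial on all thickenings is trivial
-/

set_option autoImplicit false
set_option linter.style.haveILetI false
set_option linter.unusedSectionVars false
set_option backward.isDefEq.respectTransparency.types false
set_option backward.isDefEq.respectTransparency false
universe u

open CategoryTheory CategoryTheory.Limits AlgebraicGeometry Opposite TopologicalSpace
open Groth.L18.Frame (IsFrame rs ro rs_rs rs_smul pull pull_rs pull_smul)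
open Groth.L16
open AffineBC (scal)

noncomputable section

namespace Groth.L18.PicWitt

theorem isFrame_of_iso {Z : Scheme.{u}} {N : Z.Modules} (φ : N ≅ Coh.structureModule Z) :
    IsFrame N ⊤ (show Γ(N, ⊤) from φ.inv.app ⊤ (show Γ(Coh.structureModule Z, ⊤) from (1 : Γ(Z, ⊤)))) := by
  intro V h
  have e : (fun a : Γ(Z, V) => a • rs N h (show Γ(N, ⊤) from φ.inv.app ⊤
      (show Γ(Coh.structureModule Z, ⊤) from (1 : Γ(Z, ⊤))))) = fun a : Γ(Z, V) => φ.inv.app V a := by
    funext a
    have h1 := Groth.L18.GenLoc.app_eq φ.inv V a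
    exact h1.symm
  rw [e]
  exact ConcreteCategory.bijective_of_isIso (φ.inv.app V)

variable {A : Type u} [CommRing A] [IsNoetherianRing A] (I : Ideal A) [IsAdicComplete I A]

theorem germ_mem_maximal {I : Ideal A} {X : Scheme.{u}} [X.Over (Spec (CommRingCat.of A))] {U : X.Opens} {x : X}
    (hxU : x ∈ U) (hx : (X ↘ Spec (CommRingCat.of A)) x ∈ PrimeSpectrum.zeroLocus (I : Set A)) {r : Γ(X, U)}
    (hr : r ∈ I.map (scal A X U)) : X.presheaf.germ U x hxU r ∈ IsLocalRing.maximalIdeal _ := by
  have hle' : I.map (scal A X U) ≤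
      (IsLocalRing.maximalIdeal (X.presheaf.stalk x)).comap (X.presheaf.germ U x hxU).hom := by
    rw [Ideal.map_le_iff_le_comap]
    intro a ha hunit
    have h3 : x ∈ X.basicOpen (scal A X U a) := (Scheme.mem_basicOpen _ _ _ hxU).2 hunit
    rw [scal, RingHom.comp_apply, RingHom.comp_apply] at h3
    erw [Scheme.basicOpen_res, Scheme.Hom.appTop] at h3
    have h4 := h3.2
    erw [← Scheme.preimage_basicOpen] at h4
    change (X ↘ Spec (CommRingCat.of A)) x ∈
      (Spec (CommRingCat.of A)).basicOpen ((Scheme.ΓSpecIso (CommRingCat.of A)).inv a) at h4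
    rw [basicOpen_eq_of_affine'] at h4
    erw [Iso.inv_hom_id_apply] at h4
    exact h4 (hx ha)
  exact hle' hr

theorem nonempty_iso_unit_of_levels {X : Scheme.{u}} (f : X ⟶ Spec (CommRingCat.of A)) [IsProper f]
    (M : X.Modules) (hM : PicF.IsInvertible M)
    (h : ∀ k, Nonempty ((Scheme.Modules.pullback (CohB1.thickι f I k)).obj M ≅
      Coh.structureModule (CohB1.thick f I k))) :
    Nonempty (M ≅ Coh.structureModule X) := by
  letI : X.Over (Spec (CommRingCat.of A)) := ⟨f⟩
  haveI : IsProper (X ↘ Spec (CommRingCat.of A)) := ‹IsProper f›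
  haveI : IsLocallyNoetherian X := LocallyOfFiniteType.isLocallyNoetherian f
  have hMc : Coh.IsCoh M := ProperFinite.isCoh_of_isInvertible hM
  haveI : Coh.IsQCoh M := hMc.1
  obtain ⟨c, hc⟩ := Groth.L16.Exist.sect_range I hMc
  letI : (CohB1.thick f I c).Over (Spec (CommRingCat.of A)) := ⟨CohB1.thickι f I c ≫ f⟩
  let ι := CohB1.thickι f I c
  haveI : IsClosedImmersion ι := by
    haveI := Groth.L16.Exist.Adic.isClosedImmersion_specQuot I c
    exact inferInstanceAs (IsClosedImmersion (pullback.fst f (CohB1.specQuot I c)))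
  obtain ⟨φ⟩ := h c
  let g : Γ((Scheme.Modules.pullback ι).obj M, ⊤) :=
    φ.inv.app ⊤ (show Γ(Coh.structureModule _, ⊤) from (1 : Γ(CohB1.thick f I c, ⊤)))
  have hg : IsFrame _ ⊤ g := isFrame_of_iso φ
  obtain ⟨q, hq⟩ := Groth.L16.Exist.Adic.exists_modPow_iso_unit (I := I) (k := c) (f := ι)
    (π := CohB1.thickToBase f I c) (IsPullback.of_hasPullback f (CohB1.specQuot I c)) pullback.condition.symm hMc
  let y : Γ(Formal.modPow I (c + 1) M, ⊤) :=
    q.inv.app ⊤ (show Γ((Coh.push ι).obj ((Scheme.Modules.pullback ι).obj M), ⊤) from g)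
  obtain ⟨z, hz⟩ := hc 0 c (Nat.zero_le c) (by omega) y
  let s := Groth.L16.homOfSection M z
  have hs : Groth.L18.GenLoc.secOf s = z := Groth.L18.GenLoc.secOf_homOfSection z
  have hspec : f.base ⁻¹' (PrimeSpectrum.zeroLocus (I : Set A)) ⊆ (CohB1.genLocus M s : Set X) := by
    intro x hx
    obtain ⟨W, e, hW, hxW, he⟩ := Groth.L18.GenLoc.exists_affine_frame hM x
    obtain ⟨b', hb'⟩ := ((HomSh.modPow_spec I hMc (c + 1)).2 W hW).1 (rs (Formal.modPow I (c + 1) M) le_top y)
    obtain ⟨b, rfl⟩ : ∃ b : Γ(X, W), b • e = b' := by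
      obtain ⟨b, hb⟩ := he.exists_coeff le_rfl b'
      exact ⟨b, by rwa [Groth.L18.Frame.rs_self] at hb⟩
    obtain ⟨a, ha⟩ : ∃ a : Γ(X, W), a • e = rs M le_top z := by
      obtain ⟨a, ha⟩ := he.exists_coeff le_rfl (rs M le_top z)
      exact ⟨a, by rwa [Groth.L18.Frame.rs_self] at ha⟩
    have hpb : pull ι M W (b • e) = rs _ (ι.preimage_mono le_top) g := by
      have h1 : ((Scheme.Modules.pullbackPushforwardAdjunction ι).unit.app M).app W (b • e) =
          q.hom.app W ((Formal.modPowπ I (c + 1) M).app W (b • e)) := by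
        rw [← hq]
        rfl
      refine h1.trans ((congrArg (q.hom.app W) hb').trans ?_)
      refine (congr($(q.hom.mapPresheaf.naturality (homOfLE (le_top : W ≤ ⊤)).op) y)).trans ?_
      show rs _ _ (q.hom.app ⊤ (q.inv.app ⊤ _)) = _
      rw [← ConcreteCategory.comp_apply, ← Scheme.Modules.Hom.comp_app, Iso.inv_hom_id]
      rfl
    have hunit : IsUnit (ι.app W b) := by
      refine Groth.L18.Frame.isUnit_of_isFrame (he.pullback ι M) ?_
      rw [← pull_smul, hpb]
      exact hg.mono _
    have hab : a - b ∈ I.map (scal A X W) := by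
      have h0 : (Formal.modPowπ I (0 + 1) M).app W (rs M le_top z - b • e) = 0 := by
        have e1 : (Formal.modPowπ I (0 + 1) M).app W (b • e) =
            (Formal2.modPowLE I (Nat.succ_le_succ (Nat.zero_le c)) M).app W ((Formal.modPowπ I (c + 1) M).app W (b • e)) := by
          rw [← Formal2.modPowπ_modPowLE I (Nat.succ_le_succ (Nat.zero_le c)) M]
          rfl
        rw [map_sub, e1, hb', sub_eq_zero]
        refine (congr($((Formal.modPowπ I (0 + 1) M).mapPresheaf.naturality (homOfLE (le_top : W ≤ ⊤)).op) z)).trans ?_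
        show rs _ _ ((Formal.modPowπ I (0 + 1) M).app ⊤ z) = _
        rw [hz]
        exact (congr($((Formal2.modPowLE I (Nat.succ_le_succ (Nat.zero_le c)) M).mapPresheaf.naturality
          (homOfLE (le_top : W ≤ ⊤)).op) y)).symm
      have h1 := (((HomSh.modPow_spec I hMc (0 + 1)).2 W hW).2 _).1 h0
      rw [zero_add, pow_one, ← ha, ← sub_smul] at h1
      have key : ∀ v ∈ (I.map (scal A X W)) • (⊤ : Submodule Γ(X, W) Γ(M, W)),
          ∃ t ∈ I.map (scal A X W), t • e = v := by
        intro v hv
        refine Submodule.smul_induction_on hv (fun r hr m _ => ?_) ?_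
        · obtain ⟨d, hd⟩ := he.exists_coeff le_rfl m
          rw [Groth.L18.Frame.rs_self] at hd
          exact ⟨r * d, Ideal.mul_mem_right _ _ hr, by rw [mul_smul, hd]⟩
        · rintro v v' ⟨t, ht, rfl⟩ ⟨t', ht', rfl⟩
          exact ⟨t + t', add_mem ht ht', add_smul _ _ _⟩
      obtain ⟨t, ht, hte⟩ := key _ h1
      rwa [← he.inj le_rfl (show t • rs M le_rfl e = (a - b) • rs M le_rfl e by
        rw [Groth.L18.Frame.rs_self]; exact hte)]
    have hxι : x ∈ Set.range ι := by
      show x ∈ Set.range (pullback.fst f (CohB1.specQuot I c))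
      rw [Scheme.Pullback.range_fst, Set.mem_preimage,
        show Set.range (CohB1.specQuot I c) = Set.range (PrimeSpectrum.comap (Ideal.Quotient.mk (I ^ (c + 1)))) from rfl,
        range_comap_of_surjective _ _ Ideal.Quotient.mk_surjective, Ideal.mk_ker,
        PrimeSpectrum.zeroLocus_pow I (Nat.succ_ne_zero c)]
      exact hx
    have hbx : x ∈ X.basicOpen b := by
      obtain ⟨w, rfl⟩ := hxι
      show w ∈ ι ⁻¹ᵁ X.basicOpen b
      rw [Scheme.preimage_basicOpen, Scheme.basicOpen_of_isUnit _ hunit]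
      exact hxW
    have hax : x ∈ X.basicOpen a := by
      rw [Scheme.mem_basicOpen _ _ _ hxW] at hbx ⊢
      by_contra hn
      have hd := germ_mem_maximal (I := I) hxW hx hab
      rw [map_sub] at hd
      have := (IsLocalRing.maximalIdeal (X.presheaf.stalk x)).sub_mem (a := X.presheaf.germ W x hxW a) hn hd
      rw [sub_sub_cancel] at this
      exact this hbx
    have hle : X.basicOpen a ≤ CohB1.genLocus M s := by
      have h5 := Groth.L18.GenLoc.genLocus_inf_eq s he (a := a) (by rw [hs]; exact ha)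
      rw [← h5]
      exact inf_le_left
    exact hle hax
  have htop : CohB1.genLocus M s = ⊤ :=
    Groth.L16.Exist.Adic.eq_top_of_special_le I f f.isClosedMap _ hspec
  have hfr := Groth.L18.GenLoc.isFrame_genLocus s
  rw [htop] at hfr
  haveI : IsIso s := by
    rw [Scheme.Modules.Hom.isIso_iff_isIso_app]
    intro V
    refine (ConcreteCategory.isIso_iff_bijective _).2 ?_
    have := hfr V le_top
    rw [show (fun a : Γ(X, V) => a • rs M le_top (rs M le_top (Groth.L18.GenLoc.secOf s))) = s.app V from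
      funext fun a => by rw [rs_rs]; exact (Groth.L18.GenLoc.app_eq s V a).symm] at this
    exact this
  exact ⟨(asIso s).symm⟩

end Groth.L18.PicWitt
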