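import Groth.Agent.L18.LocPicCI
import Groth.Agent.L18.PicWittInj
import Groth.Agent.L18.KernelTensorGG
import Groth.Agent.L16.HomSh.FullyFaithful
import Groth.Agent.L19.ZClos.Criteria
import Groth.Agent.L29.Formal.Regular
import Groth.Agent.L29.Formal.OpenDepth
import Groth.Agent.S3372
import Groth.Agent.S0291
import Groth.Agent.S2824
import Groth.Prelude.Def_ParaF

/-!
# Invertible modules on a punctured spectrum and on a hyperplane section of it
-/

set_option autoImplicit false
set_option linter.style.haveILetI false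
set_option linter.unusedSectionVars false
set_option backward.isDefEq.respectTransparency.types false
set_option backward.isDefEq.respectTransparency false
universe u

open CategoryTheory CategoryTheory.Limits AlgebraicGeometry Opposite TopologicalSpace
open IsLocalRing Groth.L16
open Groth.L18.Frame (IsFrame rs ro rs_rs rs_self rs_smul pull pull_rs pull_smul)
open AffineBC (scal)

noncomputable section

namespace Groth.L18.ParaFPic

variable {A : Type u} [CommRing A]

theorem exists_iso_subscheme (t : A) (U : (Spec (CommRingCat.of A)).Opens) :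
    ∃ ℓ : (↑(Formal2.specQuotMap A t ⁻¹ᵁ U) : Scheme.{u}) ≅
        (((Formal2.specQuotMap A t).ker.comap U.ι)).subscheme,
      ℓ.hom ≫ ((Formal2.specQuotMap A t).ker.comap U.ι).subschemeι = Formal2.specQuotMap A t ∣_ U := by
  let g := Formal2.specQuotMap A t
  haveI : IsClosedImmersion g := IsClosedImmersion.spec_of_surjective _ Ideal.Quotient.mk_surjective
  haveI : IsClosedImmersion (g ∣_ U) := inferInstance
  have hk : (g ∣_ U).ker = g.ker.comap U.ι := by
    have h := isPullback_morphismRestrict g U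
    rw [← h.isoPullback_hom_fst, Scheme.Hom.ker_comp_of_isIso,
      Scheme.IdealSheafData.ker_fst_of_isClosedImmersion]
  have hk' : ((g.ker.comap U.ι).subschemeι).ker = (g ∣_ U).ker :=
    (Scheme.IdealSheafData.ker_subschemeι _).trans hk.symm
  haveI := IsClosedImmersion.isIso_lift _ _ hk'
  exact ⟨asIso (IsClosedImmersion.lift _ (g ∣_ U) hk'.le), IsClosedImmersion.lift_fac _ _ _⟩

variable [IsNoetherianRing A]

theorem mono_smulMod (t : A) (U : (Spec (CommRingCat.of A)).Opens) (hnzd : t ∈ nonZeroDivisors A)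
    {L : (U : Scheme.{u}).Modules} (hL : PicF.IsInvertible L) :
    Mono (Formal.smulMod A L t) := by
  refine Groth.L19.ZClos.mono_of_app_injective _ fun V => (injective_iff_map_eq_zero _).2 fun m hm => ?_
  rw [Groth.L16.HomSh.smulMod_app] at hm
  refine TopCat.Sheaf.eq_of_locally_eq' ⟨L.presheaf, L.isSheaf⟩
    (fun W : { W : (U : Scheme.{u}).Opens // W ≤ V ∧ IsAffineOpen W ∧ ∃ e : Γ(L, W), IsFrame L W e } => W.1) V
    (fun W => homOfLE W.2.1) (fun x hx => ?_) _ _ fun W => ?_
  · obtain ⟨W₀, e, hxW, he⟩ := Groth.L18.Frame.exists_frame hL x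
    obtain ⟨_, ⟨W, hW, rfl⟩, hxW', hWV⟩ := (U : Scheme.{u}).isBasis_affineOpens.exists_subset_of_mem_open
      (show x ∈ (W₀ ⊓ V : (U : Scheme.{u}).Opens) from ⟨hxW, hx⟩) (W₀ ⊓ V).2
    exact Opens.mem_iSup.2 ⟨⟨W, fun y hy => (hWV hy).2, hW, rs L (fun y hy => (hWV hy).1) e, he.mono _⟩, hxW'⟩
  · obtain ⟨W, hWV, hW, e, he⟩ := W
    show rs L hWV m = rs L hWV 0
    obtain ⟨c, hc⟩ := he.exists_coeff le_rfl (rs L hWV m)
    rw [rs_self] at hc
    have h0 : (ro hWV (scal A (U : Scheme.{u}) V t) * c) • rs L (le_refl W) e = (0 : Γ((U : Scheme.{u}), W)) • rs L (le_refl W) e := by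
      rw [rs_self, zero_smul, mul_smul, hc, ← rs_smul, hm]
      exact map_zero _
    have h1 := he.inj le_rfl h0
    rw [Groth.L16.Exist.scal_res] at h1
    have hc0 : c = 0 := (Groth.L18.LocPic.isRegular_el t U hnzd W hW).left
      (h1.trans (mul_zero (M₀ := Γ((U : Scheme.{u}), W)) _).symm)
    rw [← hc, hc0, zero_smul]
    exact (map_zero _).symm

theorem subsingleton_HH_modPow (t : A) (𝔞 : Ideal A) (U : (Spec (CommRingCat.of A)).Opens)
    (hU : U = LocCoh.puncturedOpen A 𝔞) (i : ℕ)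
    (h : Subsingleton (LocCoh.H 𝔞 (i + 2) (A ⧸ Ideal.span {t}))) :
    Subsingleton (Coh.HH (U : Scheme.{u})
      (Formal.modPow (Ideal.span {t}) 1 (Coh.structureModule (U : Scheme.{u}))) (i + 1)) := by
  subst hU
  let Uo := LocCoh.puncturedOpen A 𝔞
  let II : Ideal A := Ideal.span {t}
  let eO : Coh.structureModule (Uo : Scheme.{u}) ≅ Groth.L04.PunctLin.tM Uo (ModuleCat.of A A) :=
    (Scheme.Modules.restrictUnitIso Uo.ι).symm ≪≫
      (Scheme.Modules.restrictFunctor Uo.ι).mapIso (tildeSelf (R := CommRingCat.of A)).symm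
  obtain ⟨eQ, -⟩ := Groth.L29.Bridge.exists_modPowIso Uo II A 0
  let eP : Formal.modPow II 1 (Coh.structureModule (Uo : Scheme.{u})) ≅
      Formal.modPow II (0 + 1) (Groth.L04.PunctLin.tM Uo (ModuleCat.of A A)) :=
    { hom := Exist.redMap II (0 + 1) eO.hom
      inv := Exist.redMap II (0 + 1) eO.inv
      hom_inv_id := by rw [Exist.redMap_comp, eO.hom_inv_id, Exist.redMap_id]
      inv_hom_id := by rw [Exist.redMap_comp, eO.inv_hom_id, Exist.redMap_id] }
  let e : Formal2.quotPow A II A 0 ≃ₗ[A] A ⧸ II :=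
    Submodule.quotEquivOfEq _ _ (by rw [zero_add, pow_one, smul_eq_mul, Ideal.mul_top])
  have hH : Subsingleton ((localCohomology 𝔞 (i + 2)).obj (ModuleCat.of A (Formal2.quotPow A II A 0))) :=
    @Equiv.subsingleton _ _ ((localCohomology 𝔞 (i + 2)).mapIso e.toModuleIso).toLinearEquiv.toEquiv h
  obtain ⟨l⟩ := Groth.L04.PunctLin.nonempty_equiv 𝔞 i (ModuleCat.of A (Formal2.quotPow A II A 0))
  have h2 : Subsingleton (Coh.HH (Uo : Scheme.{u})
      (Groth.L04.PunctLin.tM Uo (ModuleCat.of A (Formal2.quotPow A II A 0))) (i + 1)) :=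
    @Equiv.subsingleton _ _ l.toEquiv hH
  exact @Equiv.subsingleton _ _
    ((SheafOfModules.toSheaf _ ⋙ Sheaf.functorH _ (i + 1)).mapIso (eP ≪≫ eQ)).addCommGroupIsoToAddEquiv.toEquiv h2

/-- An invertible module trivial on the hyperplane section has a global section generating along it. -/
theorem exists_section (t : A) (U : (Spec (CommRingCat.of A)).Opens) [IsLocallyNoetherian (U : Scheme.{u})]
    (hnzd : t ∈ nonZeroDivisors A) {L : (U : Scheme.{u}).Modules} (hL : PicF.IsInvertible L)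
    (φ : (Scheme.Modules.pullback (Formal2.specQuotMap A t ∣_ U)).obj L ≅ Coh.structureModule _)
    (hH : Subsingleton (Coh.HH (U : Scheme.{u}) L 1)) :
    ∃ z : Γ(L, ⊤), ∀ x : (U : Scheme.{u}), t ∈ (U.ι x).asIdeal →
      x ∈ CohB1.genLocus L (Groth.L16.homOfSection L z) := by
  let X : Scheme.{u} := U
  let II : Ideal A := Ideal.span {t}
  let g₀ := Formal2.specQuotMap A t
  let P : Scheme.{u} := g₀ ⁻¹ᵁ U
  let ι : P ⟶ X := g₀ ∣_ U
  letI : P.Over (Spec (CommRingCat.of A)) := ⟨ι ≫ U.ι⟩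
  haveI : IsClosedImmersion g₀ := IsClosedImmersion.spec_of_surjective _ Ideal.Quotient.mk_surjective
  haveI : IsClosedImmersion ι := inferInstanceAs (IsClosedImmersion (g₀ ∣_ U))
  let q₀ : A ⧸ II ^ (0 + 1) ≃+* A ⧸ II := Ideal.quotEquivOfEq (by rw [zero_add, pow_one])
  let ξ : Spec (CommRingCat.of (A ⧸ II)) ≅ Spec (CommRingCat.of (A ⧸ II ^ (0 + 1))) :=
    Scheme.Spec.mapIso q₀.toCommRingCatIso.op
  have hξ : ξ.hom ≫ CohB1.specQuot II 0 = g₀ := by
    show Spec.map _ ≫ Spec.map _ = Spec.map _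
    rw [← Spec.map_comp]
    congr 1
  have hP : IsPullback ι ((g₀ ⁻¹ᵁ U).ι ≫ ξ.hom) U.ι (CohB1.specQuot II 0) :=
    (isPullback_morphismRestrict g₀ U).of_iso (Iso.refl _) (Iso.refl _) ξ (Iso.refl _)
      (by simp [ι]) (by simp) (by simp) (by simp [hξ])
  have hLc : Coh.IsCoh L := ProperFinite.isCoh_of_isInvertible hL
  haveI : Coh.IsQCoh L := hLc.1
  obtain ⟨q, hq⟩ := Groth.L16.Exist.Adic.exists_modPow_iso_unit (I := II) (k := 0) (f := ι)
    hP (by rw [← hP.w]; rfl) hLc
  let g : Γ((Scheme.Modules.pullback ι).obj L, ⊤) :=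
    φ.inv.app ⊤ (show Γ(Coh.structureModule _, ⊤) from (1 : Γ(P, ⊤)))
  have hg : IsFrame _ ⊤ g := Groth.L18.PicWitt.isFrame_of_iso φ
  let y : Γ(Formal.modPow II (0 + 1) L, ⊤) :=
    q.inv.app ⊤ (show Γ((Coh.push ι).obj ((Scheme.Modules.pullback ι).obj L), ⊤) from g)
  -- lift the section
  have hmono := mono_smulMod t U hnzd hL
  obtain ⟨z, hz⟩ : ∃ z : Γ(L, ⊤), (Formal.modPowπ II (0 + 1) L).app ⊤ z = y := by
    have hS := Groth.L29.FormalReg.seq_shortExact L t hmono (0 + 1)
    obtain ⟨w, hw⟩ := (CohLinear.exact_hmap_delta hS 0 ((Groth.L16.HomSh.h0Equiv _).symm y)).1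
      (@Subsingleton.elim _ hH _ _)
    refine ⟨Groth.L16.HomSh.h0Equiv L w, ?_⟩
    have h1 := Groth.L16.HomSh.h0Equiv_map (Formal.modPowπ II (0 + 1) L) w
    rw [← h1]
    exact (congrArg _ hw).trans (AddEquiv.apply_symm_apply _ _)
  let s := Groth.L16.homOfSection L z
  have hs : Groth.L18.GenLoc.secOf s = z := Groth.L18.GenLoc.secOf_homOfSection z
  refine ⟨z, fun x hx => ?_⟩
  have hx' : (X ↘ Spec (CommRingCat.of A)) x ∈ PrimeSpectrum.zeroLocus (II : Set A) := by
    show (II : Set A) ⊆ (U.ι x).asIdeal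
    exact (Ideal.span_singleton_le_iff_mem _).2 hx
  obtain ⟨W, e, hW, hxW, he⟩ := Groth.L18.GenLoc.exists_affine_frame hL x
  obtain ⟨b', hb'⟩ := ((HomSh.modPow_spec II hLc (0 + 1)).2 W hW).1 (rs (Formal.modPow II (0 + 1) L) le_top y)
  obtain ⟨b, rfl⟩ : ∃ b : Γ(X, W), b • e = b' := by
    obtain ⟨b, hb⟩ := he.exists_coeff le_rfl b'
    exact ⟨b, by rwa [rs_self] at hb⟩
  obtain ⟨a, ha⟩ : ∃ a : Γ(X, W), a • e = rs L le_top z := by
    obtain ⟨a, ha⟩ := he.exists_coeff le_rfl (rs L le_top z)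
    exact ⟨a, by rwa [rs_self] at ha⟩
  have hpb : pull ι L W (b • e) = rs _ (ι.preimage_mono le_top) g := by
    have h1 : ((Scheme.Modules.pullbackPushforwardAdjunction ι).unit.app L).app W (b • e) =
        q.hom.app W ((Formal.modPowπ II (0 + 1) L).app W (b • e)) := by
      rw [← hq]
      rfl
    refine h1.trans ((congrArg (q.hom.app W) hb').trans ?_)
    refine (congr($(q.hom.mapPresheaf.naturality (homOfLE (le_top : W ≤ ⊤)).op) y)).trans ?_
    show rs _ _ (q.hom.app ⊤ (q.inv.app ⊤ _)) = _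
    rw [← ConcreteCategory.comp_apply, ← Scheme.Modules.Hom.comp_app, Iso.inv_hom_id]
    rfl
  have hunit : IsUnit (ι.app W b) := by
    refine Groth.L18.Frame.isUnit_of_isFrame (he.pullback ι L) ?_
    rw [← pull_smul, hpb]
    exact hg.mono _
  have hab : a - b ∈ II.map (scal A X W) := by
    have h0 : (Formal.modPowπ II (0 + 1) L).app W (rs L le_top z - b • e) = 0 := by
      rw [map_sub, hb', sub_eq_zero]
      refine (congr($((Formal.modPowπ II (0 + 1) L).mapPresheaf.naturality (homOfLE (le_top : W ≤ ⊤)).op) z)).trans ?_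
      show rs _ _ ((Formal.modPowπ II (0 + 1) L).app ⊤ z) = _
      rw [hz]
    have h1 := (((HomSh.modPow_spec II hLc (0 + 1)).2 W hW).2 _).1 h0
    rw [zero_add, pow_one, ← ha, ← sub_smul] at h1
    have key : ∀ v ∈ (II.map (scal A X W)) • (⊤ : Submodule Γ(X, W) Γ(L, W)),
        ∃ r ∈ II.map (scal A X W), r • e = v := by
      intro v hv
      refine Submodule.smul_induction_on hv (fun r hr m _ => ?_) ?_
      · obtain ⟨d, hd⟩ := he.exists_coeff le_rfl m
        rw [rs_self] at hd
        exact ⟨r * d, Ideal.mul_mem_right _ _ hr, by rw [mul_smul, hd]⟩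
      · rintro v v' ⟨r, hr, rfl⟩ ⟨r', hr', rfl⟩
        exact ⟨r + r', add_mem hr hr', add_smul _ _ _⟩
    obtain ⟨r, hr, hre⟩ := key _ h1
    rwa [← he.inj le_rfl (show r • rs L le_rfl e = (a - b) • rs L le_rfl e by
      rw [rs_self]; exact hre)]
  have hxι : x ∈ Set.range ι := by
    obtain ⟨w, hw⟩ : U.ι x ∈ Set.range g₀ := by
      rw [show Set.range g₀ = Set.range (PrimeSpectrum.comap (Ideal.Quotient.mk II)) from rfl,
        range_comap_of_surjective _ _ Ideal.Quotient.mk_surjective, Ideal.mk_ker]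
      exact hx'
    have hwU : w ∈ g₀ ⁻¹ᵁ U := by
      show g₀ w ∈ U
      rw [hw]
      exact x.2
    refine ⟨⟨w, hwU⟩, U.ι.isOpenEmbedding.injective ?_⟩
    show ((g₀ ∣_ U) ≫ U.ι) ⟨w, hwU⟩ = _
    rw [morphismRestrict_ι]
    exact hw
  have hbx : x ∈ X.basicOpen b := by
    obtain ⟨w, rfl⟩ := hxι
    show w ∈ ι ⁻¹ᵁ X.basicOpen b
    rw [Scheme.preimage_basicOpen, Scheme.basicOpen_of_isUnit _ hunit]
    exact hxW
  have hax : x ∈ X.basicOpen a := by
    rw [Scheme.mem_basicOpen _ _ _ hxW] at hbx ⊢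
    by_contra hn
    have hd := Groth.L18.PicWitt.germ_mem_maximal (I := II) hxW hx' hab
    rw [map_sub] at hd
    have := (IsLocalRing.maximalIdeal (X.presheaf.stalk x)).sub_mem (a := X.presheaf.germ W x hxW a) hn hd
    rw [sub_sub_cancel] at this
    exact this hbx
  have h5 := Groth.L18.GenLoc.genLocus_inf_eq s he (a := a) (by rw [hs]; exact ha)
  rw [← h5] at hax
  exact hax.1

/-- The stalks of an invertible module have the depth of the local rings. -/
theorem depth_stalk (U : (Spec (CommRingCat.of A)).Opens) {L : (U : Scheme.{u}).Modules} (hL : PicF.IsInvertible L)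
    (x : (U : Scheme.{u})) :
    LocCoh.depth ((U : Scheme.{u}).presheaf.stalk x) (L.presheaf.stalk x) =
      LocCoh.depth (Localization.AtPrime (U.ι x).asIdeal) (Localization.AtPrime (U.ι x).asIdeal) := by
  obtain ⟨e⟩ := Groth.L18.KernelTensorGG.exists_stalk_equiv hL x
  let q := U.ι x
  let t := Groth.L00.KFlat.toStalk (CommRingCat.of A) q
  letI : Algebra A ((Spec (CommRingCat.of A)).presheaf.stalk q) := t.toAlgebra
  haveI : IsLocalization.AtPrime ((Spec (CommRingCat.of A)).presheaf.stalk q) q.asIdeal :=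
    Groth.L29.DC.TorTest.isLocalization_toStalk q
  let e₁ : Localization.AtPrime q.asIdeal ≃+* (U : Scheme.{u}).presheaf.stalk x :=
    (IsLocalization.algEquiv q.asIdeal.primeCompl (Localization.AtPrime q.asIdeal)
      ((Spec (CommRingCat.of A)).presheaf.stalk q)).toRingEquiv.trans
      (asIso (U.ι.stalkMap x)).commRingCatIsoToRingEquiv
  exact (Groth.L04.idealDepth_congr e).symm.trans (Groth.L06.FlatFibre.depth_eq_of_ringEquiv e₁)

section Local

variable [IsLocalRing A]

theorem puncturedSpec_eq : FEt.puncturedSpec A = LocCoh.puncturedOpen A (maximalIdeal A) := by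
  refine Opens.ext (Set.ext fun p => not_congr ?_)
  exact ⟨fun h => (show p = closedPoint A from h) ▸ (fun _ hm => hm),
    fun h => PrimeSpectrum.ext (((maximalIdeal.isMaximal A).eq_of_le p.2.ne_top h).symm)⟩

/-- The points off a locus containing the hyperplane section are closed. -/
theorem isFrame_top (t : A) (ht : t ∈ maximalIdeal A) [IsAdicComplete (Ideal.span {t}) A]
    (ha : ∀ p : PrimeSpectrum A, ringKrullDim (A ⧸ p.asIdeal) = 1 →
      (2 : ℕ∞) ≤ LocCoh.depth (Localization.AtPrime p.asIdeal) (Localization.AtPrime p.asIdeal))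
    {L : (FEt.puncturedSpec A : Scheme.{u}).Modules} (hL : PicF.IsInvertible L)
    (s : Coh.structureModule (FEt.puncturedSpec A : Scheme.{u}) ⟶ L)
    (hY : ∀ x : (FEt.puncturedSpec A : Scheme.{u}), t ∈ ((FEt.puncturedSpec A).ι x).asIdeal →
      x ∈ CohB1.genLocus L s) :
    CohB1.genLocus L s = ⊤ := by
  let U := FEt.puncturedSpec A
  let X : Scheme.{u} := U
  haveI : IsLocallyNoetherian X := LocallyOfFiniteType.isLocallyNoetherian U.ι
  -- every point off the locus is closed
  have hclosed : ∀ y : X, y ∉ CohB1.genLocus L s → ∀ r : PrimeSpectrum A, (U.ι y).asIdeal ≤ r.asIdeal →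
      r.asIdeal = (U.ι y).asIdeal ∨ r.asIdeal = maximalIdeal A := by
    intro y hy r hr
    refine Groth.L18.LocPic.eq_or_eq_of_isMinimal t (fun h => hy (hY y h)) hr
      (IsLocalRing.le_maximalIdeal r.2.ne_top) ht fun v hv hyv _ htv => ?_
    by_contra hne
    have hvU : (⟨v, hv⟩ : PrimeSpectrum A) ∈ U := fun h => hne (congrArg PrimeSpectrum.asIdeal h)
    let z : X := ⟨⟨v, hv⟩, hvU⟩
    have hz : z ∈ CohB1.genLocus L s := hY z htv
    have hs : y ⤳ z := U.ι.isOpenEmbedding.isInducing.specializes_iff.1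
      ((PrimeSpectrum.le_iff_specializes (U.ι y) (U.ι z)).1 hyv)
    exact hy (hs.mem_open (CohB1.genLocus L s).2 hz)
  refine top_le_iff.1 fun x _ => ?_
  by_contra hx
  let p : PrimeSpectrum A := U.ι x
  have hp1 : ringKrullDim (A ⧸ p.asIdeal) = 1 := by
    refine (((Groth.Agent.S8804.result A (Ideal.span {t}) p).out 0 1 rfl rfl).1 ⟨fun h =>
      hx (hY x ((Ideal.span_singleton_le_iff_mem _).1 h)), fun r hr hn => ?_⟩).1
    refine PrimeSpectrum.ext ((hclosed x hx r hr).resolve_right fun h => hn ?_)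
    rw [h]
    exact (Ideal.span_singleton_le_iff_mem _).2 ht
  obtain ⟨W, e, hW, hxW, he⟩ := Groth.L18.GenLoc.exists_affine_frame hL x
  obtain ⟨a, ha'⟩ := he.exists_coeff le_rfl (rs L le_top (Groth.L18.GenLoc.secOf s))
  rw [rs_self] at ha'
  have hloc := Groth.L18.GenLoc.genLocus_inf_eq s he ha'
  let P := hW.primeIdealOf ⟨x, hxW⟩
  haveI : IsNoetherianRing Γ(X, W) := IsLocallyNoetherian.component_noetherian ⟨W, hW⟩
  letI := TopCat.Presheaf.algebra_section_stalk X.presheaf (⟨x, hxW⟩ : W)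
  haveI : IsLocalization.AtPrime (X.presheaf.stalk x) P.asIdeal := hW.isLocalization_stalk ⟨x, hxW⟩
  have hPa : a ∈ P.asIdeal := by
    by_contra h
    refine hx ?_
    have hxb : x ∈ X.basicOpen a := by
      rw [Scheme.mem_basicOpen _ _ _ hxW]
      exact IsLocalization.map_units (X.presheaf.stalk x) (⟨a, h⟩ : P.asIdeal.primeCompl)
    rw [← hloc] at hxb
    exact hxb.1
  have hmin : P.asIdeal ∈ (Ideal.span {a}).minimalPrimes := by
    refine ⟨⟨P.2, (Ideal.span_singleton_le_iff_mem _).2 hPa⟩, fun Q hQ hQP => ?_⟩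
    haveI := hQ.1
    let Q' : PrimeSpectrum Γ(X, W) := ⟨Q, hQ.1⟩
    let y : X := hW.fromSpec Q'
    have hyx : y ⤳ x := by
      have h := ((PrimeSpectrum.le_iff_specializes Q' P).1 hQP).map hW.fromSpec.continuous
      erw [hW.fromSpec_primeIdealOf ⟨x, hxW⟩] at h
      exact h
    have hyb : y ∉ X.basicOpen a := by
      intro h
      have h2 : Q' ∈ hW.fromSpec ⁻¹ᵁ X.basicOpen a := h
      rw [hW.fromSpec_preimage_basicOpen] at h2
      exact h2 (hQ.2 (Ideal.mem_span_singleton_self a))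
    have hy : y ∉ CohB1.genLocus L s := by
      intro h
      refine hyb ?_
      rw [← hloc]
      exact ⟨h, hyx.mem_open W.2 hxW⟩
    have hsp : (U.ι y).asIdeal ≤ p.asIdeal :=
      (PrimeSpectrum.le_iff_specializes (U.ι y) p).2 (hyx.map U.ι.continuous)
    have hyx' : x = y := U.ι.isOpenEmbedding.injective (PrimeSpectrum.ext
      ((hclosed y hy p hsp).resolve_right fun h => x.2 (PrimeSpectrum.ext h)))
    have hQe : Q' = P := hW.fromSpec.isOpenEmbedding.injective (by
      rw [hW.fromSpec_primeIdealOf ⟨x, hxW⟩]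
      exact hyx'.symm)
    exact (congrArg PrimeSpectrum.asIdeal hQe).ge
  have h1 : P.asIdeal.height ≤ 1 := Ideal.height_le_one_of_isPrincipal_of_mem_minimalPrimes _ _ hmin
  have h2 : ringKrullDim (X.presheaf.stalk x) ≤ 1 := by
    rw [IsLocalization.AtPrime.ringKrullDim_eq_height P.asIdeal (X.presheaf.stalk x)]
    exact WithBot.coe_le_coe.2 h1
  haveI : IsNoetherianRing (X.presheaf.stalk x) :=
    IsLocalization.isNoetherianRing P.asIdeal.primeCompl _ inferInstance
  have h3 : (2 : ℕ∞) ≤ LocCoh.depth (X.presheaf.stalk x) (X.presheaf.stalk x) := by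
    obtain ⟨eL⟩ := Groth.L18.KernelTensorGG.exists_stalk_equiv hL x
    exact (ha p hp1).trans ((depth_stalk U hL x).symm.trans (Groth.L04.idealDepth_congr eL).symm).le
  have h4 := Groth.L04.depth_le_supportDim (R := X.presheaf.stalk x) (M := X.presheaf.stalk x)
  rw [Module.supportDim_self_eq_ringKrullDim] at h4
  have h5 : ((2 : ℕ∞) : WithBot ℕ∞) ≤ ((1 : ℕ∞) : WithBot ℕ∞) :=
    ((WithBot.coe_le_coe.2 h3).trans h4).trans (h2.trans (by simp))
  exact absurd (WithBot.coe_le_coe.1 h5) (by norm_num)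

theorem depth_quot_H (t : A) [IsLocalRing (A ⧸ Ideal.span {t})] {k : ℕ}
    (hb : (k : ℕ∞) ≤ LocCoh.depth (A ⧸ Ideal.span {t}) (A ⧸ Ideal.span {t})) :
    ∀ i < k, Subsingleton (LocCoh.H (maximalIdeal A) i (A ⧸ Ideal.span {t})) := by
  refine (Groth.L04.LC.le_idealDepth_iff_H _ _ k).1 ?_
  have hm : (maximalIdeal A).map (algebraMap A (A ⧸ Ideal.span {t})) = maximalIdeal (A ⧸ Ideal.span {t}) :=
    IsLocalRing.map_maximalIdeal_of_surjective _ Ideal.Quotient.mk_surjective
  rw [Groth.L04.idealDepth_eq_idealDepth_map_of_finite (B := A ⧸ Ideal.span {t}) (maximalIdeal A), hm]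
  exact hb

/-- An invertible module on the punctured spectrum which is trivial on the hyperplane section is trivial. -/
theorem nonempty_iso_of_trivial {R : Type u} [CommRing R] [IsRegularLocalRing R] (π : R →+* A)
    (hπ : Function.Surjective π) (t : A) (ht : t ∈ maximalIdeal A) (hnzd : t ∈ nonZeroDivisors A)
    [IsAdicComplete (Ideal.span {t}) A]
    (ha : ∀ p : PrimeSpectrum A, ringKrullDim (A ⧸ p.asIdeal) = 1 →
      (2 : ℕ∞) ≤ LocCoh.depth (Localization.AtPrime p.asIdeal) (Localization.AtPrime p.asIdeal))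
    [IsLocalRing (A ⧸ Ideal.span {t})]
    (hb : (3 : ℕ∞) ≤ LocCoh.depth (A ⧸ Ideal.span {t}) (A ⧸ Ideal.span {t}))
    (L : (FEt.puncturedSpec A : Scheme.{u}).Modules) (hL : PicF.IsInvertible L)
    (φ : (Scheme.Modules.pullback (Formal2.specQuotMap A t ∣_ FEt.puncturedSpec A)).obj L ≅
      Coh.structureModule _) :
    Nonempty (L ≅ Coh.structureModule (FEt.puncturedSpec A : Scheme.{u})) := by
  let U := FEt.puncturedSpec A
  let X : Scheme.{u} := U
  let II : Ideal A := Ideal.span {t}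
  haveI : IsRegularRing R := { isRegularLocalRing_localization := fun p _ => Groth.Agent.S0564.result R p }
  haveI : IsLocallyNoetherian X := LocallyOfFiniteType.isLocallyNoetherian U.ι
  have hLc : Coh.IsCoh L := ProperFinite.isCoh_of_isInvertible hL
  have hmono := mono_smulMod t U hnzd hL
  -- closed points
  have hdepth : ∀ x : X, IsClosed ({x} : Set X) →
      ((1 + 1 : ℕ) : ℕ∞) ≤ LocCoh.depth (X.presheaf.stalk x) (L.presheaf.stalk x) := by
    intro x hx
    rw [depth_stalk U hL x]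
    refine ha _ ?_
    have hmax : ∀ r : PrimeSpectrum A, (U.ι x).asIdeal ≤ r.asIdeal →
        r.asIdeal = (U.ι x).asIdeal ∨ r.asIdeal = maximalIdeal A := by
      intro r hr
      by_cases hrm : r.asIdeal = maximalIdeal A
      · exact Or.inr hrm
      · refine Or.inl ?_
        let z : X := ⟨r, fun h => hrm (congrArg PrimeSpectrum.asIdeal h)⟩
        have hs : x ⤳ z := U.ι.isOpenEmbedding.isInducing.specializes_iff.1
          ((PrimeSpectrum.le_iff_specializes (U.ι x) r).1 hr)
        have h2 : z ∈ ({x} : Set X) := hs.mem_closed hx rfl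
        exact congrArg (fun w : X => (U.ι w).asIdeal) (Set.mem_singleton_iff.1 h2)
    have hlt : (U.ι x).asIdeal < maximalIdeal A := lt_of_le_of_ne (IsLocalRing.le_maximalIdeal (U.ι x).2.ne_top)
      fun h => x.2 (PrimeSpectrum.ext h)
    let p₀ : PrimeSpectrum A := U.ι x
    have hcov : p₀ ⋖ closedPoint A := ⟨hlt, fun r hr hr' => by
      rcases hmax r (show p₀.asIdeal ≤ r.asIdeal from hr.le) with h | h
      · exact hr.ne (PrimeSpectrum.ext h).symm
      · exact hr'.ne (PrimeSpectrum.ext h)⟩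
    have hh := (Groth.L04.LC.height_quot_eq_one_iff_covBy hlt.le).2 hcov
    haveI := (IsLocalRing.of_surjective' (Ideal.Quotient.mk (U.ι x).asIdeal) Ideal.Quotient.mk_surjective :
      IsLocalRing (A ⧸ (U.ι x).asIdeal))
    rw [← IsLocalRing.maximalIdeal_height_eq_ringKrullDim,
      ← IsLocalRing.map_maximalIdeal_of_surjective _ Ideal.Quotient.mk_surjective]
    exact congrArg _ hh
  -- the reduction has no first cohomology
  have hH1 : Subsingleton (Coh.HH X (Formal.modPow II 1 L) 1) := by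
    haveI : IsClosedImmersion (Formal2.specQuotMap A t) :=
      IsClosedImmersion.spec_of_surjective _ Ideal.Quotient.mk_surjective
    let P : Scheme.{u} := Formal2.specQuotMap A t ⁻¹ᵁ U
    let ι : P ⟶ X := Formal2.specQuotMap A t ∣_ U
    letI : P.Over (Spec (CommRingCat.of A)) := ⟨ι ≫ U.ι⟩
    haveI : IsClosedImmersion ι := inferInstanceAs (IsClosedImmersion (Formal2.specQuotMap A t ∣_ U))
    let q₀ : A ⧸ II ^ (0 + 1) ≃+* A ⧸ II := Ideal.quotEquivOfEq (by rw [zero_add, pow_one])
    let ξ : Spec (CommRingCat.of (A ⧸ II)) ≅ Spec (CommRingCat.of (A ⧸ II ^ (0 + 1))) :=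
      Scheme.Spec.mapIso q₀.toCommRingCatIso.op
    have hξ : ξ.hom ≫ CohB1.specQuot II 0 = Formal2.specQuotMap A t := by
      show Spec.map _ ≫ Spec.map _ = Spec.map _
      rw [← Spec.map_comp]
      congr 1
    have hP : IsPullback ι ((Formal2.specQuotMap A t ⁻¹ᵁ U).ι ≫ ξ.hom) U.ι (CohB1.specQuot II 0) :=
      (isPullback_morphismRestrict (Formal2.specQuotMap A t) U).of_iso (Iso.refl _) (Iso.refl _) ξ (Iso.refl _)
        (by simp [ι]) (by simp) (by simp) (by simp [hξ])
    obtain ⟨q, -⟩ := Groth.L16.Exist.Adic.exists_modPow_iso_unit (I := II) (k := 0) (f := ι)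
      hP (by rw [← hP.w]; rfl) hLc
    obtain ⟨q', -⟩ := Groth.L16.Exist.Adic.exists_modPow_iso_unit (I := II) (k := 0) (f := ι)
      hP (by rw [← hP.w]; rfl)
      (ProperFinite.isCoh_of_isInvertible (Groth.L18.Ample.isInvertible_structureModule X))
    let e : Formal.modPow II 1 L ≅ Formal.modPow II 1 (Coh.structureModule X) :=
      q ≪≫ (Coh.push ι).mapIso (φ ≪≫ (Groth.L29.LocFree.pullbackUnitIso ι).symm) ≪≫ q'.symm
    have h0 := subsingleton_HH_modPow t (maximalIdeal A) U puncturedSpec_eq 0 (depth_quot_H t (k := 3) hb 2 (by norm_num))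
    exact @Equiv.subsingleton _ _
      ((SheafOfModules.toSheaf _ ⋙ Sheaf.functorH _ 1).mapIso e).addCommGroupIsoToAddEquiv.toEquiv h0
  -- so `t` is surjective on the first cohomology, which therefore vanishes
  have hHL : Subsingleton (Coh.HH X L 1) := by
    have hsur : ∀ w : Coh.HH X L 1, ∃ v : Coh.HH X L 1, w = t • v := fun w => by
      obtain ⟨v, hv⟩ := (CohLinear.exact_hmap_hmap (Groth.L29.FormalReg.seq_shortExact L t hmono 1) 1 w).1
        (@Subsingleton.elim _ hH1 _ _)
      refine ⟨v, hv.symm.trans ((Groth.L16.Rees.hmap_smulMod A L _ 1 v).trans ?_)⟩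
      rw [pow_one]
    have hinj := (Groth.Agent.S3372.result R A π hπ t ht L hLc hmono 1 hdepth 1).2 rfl
    refine subsingleton_of_forall_eq 0 fun w => hinj ?_
    rw [map_zero]
    refine Subtype.ext (funext fun n => ?_)
    have hpow : ∀ (k : ℕ) (w : Coh.HH X L 1), ∃ v : Coh.HH X L 1, w = t ^ k • v := by
      intro k
      induction k with
      | zero => exact fun w => ⟨w, by rw [pow_zero, one_smul]⟩
      | succ k ih =>
        intro w
        obtain ⟨v, hv⟩ := ih w
        obtain ⟨v', hv'⟩ := hsur v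
        exact ⟨v', by rw [hv, hv', smul_smul, pow_succ]⟩
    obtain ⟨v, rfl⟩ := hpow (n + 1) w
    exact Groth.L16.Rees.smul_mem_ker II L (Groth.L29.FormalReg.pow_mem_span t (n + 1)) v
  -- the lifted section is a frame
  obtain ⟨z, hz⟩ := exists_section t U hnzd hL φ hHL
  let s := Groth.L16.homOfSection L z
  have htop := isFrame_top t ht ha hL s hz
  have hfr := Groth.L18.GenLoc.isFrame_genLocus s
  rw [htop] at hfr
  haveI : IsIso s := by
    rw [Scheme.Modules.Hom.isIso_iff_isIso_app]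
    intro V
    refine (ConcreteCategory.isIso_iff_bijective _).2 ?_
    have := hfr V le_top
    rw [show (fun a : Γ(X, V) => a • rs L le_top (rs L le_top (Groth.L18.GenLoc.secOf s))) = s.app V from
      funext fun a => by rw [rs_rs]; exact (Groth.L18.GenLoc.app_eq s V a).symm] at this
    exact this
  exact ⟨(asIso s).symm⟩

theorem two_le_depth (t : A) (ht : t ∈ maximalIdeal A) (hreg : IsSMulRegular A t)
    [IsLocalRing (A ⧸ Ideal.span {t})]
    (hb : (2 : ℕ∞) ≤ LocCoh.depth (A ⧸ Ideal.span {t}) (A ⧸ Ideal.span {t})) :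
    (2 : ℕ∞) ≤ LocCoh.depth A A := by
  obtain ⟨-, h⟩ := Groth.L06.QuotRegular.dim_depth_succ A ht hreg
  rw [← h]
  exact hb.trans le_self_add

/-- A local ring of depth at least two is parafactorial once its punctured spectrum has trivial Picard group. -/
theorem isParafactorial_of_picTrivial (hdepth : (2 : ℕ∞) ≤ LocCoh.depth A A)
    (hpic : Formal2.PicTrivial (FEt.puncturedSpec A : Scheme.{u})) :
    ParaF.IsParafactorialLocalRing A := by
  refine (Groth.Agent.S2824.result A).2 ⟨?_, hpic⟩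
  let R := CommRingCat.of A
  let U := FEt.puncturedSpec A
  have hb : Groth.L14.ParaF.Bij (Coh.structureModule (Spec R)) ⊤ U := by
    refine ⟨le_top, ?_⟩
    haveI := Groth.Agent.S0291.result A A (fun m hm => ?_)
    · have he : Spec.map (CommRingCat.ofHom (algebraMap A A)) ⁻¹ᵁ U = U := by
        rw [Algebra.algebraMap_self]
        erw [Spec.map_id]
        rfl
      have h2 := CategoryTheory.ConcreteCategory.bijective_of_isIso ((Spec R).presheaf.map (CategoryTheory.homOfLE (le_top :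
        Spec.map (CommRingCat.ofHom (algebraMap A A)) ⁻¹ᵁ U ≤ ⊤)).op)
      exact (Groth.L14.ParaF.Bij.congr (M := Coh.structureModule (Spec R)) ⟨le_top, h2⟩ rfl he).2
    · obtain rfl := IsLocalRing.eq_maximalIdeal hm
      have e : A ≃+* Localization.AtPrime (IsLocalRing.maximalIdeal A) :=
        (IsLocalization.atUnits A (IsLocalRing.maximalIdeal A).primeCompl
          (fun a ha => IsLocalRing.notMem_maximalIdeal.1 ha)).toRingEquiv
      exact hdepth.trans (Groth.L06.FlatFibre.depth_eq_of_ringEquiv e).ge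
  exact hb.2

theorem preimage_quot (t : A) [IsLocalRing (A ⧸ Ideal.span {t})] :
    Formal2.specQuotMap A t ⁻¹ᵁ FEt.puncturedSpec A = FEt.puncturedSpec (A ⧸ Ideal.span {t}) := by
  refine Groth.L18.LocPic.preimage_punctured _ (fun P hP => ?_)
    (Groth.L18.LocPic.comap_maximal_of_surjective _ Ideal.Quotient.mk_surjective)
  rw [← Ideal.map_comap_of_surjective _ Ideal.Quotient.mk_surjective P.asIdeal, hP,
    IsLocalRing.map_maximalIdeal_of_surjective _ Ideal.Quotient.mk_surjective]

end Local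

end Groth.L18.ParaFPic
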