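import Groth.Agent.L18.LefFormal
import Groth.Agent.L18.ParaFPic
import Groth.Agent.L06.FEtLef.QAffine
import Groth.Agent.S3372

/-!
# The Lefschetz condition on a punctured spectrum
-/

set_option autoImplicit false
set_option linter.style.haveILetI false
set_option linter.unusedSectionVars false
set_option backward.isDefEq.respectTransparency.types false
set_option backward.isDefEq.respectTransparency false
universe u

open CategoryTheory CategoryTheory.Limits AlgebraicGeometry Opposite TopologicalSpace
open IsLocalRing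

noncomputable section

namespace Groth.L18.LefPunct

variable {A : Type u} [CommRing A] [IsNoetherianRing A] [IsLocalRing A]

theorem ringKrullDim_eq_one (r : PrimeSpectrum A) (hr : r.asIdeal ≠ maximalIdeal A)
    (h : ∀ q : PrimeSpectrum A, r ≤ q → q = r ∨ q = closedPoint A) : ringKrullDim (A ⧸ r.asIdeal) = 1 := by
  let m : PrimeSpectrum A := closedPoint A
  have hrm : r ≤ m := IsLocalRing.le_maximalIdeal r.2.ne_top
  rw [ringKrullDim_quotient]
  refine le_antisymm (Order.krullDim_le_one_iff.2 fun q => ?_) (Order.one_le_krullDim_iff.2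
    ⟨⟨r, fun a ha => ha⟩, ⟨m, fun a ha => hrm ha⟩, lt_of_le_of_ne hrm fun e => hr ?_⟩)
  · rcases h q.1 q.2 with hq | hq
    · exact Or.inl fun s _ => (show q.1 ≤ s.1 from hq.trans_le s.2)
    · exact Or.inr fun s _ => (show s.1 ≤ q.1 from fun a ha => by
        rw [hq]
        exact IsLocalRing.le_maximalIdeal s.1.2.ne_top ha)
  · exact congrArg (fun s : PrimeSpectrum A => s.asIdeal) (show r = m from congrArg Subtype.val e)

variable (t : A) (U : (FEt.puncturedSpec A : Scheme.{u}).Opens)

/-- The points off a neighbourhood of the hyperplane section are closed. -/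
theorem ringKrullDim_of_notMem (ht : t ∈ maximalIdeal A)
    (hU : ∀ x : (FEt.puncturedSpec A : Scheme.{u}), t ∈ ((FEt.puncturedSpec A).ι x).asIdeal → x ∈ U)
    (x : (FEt.puncturedSpec A : Scheme.{u})) (hx : x ∉ U) :
    ringKrullDim (A ⧸ ((FEt.puncturedSpec A).ι x).asIdeal) = 1 := by
  let V := FEt.puncturedSpec A
  refine ringKrullDim_eq_one (V.ι x) (fun h => x.2 (PrimeSpectrum.ext h)) fun q hq => ?_
  refine (Groth.L18.LocPic.eq_or_eq_of_isMinimal t (fun h => hx (hU x h)) hq
    (IsLocalRing.le_maximalIdeal q.2.ne_top) ht fun v hv hxv _ htv => ?_).imp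
    (fun h => PrimeSpectrum.ext h) (fun h => PrimeSpectrum.ext h)
  by_contra hne
  have hvV : (⟨v, hv⟩ : PrimeSpectrum A) ∈ V := fun h => hne (congrArg PrimeSpectrum.asIdeal h)
  let z : (V : Scheme.{u}) := ⟨⟨v, hv⟩, hvV⟩
  have hs : x ⤳ z := V.ι.isOpenEmbedding.isInducing.specializes_iff.1
    ((PrimeSpectrum.le_iff_specializes (V.ι x) (V.ι z)).1 hxv)
  exact hx (hs.mem_open U.2 (hU z htv))

/-- A closed point of the punctured spectrum has one dimensional closure. -/
theorem ringKrullDim_of_isClosed (x : (FEt.puncturedSpec A : Scheme.{u}))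
    (hx : IsClosed ({x} : Set (FEt.puncturedSpec A : Scheme.{u}))) :
    ringKrullDim (A ⧸ ((FEt.puncturedSpec A).ι x).asIdeal) = 1 := by
  let V := FEt.puncturedSpec A
  refine ringKrullDim_eq_one (V.ι x) (fun h => x.2 (PrimeSpectrum.ext h)) fun q hq => ?_
  by_cases hqm : q = closedPoint A
  · exact Or.inr hqm
  · let z : (V : Scheme.{u}) := ⟨q, hqm⟩
    have hs : x ⤳ z := V.ι.isOpenEmbedding.isInducing.specializes_iff.1
      ((PrimeSpectrum.le_iff_specializes (V.ι x) (V.ι z)).1 hq)
    have hz := hs.mem_closure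
    rw [hx.closure_eq] at hz
    exact Or.inl (congrArg Subtype.val (show z = x from hz))

theorem mem_support (x : (FEt.puncturedSpec A : Scheme.{u})) :
    x ∈ ((Spec.map (CommRingCat.ofHom (Ideal.Quotient.mk (Ideal.span {t})))).ker.comap
      (FEt.puncturedSpec A).ι).support ↔ t ∈ ((FEt.puncturedSpec A).ι x).asIdeal := by
  rw [← SetLike.mem_coe, Scheme.IdealSheafData.support_comap]
  show ((FEt.puncturedSpec A).ι x : Spec (CommRingCat.of A)) ∈
    ((Spec.map (CommRingCat.ofHom (Ideal.Quotient.mk (Ideal.span {t})))).ker.support : Set (Spec (CommRingCat.of A))) ↔ _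
  rw [Scheme.Hom.support_ker,
    show Set.range (Spec.map (CommRingCat.ofHom (Ideal.Quotient.mk (Ideal.span {t})))) =
      Set.range (PrimeSpectrum.comap (Ideal.Quotient.mk (Ideal.span {t}))) from rfl,
    range_comap_of_surjective _ _ Ideal.Quotient.mk_surjective, Ideal.mk_ker]
  erw [(PrimeSpectrum.isClosed_zeroLocus _).closure_eq]
  exact Ideal.span_singleton_le_iff_mem _

/-- Sections on the punctured spectrum extend over closed points of depth two. -/
theorem bijective_res (W : (Spec (CommRingCat.of A)).Opens) (hW : W ≤ FEt.puncturedSpec A)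
    (hd : ∀ r : PrimeSpectrum A, r ∈ FEt.puncturedSpec A → r ∉ W →
      (2 : ℕ∞) ≤ LocCoh.depth (Localization.AtPrime r.asIdeal) (Localization.AtPrime r.asIdeal)) :
    Function.Bijective ((Spec (CommRingCat.of A)).presheaf.map (homOfLE hW).op) := by
  refine Groth.L29.DepthExtend.bijective_res hW A fun r hr hrW => ?_
  let e : Localization.AtPrime r.asIdeal ≃ₗ[Localization.AtPrime r.asIdeal] LocalizedModule r.asIdeal.primeCompl A :=
    (IsLocalizedModule.iso r.asIdeal.primeCompl
      (Algebra.linearMap A (Localization.AtPrime r.asIdeal))).symm.extendScalarsOfIsLocalization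
        r.asIdeal.primeCompl (Localization.AtPrime r.asIdeal)
  rw [LocCoh.depth, ← Groth.L04.idealDepth_congr e]
  exact hd r hr hrW

/-- The Lefschetz condition on the punctured spectrum. -/
theorem lefCond {R : Type u} [CommRing R] [IsRegularRing R] (π : R →+* A) (hπ : Function.Surjective π)
    (ht : t ∈ maximalIdeal A) (hreg : IsSMulRegular A t) [IsAdicComplete (Ideal.span {t}) A]
    (hd : ∀ p : PrimeSpectrum A, ringKrullDim (A ⧸ p.asIdeal) = 1 →
      (2 : ℕ∞) ≤ LocCoh.depth (Localization.AtPrime p.asIdeal) (Localization.AtPrime p.asIdeal)) :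
    Lef.LefCond (↑(FEt.puncturedSpec A) : Scheme.{u})
      ((Spec.map (CommRingCat.ofHom (Ideal.Quotient.mk (Ideal.span {t})))).ker.comap (FEt.puncturedSpec A).ι) := by
  intro U hU D hD
  let V := FEt.puncturedSpec A
  haveI : AlgebraicGeometry.IsNoetherian (Spec (CommRingCat.of A)) := inferInstance
  haveI : IsLocallyNoetherian (V : Scheme.{u}) := isLocallyNoetherian_of_isOpenImmersion V.ι
  haveI : IsLocallyNoetherian (U : Scheme.{u}) := isLocallyNoetherian_of_isOpenImmersion U.ι
  haveI : NoetherianSpace ↥(V : Scheme.{u}) := V.ι.isOpenEmbedding.isInducing.noetherianSpace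
  haveI : CompactSpace ↥(U : Scheme.{u}) := isCompact_iff_compactSpace.1 (NoetherianSpace.isCompact _)
  haveI : AlgebraicGeometry.IsNoetherian (U : Scheme.{u}) := { }
  haveI : (U : Scheme.{u}).IsQuasiAffine := Scheme.IsQuasiAffine.of_isImmersion (U.ι ≫ V.ι)
  refine Groth.L06.FEtLef.homToFormalBijective_quasiAffine _
    (Groth.L18.LefFormal.homToFormalBijective_structure
      (Groth.L18.LefFormal.secFormal_restrict _ U hU ?_ (Groth.L18.LefFormal.secFormal_of_toHHlim _ V ?_))) hD
  · -- extension over the points off the neighbourhood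
    have hWV : V.ι ''ᵁ U ≤ V := fun y ⟨z, _, hz⟩ => hz ▸ z.2
    have h := bijective_res (V.ι ''ᵁ U) hWV fun r hr hrW => hd r <| by
      have := ringKrullDim_of_notMem t U ht (fun x hx => hU ((mem_support t x).2 hx)) ⟨r, hr⟩
        (fun hx => hrW ⟨⟨r, hr⟩, hx, rfl⟩)
      exact this
    show Function.Bijective (U.ι.app ⊤)
    rw [Scheme.Opens.ι_app]
    show Function.Bijective ((Spec (CommRingCat.of A)).presheaf.map (homOfLE _).op)
    have key : ∀ {a b : (Spec (CommRingCat.of A)).Opens}, a = V → b = V.ι ''ᵁ U → ∀ hab : b ≤ a,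
        Function.Bijective ((Spec (CommRingCat.of A)).presheaf.map (homOfLE hab).op) := by
      intro a b ha hb hab
      subst ha hb
      exact h
    exact key V.ι_image_top (congrArg (V.ι ''ᵁ ·) (by rw [Scheme.Hom.preimage_top, U.ι_image_top])) _
  · have hnzd : t ∈ nonZeroDivisors A :=
      mem_nonZeroDivisors_iff_right.2 fun z hz => hreg (by simpa [mul_comm] using hz : t • z = t • 0)
    have hO : PicF.IsInvertible (Coh.structureModule (V : Scheme.{u})) := Groth.L18.Ample.isInvertible_structureModule _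
    exact (Groth.Agent.S3372.result R A π hπ t ht (Coh.structureModule (V : Scheme.{u}))
      (Groth.L16.Rees.RelVanish.isCoh_structureModule _) (Groth.L18.ParaFPic.mono_smulMod t V hnzd hO) 1
      (fun x hx => by
        rw [Groth.L18.ParaFPic.depth_stalk V hO x]
        exact hd _ (ringKrullDim_of_isClosed x hx)) 0).1 Nat.zero_lt_one

end Groth.L18.LefPunct
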