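import Groth.Prelude.Def_EGA4b
import Mathlib.RingTheory.Flat.Basic

/-!
# Normal flatness from the graded pieces of the powers of an ideal
-/

set_option autoImplicit false
universe u

namespace Groth.L18.NormFlatGr

theorem isNormallyFlat_of_flat {A : Type u} [CommRing A] (J : Ideal A)
    (h : ∀ n : ℕ, Module.Flat (A ⧸ J) (↥(J ^ n) ⧸ (J • (⊤ : Submodule A ↥(J ^ n))))) :
    EGA4.IsNormallyFlat J A := by
  intro n
  let P : Submodule A A := J ^ n • (⊤ : Submodule A A)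
  let e : ↥P ≃ₗ[A] ↥(J ^ n) := LinearEquiv.ofEq _ _ (show J ^ n • (⊤ : Submodule A A) = J ^ n by rw [Ideal.smul_eq_mul, Ideal.mul_top])
  have he : (J • (⊤ : Submodule A ↥P)).map (e : ↥P →ₗ[A] ↥(J ^ n)) = J • (⊤ : Submodule A ↥(J ^ n)) := by
    rw [Submodule.map_smul'', Submodule.map_top, LinearEquiv.range]
  let e' : (↥P ⧸ (J • (⊤ : Submodule A ↥P))) ≃ₗ[A] (↥(J ^ n) ⧸ (J • (⊤ : Submodule A ↥(J ^ n)))) :=
    Submodule.Quotient.equiv _ _ e he
  haveI := h n
  exact Module.Flat.of_linearEquiv (e'.extendScalarsOfSurjective Ideal.Quotient.mk_surjective)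

end Groth.L18.NormFlatGr
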