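import Groth.Agent.L18.AlgebraizeH2
import Groth.Agent.L18.LefConnected
import Groth.Agent.L17.ThickBasic
import Groth.Agent.L16.Exist.AlgComplete
import Groth.Agent.L16.Exist.AlgClosed
import Groth.Agent.L16.HomSh.FullyFaithful
import Groth.Agent.L16.NegPow.Gen
import Groth.Agent.L16.Rees.RelVanish
import Groth.Agent.L29.Formal.DepthExtend

/-!
# Compatible functions on thickenings and the Lefschetz condition
-/

set_option autoImplicit false
set_option linter.style.haveILetI false
set_option linter.unusedSectionVars false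
set_option backward.isDefEq.respectTransparency.types false
set_option backward.isDefEq.respectTransparency false
universe u

open CategoryTheory CategoryTheory.Limits AlgebraicGeometry Opposite TopologicalSpace
open Groth.L18.GenLoc (secOf homOfSection_secOf secOf_homOfSection)

noncomputable section

namespace Groth.L18.LefFormal

variable {X : Scheme.{u}}

/-- Functions are the compatible systems of functions on the thickenings. -/
def SecFormal (𝓙 : X.IdealSheafData) : Prop :=
  (∀ s : Γ(X, ⊤), (∀ n : ℕ, (𝓙 ^ (n + 1)).subschemeι.appTop s = 0) → s = 0) ∧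
    ∀ s : ∀ n : ℕ, Γ((𝓙 ^ (n + 1)).subscheme, ⊤),
      (∀ n : ℕ, (Scheme.IdealSheafData.inclusion (Lef.pow_succ_le 𝓙 n)).appTop (s (n + 1)) = s n) →
        ∃ a : Γ(X, ⊤), ∀ n : ℕ, (𝓙 ^ (n + 1)).subschemeι.appTop a = s n

theorem push_unitToPush_top {Z W X : Scheme.{u}} (f : Z ⟶ W) (g : W ⟶ X) (h : Z ⟶ X) (hh : f ≫ g = h)
    (y : Γ(W, g ⁻¹ᵁ ⊤)) :
    (show Γ(Z, h ⁻¹ᵁ ⊤) from ((Scheme.Modules.pushforward g).map (ClSub.unitToPush f) ≫
      (Scheme.Modules.pushforwardComp f g).hom.app _ ≫ (Scheme.Modules.pushforwardCongr hh).hom.app _).app ⊤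
        (show Γ((Coh.push g).obj (Coh.structureModule W), ⊤) from y)) = f.appTop y := by
  subst hh
  show ((Coh.structureModule Z).presheaf.map (eqToHom rfl).op) (f.app (g ⁻¹ᵁ ⊤) y) = f.appTop y
  rw [eqToHom_refl, op_id, CategoryTheory.Functor.map_id]
  rfl

theorem quotMap_top {I J : X.IdealSheafData} (h : I ≤ J) (y : Γ(I.subscheme, ⊤)) :
    (show Γ(J.subscheme, ⊤) from (Lef.quotMap h).app ⊤ (show Γ(ClSub.quotMod I, ⊤) from y)) =
      (Scheme.IdealSheafData.inclusion h).appTop y :=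
  push_unitToPush_top (Scheme.IdealSheafData.inclusion h) I.subschemeι J.subschemeι
    (Scheme.IdealSheafData.inclusion_subschemeι h) y

theorem homToFormalBijective_structure {𝓙 : X.IdealSheafData} (h : SecFormal 𝓙) :
    Lef.HomToFormalBijective 𝓙 (Coh.structureModule X) := by
  have hsec : ∀ (n : ℕ) (φ : Coh.structureModule X ⟶ Coh.structureModule X),
      secOf (φ ≫ ClSub.toSubscheme (𝓙 ^ (n + 1))) = (𝓙 ^ (n + 1)).subschemeι.appTop (secOf φ) := fun n φ => rfl
  refine ⟨fun φ ψ hφψ => Groth.L18.LefConnected.hom_ext_secOf (sub_eq_zero.1 (h.1 _ fun n => ?_)), fun y hy => ?_⟩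
  · rw [map_sub, sub_eq_zero, ← hsec, ← hsec, hφψ]
  · obtain ⟨a, ha⟩ := h.2 (fun n => show Γ((𝓙 ^ (n + 1)).subscheme, ⊤) from secOf (y n)) fun n => by
      exact (quotMap_top (Lef.pow_succ_le 𝓙 n) (show Γ((𝓙 ^ (n + 1 + 1)).subscheme, ⊤) from secOf (y (n + 1)))).symm.trans
        (congrArg (fun φ : Coh.structureModule X ⟶ ClSub.quotMod (𝓙 ^ (n + 1)) => (show Γ((𝓙 ^ (n + 1)).subscheme, ⊤) from secOf φ)) (hy n))
    let σ : Γ(Coh.structureModule X, ⊤) := a
    have hσ : ∀ n, secOf (Groth.L16.homOfSection (Coh.structureModule X) σ ≫ ClSub.toSubscheme (𝓙 ^ (n + 1))) = secOf (y n) := by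
      intro n
      rw [hsec, secOf_homOfSection]
      exact ha n
    exact ⟨Groth.L16.homOfSection (Coh.structureModule X) σ, fun n => Groth.L18.LefConnected.hom_ext_secOf (hσ n)⟩

/-- Compatible functions near the special locus. -/
theorem secFormal_restrict {X : Scheme.{u}} (𝓙 : X.IdealSheafData) (U : X.Opens)
    (hU : (𝓙.support : Set X) ⊆ (U : Set X)) (hres : Function.Bijective U.ι.appTop) (h : SecFormal 𝓙) :
    SecFormal (𝓙.comap U.ι) := by
  have key : ∀ n : ℕ, ∃ τ : ((𝓙.comap U.ι) ^ (n + 1)).subscheme ≅ (𝓙 ^ (n + 1)).subscheme,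
      τ.hom ≫ (𝓙 ^ (n + 1)).subschemeι = ((𝓙.comap U.ι) ^ (n + 1)).subschemeι ≫ U.ι := by
    intro n
    let i := (𝓙 ^ (n + 1)).subschemeι
    have hr : Set.range i ⊆ Set.range U.ι := by
      rw [Scheme.Opens.range_ι, Groth.L18.LefConnected.range_pow]
      exact hU
    let l : (𝓙 ^ (n + 1)).subscheme ⟶ (U : Scheme.{u}) := IsOpenImmersion.lift U.ι i hr
    have hl : l ≫ U.ι = i := IsOpenImmersion.lift_fac _ _ _
    have sq : IsPullback l (𝟙 _) U.ι i :=
      IsPullback.of_isLimit' ⟨by rw [hl, Category.id_comp]⟩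
        (PullbackCone.IsLimit.mk _ (fun t => t.snd)
          (fun t => by rw [← cancel_mono U.ι, Category.assoc, hl]; exact t.condition.symm)
          (fun t => Category.comp_id _) (fun t m _ hm => by rw [Category.comp_id] at hm; exact hm))
    haveI : IsClosedImmersion l := by
      haveI : IsClosedImmersion (pullback.fst U.ι i) := inferInstance
      rw [← sq.isoPullback_hom_fst]
      infer_instance
    have hk : l.ker = (((𝓙.comap U.ι) ^ (n + 1)).subschemeι).ker := by
      rw [Scheme.IdealSheafData.ker_subschemeι, ← Groth.L17.Thick.comap_pow, ← sq.isoPullback_hom_fst,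
        Scheme.Hom.ker_comp_of_isIso, Scheme.IdealSheafData.ker_fst_of_isClosedImmersion,
        Scheme.IdealSheafData.ker_subschemeι]
    haveI := IsClosedImmersion.isIso_lift _ _ hk
    refine ⟨asIso (IsClosedImmersion.lift l ((𝓙.comap U.ι) ^ (n + 1)).subschemeι hk.le), ?_⟩
    rw [asIso_hom, show (𝓙 ^ (n + 1)).subschemeι = i from rfl, ← hl, ← Category.assoc, IsClosedImmersion.lift_fac]
  choose τ hτ using key
  have hnat : ∀ n, Scheme.IdealSheafData.inclusion (Lef.pow_succ_le (𝓙.comap U.ι) n) ≫ (τ (n + 1)).hom =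
      (τ n).hom ≫ Scheme.IdealSheafData.inclusion (Lef.pow_succ_le 𝓙 n) := by
    intro n
    rw [← cancel_mono (𝓙 ^ (n + 1 + 1)).subschemeι, Category.assoc, Category.assoc, hτ,
      Scheme.IdealSheafData.inclusion_subschemeι, hτ, Scheme.IdealSheafData.inclusion_subschemeι_assoc]
  have hb : ∀ n, Function.Bijective (τ n).hom.appTop := fun n => ConcreteCategory.bijective_of_isIso _
  have hcomm : ∀ n (s : Γ(X, ⊤)), ((𝓙.comap U.ι) ^ (n + 1)).subschemeι.appTop (U.ι.appTop s) =
      (τ n).hom.appTop ((𝓙 ^ (n + 1)).subschemeι.appTop s) := fun n s => by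
    rw [← ConcreteCategory.comp_apply, ← ConcreteCategory.comp_apply, ← Scheme.Hom.comp_appTop,
      ← Scheme.Hom.comp_appTop, hτ]
  refine ⟨fun s hs => ?_, fun s hs => ?_⟩
  · obtain ⟨s, rfl⟩ := hres.2 s
    rw [h.1 s fun n => (hb n).1 ((hcomm n s).symm.trans ((hs n).trans (map_zero _).symm)), map_zero]
  · choose z hz using fun n => (hb n).2 (s n)
    obtain ⟨a, ha⟩ := h.2 z fun n => (hb n).1 (by
      rw [hz, ← hs n, ← hz (n + 1), ← ConcreteCategory.comp_apply, ← ConcreteCategory.comp_apply,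
        ← Scheme.Hom.comp_appTop, ← Scheme.Hom.comp_appTop, hnat])
    exact ⟨U.ι.appTop a, fun n => by rw [hcomm, ha, hz]⟩

variable {A : Type u} [CommRing A] [IsNoetherianRing A]

/-- Formal functions on an open of an affine scheme, on the thickenings. -/
theorem secFormal_of_toHHlim (J : Ideal A) (U : (Spec (CommRingCat.of A)).Opens)
    (h : Function.Bijective (Formal.toHHlim J (Coh.structureModule (U : Scheme.{u})) 0)) :
    SecFormal ((Spec.map (CommRingCat.ofHom (Ideal.Quotient.mk J))).ker.comap U.ι) := by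
  haveI : AlgebraicGeometry.IsNoetherian (Spec (CommRingCat.of A)) := inferInstance
  let X : Scheme.{u} := U
  let 𝓙 : X.IdealSheafData := (Spec.map (CommRingCat.ofHom (Ideal.Quotient.mk J))).ker.comap U.ι
  let O := Coh.structureModule X
  haveI : IsLocallyNoetherian X := isLocallyNoetherian_of_isOpenImmersion U.ι
  have hO : Coh.IsCoh O := Groth.L16.Rees.RelVanish.isCoh_structureModule X
  -- the reductions are the thickenings
  have key : ∀ m : ℕ, ∃ q : Formal.modPow J (m + 1) O ≅ ClSub.quotMod (𝓙 ^ (m + 1)),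
      Formal.modPowπ J (m + 1) O ≫ q.hom = ClSub.toSubscheme (𝓙 ^ (m + 1)) := by
    intro m
    let S := CohB1.specQuot J m
    haveI : IsClosedImmersion S := IsClosedImmersion.spec_of_surjective _ Ideal.Quotient.mk_surjective
    let i := (𝓙 ^ (m + 1)).subschemeι
    obtain ⟨π, hπ⟩ : ∃ π : (𝓙 ^ (m + 1)).subscheme ⟶ Spec (CommRingCat.of (A ⧸ J ^ (m + 1))),
        IsPullback i π U.ι S := by
      have hk : (pullback.fst U.ι S).ker = i.ker := by
        rw [Scheme.IdealSheafData.ker_fst_of_isClosedImmersion]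
        refine Eq.trans ?_ (Scheme.IdealSheafData.ker_subschemeι (𝓙 ^ (m + 1))).symm
        rw [← Groth.L17.Thick.comap_pow]
        exact congrArg (fun I : Scheme.IdealSheafData _ => I.comap U.ι) (Groth.L18.AlgebraizeH2.ker_specQuot J m)
      haveI := IsClosedImmersion.isIso_lift _ _ hk
      let τ := asIso (IsClosedImmersion.lift (pullback.fst U.ι S) i hk.le)
      have hτ : τ.hom ≫ pullback.fst U.ι S = i := IsClosedImmersion.lift_fac _ _ _
      exact ⟨τ.hom ≫ pullback.snd U.ι S, (IsPullback.of_hasPullback U.ι S).of_iso τ.symm (Iso.refl _) (Iso.refl _)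
        (Iso.refl _) (by simp [← hτ]) (by simp) (by simp) (by simp)⟩
    letI : (𝓙 ^ (m + 1)).subscheme.Over (Spec (CommRingCat.of A)) := ⟨π ≫ S⟩
    obtain ⟨q, hq⟩ := Groth.L16.Exist.Adic.exists_modPow_iso_unit (I := J) (k := m) (f := i) (π := π) hπ rfl hO
    refine ⟨q ≪≫ (Coh.push i).mapIso (Groth.L29.LocFree.pullbackUnitIso i), ?_⟩
    rw [Iso.trans_hom, reassoc_of% hq]
    exact Groth.L16.Exist.Adic.unit_pullbackUnitIso i
  choose q hq using key
  have htr : ∀ n, Formal.modPowTrans J (n + 1) O ≫ (q n).hom =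
      (q (n + 1)).hom ≫ Lef.quotMap (Lef.pow_succ_le 𝓙 n) := fun n => by
    haveI := Groth.L16.Existence.epi_modPowπ J (n + 1 + 1) O
    rw [← cancel_epi (Formal.modPowπ J (n + 1 + 1) O), ← Category.assoc, Formal.modPowπ_trans, hq,
      reassoc_of% (hq (n + 1)), Groth.L18.LefConnected.toSubscheme_quotMap]
  have hsub : ∀ n (s : Γ(X, ⊤)), (show Γ((𝓙 ^ (n + 1)).subscheme, ⊤) from
      (q n).hom.app ⊤ ((Formal.modPowπ J (n + 1) O).app ⊤ (show Γ(O, ⊤) from s))) = (𝓙 ^ (n + 1)).subschemeι.appTop s := fun n s => by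
    refine Eq.trans ?_ (show (show Γ((𝓙 ^ (n + 1)).subscheme, ⊤) from (ClSub.toSubscheme (𝓙 ^ (n + 1))).app ⊤ (show Γ(O, ⊤) from s)) = _ from rfl)
    rw [← hq n]
    rfl
  let e := fun M : X.Modules => Groth.L16.HomSh.h0Equiv M
  have hqb : ∀ n, Function.Bijective ((q n).hom.app ⊤) := fun n =>
    ConcreteCategory.bijective_of_isIso (C := Ab.{u}) _
  refine ⟨fun s hs => ?_, fun s hs => ?_⟩
  · let σ : Γ(O, ⊤) := s
    have hx : ∀ n, Formal.toHHmodPow J O 0 n ((e O).symm σ) = 0 := fun n => by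
      refine (e _).injective ?_
      refine ((Groth.L16.HomSh.h0Equiv_map _ _).trans (congrArg _ ((e O).apply_symm_apply σ))).trans ?_
      refine Eq.trans ?_ (map_zero (e (Formal.modPow J (n + 1) O))).symm
      exact (hqb n).1 (((hsub n s).trans (hs n)).trans (map_zero ((q n).hom.app ⊤).hom).symm)
    have h0 : (e O).symm σ = 0 := (injective_iff_map_eq_zero _).1 h.1 _ (Subtype.ext (funext hx))
    exact (e O).symm.injective (h0.trans (map_zero _).symm)
  · choose w hw using fun n => (hqb n).2 (show Γ(ClSub.quotMod (𝓙 ^ (n + 1)), ⊤) from s n)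
    let z : ∀ n, Formal.HHmodPow J O 0 n := fun n => (e _).symm (w n)
    have hz : z ∈ Formal.HHlim J O 0 := fun n => (e _).injective (by
      refine ((Groth.L16.HomSh.h0Equiv_map _ _).trans (congrArg _ ((e _).apply_symm_apply (w (n + 1))))).trans ?_
      refine Eq.trans ?_ ((e _).apply_symm_apply (w n)).symm
      refine (hqb n).1 ?_
      have h2 : (q n).hom.app ⊤ ((Formal.modPowTrans J (n + 1) O).app ⊤ (w (n + 1))) =
          (Lef.quotMap (Lef.pow_succ_le 𝓙 n)).app ⊤ ((q (n + 1)).hom.app ⊤ (w (n + 1))) :=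
        ConcreteCategory.congr_hom (congrArg (fun φ => Scheme.Modules.Hom.app φ ⊤) (htr n)) (w (n + 1))
      refine h2.trans ?_
      rw [hw, hw]
      exact (quotMap_top _ _).trans (hs n))
    obtain ⟨x, hx⟩ := h.2 ⟨z, hz⟩
    refine ⟨e O x, fun n => ?_⟩
    have h1 : (Formal.modPowπ J (n + 1) O).app ⊤ (e O x) = w n :=
      (Groth.L16.HomSh.h0Equiv_map _ _).symm.trans
        ((congrArg (e _) (congrFun (congrArg Subtype.val hx) n)).trans (AddEquiv.apply_symm_apply _ _))
    refine (hsub n (e O x)).symm.trans ?_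
    exact (congrArg ((q n).hom.app ⊤) h1).trans (hw n)

end Groth.L18.LefFormal
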