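import Groth.Agent.L17.AffinePush
import Groth.Agent.L17.ClosedPush
import Groth.Agent.L17.ProjFormula
import Groth.Agent.L17.ComplExt.BaseCompl
import Groth.Agent.L19.ProjBdl.PullComp
import Groth.Agent.L22.Reg.ClosedQuot
import Groth.Agent.L02.Canon.DescInvertible
import Groth.Agent.L18.AmplePull
import Groth.Agent.L22.EnrSev.Basic
import Groth.Agent.L21.RR.Sections
import Groth.Agent.L21.PlaneCurve.HypSub

/-!
Restriction of invertible modules to closed subschemes: cohomology and global sections.
-/

set_option autoImplicit false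
set_option backward.isDefEq.respectTransparency false
set_option backward.isDefEq.respectTransparency.types false
set_option linter.style.haveILetI false
universe u

open CategoryTheory CategoryTheory.Limits AlgebraicGeometry TopologicalSpace Opposite

noncomputable section

namespace Groth.L18.CIProj

open Groth.L00.Tensor (tensorIso tensorUnitRight tensorRightF)
open Groth.L16.CohLinear (hmap exact_hmap_delta)
open Groth.L18.Frame (pull)
open Groth.L21.RR (twι twπ e0 e0_hmap shortExact_tw)

variable {X Y Z : Scheme.{u}}

/-- The unit of a closed immersion with invertible counit, at a direct image. -/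
theorem isIso_unit_push (f : X ⟶ Y) [IsClosedImmersion f] (M : X.Modules) :
    IsIso ((Scheme.Modules.pullbackPushforwardAdjunction f).unit.app ((Scheme.Modules.pushforward f).obj M)) := by
  let adj := Scheme.Modules.pullbackPushforwardAdjunction f
  haveI := Groth.L17.ClosedPush.isIso_counit f
  haveI : IsIso ((Scheme.Modules.pushforward f).map (adj.counit.app M)) := inferInstance
  exact IsIso.of_isIso_fac_right (adj.right_triangle_components M)

/-- The unit of an isomorphism of schemes is invertible. -/
theorem isIso_unit_of_isIso (e : X ⟶ Y) [IsIso e] (N : Y.Modules) :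
    IsIso ((Scheme.Modules.pullbackPushforwardAdjunction e).unit.app N) := by
  let adj := Scheme.Modules.pullbackPushforwardAdjunction e
  let M := (Scheme.Modules.pushforward (inv e)).obj N
  let i : (Scheme.Modules.pushforward e).obj M ≅ N :=
    (Scheme.Modules.pushforwardComp (inv e) e).app N ≪≫
      (Scheme.Modules.pushforwardCongr (IsIso.inv_hom_id e)).app N ≪≫ (Scheme.Modules.pushforwardId Y).app N
  haveI := isIso_unit_push e M
  have h := adj.unit.naturality i.hom
  haveI : IsIso ((Scheme.Modules.pullback e ⋙ Scheme.Modules.pushforward e).map i.hom) := Functor.map_isIso _ _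
  haveI : IsIso (i.hom ≫ adj.unit.app N) := by
    rw [show i.hom ≫ adj.unit.app N = adj.unit.app _ ≫ _ from h]
    exact @IsIso.comp_isIso _ _ _ _ _ _ _ (isIso_unit_push e M) inferInstance
  exact IsIso.of_isIso_comp_left i.hom _

/-- Pulling back sections along an isomorphism of schemes. -/
theorem pull_bijective_of_isIso (e : X ⟶ Y) [IsIso e] (N : Y.Modules) (V : Y.Opens) :
    Function.Bijective (pull e N V) := by
  haveI := isIso_unit_of_isIso e N
  exact ConcreteCategory.bijective_of_isIso (((Scheme.Modules.pullbackPushforwardAdjunction e).unit.app N).app V)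

theorem nonempty_HH_of_isIso (e : X ⟶ Y) [IsIso e] (N : Y.Modules) (p : ℕ) :
    Nonempty (Coh.HH X ((Scheme.Modules.pullback e).obj N) p ≃+ Coh.HH Y N p) := by
  haveI := isIso_unit_of_isIso e N
  obtain ⟨a⟩ := Groth.L17.nonempty_HH_push_of_isClosedImmersion e ((Scheme.Modules.pullback e).obj N) p
  let b := Groth.L17.BC.HHequiv (asIso ((Scheme.Modules.pullbackPushforwardAdjunction e).unit.app N)).symm p
  exact ⟨a.trans b.toAddEquiv⟩

variable (J : Y.IdealSheafData) {L : Y.Modules} (hL : PicF.IsInvertible L)

include hL in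
/-- Tensoring with the quotient is restricting. -/
theorem nonempty_quot_iso : Nonempty (CohB1.tensorMod L (ClSub.quotMod J) ≅
    (Scheme.Modules.pushforward J.subschemeι).obj ((Scheme.Modules.pullback J.subschemeι).obj L)) := by
  haveI := Groth.L17.ClosedPush.isIso_θ J.subschemeι (Coh.structureModule J.subscheme) L
  exact ⟨asIso (Groth.L17.ClosedPush.θ J.subschemeι (Coh.structureModule J.subscheme) L) ≪≫
    (Scheme.Modules.pushforward J.subschemeι).mapIso (tensorUnitRight _)⟩

include hL in
theorem subsingleton_pullback_subscheme {p : ℕ} (h : Subsingleton (Coh.HH Y L p))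
    (h' : Subsingleton (Coh.HH Y (CohB1.tensorMod L (ClSub.idealMod J)) (p + 1))) :
    Subsingleton (Coh.HH J.subscheme ((Scheme.Modules.pullback J.subschemeι).obj L) p) := by
  have hS := shortExact_tw J hL
  haveI : Subsingleton (Coh.HH Y (CohB1.tensorMod L (ClSub.quotMod J)) p) := by
    refine subsingleton_of_forall_eq 0 fun y => ?_
    obtain ⟨z, hz⟩ := (exact_hmap_delta hS p y).1 (@Subsingleton.elim _ h' _ _)
    rw [← hz, @Subsingleton.elim _ h z 0]
    exact map_zero _
  obtain ⟨e⟩ := nonempty_quot_iso J hL
  obtain ⟨a⟩ := Groth.L17.nonempty_HH_push_of_isClosedImmersion J.subschemeι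
    ((Scheme.Modules.pullback J.subschemeι).obj L) p
  let b := Groth.L17.BC.HHequiv e p
  exact (a.trans b.symm.toAddEquiv).toEquiv.subsingleton

include hL in
theorem surjective_pull_subscheme (h : Subsingleton (Coh.HH Y (CohB1.tensorMod L (ClSub.idealMod J)) 1)) :
    Function.Surjective (pull J.subschemeι L ⊤) := by
  have hS := shortExact_tw J hL
  haveI : Epi (twπ L J) := hS.epi_g
  obtain ⟨e⟩ := nonempty_quot_iso J hL
  let adj := Scheme.Modules.pullbackPushforwardAdjunction J.subschemeι
  let P := (Scheme.Modules.pullback J.subschemeι).obj L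
  let g : L ⟶ (Scheme.Modules.pushforward J.subschemeι).obj P := twπ L J ≫ e.hom
  have hgs : Function.Surjective (g.app ⊤) := by
    rw [Scheme.Modules.Hom.comp_app]
    refine (ConcreteCategory.bijective_of_isIso (e.hom.app ⊤)).2.comp fun y => ?_
    obtain ⟨z, hz⟩ := (exact_hmap_delta hS 0 ((e0 _).symm y)).1 (@Subsingleton.elim _ h _ _)
    refine ⟨e0 _ z, ?_⟩
    refine (e0_hmap (twπ L J) z).symm.trans ?_
    exact (congrArg (e0 _) hz).trans ((e0 _).apply_symm_apply y)
  let h' : P ⟶ P := (adj.homEquiv L P).symm g
  have hg : adj.unit.app L ≫ (Scheme.Modules.pushforward J.subschemeι).map h' = g :=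
    (adj.homEquiv_unit _ _ _).symm.trans ((adj.homEquiv L P).apply_symm_apply g)
  haveI : IsIso h' := by
    haveI : Epi g := epi_comp _ _
    haveI : Epi ((Scheme.Modules.pushforward J.subschemeι).map h') := by
      haveI : Epi (adj.unit.app L ≫ (Scheme.Modules.pushforward J.subschemeι).map h') := by rw [hg]; infer_instance
      exact epi_of_epi (adj.unit.app L) _
    haveI := Groth.L17.ClosedPush.isIso_counit J.subschemeι
    haveI : (Scheme.Modules.pushforward J.subschemeι).Faithful := adj.fullyFaithfulROfIsIsoCounit.faithful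
    haveI : Epi h' := (Scheme.Modules.pushforward J.subschemeι).epi_of_epi_map inferInstance
    exact Groth.L02.Canon.DescInvertible.isIso_of_epi_invertible h' (Groth.L18.Ample.isInvertible_pullback _ hL)
      (Groth.L18.Ample.isInvertible_pullback _ hL)
  haveI : IsIso ((Scheme.Modules.pushforward J.subschemeι).map h') := inferInstance
  intro y
  obtain ⟨z, hz⟩ := hgs (((Scheme.Modules.pushforward J.subschemeι).map h').app ⊤ y)
  refine ⟨z, (ConcreteCategory.bijective_of_isIso (((Scheme.Modules.pushforward J.subschemeι).map h').app ⊤)).1 ?_⟩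
  rw [← hg] at hz
  exact hz

variable {J}

/-- Passing between closed immersions with the same kernel. -/
theorem transfer (j : X ⟶ Y) [IsClosedImmersion j] (j' : Z ⟶ Y) [IsClosedImmersion j'] (h : j.ker = j'.ker)
    (N : Y.Modules) :
    (∀ p, Subsingleton (Coh.HH Z ((Scheme.Modules.pullback j').obj N) p) →
      Subsingleton (Coh.HH X ((Scheme.Modules.pullback j).obj N) p)) ∧
    (Function.Surjective (pull j' N ⊤) → Function.Surjective (pull j N ⊤)) := by
  obtain ⟨e, rfl⟩ := Groth.L17.ComplExt.BaseCompl.exists_iso_of_ker_eq j j' h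
  refine ⟨fun p hp => ?_, fun hs y => ?_⟩
  · let a := Groth.L17.BC.HHequiv ((Scheme.Modules.pullbackComp e.hom j').app N).symm p
    obtain ⟨b⟩ := nonempty_HH_of_isIso e.hom ((Scheme.Modules.pullback j').obj N) p
    exact (a.toAddEquiv.trans b).toEquiv.subsingleton
  · let c := ((Scheme.Modules.pullbackComp e.hom j').inv.app N).app ((e.hom ≫ j') ⁻¹ᵁ ⊤)
    have hc : Function.Bijective c := ConcreteCategory.bijective_of_isIso c
    obtain ⟨z, hz⟩ := ((pull_bijective_of_isIso e.hom _ (j' ⁻¹ᵁ ⊤)).2.comp hs) (c y)
    refine ⟨z, hc.1 ?_⟩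
    rw [Groth.L19.ProjBdl.pull_comp]
    exact hz

end Groth.L18.CIProj
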