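import Groth.Agent.L18.SymSheaf
import Groth.Prelude.Def_AffAlg
import Mathlib.AlgebraicGeometry.Morphisms.Affine

/-!
Pushouts of quasi-coherent algebras are detected on affine opens; direct images of a cartesian square of
affine morphisms.
-/

set_option autoImplicit false
set_option linter.style.haveILetI false
set_option backward.isDefEq.respectTransparency false
set_option backward.isDefEq.respectTransparency.types false

noncomputable section

universe u

open CategoryTheory CategoryTheory.Limits AlgebraicGeometry TopologicalSpace Opposite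

namespace Groth.L18.AlgPushout

variable {S : Scheme.{u}}

theorem algHom_app {X Y : Scheme.{u}} (f : X ⟶ S) (g : Y ⟶ S) (h : Y ⟶ X) (w : h ≫ f = g) (U : S.Opens) :
    (AffAlg.algHom f g h w).app (op U) = h.appLE (f ⁻¹ᵁ U) (g ⁻¹ᵁ U) (by subst w; exact le_rfl) := by
  subst w
  refine (congrArg (fun k : AffAlg.alg f ⟶ AffAlg.alg (h ≫ f) => k.app (op U)) (show AffAlg.algHom f (h ≫ f) h rfl =
    (TopCat.Presheaf.pushforward CommRingCat.{u} f.base).map h.c from Category.comp_id _)).trans ?_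
  refine (Category.comp_id (h.app (f ⁻¹ᵁ U))).symm.trans ?_
  exact congrArg (fun k => h.app (f ⁻¹ᵁ U) ≫ k) (Y.presheaf.map_id _).symm

/-- A square of algebras that is a pushout on every affine open is a pushout. -/
theorem isPushout_of_affine {A B C D : RelSpec.QCAlg S} (b : A ⟶ B) (c : A ⟶ C) (d : B ⟶ D) (e : C ⟶ D)
    (h : ∀ U : S.Opens, IsAffineOpen U →
      IsPushout (b.hom.app (op U)) (c.hom.app (op U)) (d.hom.app (op U)) (e.hom.app (op U))) :
    IsPushout b c d e := by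
  have hw : b ≫ d = c ≫ e := SymSheaf.algHom_ext _ _ fun U hU => (h U hU).w
  have hw' : ∀ (s : PushoutCocone b c) (U : S.Opens), b.hom.app (op U) ≫ s.inl.hom.app (op U) =
      c.hom.app (op U) ≫ s.inr.hom.app (op U) := fun s U =>
    congrArg (fun k : A ⟶ s.pt => k.hom.app (op U)) s.condition
  have hex : ∀ s : PushoutCocone b c, ∃ ψ : D ⟶ s.pt, d ≫ ψ = s.inl ∧ e ≫ ψ = s.inr := by
    intro s
    obtain ⟨ψ, hψ⟩ := SymSheaf.exists_algHom (A := D) (B := s.pt)
      (fun U hU => (h U hU).desc (s.inl.hom.app (op U)) (s.inr.hom.app (op U)) (hw' s U))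
      (fun U V hU hV hVU => by
        refine (h U hU).hom_ext ?_ ?_
        · rw [← Category.assoc, ← d.hom.naturality, Category.assoc, IsPushout.inl_desc, ← Category.assoc,
            IsPushout.inl_desc]
          exact s.inl.hom.naturality _
        · rw [← Category.assoc, ← e.hom.naturality, Category.assoc, IsPushout.inr_desc, ← Category.assoc,
            IsPushout.inr_desc]
          exact s.inr.hom.naturality _)
      (fun U hU => by
        refine ((congrArg (fun k => k.app (op U)) d.comm).symm =≫ _).trans ?_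
        rw [NatTrans.comp_app, Category.assoc, IsPushout.inl_desc]
        exact congrArg (fun k => k.app (op U)) s.inl.comm)
    refine ⟨ψ, SymSheaf.algHom_ext _ _ fun U hU => ?_, SymSheaf.algHom_ext _ _ fun U hU => ?_⟩
    · show d.hom.app (op U) ≫ ψ.hom.app (op U) = _
      rw [hψ U hU, IsPushout.inl_desc]
    · show e.hom.app (op U) ≫ ψ.hom.app (op U) = _
      rw [hψ U hU, IsPushout.inr_desc]
  choose ψ h1 h2 using hex
  refine ⟨⟨hw⟩, ⟨PushoutCocone.IsColimit.mk hw ψ h1 h2 fun s m hm1 hm2 => ?_⟩⟩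
  refine SymSheaf.algHom_ext _ _ fun U hU => (h U hU).hom_ext ?_ ?_
  · exact congrArg (fun k : B ⟶ s.pt => k.hom.app (op U)) (hm1.trans (h1 s).symm)
  · exact congrArg (fun k : C ⟶ s.pt => k.hom.app (op U)) (hm2.trans (h2 s).symm)

/-- Sections of a cartesian square of affine morphisms over an affine open form a pushout. -/
theorem isPushout_appLE {X X' Y Z : Scheme.{u}} (f : X ⟶ Y) [IsAffineHom f] (f' : X' ⟶ Y) [IsAffineHom f']
    (p : Z ⟶ X) (p' : Z ⟶ X') (hZ : IsPullback p p' f f') {W : Y.Opens} (hW : IsAffineOpen W) :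
    IsPushout (f.appLE W (f ⁻¹ᵁ W) le_rfl) (f'.appLE W (f' ⁻¹ᵁ W) le_rfl)
      (p.appLE (f ⁻¹ᵁ W) (p ⁻¹ᵁ f ⁻¹ᵁ W) le_rfl)
      (p'.appLE (f' ⁻¹ᵁ W) (p ⁻¹ᵁ f ⁻¹ᵁ W)
        (by rw [← Scheme.Hom.comp_preimage, ← Scheme.Hom.comp_preimage, hZ.w])) := by
  have hle : p ⁻¹ᵁ f ⁻¹ᵁ W ≤ p' ⁻¹ᵁ f' ⁻¹ᵁ W := by
    rw [← Scheme.Hom.comp_preimage, ← Scheme.Hom.comp_preimage, hZ.w]
  have hR := Scheme.Hom.isPullback_resLE (US := W) (UT := f' ⁻¹ᵁ W) (UX := f ⁻¹ᵁ W) hZ le_rfl le_rfl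
    (inf_eq_left.2 hle).symm
  haveI : IsAffine (W : Scheme.{u}) := hW
  haveI : IsAffine ((f ⁻¹ᵁ W : X.Opens) : Scheme.{u}) := hW.preimage f
  haveI : IsAffine ((f' ⁻¹ᵁ W : X'.Opens) : Scheme.{u}) := hW.preimage f'
  have hP := isPushout_appTop_of_isPullback hR
  refine hP.of_iso W.topIso (f ⁻¹ᵁ W).topIso (f' ⁻¹ᵁ W).topIso (Scheme.Opens.topIso (p ⁻¹ᵁ f ⁻¹ᵁ W)) ?_ ?_ ?_ ?_
  · exact (Arrow.w (arrowResLEAppIso f W (f ⁻¹ᵁ W) le_rfl).hom).symm
  · exact (Arrow.w (arrowResLEAppIso f' W (f' ⁻¹ᵁ W) le_rfl).hom).symm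
  · exact (Arrow.w (arrowResLEAppIso p (f ⁻¹ᵁ W) (p ⁻¹ᵁ f ⁻¹ᵁ W) _).hom).symm
  · exact (Arrow.w (arrowResLEAppIso p' (f' ⁻¹ᵁ W) (p ⁻¹ᵁ f ⁻¹ᵁ W) _).hom).symm

end Groth.L18.AlgPushout
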