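import Groth.Agent.L18.CIProjDim
import Groth.Agent.L21.PlaneCurve.HypSub
import Groth.Agent.L22.Ideal
import Groth.Agent.L29.DCoh.PullTensor

/-!
Cutting a complete intersection by one more form.
-/

set_option autoImplicit false
set_option backward.isDefEq.respectTransparency false
universe u

open CategoryTheory CategoryTheory.Limits AlgebraicGeometry TopologicalSpace MvPolynomial

noncomputable section

namespace Groth.L18.CIProj

open Groth.L18.Frame (rs ro IsFrame pull)
open Groth.L18.CIProjRing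
open Groth.L21.PlaneCurve (OC)
open Groth.L21.RR (st one bijective_smul_one bijective_germ_frame)

variable {k : Type u} [Field k] {n : ℕ}

/-- A section given by regular coefficients in local frames is a monomorphism. -/
theorem mono_of_coeff {X : Scheme.{u}} {L : X.Modules} (φ : Coh.structureModule X ⟶ L)
    (h : ∀ x : X, ∃ (V : X.Opens) (_ : IsAffineOpen V) (_ : x ∈ V) (e : Γ(L, V)) (c : Γ(X, V)),
      IsFrame L V e ∧ c • e = rs L le_top (Groth.L18.GenLoc.secOf φ) ∧ ∀ b, c * b = 0 → b = 0) :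
    Mono φ := by
  refine (Groth.L21.Mod.mono_iff_stalk_injective φ).2 fun x => (injective_iff_map_eq_zero _).2 fun v hv => ?_
  obtain ⟨V, hV, hx, e, c, he, hc, hreg⟩ := h x
  obtain ⟨b, rfl⟩ := (bijective_smul_one x).2 v
  change st φ x (b • one X x) = 0 at hv
  have h1 : st φ x (one X x) = X.presheaf.germ V x hx c • L.presheaf.germ V x hx e := by
    rw [Groth.L21.RR.st_one φ x (W := V) hx, ← Groth.L20.ModStalk.germ_smul, hc]
    rfl
  rw [map_smul, h1, smul_smul] at hv
  have h2 : b * X.presheaf.germ V x hx c = 0 :=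
    (bijective_germ_frame he hx).1 (hv.trans (zero_smul (X.presheaf.stalk x) _).symm)
  letI : Algebra Γ(X, V) (X.presheaf.stalk x) := TopCat.Presheaf.algebra_section_stalk X.presheaf ⟨x, hx⟩
  haveI := hV.isLocalization_stalk ⟨x, hx⟩
  obtain ⟨⟨p, s⟩, hps⟩ := IsLocalization.surj (hV.primeIdealOf ⟨x, hx⟩).asIdeal.primeCompl b
  have h3 : algebraMap Γ(X, V) (X.presheaf.stalk x) (c * p) = 0 := by
    rw [map_mul, ← hps, ← mul_assoc]
    show X.presheaf.germ V x hx c * b * _ = 0
    rw [mul_comm _ b, h2, zero_mul]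
  obtain ⟨t, ht⟩ := (IsLocalization.map_eq_zero_iff (hV.primeIdealOf ⟨x, hx⟩).asIdeal.primeCompl _ _).1 h3
  have h4 : (t : Γ(X, V)) * p = 0 := hreg _ (by rwa [mul_left_comm])
  have h5 : algebraMap Γ(X, V) (X.presheaf.stalk x) p = 0 := by
    have := congrArg (algebraMap Γ(X, V) (X.presheaf.stalk x)) h4
    rw [map_mul, map_zero] at this
    exact (IsLocalization.map_units (X.presheaf.stalk x) t).mul_right_eq_zero.1 this
  rw [h5] at hps
  have hb : b = 0 := (IsLocalization.map_units (X.presheaf.stalk x) s).mul_left_eq_zero.1 hps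
  change b • one X x = 0
  rw [hb, zero_smul]

variable {r : ℕ} {a : Fin (r + 1) → ℕ} (G : ∀ j, LefPen.Form n k (a j))

/-- The forms but the last. -/
abbrev init : ∀ j : Fin r, LefPen.Form n k (a j.castSucc) := fun j => G j.castSucc

/-- The last hypersurface, on the intersection of the others. -/
abbrev lastIdeal : (LefPen.ciIdeal (init G)).subscheme.IdealSheafData :=
  (LefPen.hypIdeal (G (Fin.last r))).comap (LefPen.ciIdeal (init G)).subschemeι

theorem nonempty_pullback_add (I : (CohB1.ProjSpace n k).IdealSheafData) {b c d : ℤ} (h : b + c = d) :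
    Nonempty (CohB1.tensorMod (OC I b) (OC I c) ≅ OC I d) := by
  obtain ⟨e⟩ := Groth.L22.Reg.nonempty_O_add (n := n) (R := k) h
  exact ⟨Groth.L29.DC.PullTensor.pullTensor I.subschemeι _ _ ≪≫ (Scheme.Modules.pullback _).mapIso e⟩

theorem nonempty_OC_zero (I : (CohB1.ProjSpace n k).IdealSheafData) :
    Nonempty (OC I 0 ≅ Coh.structureModule I.subscheme) := by
  obtain ⟨e⟩ := Groth.L22.Reg.nonempty_O_zero n k
  exact ⟨(Scheme.Modules.pullback _).mapIso e ≪≫ Groth.L29.LocFree.pullbackUnitIso _⟩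

/-- The ideal of the next complete intersection is a negative twist. -/
theorem nonempty_idealMod_lastIdeal (ha : ∀ j, 1 ≤ a j) (hci : IsCI (pols G)) :
    Nonempty (ClSub.idealMod (lastIdeal G) ≅ OC (LefPen.ciIdeal (init G)) (-(a (Fin.last r) : ℤ))) := by
  let I := LefPen.ciIdeal (init G)
  let L := OC I (a (Fin.last r) : ℤ)
  let F := G (Fin.last r)
  let φ : Coh.structureModule I.subscheme ⟶ L :=
    Groth.L18.Ample.pullHom I.subschemeι (Groth.L21.PlaneCurve.formHom F)
  have hL : PicF.IsInvertible L := Groth.L21.PlaneCurve.isInvertible_OC I _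
  have hfr : ∀ x : I.subscheme, ∃ (V : I.subscheme.Opens) (hV : IsAffineOpen V) (hx : x ∈ V) (e : Γ(L, V))
      (c : Γ(I.subscheme, V)), IsFrame L V e ∧ c • e = rs L le_top (Groth.L18.GenLoc.secOf φ) ∧
        (∀ b, c * b = 0 → b = 0) ∧ (lastIdeal G).ideal ⟨V, hV⟩ = Ideal.span {c} := by
    intro x
    obtain ⟨i, hi⟩ := Groth.L21.PlaneCurve.exists_mem_chart (I.subschemeι x)
    have hC := Groth.L21.PlaneCurve.isAffineOpen_chart (k := k) i
    refine ⟨I.subschemeι ⁻¹ᵁ LefPen.chart n k i, hC.preimage _, hi,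
      pull I.subschemeι _ (LefPen.chart n k i) (Groth.L21.PlaneCurve.chartFrame _ i),
      I.subschemeι.app _ (LefPen.dehom F i), (Groth.L21.PlaneCurve.isFrame_chartFrame _ i).pullback _ _, ?_, ?_, ?_⟩
    · rw [show Groth.L18.GenLoc.secOf φ = pull I.subschemeι _ ⊤ (Groth.L18.GenLoc.secOf
          (Groth.L21.PlaneCurve.formHom F)) from Groth.L18.GenLoc.secOf_homOfSection _]
      exact Groth.L18.Ample.coeff_pull I.subschemeι _ (Groth.L21.PlaneCurve.dehom_smul_chartFrame F i)
    · intro b hb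
      obtain ⟨z, rfl⟩ := I.subschemeι_app_surjective ⟨_, hC⟩ b
      rw [← map_mul] at hb
      have hker : ∀ w, I.subschemeι.app (LefPen.chart n k i) w = 0 ↔
          w ∈ (Ideal.span (Set.range (pols (init G)))).map (deh i) := fun w => by
        rw [map_span_pols, ← ciIdeal_chart, ← I.ker_subschemeι_app ⟨_, hC⟩]
        exact RingHom.mem_ker.symm
      exact (hker z).2 (mem_of_mul_deh i F
        (fun y hy => mem_of_mul_last (isHomogeneous_pols G) ha hci hy) ((hker _).1 hb) ⟨r, _, init G, rfl⟩)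
    · rw [Groth.L22.Ideals.comap_ideal I.subschemeι _ ⟨_, hC⟩ ⟨_, hC.preimage _⟩ le_rfl,
        Groth.L21.PlaneCurve.hypIdeal_chart, Ideal.map_span, Set.image_singleton, Scheme.Hom.app_eq_appLE]
  haveI : Mono φ := mono_of_coeff φ fun x => by
    obtain ⟨V, hV, hx, e, c, h1, h2, h3, -⟩ := hfr x
    exact ⟨V, hV, hx, e, c, h1, h2, h3⟩
  obtain ⟨e⟩ := Groth.L21.PlaneCurve.nonempty_iso_of_range (lastIdeal G) hL φ fun x => by
    obtain ⟨V, hV, hx, e, c, h1, h2, -, h4⟩ := hfr x
    exact ⟨V, hV, hx, e, c, h1, h2, h4⟩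
  obtain ⟨p⟩ := nonempty_pullback_add I (show -(a (Fin.last r) : ℤ) + (a (Fin.last r) : ℤ) = 0 by omega)
  obtain ⟨q⟩ := nonempty_OC_zero I
  open Groth.L00.Tensor in
  exact ⟨(tensorUnitLeft _).symm ≪≫ tensorIso (p ≪≫ q).symm (Iso.refl _) ≪≫ tensorAssoc _ _ _ ≪≫
    tensorIso (Iso.refl _) e ≪≫ tensorUnitRight _⟩

end Groth.L18.CIProj
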