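import Groth.Agent.L18.RegularPowMono
import Groth.Agent.L18.LefTwists
import Groth.Agent.L22.Reg.Cx
import Groth.Agent.L20.SeeNormal.Sheaf
import Groth.Agent.L20.Infinitesimal.Flat
import Groth.Agent.L12.KRes.Basic

/-!
# Towers of modules along an invertible ideal
-/

set_option autoImplicit false
set_option linter.style.haveILetI false
set_option linter.unusedSectionVars false
set_option backward.isDefEq.respectTransparency false
set_option backward.isDefEq.respectTransparency.types false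
universe u

open CategoryTheory CategoryTheory.Limits AlgebraicGeometry
open scoped TensorProduct

noncomputable section

namespace Groth.L18.LefTower

open Groth.L00.Tensor (tensorMap tensorIso tensorComm tensorUnitLeft tensorUnitRight)
open Groth.L22.Reg (sm sm_comp sm_map_sub sm_map_zero)
open Groth.L20.SeeNormal (sI)

variable {X : Scheme.{u}}

theorem sm_smul {x : X} {A B : X.Modules} (f : A ⟶ B) (r : X.presheaf.stalk x) (v : (Groth.L00.Stk.F X x).obj A) :
    sm x f (r • v) = r • sm x f v :=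
  ((Groth.L00.Stk.F X x).map f).hom.map_smul r v

theorem epi_of_sm {A B : X.Modules} (f : A ⟶ B) (h : ∀ x, Function.Surjective (sm x f)) : Epi f :=
  Groth.L14.Quot.epi_of_stalk f h

theorem mono_of_sm {A B : X.Modules} (f : A ⟶ B) (h : ∀ x, Function.Injective (sm x f)) : Mono f :=
  Groth.L14.Quot.mono_of_stalk f h

theorem surjective_sm {A B : X.Modules} (f : A ⟶ B) [Epi f] (x : X) : Function.Surjective (sm x f) :=
  Groth.L14.Quot.stMapₗ_surjective f x

theorem injective_sm {A B : X.Modules} (f : A ⟶ B) [Mono f] (x : X) : Function.Injective (sm x f) :=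
  (ModuleCat.mono_iff_injective _).1 (inferInstanceAs (Mono ((Groth.L00.Stk.F X x).map f)))

theorem exists_preimage_of_sm_eq_zero {S : ShortComplex X.Modules} (hS : S.Exact) (x : X)
    {v : (Groth.L00.Stk.F X x).obj S.X₂} (hv : sm x S.g v = 0) : ∃ w, sm x S.f w = v :=
  ((ShortComplex.ShortExact.moduleCat_exact_iff_function_exact _).1 (hS.map (Groth.L00.Stk.F X x)) v).1 hv

theorem exists_kernel_preimage {A B : X.Modules} (f : A ⟶ B) (x : X) {v : (Groth.L00.Stk.F X x).obj A}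
    (hv : sm x f v = 0) : ∃ w, sm x (kernel.ι f) w = v :=
  exists_preimage_of_sm_eq_zero (S := ShortComplex.mk (kernel.ι f) f (kernel.condition f)) (ShortComplex.exact_kernel f) x hv

/-- A free rank one stalk tensored with another stalk. -/
def tensE (x : X) (N : X.Modules) (e : N.presheaf.stalk x)
    (he : Function.Bijective fun a : X.presheaf.stalk x => a • e) (G : X.Modules) :
    (Groth.L00.Stk.F X x).obj G ≃ₗ[X.presheaf.stalk x] (Groth.L00.Stk.F X x).obj (CohB1.tensorMod N G) :=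
  (TensorProduct.lid (X.presheaf.stalk x) ((Groth.L00.Stk.F X x).obj G)).symm ≪≫ₗ
    TensorProduct.congr (LinearEquiv.ofBijective
      (LinearMap.toSpanSingleton (X.presheaf.stalk x) ((Groth.L00.Stk.F X x).obj N) e) he)
      (LinearEquiv.refl (X.presheaf.stalk x) ((Groth.L00.Stk.F X x).obj G)) ≪≫ₗ
    (Groth.L00.Stk.τ x N G).toLinearEquiv

theorem tensE_natural (x : X) {N N' : X.Modules} (f : N ⟶ N') (e : N.presheaf.stalk x)
    (he : Function.Bijective fun a : X.presheaf.stalk x => a • e) (e' : N'.presheaf.stalk x)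
    (he' : Function.Bijective fun a : X.presheaf.stalk x => a • e') (r : X.presheaf.stalk x)
    (hr : (show N'.presheaf.stalk x from sm x f e) = r • e') {G G' : X.Modules} (g : G ⟶ G')
    (v : (Groth.L00.Stk.F X x).obj G) :
    sm x (tensorMap f g) (tensE x N e he G v) = tensE x N' e' he' G' (r • sm x g v) := by
  let R := X.presheaf.stalk x
  let st := Groth.L00.Stk.F X x
  have h := congr($(Groth.L00.Stk.τ_natural x f g) (((1 : R) • (show st.obj N from e)) ⊗ₜ[R] v))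
  refine h.symm.trans ?_
  show (Groth.L00.Stk.τ x _ G').hom.hom _ =
    (Groth.L00.Stk.τ x _ G').hom.hom (((1 : R) • (show st.obj N' from e')) ⊗ₜ[R] (r • sm x g v))
  refine congrArg (Groth.L00.Stk.τ x _ G').hom.hom ?_
  show (st.map f).hom ((1 : R) • e) ⊗ₜ[R] (st.map g).hom v = _
  rw [one_smul R (show st.obj N from e), one_smul R (show st.obj N' from e')]
  exact (congrArg (· ⊗ₜ[R] sm x g v) hr).trans (TensorProduct.smul_tmul _ _ _)

variable {𝓘 : X.IdealSheafData}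

theorem exists_gen_stalk (hI : PicF.IsInvertible (ClSub.idealMod 𝓘)) (x : X) :
    ∃ s : X.presheaf.stalk x, sI 𝓘 x = Ideal.span {s} ∧ IsSMulRegular (X.presheaf.stalk x) s := by
  obtain ⟨W, a, hxW, -, hW⟩ :=
    Groth.L20.SeeNormal.exists_sI_eq_span ((Groth.Agent.L19.IdealInvertible.isEffCartier_iff (I := 𝓘)).1 hI) x
  exact ⟨_, (hW x hxW).1, fun a b h => (mul_cancel_left_mem_nonZeroDivisors (hW x hxW).2).1 h⟩

/-- The inclusion of a power of the ideal on stalks. -/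
theorem exists_pow_gen (hI : PicF.IsInvertible (ClSub.idealMod 𝓘)) (a : ℕ) (x : X) {s : X.presheaf.stalk x}
    (hs : sI 𝓘 x = Ideal.span {s}) :
    ∃ (e : (ClSub.idealMod (𝓘 ^ a)).presheaf.stalk x)
      (_ : Function.Bijective fun b : X.presheaf.stalk x => b • e) (r u v : X.presheaf.stalk x),
      (show (Coh.structureModule X).presheaf.stalk x from sm x (ClSub.idealModι (𝓘 ^ a)) e) =
        r • Groth.L21.RR.one X x ∧ r = u * s ^ a ∧ s ^ a = v * r := by
  obtain ⟨hIa, -⟩ := Groth.L13.PointBlow.nonempty_idealMod_pow hI a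
  obtain ⟨V, c, hxV, -, hc, hIV⟩ := Groth.L13.PointBlow.exists_gen hIa ⊤ x trivial
  let r := X.presheaf.germ V.1 x hxV (Groth.Agent.L19.IdealInvertible.io (𝓘 ^ a) V.1 c)
  have h : Ideal.span {r} = Ideal.span {s ^ a} := by
    rw [← Ideal.span_singleton_pow, ← hs, ← Groth.L20.Infinitesimal.sI_pow,
      Groth.L20.SeeNormal.sI_eq _ V hxV, hIV, Ideal.map_span, Set.image_singleton]
  obtain ⟨u, hu⟩ := Ideal.mem_span_singleton'.1 (h ▸ Ideal.mem_span_singleton_self r)
  obtain ⟨v, hv⟩ := Ideal.mem_span_singleton'.1 (h.symm ▸ Ideal.mem_span_singleton_self (s ^ a))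
  exact ⟨_, Groth.L03.Euler.bijective_toSpanSingleton_germ hc hxV, r, u, v,
    Groth.L18.RegularPowMono.stalk_idealModι_germ (𝓘 ^ a) hxV c, hu.symm, hv.symm⟩

/-- The kernel of a truncation is a twist of a truncation. -/
theorem nonempty_kernel_iso (hI : PicF.IsInvertible (ClSub.idealMod 𝓘)) (a : ℕ) {G Ga Gb : X.Modules}
    (π : G ⟶ Ga) (q : G ⟶ Gb) (hq : ∀ x, Function.Surjective (sm x q))
    (hπ : ∀ (x : X) (s : X.presheaf.stalk x), sI 𝓘 x = Ideal.span {s} →
      ∀ v, sm x π v = 0 ↔ ∃ w, s ^ a • w = v)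
    (hq' : ∀ (x : X) (s : X.presheaf.stalk x), sI 𝓘 x = Ideal.span {s} → ∀ v, sm x q v = 0 ↔ s ^ a • v = 0) :
    Nonempty (kernel π ≅ CohB1.tensorMod (ClSub.idealMod (𝓘 ^ a)) Gb) := by
  let J := ClSub.idealMod (𝓘 ^ a)
  let l₀ : CohB1.tensorMod J G ⟶ G := tensorMap (ClSub.idealModι (𝓘 ^ a)) (𝟙 G) ≫ (tensorUnitLeft G).hom
  have local_eq : ∀ x s, sI 𝓘 x = Ideal.span {s} → ∃ (r u v : X.presheaf.stalk x) (_ : r = u * s ^ a) (_ : s ^ a = v * r)
      (aN : ∀ G' : X.Modules, (Groth.L00.Stk.F X x).obj G' ≃ₗ[X.presheaf.stalk x]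
        (Groth.L00.Stk.F X x).obj (CohB1.tensorMod J G'))
      (α : (Groth.L00.Stk.F X x).obj G ≃ₗ[X.presheaf.stalk x] (Groth.L00.Stk.F X x).obj G),
      (∀ w, sm x l₀ (aN G w) = r • α w) ∧
      (∀ w, sm x (tensorMap (𝟙 J) q) (aN G w) = aN Gb (sm x q w)) := by
    intro x s hs
    obtain ⟨e, he, r, u, v, hr, hu, hv⟩ := exists_pow_gen hI a x hs
    refine ⟨r, u, v, hu, hv, fun G' => tensE x J e he G',
      tensE x _ (Groth.L21.RR.one X x) (Groth.L21.RR.bijective_smul_one x) G ≪≫ₗ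
        ((Groth.L00.Stk.F X x).mapIso (tensorUnitLeft G)).toLinearEquiv, fun w => ?_, fun w => ?_⟩
    · rw [sm_comp, tensE_natural x _ e he _ (Groth.L21.RR.bijective_smul_one x) r hr, Groth.L22.Reg.sm_id, map_smul,
        sm_smul]
      rfl
    · refine (tensE_natural x (𝟙 J) e he e he 1 ?_ q w).trans (by rw [one_smul])
      exact (Groth.L22.Reg.sm_id x _).trans (one_smul _ _).symm
  have hw : l₀ ≫ π = 0 := by
    refine Groth.L21.Mod.hom_ext_stalk fun x => ?_
    obtain ⟨s, hs, -⟩ := exists_gen_stalk hI x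
    obtain ⟨r, u, v, hu, -, aN, α, hl, -⟩ := local_eq x s hs
    ext z
    obtain ⟨w, rfl⟩ := (aN G).surjective z
    show sm x (l₀ ≫ π) (aN G w) = sm x (0 : CohB1.tensorMod J G ⟶ Ga) (aN G w)
    rw [sm_comp, hl, Groth.L22.Reg.sm_zero]
    refine (hπ x s hs _).2 ⟨u • α w, ?_⟩
    rw [smul_smul, mul_comm, ← hu]
  let l := kernel.lift π l₀ hw
  have hl' : ∀ x z, sm x (kernel.ι π) (sm x l z) = sm x l₀ z := fun x z => by
    rw [← sm_comp, kernel.lift_ι]
  have hle : ∀ x, Function.Surjective (sm x l) := fun x z => by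
    obtain ⟨s, hs, -⟩ := exists_gen_stalk hI x
    obtain ⟨r, u, v, -, hv, aN, α, hl, -⟩ := local_eq x s hs
    obtain ⟨w, hwz⟩ := (hπ x s hs (sm x (kernel.ι π) z)).1 (by
      rw [← sm_comp, kernel.condition, Groth.L22.Reg.sm_zero])
    refine ⟨aN G (α.symm (v • w)), injective_sm (kernel.ι π) x ?_⟩
    rw [hl', hl, α.apply_symm_apply, smul_smul, mul_comm, ← hv, hwz]
  have hiff : ∀ x z, sm x l z = 0 ↔ sm x (tensorMap (𝟙 J) q) z = 0 := fun x z => by
    obtain ⟨s, hs, -⟩ := exists_gen_stalk hI x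
    obtain ⟨r, u, v, hu, hv, aN, α, hl, hqn⟩ := local_eq x s hs
    obtain ⟨w, rfl⟩ := (aN G).surjective z
    have h1 : sm x l (aN G w) = 0 ↔ r • w = 0 := by
      rw [← (injective_sm (kernel.ι π) x).eq_iff, hl', sm_map_zero, hl, ← map_smul, LinearEquiv.map_eq_zero_iff]
    rw [h1, hqn, LinearEquiv.map_eq_zero_iff, hq' x s hs]
    constructor
    · intro h; rw [hv, mul_smul, h, smul_zero]
    · intro h; rw [hu, mul_smul, h, smul_zero]
  let Q := tensorMap (𝟙 J) q
  haveI : Epi Q := epi_of_sm _ fun x z => by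
    obtain ⟨s, hs, -⟩ := exists_gen_stalk hI x
    obtain ⟨r, u, v, -, -, aN, α, -, hqn⟩ := local_eq x s hs
    obtain ⟨b, rfl⟩ := (aN Gb).surjective z
    obtain ⟨w, rfl⟩ := hq x b
    exact ⟨aN G w, hqn w⟩
  have hk : kernel.ι Q ≫ l = 0 := by
    refine Groth.L21.Mod.hom_ext_stalk fun x => ?_
    ext z
    show sm x (kernel.ι Q ≫ l) z = sm x (0 : kernel Q ⟶ kernel π) z
    rw [sm_comp, Groth.L22.Reg.sm_zero]
    exact (hiff x _).2 (by rw [← sm_comp, kernel.condition, Groth.L22.Reg.sm_zero])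
  let h := Abelian.epiDesc Q l hk
  have hh : Q ≫ h = l := Abelian.comp_epiDesc Q l hk
  haveI : Epi h := epi_of_sm _ fun x z => by
    obtain ⟨y, rfl⟩ := hle x z
    exact ⟨sm x Q y, by rw [← sm_comp, hh]⟩
  haveI : Mono h := mono_of_sm _ fun x => by
    refine (injective_iff_map_eq_zero ((Groth.L00.Stk.F X x).map h).hom).2 fun z hz => ?_
    obtain ⟨y, rfl⟩ := surjective_sm Q x z
    refine (hiff x y).1 ?_
    rw [← hh, sm_comp]
    exact hz
  haveI : IsIso h := isIso_of_mono_of_epi h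
  exact ⟨(asIso h).symm⟩

/-- A tower which behaves as the reductions of a module along the powers of an ideal. -/
structure Tower (𝓘 : X.IdealSheafData) where
  /-- the levels -/
  G : ℕ → X.Modules
  /-- the transition maps -/
  tr : ∀ n, G (n + 1) ⟶ G n
  coh : ∀ n, Coh.IsCoh (G n)
  surj : ∀ n x, Function.Surjective (sm x (tr n))
  kill : ∀ n (x : X) (s : X.presheaf.stalk x), sI 𝓘 x = Ideal.span {s} →
    ∀ v : (Groth.L00.Stk.F X x).obj (G n), s ^ (n + 1) • v = 0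
  ker_tr : ∀ n (x : X) (s : X.presheaf.stalk x), sI 𝓘 x = Ideal.span {s} →
    ∀ v : (Groth.L00.Stk.F X x).obj (G (n + 1)), sm x (tr n) v = 0 → ∃ w, s ^ (n + 1) • w = v
  ann : ∀ n a b (x : X) (s : X.presheaf.stalk x), sI 𝓘 x = Ideal.span {s} → a + b = n + 1 →
    ∀ v : (Groth.L00.Stk.F X x).obj (G n), s ^ a • v = 0 → ∃ w, s ^ b • w = v

namespace Tower

variable (T : Tower 𝓘)

/-- The composite transitions. -/
def tau {n k : ℕ} (h : n ≤ k) : T.G k ⟶ T.G n :=
  Nat.leRecOn (C := fun k => T.G k ⟶ T.G n) h (fun {k} g => T.tr k ≫ g) (𝟙 _)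

theorem tau_self (n : ℕ) : T.tau (le_refl n) = 𝟙 _ := Nat.leRecOn_self (C := fun k => T.G k ⟶ T.G n) _

theorem tau_succ {n k : ℕ} (h : n ≤ k) : T.tau (h.trans k.le_succ) = T.tr k ≫ T.tau h :=
  Nat.leRecOn_succ (C := fun k => T.G k ⟶ T.G n) h (next := fun {k} g => T.tr k ≫ g) (𝟙 _)

theorem tau_tr {n k : ℕ} (h : n + 1 ≤ k) : T.tau h ≫ T.tr n = T.tau ((Nat.le_succ n).trans h) := by
  induction h with
  | refl => rw [tau_self, Category.id_comp]; exact ((T.tau_succ (le_refl n)).trans (by rw [tau_self, Category.comp_id])).symm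
  | @step k h ih =>
    rw [show T.tau (Nat.le.step h) = T.tr k ≫ T.tau h from T.tau_succ h, Category.assoc, ih]
    exact (T.tau_succ ((Nat.le_succ n).trans h)).symm

theorem surjective_tau {n k : ℕ} (h : n ≤ k) (x : X) : Function.Surjective (sm x (T.tau h)) := by
  induction h with
  | refl => rw [tau_self]; exact fun v => ⟨v, Groth.L22.Reg.sm_id x v⟩
  | @step k h ih =>
    rw [show T.tau (Nat.le.step h) = T.tr k ≫ T.tau h from T.tau_succ h]
    intro v
    obtain ⟨w, rfl⟩ := ih v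
    obtain ⟨z, rfl⟩ := T.surj k x w
    exact ⟨z, sm_comp x _ _ _⟩

theorem tau_eq_zero_iff {n k : ℕ} (h : n ≤ k) {x : X} {s : X.presheaf.stalk x} (hs : sI 𝓘 x = Ideal.span {s})
    (v : (Groth.L00.Stk.F X x).obj (T.G k)) : sm x (T.tau h) v = 0 ↔ ∃ w, s ^ (n + 1) • w = v := by
  refine ⟨?_, fun ⟨w, hw⟩ => by rw [← hw, sm_smul, T.kill n x s hs]⟩
  induction h with
  | refl => exact fun h0 => ⟨0, by rw [smul_zero, ← h0, tau_self, Groth.L22.Reg.sm_id]⟩
  | @step k h ih =>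
    rw [show T.tau (Nat.le.step h) = T.tr k ≫ T.tau h from T.tau_succ h, sm_comp]
    intro h0
    obtain ⟨w', hw'⟩ := ih _ h0
    obtain ⟨w, rfl⟩ := T.surj k x w'
    obtain ⟨u, hu⟩ := T.ker_tr k x s hs (v - s ^ (n + 1) • w) (by rw [sm_map_sub, sm_smul, hw', sub_self])
    refine ⟨w + s ^ (k - n) • u, ?_⟩
    have hnk : n ≤ k := h
    rw [smul_add, smul_smul, ← pow_add, show n + 1 + (k - n) = k + 1 from by omega, hu, add_sub_cancel]

theorem smul_eq_zero_iff (n a b : ℕ) (hab : a + b = n + 1) {x : X} {s : X.presheaf.stalk x}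
    (hs : sI 𝓘 x = Ideal.span {s}) (v : (Groth.L00.Stk.F X x).obj (T.G n)) :
    s ^ a • v = 0 ↔ ∃ w, s ^ b • w = v :=
  ⟨T.ann n a b x s hs hab v, fun ⟨w, hw⟩ => by rw [← hw, smul_smul, ← pow_add, hab, T.kill n x s hs]⟩

/-- The kernel of a transition. -/
theorem nonempty_kernel_tr (hI : PicF.IsInvertible (ClSub.idealMod 𝓘)) (n : ℕ) :
    Nonempty (kernel (T.tr n) ≅ CohB1.tensorMod (ClSub.idealMod (𝓘 ^ (n + 1))) (T.G 0)) :=
  nonempty_kernel_iso hI (n + 1) (T.tr n) (T.tau (Nat.zero_le (n + 1))) (T.surjective_tau _)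
    (fun x s hs v => ⟨T.ker_tr n x s hs v, fun ⟨w, hw⟩ => by rw [← hw, sm_smul, T.kill n x s hs]⟩)
    (fun x s hs v => by rw [T.tau_eq_zero_iff _ hs, T.smul_eq_zero_iff (n + 1) (n + 1) 1 rfl hs])

/-- The kernel of the map to the zeroth level. -/
theorem nonempty_kernel_tau (hI : PicF.IsInvertible (ClSub.idealMod 𝓘)) (n : ℕ) :
    Nonempty (kernel (T.tau (Nat.zero_le (n + 1))) ≅ CohB1.tensorMod (ClSub.idealMod (𝓘 ^ 1)) (T.G n)) :=
  nonempty_kernel_iso hI 1 _ (T.tr n) (T.surj n)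
    (fun x s hs v => by rw [T.tau_eq_zero_iff _ hs])
    (fun x s hs v => by
      rw [T.smul_eq_zero_iff (n + 1) 1 (n + 1) (by omega) hs]
      exact ⟨T.ker_tr n x s hs v, fun ⟨w, hw⟩ => by rw [← hw, sm_smul, T.kill n x s hs]⟩)

theorem epi_of_epi_zero (hI : PicF.IsInvertible (ClSub.idealMod 𝓘)) {E : X.Modules} (n : ℕ) (ψ : E ⟶ T.G n)
    [Epi (ψ ≫ T.tau (Nat.zero_le n))] : Epi ψ := by
  refine epi_of_sm ψ fun x v => ?_
  obtain ⟨s, hs, -⟩ := exists_gen_stalk hI x
  have key : ∀ i, ∃ w u, v = sm x ψ w + s ^ i • u := fun i => by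
    induction i with
    | zero => exact ⟨0, v, by rw [sm_map_zero, zero_add, pow_zero, one_smul]⟩
    | succ i ih =>
      obtain ⟨w, u, hv⟩ := ih
      obtain ⟨w', hw'⟩ := surjective_sm (ψ ≫ T.tau (Nat.zero_le n)) x (sm x (T.tau (Nat.zero_le n)) u)
      obtain ⟨u', hu'⟩ := (T.tau_eq_zero_iff (Nat.zero_le n) hs (u - sm x ψ w')).1 (by
        rw [sm_map_sub, ← sm_comp, hw', sub_self])
      refine ⟨w + s ^ i • w', u', ?_⟩
      rw [zero_add, pow_one] at hu'
      rw [hv, Groth.L22.Reg.sm_map_add, sm_smul, pow_succ, mul_smul, hu', smul_sub]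
      abel
  obtain ⟨w, u, hv⟩ := key (n + 1)
  exact ⟨w, by rw [hv, T.kill n x s hs, add_zero]⟩

end Tower

/-- The kernel of a surjective map of towers. -/
def kernelTower [IsLocallyNoetherian X] (P T : Tower 𝓘) (φ : ∀ n, P.G n ⟶ T.G n)
    (hφ : ∀ n, φ (n + 1) ≫ T.tr n = P.tr n ≫ φ n) (hs : ∀ n x, Function.Surjective (sm x (φ n)))
    (hgen : ∀ x, ∃ s : X.presheaf.stalk x, sI 𝓘 x = Ideal.span {s}) : Tower 𝓘 where
  G n := kernel (φ n)
  tr n := kernel.map _ _ (P.tr n) (T.tr n) (hφ n)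
  coh n := haveI := (T.coh n).1; Groth.L16.CohSupport.isCoh_kernel (P.coh n) (φ n)
  surj n x v := by
    obtain ⟨s, hs', -⟩ : ∃ s : X.presheaf.stalk x, sI 𝓘 x = Ideal.span {s} ∧ True := ⟨_, (hgen x).choose_spec, trivial⟩
    obtain ⟨w, hw⟩ := P.surj n x (sm x (kernel.ι (φ n)) v)
    obtain ⟨u, hu⟩ := T.ker_tr n x s hs' (sm x (φ (n + 1)) w) (by
      rw [← sm_comp, hφ, sm_comp, hw, ← sm_comp, kernel.condition, Groth.L22.Reg.sm_zero])
    obtain ⟨w', rfl⟩ := hs (n + 1) x u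
    obtain ⟨z, hz⟩ := exists_kernel_preimage (φ (n + 1)) x (v := w - s ^ (n + 1) • w') (by
      rw [sm_map_sub, sm_smul, hu, sub_self])
    refine ⟨z, injective_sm (kernel.ι (φ n)) x ?_⟩
    rw [← sm_comp, kernel.lift_ι, sm_comp, hz, sm_map_sub, sm_smul, hw, P.kill n x s hs', sub_zero]
  kill n x s h v := by
    refine injective_sm (kernel.ι (φ n)) x ?_
    rw [sm_smul, P.kill n x s h, sm_map_zero]
  ker_tr n x s h v hv := by
    obtain ⟨u, hu⟩ := P.ker_tr n x s h (sm x (kernel.ι (φ (n + 1))) v) (by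
      rw [← sm_comp, ← kernel.lift_ι (φ n) (kernel.ι (φ (n + 1)) ≫ P.tr n)]
      · rw [sm_comp]
        exact (congrArg (sm x (kernel.ι (φ n))) hv).trans (sm_map_zero x _))
    obtain ⟨g, hg⟩ := (T.smul_eq_zero_iff (n + 1) (n + 1) 1 rfl h (sm x (φ (n + 1)) u)).1 (by
      rw [← sm_smul, hu, ← sm_comp, kernel.condition, Groth.L22.Reg.sm_zero])
    obtain ⟨g', rfl⟩ := hs (n + 1) x g
    obtain ⟨z, hz⟩ := exists_kernel_preimage (φ (n + 1)) x (v := u - s ^ 1 • g') (by
      rw [sm_map_sub, sm_smul, hg, sub_self])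
    refine ⟨z, injective_sm (kernel.ι (φ (n + 1))) x ?_⟩
    rw [sm_smul, hz, smul_sub, smul_smul, ← pow_add, P.kill (n + 1) x s h, sub_zero, hu]
  ann n a b x s h hab v hv := by
    obtain ⟨u, hu⟩ := P.ann n a b x s h hab (sm x (kernel.ι (φ n)) v) (by rw [← sm_smul, hv, sm_map_zero])
    obtain ⟨g, hg⟩ := (T.smul_eq_zero_iff n b a (by omega) h (sm x (φ n) u)).1 (by
      rw [← sm_smul, hu, ← sm_comp, kernel.condition, Groth.L22.Reg.sm_zero])
    obtain ⟨g', rfl⟩ := hs n x g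
    obtain ⟨z, hz⟩ := exists_kernel_preimage (φ n) x (v := u - s ^ a • g') (by
      rw [sm_map_sub, sm_smul, hg, sub_self])
    refine ⟨z, injective_sm (kernel.ι (φ n)) x ?_⟩
    rw [sm_smul, hz, smul_sub, smul_smul, ← pow_add, show b + a = n + 1 from by omega, P.kill n x s h, sub_zero, hu]

end Groth.L18.LefTower
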