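import Groth.Agent.L08.Cube.DivSection
import Groth.Agent.L18.AmpleFamilyComp

/-!
Ample families from effective Cartier divisors with ample complements.
-/

set_option autoImplicit false
set_option backward.isDefEq.respectTransparency false
universe u

open CategoryTheory CategoryTheory.Limits AlgebraicGeometry TopologicalSpace Opposite

noncomputable section

namespace Groth.L18.Ample

open Groth.L18.GenLoc

variable {X : Scheme.{u}}

theorem hasAmpleFamily_of_divisors {m : ℕ} (D : Fin m → X.IdealSheafData)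
    (hD : ∀ i, BlowUp.IsEffCartierIdeal (D i)) (hcap : ⋂ i, ((D i).support : Set ↑X) = ∅)
    (L : Fin m → X.Modules) (hL : ∀ i, PicF.IsInvertible (L i))
    (hamp : ∀ i, CohB1.IsAmple ((L i).restrict (Scheme.Opens.ι (D i).support.compl))) :
    MoreMor.HasAmpleFamily X := by
  choose N φ hN _ hφ' using fun i => Groth.L08.Cube.exists_section_of_effCartier (D i) (hD i)
  have hφ : ∀ i, CohB1.genLocus _ (φ i) = (D i).support.compl := fun i => SetLike.coe_injective (hφ' i)
  have hcov : ∀ x : X, ∃ i, x ∈ (D i).support.compl := fun x => by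
    by_contra h
    have hx : x ∈ ⋂ i, ((D i).support : Set ↑X) := Set.mem_iInter.2 fun i => by
      by_contra hi
      exact h ⟨i, hi⟩
    rw [hcap] at hx
    exact hx
  haveI hC : ∀ i, CompactSpace ((D i).support.compl : Scheme.{u}) := fun i => (hamp i).2.1
  haveI : CompactSpace X := ⟨by
    rw [show (Set.univ : Set X) = ⋃ i, ((D i).support.compl : Set X) from
      (Set.eq_univ_of_forall fun x => Set.mem_iUnion.2 (hcov x)).symm]
    exact isCompact_iUnion fun i => isCompact_iff_compactSpace.mpr (hC i)⟩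
  have hloc : ∀ x : X, ∃ (i : Fin m) (n : ℕ)
      (t : Coh.structureModule ((D i).support.compl : Scheme.{u}) ⟶ CohB1.tensorPow ((L i).restrict (Scheme.Opens.ι (D i).support.compl)) (n + 1))
      (B : X.Opens), x ∈ B ∧ IsAffineOpen B ∧ B ≤ (D i).support.compl ∧
        B = (Scheme.Opens.ι (D i).support.compl) ''ᵁ CohB1.genLocus _ t := by
    intro x
    obtain ⟨i, hi⟩ := hcov x
    obtain ⟨n, t, hxt, ht⟩ := (hamp i).2.2 ⟨x, hi⟩
    refine ⟨i, n, t, (Scheme.Opens.ι (D i).support.compl) ''ᵁ CohB1.genLocus _ t, ?_, ?_, ?_, rfl⟩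
    · exact ⟨⟨x, hi⟩, hxt, rfl⟩
    · exact ht.image_of_isOpenImmersion _
    · exact (Scheme.Hom.image_le_opensRange _ _).trans_eq (Scheme.Opens.opensRange_ι _)
  choose i n t B hxB hB hBU hBt using hloc
  haveI : QuasiSeparatedSpace X := by
    refine Scheme.quasiSeparatedSpace_of_isOpenCover B (top_le_iff.mp fun x _ => Opens.mem_iSup.2 ⟨x, hxB x⟩) hB
      fun x y => ?_
    set U : X.Opens := (D (i x)).support.compl with hU
    haveI := isSeparated_of_isAmple (hamp (i x))
    have h1 : IsAffineOpen (U ⊓ B y) := by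
      have := isAffineOpen_genLocus_inf (hN (i x)) (φ (i x)) (hB y)
      rwa [hφ] at this
    have hle1 : B x ≤ (Scheme.Opens.ι U).opensRange := by rw [Scheme.Opens.opensRange_ι]; exact hBU x
    have hle2 : U ⊓ B y ≤ (Scheme.Opens.ι U).opensRange := by rw [Scheme.Opens.opensRange_ι]; exact inf_le_left
    have h2 := ((hB x).preimage_of_isOpenImmersion (Scheme.Opens.ι U) hle1).inf (h1.preimage_of_isOpenImmersion (Scheme.Opens.ι U) hle2)
    have h3 := h2.image_of_isOpenImmersion (Scheme.Opens.ι U)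
    rw [← Scheme.Hom.preimage_inf, Scheme.Hom.image_preimage_eq_opensRange_inf, Scheme.Opens.opensRange_ι] at h3
    rw [show U ⊓ (B x ⊓ (U ⊓ B y)) = B x ⊓ B y from
      le_antisymm (le_inf (inf_le_right.trans inf_le_left) ((inf_le_right.trans inf_le_right).trans inf_le_right))
        (le_inf (inf_le_left.trans (hBU x)) (le_inf inf_le_left (le_inf (inf_le_left.trans (hBU x)) inf_le_right)))] at h3
    exact h3.isCompact
  refine ⟨inferInstance, fun x => ?_⟩
  have hLn := isInvertible_tensorPow (hL (i x)) (n x + 1)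
  obtain ⟨k, hk⟩ := exists_genLocus_eq_of_restrict_gen hLn (hN (i x)) (φ (i x)) (hφ (i x))
    (t x ≫ (Groth.L00.Tensor.tensorPowRestrict _ (L (i x)) (n x + 1)).hom)
  obtain ⟨s, hs⟩ := hk (k + 1) k.lt_succ_self
  refine ⟨_, 1, s ≫ (Groth.L00.Tensor.tensorPowOne _).symm.hom,
    isInvertible_tensor hLn (isInvertible_tensorPow (hN (i x)) (k + 1)), le_rfl, ?_, ?_⟩
  · rw [Groth.L16.genLocus_comp_iso, hs, Groth.L16.genLocus_comp_iso, ← hBt x]
    exact hxB x
  · rw [Groth.L16.genLocus_comp_iso, hs, Groth.L16.genLocus_comp_iso, ← hBt x]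
    exact hB x

end Groth.L18.Ample
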