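import Groth.Agent.L18.ProjTopology
import Mathlib.AlgebraicGeometry.Morphisms.Immersion
import Mathlib.AlgebraicGeometry.Morphisms.ClosedImmersion

/-!
Graded prime avoidance, and affine neighbourhoods of finite subsets of locally closed subschemes of `Proj`.
-/

set_option autoImplicit false

noncomputable section

namespace Groth.L18.ProjAvoid

open HomogeneousIdeal DirectSum CategoryTheory AlgebraicGeometry TopologicalSpace

universe u

variable {R A : Type u} [CommRing R] [CommRing A] [Algebra R A]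
variable (𝒜 : ℕ → Submodule R A) [GradedAlgebra 𝒜]

theorem exists_homogeneous_not_mem (J : HomogeneousIdeal 𝒜) (P : Ideal A) (h : ¬ J.toIdeal ≤ P) :
    ∃ (i : ℕ) (u : A), u ∈ 𝒜 i ∧ u ∈ J.toIdeal ∧ u ∉ P := by
  classical
  obtain ⟨a, ha, haP⟩ := SetLike.not_le_iff_exists.mp h
  by_contra hc
  push Not at hc
  refine haP ?_
  rw [← DirectSum.sum_support_decompose 𝒜 a]
  exact P.sum_mem fun i _ => hc i _ (SetLike.coe_mem _) (J.isHomogeneous i ha)

theorem exists_homogeneous_pos_not_mem (x : ProjectiveSpectrum 𝒜) :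
    ∃ (i : ℕ) (a : A), 0 < i ∧ a ∈ 𝒜 i ∧ a ∉ x.asHomogeneousIdeal.toIdeal := by
  obtain ⟨i, a, hai, haJ, hax⟩ := exists_homogeneous_not_mem 𝒜 (irrelevant 𝒜) x.asHomogeneousIdeal.toIdeal
    x.not_irrelevant_le
  refine ⟨i, a, Nat.pos_of_ne_zero fun hi => hax ?_, hai, hax⟩
  subst hi
  have h0 : GradedRing.projZeroRingHom 𝒜 a = 0 := haJ
  rw [GradedRing.projZeroRingHom_apply, DirectSum.decompose_of_mem_same 𝒜 hai] at h0
  rw [h0]
  exact zero_mem _

theorem exists_homogeneous_mem_avoiding (J : HomogeneousIdeal 𝒜) (S : Finset (ProjectiveSpectrum 𝒜))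
    (hS : ∀ x ∈ S, ¬ J.toIdeal ≤ x.asHomogeneousIdeal.toIdeal) :
    ∃ (m : ℕ) (f : A), 0 < m ∧ f ∈ 𝒜 m ∧ f ∈ J.toIdeal ∧ ∀ x ∈ S, f ∉ x.asHomogeneousIdeal.toIdeal := by
  classical
  induction S using Finset.strongInductionOn with
  | _ S ih =>
  rcases S.eq_empty_or_nonempty with rfl | hne
  · exact ⟨1, 0, Nat.one_pos, zero_mem _, zero_mem _, by simp⟩
  obtain ⟨x, hx⟩ := S.exists_minimal hne
  obtain ⟨m, f, hm, hfm, hfJ, hf⟩ := ih (S.erase x) (Finset.erase_ssubset hx.1)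
    (fun y hy => hS y (Finset.mem_of_mem_erase hy))
  by_cases hfx : f ∈ x.asHomogeneousIdeal.toIdeal
  swap
  · refine ⟨m, f, hm, hfm, hfJ, fun y hy => ?_⟩
    rcases eq_or_ne y x with rfl | hne
    · exact hfx
    · exact hf y (Finset.mem_erase.mpr ⟨hne, hy⟩)
  obtain ⟨i, u, hui, huJ, hux⟩ := exists_homogeneous_not_mem 𝒜 J _ (hS x hx.1)
  obtain ⟨j, a, hj, haj, hax⟩ := exists_homogeneous_pos_not_mem 𝒜 x
  have hb : ∀ y ∈ S.erase x, ∃ (k : ℕ) (b : A), b ∈ 𝒜 k ∧ b ∈ y.asHomogeneousIdeal.toIdeal ∧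
      b ∉ x.asHomogeneousIdeal.toIdeal := fun y hy => by
    refine exists_homogeneous_not_mem 𝒜 y.asHomogeneousIdeal _ fun hle => ?_
    exact Finset.ne_of_mem_erase hy (le_antisymm hle (hx.2 (Finset.mem_of_mem_erase hy) hle))
  have key : ∀ T : Finset (ProjectiveSpectrum 𝒜), T ⊆ S.erase x → ∃ (d : ℕ) (g : A), 0 < d ∧ g ∈ 𝒜 d ∧
      g ∈ J.toIdeal ∧ g ∉ x.asHomogeneousIdeal.toIdeal ∧ ∀ y ∈ T, g ∈ y.asHomogeneousIdeal.toIdeal := by
    intro T hT
    induction T using Finset.induction_on with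
    | empty =>
      refine ⟨i + j, u * a, by omega, SetLike.mul_mem_graded hui haj, Ideal.mul_mem_right _ _ huJ, ?_, by simp⟩
      exact fun h => (x.isPrime.mem_or_mem h).elim hux hax
    | insert y T _ ihT =>
      obtain ⟨d, g, hd, hgd, hgJ, hgx, hg⟩ := ihT ((Finset.subset_insert _ _).trans hT)
      obtain ⟨k, b, hbk, hby, hbx⟩ := hb y (hT (Finset.mem_insert_self _ _))
      refine ⟨d + k, g * b, by omega, SetLike.mul_mem_graded hgd hbk, Ideal.mul_mem_right _ _ hgJ,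
        fun h => (x.isPrime.mem_or_mem h).elim hgx hbx, ?_⟩
      intro z hz
      rcases Finset.mem_insert.mp hz with rfl | hz
      · exact Ideal.mul_mem_left _ _ hby
      · exact Ideal.mul_mem_right _ _ (hg z hz)
  obtain ⟨d, g, hd, hgd, hgJ, hgx, hg⟩ := key _ subset_rfl
  refine ⟨d * m, f ^ d + g ^ m, Nat.mul_pos hd hm, ?_, ?_, fun y hy h => ?_⟩
  · refine add_mem ?_ ?_
    · simpa only [smul_eq_mul] using SetLike.pow_mem_graded d hfm
    · simpa only [smul_eq_mul, mul_comm d m] using SetLike.pow_mem_graded m hgd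
  · exact add_mem (Ideal.pow_mem_of_mem _ hfJ d hd) (Ideal.pow_mem_of_mem _ hgJ m hm)
  · rcases eq_or_ne y x with rfl | hne
    · refine hgx (y.isPrime.mem_of_pow_mem m ?_)
      exact (Submodule.add_mem_iff_right _ (Ideal.pow_mem_of_mem _ hfx d hd)).mp h
    · have hy' : y ∈ S.erase x := Finset.mem_erase.mpr ⟨hne, hy⟩
      refine hf y hy' (y.isPrime.mem_of_pow_mem d ?_)
      exact (Submodule.add_mem_iff_left _ (Ideal.pow_mem_of_mem _ (hg y hy') m hm)).mp h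

theorem exists_basicOpen_subset (U : (Proj 𝒜).Opens) {E : Set (Proj 𝒜)} (hE : E.Finite)
    (hEU : E ⊆ (U : Set (Proj 𝒜))) :
    ∃ (m : ℕ) (f : A), 0 < m ∧ f ∈ 𝒜 m ∧ Proj.basicOpen 𝒜 f ≤ U ∧ E ⊆ (Proj.basicOpen 𝒜 f : Set (Proj 𝒜)) := by
  obtain ⟨s, hs⟩ := (ProjectiveSpectrum.isClosed_iff_zeroLocus 𝒜 _).mp U.2.isClosed_compl
  rw [zeroLocus_eq_zeroLocus_hull] at hs
  obtain ⟨m, f, hm, hfm, hfJ, hf⟩ := exists_homogeneous_mem_avoiding 𝒜
    (Ideal.homogeneousHull 𝒜 (Ideal.span s)) hE.toFinset fun x hx hle => by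
      exact (Set.ext_iff.mp hs x).mpr hle (hEU (hE.mem_toFinset.mp hx))
  refine ⟨m, f, hm, hfm, fun x hx => ?_, fun x hx => ?_⟩
  · by_contra hxU
    exact (Proj.mem_basicOpen 𝒜 f x).mp hx ((Set.ext_iff.mp hs x).mp hxU hfJ)
  · exact (Proj.mem_basicOpen 𝒜 f x).mpr (hf x (hE.mem_toFinset.mpr hx))

theorem exists_affineOpen_of_immersion {X : Scheme.{u}} (ι : X ⟶ Proj 𝒜) [IsImmersion ι] (E : Set X)
    (hE : E.Finite) : ∃ U : X.Opens, IsAffineOpen U ∧ E ⊆ U := by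
  obtain ⟨m, f, hm, hfm, hle, hEf⟩ := exists_basicOpen_subset 𝒜 ι.coborderRange (hE.image ι.base)
    (by rintro _ ⟨x, -, rfl⟩; exact subset_coborder ⟨x, rfl⟩)
  refine ⟨ι ⁻¹ᵁ Proj.basicOpen 𝒜 f, ?_, fun x hx => hEf ⟨x, hx, rfl⟩⟩
  have hW : IsAffineOpen (ι.coborderRange.ι ⁻¹ᵁ Proj.basicOpen 𝒜 f) :=
    (Proj.isAffineOpen_basicOpen 𝒜 f hfm hm).preimage_of_isOpenImmersion _ (by rwa [Scheme.Opens.opensRange_ι])
  have h := hW.preimage ι.liftCoborder
  rwa [← Scheme.Hom.comp_preimage, ι.liftCoborder_ι] at h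

end Groth.L18.ProjAvoid
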