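import Groth.Agent.L08.Albanese.Isogeny
import Groth.Agent.L08.AbelianGrp
import Mathlib.AlgebraicGeometry.ZariskisMainTheorem

/-!
# A quasi-finite homomorphism of algebraic groups over a field is finite
-/

set_option autoImplicit false
set_option backward.isDefEq.respectTransparency.types false
set_option backward.isDefEq.respectTransparency false
set_option linter.style.haveILetI false

universe u

open CategoryTheory CategoryTheory.Limits MonoidalCategory CartesianMonoidalCategory MonObj AlgebraicGeometry

namespace Groth.L18.GrpHomFinite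

variable {k : Type u} [Field k]

/-- A homomorphism of algebraic groups with finite kernel is finite. -/
theorem isFinite_of_kernel_finite {G H E : Over (Spec (CommRingCat.of k))} [GrpObj G] [GrpObj H]
    [LocallyOfFiniteType G.hom] [LocallyOfFiniteType H.hom] [QuasiCompact G.hom]
    (φ : G ⟶ H) [IsMonHom φ] (i : E ⟶ G) (sq : AlgGrp.IsKernel i φ) [IsFinite E.hom] :
    IsFinite φ.left := by
  obtain ⟨C, gC, p, iC, _, _, hpi, _, _, _, _⟩ := Groth.L08.AbelianGrp.exists_image φ
  haveI : Mono iC := Over.mono_of_mono_left iC
  have sqp : AlgGrp.IsKernel i p := by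
    refine IsPullback.mk' ?_ (fun T a b h h' => sq.hom_ext h h') (fun T a b h => ?_)
    · rw [← cancel_mono iC, Category.assoc, hpi, sq.w, Category.assoc, IsMonHom.one_hom]
    · obtain ⟨d, hd, -⟩ := sq.exists_lift a b (by
        rw [← hpi, ← Category.assoc, h, Category.assoc, IsMonHom.one_hom])
      exact ⟨d, hd, toUnit_unique _ _⟩
  haveI : IsFinite p.left := Groth.L08.Albanese.isFinite_of_kernel p i sqp
  rw [← hpi, Over.comp_left]
  infer_instance

/-- A quasi-finite homomorphism of algebraic groups is finite. -/
theorem isFinite_of_locallyQuasiFinite {G H : Over (Spec (CommRingCat.of k))} [GrpObj G] [GrpObj H]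
    [LocallyOfFiniteType G.hom] [LocallyOfFiniteType H.hom] [QuasiCompact G.hom]
    (φ : G ⟶ H) [IsMonHom φ] [LocallyQuasiFinite φ.left] : IsFinite φ.left := by
  haveI := Groth.L08.AbelianGrp.quasiCompact_left φ
  obtain ⟨E, gE, i, _, _, -, sq⟩ := Groth.L08.AbelianGrp.exists_kernel φ
  have hE : (toUnit E).left = E.hom := (Category.comp_id _).symm.trans (Over.w (toUnit E))
  haveI : LocallyQuasiFinite E.hom :=
    hE ▸ MorphismProperty.of_isPullback (P := @LocallyQuasiFinite) (sq.map (Over.forget _)) ‹_›
  haveI : LocallyOfFiniteType E.hom := by rw [← Over.w i]; infer_instance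
  haveI : QuasiCompact E.hom := by rw [← Over.w i]; infer_instance
  haveI : IsFinite E.hom := IsFinite.of_locallyQuasiFinite E.hom
  exact isFinite_of_kernel_finite φ i sq

end Groth.L18.GrpHomFinite
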