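import Groth.Prelude.Def_Found
import Groth.Agent.L06.Catenary
import Mathlib.AlgebraicGeometry.Stalk
import Mathlib.AlgebraicGeometry.Properties
import Mathlib.AlgebraicGeometry.AffineScheme
import Mathlib.Topology.Sober
import Mathlib.Topology.NoetherianSpace

/-!
Catenary spaces and catenary rings: the order-theoretic form, transfer to local rings of schemes.
-/

set_option autoImplicit false
universe u v w

open TopologicalSpace

namespace Groth.L18.Cat

/-- bounded chains and saturated chains of equal length, for a preorder -/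
def OCat (α : Type v) [Preorder α] : Prop :=
  (∀ a b : α, a ≤ b → ∃ n : ℕ, ∀ s : LTSeries α, s.head = a → s.last = b → s.length ≤ n) ∧
  ∀ s t : LTSeries α, s.head = t.head → s.last = t.last →
    (∀ i : Fin s.length, s (Fin.castSucc i) ⋖ s (Fin.succ i)) →
    (∀ i : Fin t.length, t (Fin.castSucc i) ⋖ t (Fin.succ i)) →
    s.length = t.length

theorem isCatenary_iff (R : Type u) [CommRing R] : CAlg.IsCatenary R ↔ OCat (PrimeSpectrum R) := Iff.rfl

theorem oCat_of_emb {α : Type v} {β : Type w} [PartialOrder α] [PartialOrder β] (e : β ↪o α)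
    (he : (Set.range e).OrdConnected) (h : OCat α) : OCat β := by
  refine ⟨fun p q hpq => ?_, fun s t hh hl hs ht => ?_⟩
  · obtain ⟨n, hn⟩ := h.1 (e p) (e q) (e.le_iff_le.2 hpq)
    exact ⟨n, fun s h1 h2 => hn (s.map e e.strictMono) (congrArg e h1) (congrArg e h2)⟩
  · exact h.2 (s.map e e.strictMono) (t.map e e.strictMono) (congrArg e hh) (congrArg e hl)
      (fun i => (he.apply_covBy_apply_iff e).2 (hs i))
      (fun i => (he.apply_covBy_apply_iff e).2 (ht i))

theorem oCat_congr {α : Type v} {β : Type w} [PartialOrder α] [PartialOrder β] (e : α ≃o β) :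
    OCat α ↔ OCat β := by
  refine ⟨oCat_of_emb e.symm.toOrderEmbedding ?_, oCat_of_emb e.toOrderEmbedding ?_⟩
  · rw [show Set.range e.symm.toOrderEmbedding = Set.univ from e.symm.surjective.range_eq]
    exact Set.ordConnected_univ
  · rw [show Set.range e.toOrderEmbedding = Set.univ from e.surjective.range_eq]
    exact Set.ordConnected_univ

theorem oCat_dual_of {α : Type v} [PartialOrder α] (h : OCat α) : OCat αᵒᵈ := by
  have cov : ∀ s : LTSeries αᵒᵈ, (∀ i : Fin s.length, s (Fin.castSucc i) ⋖ s (Fin.succ i)) →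
      ∃ t : LTSeries α, t.length = s.length ∧ t.head = OrderDual.ofDual s.last ∧ t.last = OrderDual.ofDual s.head ∧
        ∀ i : Fin t.length, t (Fin.castSucc i) ⋖ t (Fin.succ i) := by
    intro s hs
    refine ⟨⟨s.length, fun i => OrderDual.ofDual (s i.rev), fun i => ?_⟩, rfl, ?_, ?_, fun i => ?_⟩
    · show OrderDual.ofDual (s (Fin.castSucc i).rev) < OrderDual.ofDual (s i.succ.rev)
      rw [Fin.rev_castSucc, Fin.rev_succ]
      exact s.step i.rev
    · simp [RelSeries.head, RelSeries.last]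
    · simp [RelSeries.head, RelSeries.last]
    · show OrderDual.ofDual (s (Fin.castSucc i).rev) ⋖ OrderDual.ofDual (s i.succ.rev)
      rw [Fin.rev_castSucc, Fin.rev_succ]
      exact (hs i.rev).ofDual
  refine ⟨fun a b hab => ?_, fun s t hh hl hs ht => ?_⟩
  · obtain ⟨n, hn⟩ := h.1 (OrderDual.ofDual b) (OrderDual.ofDual a) hab
    refine ⟨n, fun s h1 h2 => ?_⟩
    refine hn ⟨s.length, fun i => OrderDual.ofDual (s i.rev), fun i => ?_⟩ ?_ ?_
    · show OrderDual.ofDual (s (Fin.castSucc i).rev) < OrderDual.ofDual (s i.succ.rev)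
      rw [Fin.rev_castSucc, Fin.rev_succ]
      exact s.step i.rev
    · simp [RelSeries.head, ← h2, RelSeries.last]
    · simp [RelSeries.last, ← h1, RelSeries.head]
  · obtain ⟨s', hs1, hs2, hs3, hs4⟩ := cov s hs
    obtain ⟨t', ht1, ht2, ht3, ht4⟩ := cov t ht
    rw [← hs1, ← ht1]
    exact h.2 s' t' (by rw [hs2, ht2, hl]) (by rw [hs3, ht3, hh]) hs4 ht4

theorem oCat_dual_iff {α : Type v} [PartialOrder α] : OCat αᵒᵈ ↔ OCat α :=
  ⟨fun h => (oCat_congr (OrderIso.dualDual α)).mpr (oCat_dual_of h), oCat_dual_of⟩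

theorem oCat_Ici {α : Type v} [PartialOrder α] (a : α) (h : OCat α) : OCat (Set.Ici a) :=
  oCat_of_emb (OrderEmbedding.subtype _) (by
    rw [show Set.range (OrderEmbedding.subtype fun x => x ∈ Set.Ici a) = Set.Ici a from Subtype.range_val]
    exact Set.ordConnected_Ici) h

theorem oCat_of_forall_Ici {α : Type v} [PartialOrder α] (h : ∀ a : α, OCat (Set.Ici a)) : OCat α := by
  have lift : ∀ (a : α) (s : LTSeries α), a ≤ s.head →
      ∃ t : LTSeries (Set.Ici a), t.length = s.length ∧ (t.head : α) = s.head ∧ (t.last : α) = s.last ∧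
        ((∀ i : Fin s.length, s (Fin.castSucc i) ⋖ s (Fin.succ i)) →
          ∀ i : Fin t.length, t (Fin.castSucc i) ⋖ t (Fin.succ i)) := fun a s ha => by
    refine ⟨⟨s.length, fun i => ⟨s i, ha.trans (s.monotone (Fin.zero_le i))⟩, fun i => s.step i⟩,
      rfl, rfl, rfl, fun hs i => ⟨s.step i, fun c h1 h2 => (hs i).2 h1 h2⟩⟩
  refine ⟨fun a b hab => ?_, fun s t hh hl hs ht => ?_⟩
  · obtain ⟨n, hn⟩ := (h a).1 ⟨a, le_refl a⟩ ⟨b, hab⟩ hab
    refine ⟨n, fun s h1 h2 => ?_⟩
    obtain ⟨t, ht, hth, htl, -⟩ := lift a s h1.ge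
    rw [← ht]
    exact hn t (Subtype.ext (hth.trans h1)) (Subtype.ext (htl.trans h2))
  · obtain ⟨s', hs1, hs2, hs3, hs4⟩ := lift s.head s le_rfl
    obtain ⟨t', ht1, ht2, ht3, ht4⟩ := lift s.head t hh.le
    rw [← hs1, ← ht1]
    exact (h _).2 s' t' (Subtype.ext (by rw [hs2, ht2, hh])) (Subtype.ext (by rw [hs3, ht3, hl])) (hs4 hs) (ht4 ht)

theorem oCat_iff_forall_Ici {α : Type v} [PartialOrder α] : OCat α ↔ ∀ a : α, OCat (Set.Ici a) :=
  ⟨fun h a => oCat_Ici a h, oCat_of_forall_Ici⟩

section Space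

variable {X : Type u} [TopologicalSpace X]

theorem isCatenarySpace_iff_oCat : PtTop.IsCatenarySpace X ↔ OCat (IrreducibleCloseds X) := by
  refine ⟨fun h => ⟨fun a b hab => ?_, fun s t hh hl hs ht => ?_⟩, fun h T T' hT => ?_⟩
  · obtain ⟨n, hn⟩ := ENat.ne_top_iff_exists.mp (h a b hab).1
    refine ⟨n, fun s h1 h2 => ?_⟩
    have := Groth.L06.Catenary.le_codim s h1 (T := (b : Set X)) (by rw [h2])
    rw [← hn] at this
    exact_mod_cast this
  · have hle : s.head ≤ s.last := s.monotone (Fin.zero_le _)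
    have h1 := (h s.head s.last hle).2 s rfl rfl hs
    have h2 := (h s.head s.last hle).2 t hh.symm hl.symm ht
    exact_mod_cast h1.trans h2.symm
  · have hfin : PtTop.codim T (T' : Set X) ≠ ⊤ := by
      obtain ⟨n, hn⟩ := h.1 T T' hT
      refine ne_top_of_le_ne_top (ENat.coe_ne_top n) (Groth.L06.Catenary.codim_le fun s h1 h2 => ?_)
      rcases eq_or_lt_of_le (show s.last ≤ T' from h2) with e | e
      · exact_mod_cast hn s h1 e
      · have := hn (s.snoc T' e) (by rw [RelSeries.head_snoc, h1]) (by rw [RelSeries.last_snoc])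
        simp at this
        exact_mod_cast (Nat.le_succ _).trans this
    refine ⟨hfin, fun s h1 h2 hs => ?_⟩
    obtain ⟨t, ht1, ht2, ht3, ht4⟩ := Groth.L06.Catenary.exists_saturated_chain hT hfin
    rw [← ht4, h.2 s t (h1.trans ht1.symm) (h2.trans ht2.symm) hs ht3]

/-- the closure of a point -/
def cl (x : X) : IrreducibleCloseds X := ⟨closure {x}, isIrreducible_singleton.closure, isClosed_closure⟩

theorem cl_le_cl {x y : X} : cl x ≤ cl y ↔ y ⤳ x :=
  (show cl x ≤ cl y ↔ closure {x} ⊆ closure {y} from Iff.rfl).trans specializes_iff_closure_subset.symm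

theorem cl_surjective [QuasiSober X] : Function.Surjective (cl (X := X)) := fun Z =>
  ⟨Z.isIrreducible.genericPoint, IrreducibleCloseds.ext (by
    show closure {Z.isIrreducible.genericPoint} = (Z : Set X)
    rw [Z.isIrreducible.genericPoint_closure_eq, Z.isClosed.closure_eq])⟩

theorem cl_injective [T0Space X] : Function.Injective (cl (X := X)) := fun _ _ h =>
  ((cl_le_cl.mp h.ge).antisymm (cl_le_cl.mp h.le)).eq

theorem cl_lt_cl [T0Space X] {x y : X} : cl x < cl y ↔ y ⤳ x ∧ y ≠ x := by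
  rw [lt_iff_le_and_ne, cl_le_cl, ne_eq, cl_injective.eq_iff, ne_comm]

end Space

theorem isCatenary_iff_space (R : Type u) [CommRing R] :
    CAlg.IsCatenary R ↔ PtTop.IsCatenarySpace (PrimeSpectrum R) := by
  rw [isCatenary_iff, isCatenarySpace_iff_oCat, ← oCat_dual_iff (α := IrreducibleCloseds (PrimeSpectrum R))]
  exact oCat_congr (PrimeSpectrum.pointsEquivIrreducibleCloseds R)

theorem isCatenarySpace_congr {X Y : Type u} [TopologicalSpace X] [TopologicalSpace Y] (e : X ≃ₜ Y) :
    PtTop.IsCatenarySpace X ↔ PtTop.IsCatenarySpace Y := by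
  rw [isCatenarySpace_iff_oCat, isCatenarySpace_iff_oCat]
  refine oCat_congr
    { toFun := fun Z => ⟨e '' (Z : Set X), Z.isIrreducible.image e e.continuous.continuousOn, e.isClosedMap _ Z.isClosed⟩
      invFun := fun Z => ⟨e.symm '' (Z : Set Y), Z.isIrreducible.image e.symm e.symm.continuous.continuousOn,
        e.symm.isClosedMap _ Z.isClosed⟩
      left_inv := fun Z => IrreducibleCloseds.ext (e.symm_image_image (Z : Set X))
      right_inv := fun Z => IrreducibleCloseds.ext (e.image_symm_image (Z : Set Y))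
      map_rel_iff' := fun {a b} => Set.image_subset_image_iff e.injective }

section Scheme

open CategoryTheory AlgebraicGeometry

variable (X : Scheme.{u}) (x : X)

/-- primes of a local ring as irreducible closed sets through the point -/
noncomputable def stalkEmb : (PrimeSpectrum (X.presheaf.stalk x))ᵒᵈ ↪o IrreducibleCloseds X :=
  OrderEmbedding.ofMapLEIff (fun p => cl (X.fromSpecStalk x (OrderDual.ofDual p))) fun p q => by
    rw [cl_le_cl, (X.fromSpecStalk x).isEmbedding.toIsInducing.specializes_iff]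
    exact (PrimeSpectrum.le_iff_specializes (OrderDual.ofDual q) (OrderDual.ofDual p)).symm

theorem range_stalkEmb : Set.range (stalkEmb X x) = Set.Ici (cl x) := by
  ext Z
  obtain ⟨y, rfl⟩ := cl_surjective Z
  rw [Set.mem_Ici, cl_le_cl]
  constructor
  · rintro ⟨p, hp⟩
    rw [← cl_injective hp]
    have : X.fromSpecStalk x (OrderDual.ofDual p) ∈ Set.range (X.fromSpecStalk x) := ⟨_, rfl⟩
    rwa [Scheme.range_fromSpecStalk] at this
  · intro h
    obtain ⟨p, hp⟩ : y ∈ Set.range (X.fromSpecStalk x) := by rwa [Scheme.range_fromSpecStalk]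
    exact ⟨OrderDual.toDual p, congrArg cl hp⟩

theorem oCat_Ici_iff : OCat (Set.Ici (cl x)) ↔ CAlg.IsCatenary (X.presheaf.stalk x) := by
  rw [isCatenary_iff, ← oCat_dual_iff (α := PrimeSpectrum (X.presheaf.stalk x)), ← range_stalkEmb]
  exact (oCat_congr (stalkEmb X x).orderIso).symm

theorem isCatenarySpace_iff_stalks :
    PtTop.IsCatenarySpace X ↔ ∀ x : X, CAlg.IsCatenary (X.presheaf.stalk x) := by
  rw [isCatenarySpace_iff_oCat, oCat_iff_forall_Ici]
  refine ⟨fun h x => (oCat_Ici_iff X x).mp (h _), fun h Z => ?_⟩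
  obtain ⟨x, rfl⟩ := cl_surjective Z
  exact (oCat_Ici_iff X x).mpr (h x)

theorem isCatenary_affineOpen_iff (U : X.Opens) (hU : IsAffineOpen U) :
    CAlg.IsCatenary Γ(X, U) ↔ PtTop.IsCatenarySpace U :=
  (isCatenary_iff_space _).trans (isCatenarySpace_congr hU.isoSpec.schemeIsoToHomeo.symm)

end Scheme

end Groth.L18.Cat
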