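import Groth.Agent.L18.SymGraded
import Groth.Agent.L18.Frame
import Groth.Agent.L18.QMap.Props

/-!
# The symmetric algebra of an invertible module
-/

set_option autoImplicit false

noncomputable section

universe u

open CategoryTheory CategoryTheory.Limits AlgebraicGeometry TopologicalSpace Opposite HomogeneousLocalization
open Groth.L18

namespace Groth.L18.SymInv

open Groth.L18.Frame (rs ro IsFrame)

section Ring

variable {R M : Type u} [CommRing R] [AddCommGroup M] [Module R M] {e : M}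
  (he : Function.Bijective fun r : R => r • e)

include he in
theorem piece_mem_iff (n : ℕ) (x : SymmetricAlgebra R M) :
    x ∈ SymRing.piece R M n ↔ ∃ r : R, x = algebraMap R _ r * SymmetricAlgebra.ι R M e ^ n := by
  constructor
  · intro hx
    induction hx using Submodule.pow_induction_on_left' with
    | algebraMap r => exact ⟨r, by simp⟩
    | add x y i hx hy ihx ihy =>
      obtain ⟨a, rfl⟩ := ihx
      obtain ⟨b, rfl⟩ := ihy
      exact ⟨a + b, by rw [map_add, add_mul]⟩
    | mem_mul m hm i x hx ih =>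
      obtain ⟨m', rfl⟩ := hm
      obtain ⟨a, rfl⟩ := ih
      obtain ⟨c, rfl⟩ := he.2 m'
      exact ⟨c * a, by rw [map_smul, Algebra.smul_def, map_mul, Nat.succ_eq_add_one]; ring⟩
  · rintro ⟨r, rfl⟩
    rw [← Algebra.smul_def]
    refine Submodule.smul_mem _ _ ?_
    exact Submodule.pow_mem_pow _ (LinearMap.mem_range_self _ e) n

include he in
theorem coeff_inj (n : ℕ) {r : R} (h : algebraMap R (SymmetricAlgebra R M) r * SymmetricAlgebra.ι R M e ^ n = 0) :
    r = 0 := by
  let φ : M ≃ₗ[R] R := (LinearEquiv.ofBijective ((LinearMap.id : R →ₗ[R] R).smulRight e) he).symm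
  let f : SymmetricAlgebra R M →ₐ[R] R := SymmetricAlgebra.lift φ.toLinearMap
  have h' := congrArg f h
  rw [map_mul, map_pow, map_zero, AlgHom.commutes, SymmetricAlgebra.lift_ι_apply] at h'
  have hφ : φ e = 1 := (LinearEquiv.symm_apply_eq _).mpr (by simp)
  simpa [hφ] using h'

end Ring

variable {X : Scheme.{u}} {L : X.Modules} [Coh.IsQCoh L] {𝒯 : RelProj.QCGrAlg X} {j : L ⟶ 𝒯.toModule}
  (hj : RelProj.IsGrSymAlg L 𝒯 j) {U : X.Opens} (hU : IsAffineOpen U) {e : Γ(L, U)} (he : IsFrame L U e)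

omit [Coh.IsQCoh L] in
theorem bijective_smul (he : IsFrame L U e) : Function.Bijective fun r : Γ(X, U) => r • e := by
  simpa only [Groth.L18.Frame.rs_self] using he U le_rfl

/-- The image of the frame in degree one. -/
abbrev gen (j : L ⟶ 𝒯.toModule) (e : Γ(L, U)) : 𝒯.presheaf.obj (op U) := j.app U e

omit [Coh.IsQCoh L] in
theorem gen_mem (hj : RelProj.IsGrSymAlg L 𝒯 j) : gen j e ∈ 𝒯.deg U hU 1 := hj.2 U hU e

include hj he in
theorem mem_deg_iff (n : ℕ) (y : 𝒯.presheaf.obj (op U)) :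
    y ∈ 𝒯.deg U hU n ↔ ∃ r, y = (𝒯.str.app (op U)).hom r * gen j e ^ n := by
  obtain ⟨Φ, h0, h1, hdeg⟩ := SymSheaf.exists_gradedEquiv hj
  obtain ⟨x, rfl⟩ := (Φ U hU).surjective y
  rw [← hdeg U hU n x, piece_mem_iff (bijective_smul he)]
  constructor
  · rintro ⟨r, rfl⟩
    exact ⟨r, by rw [map_mul, map_pow, h0, h1]⟩
  · rintro ⟨r, hr⟩
    refine ⟨r, (Φ U hU).injective ?_⟩
    rw [hr, map_mul, map_pow, h0, h1]

include hj he hU in
theorem coeff_eq_zero (n : ℕ) {r : Γ(X, U)} (h : (𝒯.str.app (op U)).hom r * gen j e ^ n = 0) : r = 0 := by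
  obtain ⟨Φ, h0, h1, -⟩ := SymSheaf.exists_gradedEquiv hj
  refine coeff_inj (bijective_smul he) n ((Φ U hU).injective ?_)
  rw [map_zero, map_mul, map_pow, h0, h1]
  exact h

/-- `Γ(X, U) → 𝒯(U)_(gen)`. -/
def baseToAway (j : L ⟶ 𝒯.toModule) (e : Γ(L, U)) :
    Γ(X, U) →+* Away (𝒯.deg U hU) (gen j e) :=
  (fromZeroRingHom (𝒯.deg U hU) (Submonoid.powers (gen j e))).comp (𝒯.strZero U hU).hom

theorem baseToAway_val (r : Γ(X, U)) :
    (baseToAway hU j e r).val = algebraMap _ (Localization.Away (gen j e)) ((𝒯.str.app (op U)).hom r) := rfl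

include hj he in
theorem baseToAway_bijective : Function.Bijective (baseToAway hU j e) := by
  constructor
  · rw [injective_iff_map_eq_zero]
    intro r hr
    have h := congrArg HomogeneousLocalization.val hr
    rw [baseToAway_val, val_zero, IsLocalization.map_eq_zero_iff (Submonoid.powers (gen j e))] at h
    obtain ⟨⟨_, n, rfl⟩, hn⟩ := h
    exact coeff_eq_zero hj hU he n (by rw [mul_comm]; exact hn)
  · intro x
    obtain ⟨n, b, hb, rfl⟩ := Away.mk_surjective (𝒯.deg U hU) (gen_mem hU hj) x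
    obtain ⟨r, rfl⟩ := (mem_deg_iff hj hU he (n • 1) b).mp hb
    refine ⟨r, val_injective _ ?_⟩
    rw [baseToAway_val, Away.val_mk, Localization.mk_eq_mk', eq_comm, IsLocalization.mk'_eq_iff_eq_mul, ← map_mul]
    simp

include hj he in
theorem irrelevant_le_span :
    (HomogeneousIdeal.irrelevant (𝒯.deg U hU)).toIdeal ≤ Ideal.span {gen j e} := by
  refine le_trans ((HomogeneousIdeal.irrelevant_eq_iSup (𝒯.deg U hU)).le.trans ?_) le_rfl
  refine iSup_le fun i => iSup_le fun hi y hy => ?_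
  obtain ⟨r, rfl⟩ := (mem_deg_iff hj hU he i y).mp hy
  exact Ideal.mem_span_singleton.mpr (dvd_mul_of_dvd_right (dvd_pow_self _ hi.ne') _)

include hj he in
theorem not_mem (v : Proj (𝒯.deg U hU)) : gen j e ∉ v.asHomogeneousIdeal := fun h =>
  v.not_irrelevant_le ((irrelevant_le_span hj hU he).trans
    ((Ideal.span_singleton_le_iff_mem _).mpr h))

include hj he in
theorem isIso_awayι : IsIso (Proj.awayι (𝒯.deg U hU) (gen j e) (gen_mem hU hj) one_pos) := by
  haveI : Epi (Proj.awayι (𝒯.deg U hU) (gen j e) (gen_mem hU hj) one_pos).base := by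
    rw [TopCat.epi_iff_surjective]
    intro v
    exact (Proj.opensRange_awayι (𝒯.deg U hU) _ (gen_mem hU hj) one_pos).ge (not_mem hj hU he v)
  exact IsOpenImmersion.isIso _

include hj he in
theorem isIso_projBase : IsIso (RP.projBase 𝒯 U hU) := by
  haveI := isIso_awayι hj hU he
  haveI : IsIso (Spec.map (CommRingCat.ofHom (baseToAway hU j e))) := by
    haveI : IsIso (CommRingCat.ofHom (baseToAway hU j e)) :=
      (ConcreteCategory.isIso_iff_bijective _).mpr (baseToAway_bijective hj hU he)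
    infer_instance
  have h : IsIso (Proj.awayι (𝒯.deg U hU) (gen j e) (gen_mem hU hj) one_pos ≫ RP.projBase 𝒯 U hU) := by
    unfold RP.projBase RP.projπ
    simp only [Category.assoc, Proj.awayι_toSpecZero_assoc, ← Spec.map_comp_assoc]
    exact inferInstanceAs (IsIso (Spec.map (CommRingCat.ofHom (baseToAway hU j e)) ≫ _))
  exact IsIso.of_isIso_comp_left (Proj.awayι (𝒯.deg U hU) (gen j e) (gen_mem hU hj) one_pos) _

omit [Coh.IsQCoh L] in
theorem exists_affine_frame (hL : PicF.IsInvertible L) (x : X) (V : X.Opens) (hx : x ∈ V) :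
    ∃ (U : X.Opens) (_ : IsAffineOpen U) (e : Γ(L, U)), x ∈ U ∧ U ≤ V ∧ IsFrame L U e := by
  obtain ⟨W, e, hxW, he⟩ := Groth.L18.Frame.exists_frame hL x
  obtain ⟨U, hU, hxU, hUV⟩ := exists_isAffineOpen_mem_and_subset (x := x) (U := W ⊓ V) ⟨hxW, hx⟩
  exact ⟨U, hU, rs L (fun y hy => (hUV hy).1) e, hxU, fun y hy => (hUV hy).2, he.mono _⟩

variable (hL : PicF.IsInvertible L) {P : Scheme.{u}} {p : P ⟶ X}
  {chart : ∀ (U : X.Opens) (hU : IsAffineOpen U), (((p ⁻¹ᵁ U : P.Opens) : Scheme.{u}) ≅ Proj (𝒯.deg U hU))}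
  (hP : RelProj.IsRelProj 𝒯 p chart)

include hj hL hP in
theorem isIso_relProj : IsIso p := by
  choose U hU e hx hle he using fun x : X => exists_affine_frame (L := L) hL x ⊤ trivial
  refine IsZariskiLocalAtTarget.of_iSup_eq_top (P := MorphismProperty.isomorphisms Scheme.{u}) U
    (top_le_iff.mp fun x _ => Opens.mem_iSup.mpr ⟨x, hx x⟩) fun x => ?_
  rw [← RP.chart_projBase hP (U x) (hU x),
    MorphismProperty.cancel_left_of_respectsIso (MorphismProperty.isomorphisms Scheme.{u})]
  exact isIso_projBase hj (hU x) (he x)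

end Groth.L18.SymInv
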