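import Groth.Agent.L18.QCohColim
import Groth.Agent.L16.AffineBC.Local
import Groth.Agent.L16.AffineBC.Pullback
import Groth.Agent.L16.QcqsPush
import Groth.Prelude.Def_RelSpec2
import Mathlib.Topology.Sheaves.SheafCondition.Sites

/-!
# Exactness of the direct image along an affine morphism as a functor to `f_* O`-modules
-/

set_option autoImplicit false
set_option linter.style.haveILetI false
set_option backward.isDefEq.respectTransparency false
set_option backward.isDefEq.respectTransparency.types false

noncomputable section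

universe u

open CategoryTheory CategoryTheory.Limits AlgebraicGeometry TopologicalSpace Opposite

namespace Groth.L18.DirImg

open Groth.L18.QCohColim (secF)

theorem isIso_of_isIso_affine {S : Scheme.{u}} {M N : S.Modules} (φ : M ⟶ N)
    (h : ∀ U : S.Opens, IsAffineOpen U → IsIso ((secF U).map φ)) : IsIso φ := by
  let F : TopCat.Sheaf AddCommGrpCat.{u} S := ⟨M.presheaf, M.isSheaf⟩
  let G : TopCat.Sheaf AddCommGrpCat.{u} S := ⟨N.presheaf, N.isSheaf⟩
  let ψ : F ⟶ G := ⟨φ.mapPresheaf⟩
  haveI : IsIso ψ := TopCat.Sheaf.isIso_iff_isIso_basis (φ := ψ) Groth.L16.AffineBC.isBasis_affine fun W => h W.1 W.2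
  haveI : IsIso ψ.hom := inferInstanceAs (IsIso ((TopCat.Sheaf.forget _ _).map ψ))
  haveI : IsIso ((Scheme.Modules.toPresheaf S).map φ) := inferInstanceAs (IsIso ψ.hom)
  exact isIso_of_reflects_iso φ (Scheme.Modules.toPresheaf S)

variable {X S : Scheme.{u}} (f : X ⟶ S) [IsAffineHom f]

theorem isQCoh_push (F : X.Modules) (hF : Coh.IsQCoh F) : Coh.IsQCoh ((Scheme.Modules.pushforward f).obj F) :=
  haveI := hF
  Groth.L16.QcqsPush.isQCoh_push F f

/-- Direct image along an affine morphism preserves colimits of quasi-coherent modules. -/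
theorem preservesColimit_pushforward {J : Type u} [SmallCategory J] (D : J ⥤ X.Modules)
    (hD : ∀ j, Coh.IsQCoh (D.obj j)) : PreservesColimit D (Scheme.Modules.pushforward f) := by
  let P := Scheme.Modules.pushforward f
  refine preservesColimit_of_preserves_colimit_cocone (colimit.isColimit D) ?_
  haveI : IsIso (colimit.desc (D ⋙ P) (P.mapCocone (colimit.cocone D))) := by
    refine isIso_of_isIso_affine _ fun U hU => ?_
    haveI := QCohColim.preservesColimit_secF hU (D ⋙ P) fun j => isQCoh_push f _ (hD j)
    haveI := QCohColim.preservesColimit_secF (hU.preimage f) D hD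
    let h1 : IsColimit ((secF U).mapCocone (colimit.cocone (D ⋙ P))) :=
      isColimitOfPreserves (secF U) (colimit.isColimit (D ⋙ P))
    let h2 : IsColimit ((secF U).mapCocone (P.mapCocone (colimit.cocone D))) :=
      isColimitOfPreserves (secF (f ⁻¹ᵁ U)) (colimit.isColimit D)
    have e : (secF U).map (colimit.desc (D ⋙ P) (P.mapCocone (colimit.cocone D))) =
        (h1.coconePointUniqueUpToIso h2).hom := by
      refine h1.hom_ext fun j => ?_
      rw [h1.comp_coconePointUniqueUpToIso_hom h2]
      show (secF U).map _ ≫ (secF U).map _ = _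
      rw [← Functor.map_comp, show (colimit.cocone (D ⋙ P)).ι.app j = colimit.ι (D ⋙ P) j from rfl, colimit.ι_desc]
      rfl
    rw [e]
    infer_instance
  haveI : IsIso ((colimit.isColimit (D ⋙ P)).desc ((Scheme.Modules.pushforward f).mapCocone (colimit.cocone D))) := this
  exact IsColimit.ofPointIso (colimit.isColimit (D ⋙ P))

theorem toOS_map_injective {M N : AMod (RelSpec.QCAlg.directImage f)} {u v : M ⟶ N}
    (h : (AMod.toOS _).map u = (AMod.toOS _).map v) : u = v := by
  apply SheafOfModules.hom_ext
  refine PresheafOfModules.hom_ext ?_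
  intro U
  refine ModuleCat.hom_ext (LinearMap.ext fun s => ?_)
  exact congrArg (fun t : (AMod.toOS _).obj M ⟶ (AMod.toOS _).obj N => t.val.app U s) h

theorem epi_dirImg_map {F G : X.Modules} (hF : Coh.IsQCoh F) (hG : Coh.IsQCoh G) (v : F ⟶ G) [Epi v] :
    Epi ((AMod.dirImg f).map v) := by
  haveI := hF
  haveI := hG
  refine ⟨fun {Z} a b h => toOS_map_injective f ?_⟩
  refine Groth.L16.AffineBC.hom_ext_affine _ _ fun U hU m => ?_
  obtain ⟨y, rfl⟩ := Groth.L16.AffineBC.surjective_app_of_epi v (hU.preimage f) m
  exact congrArg (fun t : (AMod.dirImg f).obj F ⟶ Z => t.val.app (op U) y) h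

/-- The direct image as modules over `f_* O` preserves colimits of quasi-coherent modules. -/
theorem preservesColimit_dirImg {J : Type u} [SmallCategory J] (D : J ⥤ X.Modules)
    (hD : ∀ j, Coh.IsQCoh (D.obj j)) : PreservesColimit D (AMod.dirImg f) := by
  haveI := preservesColimit_pushforward f D hD
  let c := colimit.cocone D
  let hc : IsColimit ((Scheme.Modules.pushforward f).mapCocone c) := isColimitOfPreserves _ (colimit.isColimit D)
  have hex : ∀ t : Cocone (D ⋙ AMod.dirImg f), ∃ θ : (AMod.dirImg f).obj c.pt ⟶ t.pt,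
      (AMod.toOS _).map θ = hc.desc ((AMod.toOS _).mapCocone t) := by
    intro t
    let θ := hc.desc ((AMod.toOS _).mapCocone t)
    let B := AMod.ringSheaf (RelSpec.QCAlg.directImage f)
    have haff : ∀ (U : S.Opens), IsAffineOpen U → ∀ (r : B.obj.obj (op U)) (s : ((AMod.dirImg f).obj c.pt).val.obj (op U)),
        θ.mapPresheaf.app (op U) (r • s) = r • (show t.pt.val.obj (op U) from θ.mapPresheaf.app (op U) s) := by
      intro U hU r
      haveI := QCohColim.preservesColimit_secF (hU.preimage f) D hD
      let h2 : IsColimit ((secF (f ⁻¹ᵁ U)).mapCocone c) := isColimitOfPreserves _ (colimit.isColimit D)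
      let a1 : ((secF (f ⁻¹ᵁ U)).mapCocone c).pt ⟶ (secF U).obj ((AMod.toOS _).obj t.pt) :=
        AddCommGrpCat.ofHom (AddMonoidHom.mk'
          (fun s : ((AMod.dirImg f).obj c.pt).val.obj (op U) => θ.mapPresheaf.app (op U) (r • s))
          (fun x y => by rw [smul_add]; exact map_add _ _ _))
      let a2 : ((secF (f ⁻¹ᵁ U)).mapCocone c).pt ⟶ (secF U).obj ((AMod.toOS _).obj t.pt) :=
        AddCommGrpCat.ofHom (AddMonoidHom.mk'
          (fun s : ((AMod.dirImg f).obj c.pt).val.obj (op U) =>
            r • (show t.pt.val.obj (op U) from θ.mapPresheaf.app (op U) s))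
          (fun x y => (congrArg (fun z : t.pt.val.obj (op U) => r • z) (map_add (θ.mapPresheaf.app (op U)).hom x y)).trans
            (smul_add r _ _)))
      have ha : a1 = a2 := by
        refine h2.hom_ext fun j => ?_
        refine AddCommGrpCat.ext fun (y : ((AMod.dirImg f).obj (D.obj j)).val.obj (op U)) => ?_
        have hj : ∀ z : ((AMod.dirImg f).obj (D.obj j)).val.obj (op U),
            θ.mapPresheaf.app (op U) (((AMod.dirImg f).map (c.ι.app j)).val.app (op U) z) = (t.ι.app j).val.app (op U) z :=
          fun z => congrArg (fun m : (Scheme.Modules.pushforward f).obj (D.obj j) ⟶ (AMod.toOS _).obj t.pt =>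
            m.val.app (op U) z) (hc.fac ((AMod.toOS _).mapCocone t) j)
        show θ.mapPresheaf.app (op U) (r • (((AMod.dirImg f).map (c.ι.app j)).val.app (op U) y)) =
          r • (show t.pt.val.obj (op U) from θ.mapPresheaf.app (op U) (((AMod.dirImg f).map (c.ι.app j)).val.app (op U) y))
        rw [← (((AMod.dirImg f).map (c.ι.app j)).val.app (op U)).hom.map_smul, hj, hj]
        exact ((t.ι.app j).val.app (op U)).hom.map_smul r y
      exact fun s => ConcreteCategory.congr_hom ha s
    have hlin : ∀ (V : (Opens S)ᵒᵖ) (r : B.obj.obj V) (s : ((AMod.dirImg f).obj c.pt).val.obj V),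
        θ.mapPresheaf.app V (r • s) = r • (show t.pt.val.obj V from θ.mapPresheaf.app V s) := by
      intro V r s
      obtain ⟨Us, hUs, hV⟩ := TopologicalSpace.Opens.isBasis_iff_cover.1 S.isBasis_affineOpens V.unop
      refine TopCat.Sheaf.eq_of_locally_eq' ⟨((AMod.toOS _).obj t.pt).presheaf, ((AMod.toOS _).obj t.pt).isSheaf⟩
        (fun W : Us => (W : S.Opens)) V.unop
        (fun W => homOfLE ((le_sSup W.2).trans hV.ge)) (hV.le.trans (sSup_eq_iSup' _).le) _ _ fun W => ?_
      let i : op V.unop ⟶ op (W : S.Opens) := (homOfLE ((le_sSup W.2).trans hV.ge)).op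
      refine (ConcreteCategory.congr_hom (θ.mapPresheaf.naturality i) (r • s)).symm.trans ?_
      refine Eq.trans ?_ (t.pt.val.map_smul i r (show t.pt.val.obj V from θ.mapPresheaf.app V s)).symm
      show θ.mapPresheaf.app (op (W : S.Opens)) (((AMod.dirImg f).obj c.pt).val.map i (r • s)) = _
      rw [PresheafOfModules.map_smul, haff _ (hUs W.2)]
      exact congrArg _ (ConcreteCategory.congr_hom (θ.mapPresheaf.naturality i) s)
    exact ⟨⟨PresheafOfModules.homMk θ.mapPresheaf hlin⟩, rfl⟩
  choose desc hdesc using hex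
  refine preservesColimit_of_preserves_colimit_cocone (colimit.isColimit D)
    { desc := desc
      fac := fun t j => toOS_map_injective f (by
        rw [Functor.map_comp, hdesc]
        exact hc.fac _ j)
      uniq := fun t m hm => toOS_map_injective f (by
        rw [hdesc]
        refine hc.hom_ext fun j => ?_
        rw [hc.fac]
        exact (congrArg (AMod.toOS _).map (hm j)).symm.trans ((AMod.toOS _).map_comp _ _) |>.symm) }

end Groth.L18.DirImg
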