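import Groth.Agent.L18.KerReduced
import Mathlib.AlgebraicGeometry.QuasiAffine
import Mathlib.AlgebraicGeometry.Morphisms.Affine
import Mathlib.AlgebraicGeometry.Morphisms.QuasiSeparated

/-!
Affineness from surjectivity of restriction to closed subschemes.
-/

set_option autoImplicit false
set_option backward.isDefEq.respectTransparency false
universe u

open CategoryTheory AlgebraicGeometry TopologicalSpace Opposite

noncomputable section

namespace Groth.L18.AffineCrit

variable {X : Scheme.{u}}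

/-- restriction -/
abbrev res {U V : X.Opens} (h : U ≤ V) : Γ(X, V) →+* Γ(X, U) := (X.presheaf.map (homOfLE h).op).hom

theorem mem_of_prime_avoid {R : Type*} [CommRing R] (I p : Ideal R) [p.IsPrime] (g : R)
    (h : ∀ q : Ideal R, q.IsPrime → I ≤ q → q ≤ p → g ∈ q) :
    ∃ b, b ∉ p ∧ ∃ n : ℕ, b * g ^ n ∈ I := by
  by_contra hne
  push Not at hne
  let S : Submonoid R := p.primeCompl ⊔ Submonoid.powers g
  have hd : Disjoint (I : Set R) S := by
    rw [Set.disjoint_left]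
    intro x hxI hxS
    obtain ⟨b, hb, _, ⟨n, rfl⟩, rfl⟩ := Submonoid.mem_sup.1 hxS
    exact hne b hb n hxI
  obtain ⟨q, hq, hIq, hqS⟩ := Ideal.exists_le_prime_disjoint I S hd
  have hqp : q ≤ p := fun x hx => by
    by_contra hxp
    exact Set.disjoint_left.1 hqS hx (Submonoid.mem_sup_left hxp)
  exact Set.disjoint_left.1 hqS (h q hq hIq hqp) (Submonoid.mem_sup_right (Submonoid.mem_powers g))

/-- functions with affine non-vanishing locus near closed points -/
theorem exists_fun_of_closed_point (A : X.Opens) {U : X.Opens} (hU : IsAffineOpen U) (hUA : U ≤ A) {x : X}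
    (hxU : x ∈ U) {C : Set X} (hC : IsClosed C) (hxC : x ∈ C) (hCU : C ∩ A ⊆ U)
    {T : Scheme.{u}} (i : T ⟶ X) (hsurj : Function.Surjective (i.app A))
    (hxr : x ∈ Set.range i) (hr : (A : Set X) \ U ⊆ Set.range i)
    (hsplit : ∀ t : T, i t ∈ U → i t ∈ C) :
    ∃ f : Γ(X, A), IsAffineOpen (X.basicOpen f) ∧ x ∈ X.basicOpen f := by
  let P : T.Opens := i ⁻¹ᵁ U
  let Q : T.Opens := i ⁻¹ᵁ A ⊓ i ⁻¹ᵁ ⟨Cᶜ, hC.isOpen_compl⟩
  have hPQ : P ⊓ Q = ⊥ := by
    rw [eq_bot_iff]
    rintro t ⟨htU, -, ht⟩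
    exact (ht (hsplit t htU)).elim
  have hcov : i ⁻¹ᵁ A ≤ P ⊔ Q := fun t ht => by
    by_cases h : i t ∈ C
    · exact Or.inl (hCU ⟨h, ht⟩)
    · exact Or.inr ⟨ht, h⟩
  let W : Bool → T.Opens := fun b => if b then P else Q
  have hW : ∀ b, W b ≤ i ⁻¹ᵁ A := fun b => by
    cases b
    · exact inf_le_left
    · exact i.preimage_mono hUA
  obtain ⟨e, he, -⟩ := T.sheaf.existsUnique_gluing' W (i ⁻¹ᵁ A) (fun b => homOfLE (hW b))
    (fun t ht => (hcov ht).elim (fun h => Opens.mem_iSup.2 ⟨true, h⟩) (fun h => Opens.mem_iSup.2 ⟨false, h⟩))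
    (fun b => if b then 1 else 0) (fun b b' => by
      cases b <;> cases b'
      · rfl
      · have h' : Subsingleton Γ(T, W false ⊓ W true) := by
          rw [show W false ⊓ W true = ⊥ from (inf_comm _ _).trans hPQ]
          exact CommRingCat.subsingleton_of_isTerminal T.sheaf.isTerminalOfEmpty
        exact @Subsingleton.elim _ h' _ _
      · have h' : Subsingleton Γ(T, W true ⊓ W false) := by
          rw [show W true ⊓ W false = ⊥ from hPQ]
          exact CommRingCat.subsingleton_of_isTerminal T.sheaf.isTerminalOfEmpty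
        exact @Subsingleton.elim _ h' _ _
      · rfl)
  obtain ⟨f, hf⟩ := hsurj e
  have hmem : ∀ (b : Bool) (t : T), t ∈ W b → (i t ∈ X.basicOpen f ↔ b = true) := by
    intro b t ht
    show t ∈ i ⁻¹ᵁ X.basicOpen f ↔ _
    rw [Scheme.preimage_basicOpen, hf, T.mem_basicOpen e t (hW b ht),
      ← T.presheaf.germ_res_apply (homOfLE (hW b)) t ht e]
    rw [show T.presheaf.map (homOfLE (hW b)).op e = _ from he b]
    cases b
    · simp
    · simp
  have hxf : x ∈ X.basicOpen f := by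
    obtain ⟨t, rfl⟩ := hxr
    exact (hmem true t hxU).2 rfl
  have hfU : X.basicOpen f ≤ U := by
    intro y hy
    by_contra hyU
    obtain ⟨t, rfl⟩ := hr ⟨X.basicOpen_le f hy, hyU⟩
    have htQ : t ∈ Q := ⟨X.basicOpen_le f hy, fun h' => hyU (hCU ⟨h', X.basicOpen_le f hy⟩)⟩
    simpa using (hmem false t htQ).1 hy
  refine ⟨f, ?_, hxf⟩
  have e : X.basicOpen (res hUA f) = X.basicOpen f := by
    rw [X.basicOpen_res]; exact inf_eq_right.2 hfU
  rw [← e]
  exact hU.basicOpen _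

theorem exists_closed_in {A : X.Opens} (hA : IsCompact (A : Set X)) {y : X} (hy : y ∈ A) :
    ∃ x, x ∈ A ∧ y ⤳ x ∧ IsClosed ({x} ∪ (A : Set X)ᶜ) := by
  haveI : CompactSpace A.toScheme := isCompact_iff_compactSpace.mp hA
  haveI : CompactSpace A := isCompact_iff_compactSpace.mp hA
  obtain ⟨z, hz, hzc⟩ := IsClosed.exists_closed_singleton (X := A.toScheme) (S := closure {(⟨y, hy⟩ : A.toScheme)}) isClosed_closure
    ⟨_, subset_closure rfl⟩
  refine ⟨A.ι z, z.2, ?_, ?_⟩
  · exact (specializes_iff_mem_closure.2 hz).map A.ι.continuous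
  · have h2 : IsOpen (A.ι '' ({z}ᶜ : Set A.toScheme)) := A.ι.isOpenEmbedding.isOpenMap _ hzc.isOpen_compl
    have e : ({A.ι z} ∪ (A : Set X)ᶜ)ᶜ = A.ι '' ({z}ᶜ : Set A.toScheme) := by
      ext w
      simp only [Set.compl_union, compl_compl, Set.mem_inter_iff, Set.mem_compl_iff, Set.mem_singleton_iff,
        SetLike.mem_coe, Set.mem_image]
      constructor
      · rintro ⟨hne, hw⟩
        exact ⟨⟨w, hw⟩, fun h => hne (congrArg A.ι h), rfl⟩
      · rintro ⟨v, hv, rfl⟩
        exact ⟨fun h => hv (A.ι.isOpenEmbedding.injective h), v.2⟩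
    exact ⟨e ▸ h2⟩

/-- an affineness criterion -/
theorem isAffineOpen_of_lifting (A : X.Opens) (hA : IsCompact (A : Set X)) (hA' : IsQuasiSeparated (A : Set X))
    (hpt : ∀ (x : X) (U : X.Opens), IsAffineOpen U → U ≤ A → x ∈ U → IsClosed ({x} ∪ (A : Set X)ᶜ) →
      ∃ (C : Set X) (T : Scheme.{u}) (i : T ⟶ X), IsClosed C ∧ x ∈ C ∧ C ∩ A ⊆ U ∧
        Function.Surjective (i.app A) ∧ x ∈ Set.range i ∧
        (A : Set X) \ U ⊆ Set.range i ∧ ∀ t : T, i t ∈ U → i t ∈ C)
    (hz : ∀ z ∈ A, ∀ E : Finset Γ(X, A), (∀ a ∈ E, z ∉ X.basicOpen a) →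
      ∃ (T : Scheme.{u}) (i : T ⟶ X), Function.Surjective (i.app A) ∧ z ∈ Set.range i ∧
        ∀ a ∈ E, i.app A a = 0) :
    IsAffineOpen A := by
  classical
  have hcov : ∀ y ∈ A, ∃ f : Γ(X, A), IsAffineOpen (X.basicOpen f) ∧ y ∈ X.basicOpen f := by
    intro y hy
    obtain ⟨x, hxA, hyx, hxc⟩ := exists_closed_in hA hy
    obtain ⟨_, ⟨U, hU, rfl⟩, hxU, hUA⟩ := X.isBasis_affineOpens.exists_subset_of_mem_open hxA A.2
    obtain ⟨C, T, i, hC, hxC, hCU, hs, hxr, hr, hsp⟩ := hpt x U hU hUA hxU hxc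
    obtain ⟨f, hf, hxf⟩ := exists_fun_of_closed_point A hU hUA hxU hC hxC hCU i hs hxr hr hsp
    exact ⟨f, hf, hyx.mem_open (X.basicOpen f).2 hxf⟩
  choose f hf hyf using hcov
  obtain ⟨F, hF⟩ := hA.elim_finite_subcover (fun y : A => (X.basicOpen (f y.1 y.2) : Set X))
    (fun y => (X.basicOpen _).2) (fun y hy => Set.mem_iUnion.2 ⟨⟨y, hy⟩, hyf y hy⟩)
  let g : F → Γ(X, A) := fun k => f k.1.1 k.1.2
  have hg : ∀ y ∈ A, ∃ k : F, y ∈ X.basicOpen (g k) := fun y hy => by
    obtain ⟨k, hk, hyk⟩ := Set.mem_iUnion₂.1 (hF hy)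
    exact ⟨⟨k, hk⟩, hyk⟩

  suffices hspan : Ideal.span (Set.range g) = ⊤ by
    refine isAffine_of_isAffineOpen_basicOpen (X := A.toScheme) (Set.range fun k => A.topIso.inv (g k)) ?_ ?_
    · rw [show (Set.range fun k => A.topIso.inv (g k)) = A.topIso.inv.hom '' Set.range g from Set.range_comp _ g,
        ← Ideal.map_span, hspan, Ideal.map_top]
    · rintro _ ⟨k, rfl⟩
      rw [← Scheme.Hom.isAffineOpen_iff_of_isOpenImmersion A.ι, Scheme.Opens.ι_image_basicOpen_topIso_inv]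
      exact hf _ _
  by_contra hne
  obtain ⟨p, hp, hle⟩ := Ideal.exists_le_maximal _ hne
  haveI := hp.isPrime
  have hgp : ∀ k, g k ∈ p := fun k => hle (Ideal.subset_span ⟨k, rfl⟩)
  -- some prime below `p` is a point of `A`
  have hS : ∃ q : Ideal Γ(X, A), q.IsPrime ∧ q ≤ p ∧ ∃ k, g k ∉ q := by
    by_contra hall
    push Not at hall
    choose b hb n hn using fun k => mem_of_prime_avoid ⊥ p (g k) fun q hq _ hqp => hall q hq hqp k
    have hzero : ∏ k, b k = 0 := by
      refine X.sheaf.eq_of_locally_eq' (fun k => X.basicOpen (g k)) A (fun k => homOfLE (X.basicOpen_le _))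
        (fun y hy => Opens.mem_iSup.2 (hg y hy)) _ _ fun k => ?_
      show res (X.basicOpen_le (g k)) (∏ k, b k) = res (X.basicOpen_le (g k)) 0
      rw [map_zero, ← Finset.mul_prod_erase _ _ (Finset.mem_univ k), map_mul]
      have h1 : IsUnit (res (X.basicOpen_le (g k)) (g k)) := RingedSpace.isUnit_res_basicOpen _ _
      have h2 := congrArg (res (X.basicOpen_le (g k))) ((Submodule.mem_bot _).1 (hn k))
      rw [map_mul, map_pow, map_zero, (h1.pow (n k)).mul_left_eq_zero] at h2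
      rw [h2, zero_mul]
    obtain ⟨k, -, hk⟩ := hp.isPrime.prod_mem_iff.1 (hzero ▸ p.zero_mem)
    exact hb k hk
  obtain ⟨q₀, hq₀, hq₀p, k₀, hk₀⟩ := hS
  obtain ⟨q, hq₀q, ⟨hq, hqp, k₁, hk₁⟩, hmax⟩ := zorn_le_nonempty₀
    {q : Ideal Γ(X, A) | q.IsPrime ∧ q ≤ p ∧ ∃ k, g k ∉ q} (fun c hc hchain y hy => by
      have hdir : DirectedOn (· ≤ ·) c := hchain.directedOn
      have hne' : c.Nonempty := ⟨y, hy⟩
      refine ⟨sSup c, ⟨?_, sSup_le fun q hq => (hc hq).2.1, ?_⟩, fun z hz => le_sSup hz⟩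
      · refine ⟨fun h => hp.ne_top (top_le_iff.1 (h.ge.trans (sSup_le fun q hq => (hc hq).2.1))), fun {a b} hab => ?_⟩
        rw [Submodule.mem_sSup_of_directed hne' hdir] at hab
        obtain ⟨q, hqc, hq⟩ := hab
        exact ((hc hqc).1.mem_or_mem hq).imp (Ideal.mem_sSup_of_mem hqc) (Ideal.mem_sSup_of_mem hqc)
      · by_contra hall
        push Not at hall
        choose q hq hgq using fun k => (Submodule.mem_sSup_of_directed hne' hdir).1 (hall k)
        obtain ⟨k⟩ : Nonempty F := by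
          obtain ⟨k, -⟩ := (hc hy).2.2
          exact ⟨k⟩
        haveI : Nonempty F := ⟨k⟩
        obtain ⟨Q, hQc, hQ⟩ : ∃ Q ∈ c, ∀ k, q k ≤ Q := by
          suffices H : ∀ t : Finset F, ∃ Q ∈ c, ∀ k ∈ t, q k ≤ Q by
            obtain ⟨Q, hQ, h⟩ := H Finset.univ
            exact ⟨Q, hQ, fun k => h k (Finset.mem_univ k)⟩
          intro t
          induction t using Finset.induction with
          | empty => exact ⟨y, hy, by simp⟩
          | insert a t _ ih =>
            obtain ⟨Q, hQ, h⟩ := ih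
            obtain ⟨R, hR, hQR, haR⟩ := hdir Q hQ (q a) (hq a)
            exact ⟨R, hR, fun k hk => (Finset.mem_insert.1 hk).elim (fun e => e ▸ haR) fun hk => (h k hk).trans hQR⟩
        obtain ⟨k', hk'⟩ := (hc hQc).2.2
        exact hk' (hQ k' (hgq k')))
    q₀ ⟨hq₀, hq₀p, k₀, hk₀⟩
  -- the point
  haveI := isLocalization_basicOpen_of_qcqs hA hA' (g k₁)
  have hD : IsAffineOpen (X.basicOpen (g k₁)) := hf _ _
  have hdisj : Disjoint (Submonoid.powers (g k₁) : Set Γ(X, A)) q := by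
    rw [Set.disjoint_left]
    rintro _ ⟨n, rfl⟩ h
    exact hk₁ (hq.mem_of_pow_mem n h)
  let q' := q.map (algebraMap Γ(X, A) Γ(X, X.basicOpen (g k₁)))
  have hq' : q'.IsPrime := IsLocalization.isPrime_of_isPrime_disjoint (.powers (g k₁)) _ q hq hdisj
  have hcomap : q'.comap (algebraMap Γ(X, A) Γ(X, X.basicOpen (g k₁))) = q :=
    IsLocalization.under_map_of_isPrime_disjoint (.powers (g k₁)) _ hq hdisj
  let z : X := hD.fromSpec ⟨q', hq'⟩
  have hzD : z ∈ X.basicOpen (g k₁) := hD.opensRange_fromSpec.le ⟨_, rfl⟩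
  have hzr : ∀ r : Γ(X, A), z ∈ X.basicOpen r ↔ r ∉ q := by
    intro r
    have h := hD.fromSpec_preimage_basicOpen (res (X.basicOpen_le (g k₁)) r)
    have h1 : z ∈ X.basicOpen r ↔ z ∈ X.basicOpen (res (X.basicOpen_le (g k₁)) r) := by
      rw [X.basicOpen_res]; exact ⟨fun h => ⟨hzD, h⟩, fun h => h.2⟩
    rw [h1]
    refine (SetLike.ext_iff.mp h (⟨q', hq'⟩ : PrimeSpectrum _)).trans ?_
    show res (X.basicOpen_le (g k₁)) r ∉ q' ↔ _
    conv_rhs => rw [← hcomap]
    rfl
  have hzA : z ∈ A := X.basicOpen_le _ hzD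
  -- an element of `p` outside `q`
  obtain ⟨c, hcp, hcq⟩ : ∃ c ∈ p, c ∉ q := ⟨g k₁, hgp k₁, hk₁⟩
  have hkey : ∀ k, ∃ b, b ∉ p ∧ ∃ n : ℕ, b * g k ^ n ∈ q ⊔ Ideal.span {c} := fun k =>
    mem_of_prime_avoid _ p (g k) fun q'' hq'' hle'' hq''p => by
      by_contra hk
      have : q = q'' := le_antisymm (le_sup_left.trans hle'') (hmax ⟨hq'', hq''p, k, hk⟩ (le_sup_left.trans hle''))
      exact hcq (this ▸ hle'' (Ideal.mem_sup_right (Ideal.mem_span_singleton_self c)))
  choose b hb n hn using hkey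
  let β := ∏ k, b k
  let N := Finset.univ.sup n
  have hβ : ∀ k, β * g k ^ N ∈ q ⊔ Ideal.span {c} := fun k => by
    have e : β * g k ^ N = ((∏ l ∈ Finset.univ.erase k, b l) * g k ^ (N - n k)) * (b k * g k ^ n k) := by
      rw [show g k ^ N = g k ^ (N - n k) * g k ^ n k by
        rw [← pow_add, Nat.sub_add_cancel (Finset.le_sup (f := n) (Finset.mem_univ k))]]
      simp only [β]
      rw [← Finset.mul_prod_erase _ _ (Finset.mem_univ k)]
      ring
    rw [e]
    exact Ideal.mul_mem_left _ _ (hn k)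
  choose d hd using fun k => (Submodule.mem_sup.1 (hβ k))
  choose hdq m hm heq using hd
  choose d' hd' using fun k => Ideal.mem_span_singleton'.1 (hm k)
  -- `q₀ k = d k`, `β g^N = d k + d' k * c`
  have hrel : ∀ k, β * g k ^ N = d k + d' k * c := fun k => by rw [hd', heq]
  let E : Finset Γ(X, A) := (Finset.univ.image d) ∪
    (Finset.univ.image fun kl : F × F => d' kl.1 * g kl.2 ^ N - d' kl.2 * g kl.1 ^ N)
  have hEq : ∀ a ∈ E, a ∈ q := by
    intro a ha
    rcases Finset.mem_union.1 ha with h | h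
    · obtain ⟨k, -, rfl⟩ := Finset.mem_image.1 h
      exact hdq k
    · obtain ⟨⟨k, l⟩, -, rfl⟩ := Finset.mem_image.1 h
      refine (hq.mem_or_mem ?_).resolve_left hcq
      have : c * (d' k * g l ^ N - d' l * g k ^ N) = d l * g k ^ N - d k * g l ^ N := by
        linear_combination g k ^ N * hrel l - g l ^ N * hrel k
      rw [this]
      exact q.sub_mem (q.mul_mem_right _ (hdq l)) (q.mul_mem_right _ (hdq k))
  obtain ⟨T, i, hsurj, ⟨t₀, ht₀⟩, hE⟩ := hz z hzA E fun a ha h => (hzr a).1 h (hEq a ha)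
  let G : F → T.Opens := fun k => i ⁻¹ᵁ X.basicOpen (g k)
  have hG : ∀ k, G k ≤ i ⁻¹ᵁ A := fun k => i.preimage_mono (X.basicOpen_le _)
  let rT : ∀ {U V : T.Opens}, U ≤ V → (Γ(T, V) →+* Γ(T, U)) := fun h => (T.presheaf.map (homOfLE h).op).hom
  have hu : ∀ k, IsUnit (rT (hG k) (i.app A (g k))) := fun k => by
    have h := RingedSpace.isUnit_res_basicOpen T.toRingedSpace (i.app A (g k))
    have e : G k = T.basicOpen (i.app A (g k)) := Scheme.preimage_basicOpen i (g k)
    have h' := h.map (T.presheaf.map (homOfLE e.le).op).hom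
    rw [show rT (hG k) (i.app A (g k)) = T.presheaf.map (homOfLE e.le).op
      (T.presheaf.map (homOfLE (T.basicOpen_le (i.app A (g k)))).op (i.app A (g k))) from
      congr($(T.presheaf.map_comp (homOfLE (T.basicOpen_le (i.app A (g k)))).op (homOfLE e.le).op) _)]
    exact h'
  let σ : ∀ k, Γ(T, G k) := fun k => rT (hG k) (i.app A (d' k)) * ↑((hu k).pow N).unit⁻¹
  have hσ : ∀ k, σ k * rT (hG k) (i.app A (g k)) ^ N = rT (hG k) (i.app A (d' k)) := fun k => by
    simp only [σ, mul_assoc, IsUnit.val_inv_mul, mul_one]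
  have hcompat : TopCat.Presheaf.IsCompatible T.presheaf G σ := fun k l => by
    show rT (inf_le_left : G k ⊓ G l ≤ G k) (σ k) = rT (inf_le_right : G k ⊓ G l ≤ G l) (σ l)
    have hrr : ∀ {U V W : T.Opens} (h : V ≤ U) (h' : W ≤ V) (s : Γ(T, U)), rT h' (rT h s) = rT (h'.trans h) s :=
      fun h h' s => congr($(T.presheaf.map_comp (homOfLE h).op (homOfLE h').op) s).symm
    have h1 := congrArg (rT (inf_le_left : G k ⊓ G l ≤ G k)) (hσ k)
    have h2 := congrArg (rT (inf_le_right : G k ⊓ G l ≤ G l)) (hσ l)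
    have h3 : rT ((inf_le_left : G k ⊓ G l ≤ G k).trans (hG k)) (i.app A (d' k * g l ^ N - d' l * g k ^ N)) = 0 := by
      rw [hE _ (Finset.mem_union_right _ (Finset.mem_image.2 ⟨(k, l), Finset.mem_univ _, rfl⟩)), map_zero]
    simp only [map_mul, map_pow, hrr] at h1 h2
    simp only [map_sub, map_mul, map_pow, sub_eq_zero] at h3
    have u1 : IsUnit (rT ((inf_le_left : G k ⊓ G l ≤ G k).trans (hG k)) (i.app A (g k))) := by
      rw [← hrr (hG k) inf_le_left]; exact (hu k).map _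
    have u2 : IsUnit (rT ((inf_le_left : G k ⊓ G l ≤ G k).trans (hG k)) (i.app A (g l))) := by
      have := (hu l).map (rT (inf_le_right : G k ⊓ G l ≤ G l))
      rwa [hrr] at this
    refine ((u1.pow N).mul (u2.pow N)).mul_right_cancel ?_
    calc _ = rT _ (i.app A (d' k)) * rT ((inf_le_left : G k ⊓ G l ≤ G k).trans (hG k)) (i.app A (g l)) ^ N := by
            rw [← mul_assoc, h1]
      _ = _ := by rw [h3, ← h2]; ring
  obtain ⟨e, he, -⟩ := T.sheaf.existsUnique_gluing' G (i ⁻¹ᵁ A) (fun k => homOfLE (hG k))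
    (fun t ht => by
      obtain ⟨k, hk⟩ := hg (i t) ht
      exact Opens.mem_iSup.2 ⟨k, hk⟩) σ hcompat
  obtain ⟨r, hr⟩ := hsurj e
  have hzero : i.app A (c * r - β) = 0 := by
    refine T.sheaf.eq_of_locally_eq' G (i ⁻¹ᵁ A) (fun k => homOfLE (hG k)) (fun t ht => by
      obtain ⟨k, hk⟩ := hg (i t) ht
      exact Opens.mem_iSup.2 ⟨k, hk⟩) _ _ fun k => ?_
    show rT (hG k) (i.app A (c * r - β)) = rT (hG k) 0
    rw [map_zero]
    refine ((hu k).pow N).mul_left_eq_zero.1 ?_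
    have hh : rT (hG k) (i.app A (c * d' k - β * g k ^ N)) = 0 := by
      rw [show c * d' k - β * g k ^ N = - d k by rw [hrel k]; ring, map_neg,
        hE _ (Finset.mem_union_left _ (Finset.mem_image.2 ⟨k, Finset.mem_univ _, rfl⟩)), neg_zero, map_zero]
    simp only [map_sub, map_mul, map_pow] at hh ⊢
    rw [hr, show rT (hG k) e = σ k from he k]
    linear_combination hh + rT (hG k) (i.app A c) * hσ k
  have hmem : c * r - β ∈ q := by
    by_contra h
    have h1 := (hzr _).2 h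
    rw [← ht₀] at h1
    have h2 : t₀ ∈ i ⁻¹ᵁ X.basicOpen (c * r - β) := h1
    rw [Scheme.preimage_basicOpen, hzero, Scheme.basicOpen_zero] at h2
    exact h2.elim
  have hβp : β ∈ p := by
    have h1 := p.sub_mem (p.mul_mem_right r hcp) (hqp hmem)
    rwa [sub_sub_cancel] at h1
  obtain ⟨k, -, hk⟩ := hp.isPrime.prod_mem_iff.1 hβp
  exact hb k hk

end Groth.L18.AffineCrit
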