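import Groth.Agent.L19.Approx.Zmt
import Mathlib.AlgebraicGeometry.Noetherian
import Mathlib.RingTheory.KrullDimension.Basic
import Mathlib.RingTheory.Ideal.MinimalPrime.Noetherian
import Mathlib.Topology.KrullDimension
import Mathlib.RingTheory.Spectrum.Prime.Topology

/-!
# Quasi-finite separated morphisms over a one-dimensional base with finite fibres are affine
-/

set_option autoImplicit false
set_option backward.isDefEq.respectTransparency.types false
set_option backward.isDefEq.respectTransparency false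
set_option linter.style.haveILetI false

universe u

open CategoryTheory CategoryTheory.Limits AlgebraicGeometry TopologicalSpace

namespace Groth.L18.AffineDimOne

/-- An open subset of an affine scheme which is closed both in a basic open and in its complement is affine. -/
theorem isAffineOpen_of_closed_in {W : Scheme.{u}} [IsAffine W] (X : W.Opens) (r : Γ(W, ⊤))
    (C1 C0 : Set W) (hC1 : IsClosed C1) (hC0 : IsClosed C0)
    (h1 : ∀ z, z ∈ W.basicOpen r → (z ∈ X ↔ z ∈ C1))
    (h0 : ∀ z, z ∉ W.basicOpen r → (z ∈ X ↔ z ∈ C0)) : IsAffineOpen X := by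
  suffices IsAffineHom X.ι from isAffine_of_isAffineHom X.ι
  refine isAffineHom_of_forall_exists_isAffineOpen X.ι fun w => ?_
  have hpre : ∀ U : W.Opens, IsAffineOpen (X ⊓ U) → IsAffineOpen (X.ι ⁻¹ᵁ U) := fun U h => by
    rw [← X.ι.isAffineOpen_iff_of_isOpenImmersion, X.ι.image_preimage_eq_opensRange_inf, Scheme.Opens.opensRange_ι]
    exact h
  by_cases hX : w ∈ X
  · obtain ⟨f, hf, hwf⟩ := (isAffineOpen_top W).exists_basicOpen_le (V := X) ⟨w, hX⟩ trivial
    exact ⟨W.basicOpen f, hwf, (isAffineOpen_top W).basicOpen f, hpre _ (by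
      rw [inf_eq_right.2 hf]; exact (isAffineOpen_top W).basicOpen f)⟩
  · by_cases hr : w ∈ W.basicOpen r
    · let V : W.Opens := W.basicOpen r ⊓ ⟨C1ᶜ, hC1.isOpen_compl⟩
      obtain ⟨f, hf, hwf⟩ := (isAffineOpen_top W).exists_basicOpen_le (V := V)
        ⟨w, hr, fun hw => hX ((h1 w hr).2 hw)⟩ trivial
      refine ⟨W.basicOpen f, hwf, (isAffineOpen_top W).basicOpen f, hpre _ ?_⟩
      have he : X ⊓ W.basicOpen f = ⊥ := by
        refine le_bot_iff.1 fun z hz => ?_
        obtain ⟨hzr, hzC⟩ := hf hz.2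
        exact absurd ((h1 z hzr).1 hz.1) hzC
      rw [he]
      exact isAffineOpen_bot W
    · let V : W.Opens := ⟨C0ᶜ, hC0.isOpen_compl⟩
      obtain ⟨f, hf, hwf⟩ := (isAffineOpen_top W).exists_basicOpen_le (V := V)
        ⟨w, fun hw => hX ((h0 w hr).2 hw)⟩ trivial
      refine ⟨W.basicOpen f, hwf, (isAffineOpen_top W).basicOpen f, hpre _ ?_⟩
      let D : W.Opens := W.basicOpen (r * f)
      have hD : IsAffineOpen D := (isAffineOpen_top W).basicOpen _
      haveI : IsAffine (D : Scheme.{u}) := hD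
      have hle : X ⊓ W.basicOpen f ≤ D := fun z hz => by
        show z ∈ W.basicOpen (r * f)
        rw [W.basicOpen_mul]
        refine ⟨by_contra fun hzr => hf hz.2 ((h0 z hzr).1 hz.1), hz.2⟩
      let i : ((X ⊓ W.basicOpen f : W.Opens) : Scheme.{u}) ⟶ (D : Scheme.{u}) := W.homOfLE hle
      have hrange : Set.range i = D.ι ⁻¹' C1 := by
        ext z
        constructor
        · rintro ⟨z, rfl⟩
          show D.ι (i z) ∈ C1
          rw [← Scheme.Hom.comp_apply, Scheme.homOfLE_ι]
          have hz2 : z.1 ∈ W.basicOpen (r * f) := hle z.2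
          rw [W.basicOpen_mul] at hz2
          exact (h1 _ hz2.1).1 z.2.1
        · intro hz
          have hz2 : z.1 ∈ W.basicOpen (r * f) := z.2
          rw [W.basicOpen_mul] at hz2
          refine ⟨⟨z.1, (h1 _ hz2.1).2 hz, hz2.2⟩, D.ι.isEmbedding.injective ?_⟩
          rw [← Scheme.Hom.comp_apply, Scheme.homOfLE_ι]
          rfl
      haveI : IsClosedImmersion i := IsClosedImmersion.of_isPreimmersion i (by
        rw [hrange]; exact hC1.preimage D.ι.continuous)
      exact isAffine_of_isAffineHom i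

/-- An open subset of an affine scheme over a one-dimensional Noetherian affine scheme which is closed
in every fibre is affine. -/
theorem isAffineOpen_core (A : CommRingCat.{u}) [IsNoetherianRing A] (hA : Ring.KrullDimLE 1 A)
    {W : Scheme.{u}} [IsAffine W] [IsLocallyNoetherian W] (g : W ⟶ Spec A) (X : W.Opens)
    (hfib : ∀ t : Spec A, ∃ C : Set W, IsClosed C ∧ ∀ z, g z = t → (z ∈ X ↔ z ∈ C)) :
    IsAffineOpen X := by
  classical
  haveI : IsNoetherian W := ⟨⟩
  haveI : NoetherianSpace W := inferInstance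
  let B : Set W := closure (X : Set W) \ X
  have hBc : IsClosed B := isClosed_closure.sdiff X.2
  have hB : ∀ z ∈ B, (g z).asIdeal.IsMaximal ∧ (g z).asIdeal ∉ minimalPrimes A := by
    rintro z ⟨hz, hzX⟩
    have hfin : {Z ∈ irreducibleComponents W | (Z ∩ (X : Set W)).Nonempty}.Finite :=
      NoetherianSpace.finite_irreducibleComponents.subset fun Z h => h.1
    have hcov : (X : Set W) ⊆ ⋃ Z ∈ {Z ∈ irreducibleComponents W | (Z ∩ (X : Set W)).Nonempty}, Z :=
      fun x hx => Set.mem_iUnion₂.2 ⟨irreducibleComponent x,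
        ⟨irreducibleComponent_mem_irreducibleComponents x, x, mem_irreducibleComponent, hx⟩,
        mem_irreducibleComponent⟩
    obtain ⟨Z, ⟨hZ, y, hyZ, hyX⟩, hzZ⟩ := Set.mem_iUnion₂.1 (closure_minimal hcov
      (hfin.isClosed_biUnion fun Z h => isClosed_of_mem_irreducibleComponents Z h.1) hz)
    obtain ⟨x, hx⟩ := QuasiSober.sober hZ.1 (isClosed_of_mem_irreducibleComponents Z hZ)
    have hxz : x ⤳ z := hx.specializes hzZ
    have hxX : x ∈ X := (hx.specializes hyZ).mem_open X.2 hyX
    have hne : g x ≠ g z := fun e => by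
      obtain ⟨C, hC, h⟩ := hfib (g z)
      exact hzX ((h z rfl).2 (hxz.mem_closed hC ((h x e).1 hxX)))
    have hle : (g x).asIdeal ≤ (g z).asIdeal := (PrimeSpectrum.le_iff_specializes (g x) (g z)).2 (hxz.map g.continuous)
    have hmin : (g z).asIdeal ∉ minimalPrimes A := fun hm =>
      hne (PrimeSpectrum.ext (le_antisymm hle (hm.2 ⟨(g x).isPrime, bot_le⟩ hle)))
    exact ⟨((Ring.krullDimLE_one_iff.1 hA) _ (g z).isPrime).resolve_left hmin, hmin⟩
  have hT : (g '' B).Finite := by
    obtain ⟨S, hS, hSc, hSi, hBS⟩ := NoetherianSpace.exists_finite_set_isClosed_irreducible hBc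
    have hsub : g '' B ⊆ ⋃ Z ∈ S, g '' Z := by
      rw [hBS, Set.sUnion_eq_biUnion, Set.image_iUnion₂]
    refine (hS.biUnion fun Z hZ => ?_).subset hsub
    obtain ⟨w, hw⟩ := QuasiSober.sober (hSi Z hZ) (hSc Z hZ)
    refine (Set.finite_singleton (g w)).subset ?_
    rintro _ ⟨z, hz, rfl⟩
    have hwB : w ∈ B := hBS ▸ ⟨Z, hZ, hw.mem⟩
    have hle : (g w).asIdeal ≤ (g z).asIdeal := (PrimeSpectrum.le_iff_specializes (g w) (g z)).2 ((hw.specializes hz).map g.continuous)
    exact Set.mem_singleton_iff.2 (PrimeSpectrum.ext ((hB w hwB).1.eq_of_le (g z).isPrime.ne_top hle).symm)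
  let I : Ideal A := hT.toFinset.inf fun t => t.asIdeal
  obtain ⟨a, haI, ha⟩ : ∃ a ∈ I, ∀ P ∈ minimalPrimes A, a ∉ P := by
    by_contra! hcon
    have hsub : (I : Set A) ⊆ ⋃ P ∈ minimalPrimes A, ((id P : Ideal A) : Set A) := fun a ha => by
      obtain ⟨P, hP, haP⟩ := hcon a ha
      exact Set.mem_iUnion₂.2 ⟨P, hP, haP⟩
    obtain ⟨P, hP, hle⟩ := (Ideal.subset_union_prime_finite (minimalPrimes.finite_of_isNoetherianRing A) ⊥ ⊥
      fun P hP _ _ => hP.1.1).1 hsub
    obtain ⟨t, ht, htP⟩ := (hP.1.1.inf_le').1 hle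
    obtain ⟨z, hz, rfl⟩ := hT.mem_toFinset.1 ht
    exact (hB z hz).2 (((hB z hz).1.eq_of_le hP.1.1.ne_top htP).symm ▸ hP)
  have hV : {t : Spec A | a ∈ t.asIdeal}.Finite := by
    refine ((Ideal.finite_minimalPrimes_of_isNoetherianRing A (Ideal.span {a})).preimage
      (fun _ _ _ _ h => PrimeSpectrum.ext h)).subset fun t ht => ?_
    refine ⟨⟨t.isPrime, (Ideal.span_singleton_le_iff_mem _).2 ht⟩, fun P hP hle => ?_⟩
    have hmax : P.IsMaximal := ((Ring.krullDimLE_one_iff.1 hA) _ hP.1).resolve_left fun hm =>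
      ha _ hm ((Ideal.span_singleton_le_iff_mem _).1 hP.2)
    exact (hmax.eq_of_le t.isPrime.ne_top hle).symm.le
  let r : Γ(W, ⊤) := g.appTop ((Scheme.ΓSpecIso A).inv a)
  have hr : ∀ z, z ∈ W.basicOpen r ↔ a ∉ (g z).asIdeal := fun z => by
    show z ∈ W.basicOpen (g.appTop _) ↔ _
    rw [← Scheme.preimage_basicOpen_top g, basicOpen_eq_of_affine]
    exact Iff.rfl
  choose C hC hCe using hfib
  refine isAffineOpen_of_closed_in X r (closure (X : Set W)) (⋃ t ∈ {t : Spec A | a ∈ t.asIdeal}, C t ∩ g ⁻¹' {t})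
    isClosed_closure ?_ ?_ ?_
  · refine hV.isClosed_biUnion fun t ht => (hC t).inter (IsClosed.preimage g.continuous ?_)
    have : t.asIdeal.IsMaximal := ((Ring.krullDimLE_one_iff.1 hA) _ t.isPrime).resolve_left fun hm => ha _ hm ht
    exact (PrimeSpectrum.isClosed_singleton_iff_isMaximal t).2 this
  · intro z hz
    refine ⟨fun h => subset_closure h, fun h => by_contra fun hzX => ?_⟩
    have : I ≤ (g z).asIdeal := Finset.inf_le (hT.mem_toFinset.2 ⟨z, ⟨h, hzX⟩, rfl⟩)
    exact (hr z).1 hz (this haI)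
  · intro z hz
    have hza : a ∈ (g z).asIdeal := by_contra fun h => hz ((hr z).2 h)
    constructor
    · intro h
      exact Set.mem_iUnion₂.2 ⟨g z, hza, (hCe _ z rfl).1 h, rfl⟩
    · intro h
      obtain ⟨t, -, hzC, hzt⟩ := Set.mem_iUnion₂.1 h
      exact (hCe t z hzt).2 hzC

/-- If the base change to a preimmersion is finite, the source is closed in any separated partial
compactification over the image of the preimmersion. -/
theorem exists_closed_of_finite_pullback {X W Y P : Scheme.{u}} (j : X ⟶ W) [IsOpenImmersion j]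
    (h : W ⟶ Y) [IsSeparated h] (p : P ⟶ Y) [IsPreimmersion p] [IsFinite (pullback.snd (j ≫ h) p)] :
    ∃ C : Set W, IsClosed C ∧ ∀ z, h z ∈ Set.range p → (z ∈ j.opensRange ↔ z ∈ C) := by
  let q : pullback h p ⟶ W := pullback.fst h p
  let i : pullback (j ≫ h) p ⟶ pullback h p :=
    pullback.lift (pullback.fst _ _ ≫ j) (pullback.snd _ _) (by rw [Category.assoc]; exact pullback.condition)
  have hi : IsPullback (pullback.fst (j ≫ h) p) i j q := by
    refine IsPullback.of_bot ?_ (pullback.lift_fst _ _ _).symm (IsPullback.of_hasPullback h p)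
    rw [pullback.lift_snd]
    exact IsPullback.of_hasPullback (j ≫ h) p
  haveI : IsFinite (i ≫ pullback.snd h p) := by rw [pullback.lift_snd]; infer_instance
  haveI : IsFinite i := IsFinite.of_comp i (pullback.snd h p)
  have hcl : IsClosed (q ⁻¹' Set.range j) := by
    have : Set.range i = q ⁻¹' Set.range j := by
      ext z
      constructor
      · rintro ⟨x, rfl⟩
        exact ⟨pullback.fst (j ≫ h) p x, by rw [← Scheme.Hom.comp_apply, ← Scheme.Hom.comp_apply, hi.w]⟩
      · rintro ⟨x, hx⟩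
        obtain ⟨w, -, hw⟩ := Scheme.exists_preimage_of_isPullback hi x z hx
        exact ⟨w, hw⟩
    rw [← this]
    exact i.isClosedMap.isClosed_range
  obtain ⟨C, hC, hCe⟩ := q.isEmbedding.isInducing.isClosed_iff.1 hcl
  refine ⟨C, hC, fun z hz => ?_⟩
  obtain ⟨y, hy⟩ := hz
  obtain ⟨w, hw, -⟩ := Scheme.exists_preimage_of_isPullback (IsPullback.of_hasPullback h p) z y hy.symm
  have := Set.ext_iff.1 hCe w
  simp only [Set.mem_preimage] at this
  rw [show q w = z from hw] at this
  exact this.symm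

/-- A quasi-finite separated morphism over a base of dimension at most one with finite fibres is affine. -/
theorem isAffineHom_of_finite_fibres {S X Y : Scheme.{u}} [IsLocallyNoetherian S]
    (hdim : topologicalKrullDim S ≤ 1) (gY : Y ⟶ S) [LocallyOfFiniteType gY] (u : X ⟶ Y)
    [LocallyOfFiniteType u] [QuasiCompact u] [LocallyQuasiFinite u] [IsSeparated u]
    (hfin : ∀ t : S, IsFinite (pullback.snd u (pullback.fst gY (S.fromSpecResidueField t)))) :
    IsAffineHom u := by
  refine isAffineHom_of_forall_exists_isAffineOpen u fun y => ?_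
  obtain ⟨_, ⟨(V : S.Opens), hV, rfl⟩, hyV, -⟩ := S.isBasis_affineOpens.exists_subset_of_mem_open
    (Set.mem_univ (gY y)) isOpen_univ
  obtain ⟨_, ⟨(U : Y.Opens), hU, rfl⟩, hyU, hUV⟩ := Y.isBasis_affineOpens.exists_subset_of_mem_open
    (show y ∈ (gY ⁻¹ᵁ V : Y.Opens) from hyV) (gY ⁻¹ᵁ V).2
  refine ⟨U, hyU, hU, ?_⟩
  haveI : IsAffine (U : Scheme.{u}) := hU
  haveI : IsAffine (V : Scheme.{u}) := hV
  haveI : LocallyOfFiniteType (u ∣_ U) := IsZariskiLocalAtTarget.restrict ‹_› U
  haveI : QuasiCompact (u ∣_ U) := IsZariskiLocalAtTarget.restrict ‹_› U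
  haveI : LocallyQuasiFinite (u ∣_ U) := IsZariskiLocalAtTarget.restrict ‹_› U
  haveI : IsSeparated (u ∣_ U) := IsZariskiLocalAtTarget.restrict ‹_› U
  obtain ⟨W, j, π, _, _, _, hjπ⟩ := Groth.L19.Approx.exists_openImmersion_finite (u ∣_ U)
  haveI : IsAffine W := isAffine_of_isAffineHom π
  let g : W ⟶ Spec Γ(S, V) := π ≫ gY.resLE V U hUV ≫ hV.isoSpec.hom
  haveI : IsNoetherianRing Γ(S, V) := IsLocallyNoetherian.component_noetherian ⟨V, hV⟩
  haveI : LocallyOfFiniteType g := inferInstance
  haveI : IsLocallyNoetherian W := LocallyOfFiniteType.isLocallyNoetherian g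
  have hA : Ring.KrullDimLE 1 Γ(S, V) := by
    have h1 : topologicalKrullDim (PrimeSpectrum Γ(S, V)) ≤ 1 :=
      le_trans (le_of_eq (hV.isoSpec.hom.homeomorph.isHomeomorph.topologicalKrullDim_eq).symm)
        (le_trans V.ι.isEmbedding.isInducing.topologicalKrullDim_le hdim)
    rw [PrimeSpectrum.topologicalKrullDim_eq_ringKrullDim] at h1
    exact Ring.krullDimLE_iff.2 h1
  suffices IsAffineOpen j.opensRange by
    haveI : IsAffine ((u ⁻¹ᵁ U : X.Opens) : Scheme.{u}) :=
      haveI : IsAffine (j.opensRange : Scheme.{u}) := this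
      .of_isIso j.isoOpensRange.hom
    assumption
  refine isAffineOpen_core Γ(S, V) hA g j.opensRange fun t' => ?_
  let t : S := V.ι (hV.isoSpec.inv t')
  let p : pullback gY (S.fromSpecResidueField t) ⟶ Y := pullback.fst _ _
  let p' : pullback p U.ι ⟶ (U : Scheme.{u}) := pullback.snd p U.ι
  haveI : IsFinite (pullback.snd (j ≫ π) p') := by
    rw [hjπ]
    have hu := (isPullback_morphismRestrict u U).flip
    have h1 : IsPullback (pullback.fst (u ∣_ U) p' ≫ (u ⁻¹ᵁ U).ι) (pullback.snd (u ∣_ U) p') u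
        (pullback.fst p U.ι ≫ p) := by
      rw [show pullback.fst p U.ι ≫ p = p' ≫ U.ι from pullback.condition]
      exact (IsPullback.of_hasPullback (u ∣_ U) p').paste_horiz hu
    let k := (IsPullback.of_hasPullback u p).lift (pullback.fst (u ∣_ U) p' ≫ (u ⁻¹ᵁ U).ι)
      (pullback.snd (u ∣_ U) p' ≫ pullback.fst p U.ι) (by rw [h1.w, Category.assoc])
    have h2 : IsPullback k (pullback.snd (u ∣_ U) p') (pullback.snd u p) (pullback.fst p U.ι) := by
      refine IsPullback.of_right ?_ ((IsPullback.of_hasPullback u p).lift_snd _ _ _) (IsPullback.of_hasPullback u p)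
      rw [(IsPullback.of_hasPullback u p).lift_fst]
      exact h1
    exact MorphismProperty.of_isPullback (P := @IsFinite) h2 (hfin t)
  obtain ⟨C, hC, hCe⟩ := exists_closed_of_finite_pullback j π p'
  refine ⟨C, hC, fun z hz => hCe z ?_⟩
  have hz' : gY (U.ι (π z)) = t := by
    have e : (π ≫ U.ι ≫ gY) z = (g ≫ hV.isoSpec.inv ≫ V.ι) z := by
      simp [g]
    simp only [Scheme.Hom.comp_apply] at e
    rw [e, hz]
  obtain ⟨a, ha⟩ : U.ι (π z) ∈ Set.range p := by
    show U.ι (π z) ∈ Set.range (pullback.fst gY (S.fromSpecResidueField t))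
    rw [Scheme.Pullback.range_fst, Scheme.range_fromSpecResidueField]
    exact hz'
  obtain ⟨b, -, hb⟩ := Scheme.exists_preimage_of_isPullback (IsPullback.of_hasPullback p U.ι) a (π z) ha
  exact ⟨b, hb⟩

end Groth.L18.AffineDimOne
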