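import Mathlib.LinearAlgebra.SymmetricAlgebra.Basic
import Mathlib.RingTheory.GradedAlgebra.Basic
import Mathlib.RingTheory.Localization.Away.Basic
import Mathlib.Algebra.Module.LocalizedModule.Basic
import Mathlib.Algebra.Category.Ring.Basic

/-!
# Symmetric algebras: functoriality, localization, grading
-/

set_option autoImplicit false

noncomputable section

universe u

namespace Groth.L18.SymRing

open scoped DirectSum

variable {R R' : Type u} [CommRing R] [CommRing R'] {M M' : Type u} [AddCommGroup M] [Module R M]
  [AddCommGroup M'] [Module R' M'] (ρ : R →+* R') (g : M →+ M') (hg : ∀ (r : R) (m : M), g (r • m) = ρ r • g m)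

/-- The map of symmetric algebras induced by a semilinear map. -/
def map : SymmetricAlgebra R M →+* SymmetricAlgebra R' M' :=
  letI : Algebra R (SymmetricAlgebra R' M') := ((algebraMap R' (SymmetricAlgebra R' M')).comp ρ).toAlgebra
  (SymmetricAlgebra.lift (R := R) (A := SymmetricAlgebra R' M')
    { toFun := fun m => SymmetricAlgebra.ι R' M' (g m)
      map_add' := fun a b => by rw [map_add, map_add]
      map_smul' := fun r m => by
        rw [RingHom.id_apply, hg, map_smul, Algebra.smul_def, Algebra.smul_def]
        rfl }).toRingHom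

theorem map_ι (m : M) : map ρ g hg (SymmetricAlgebra.ι R M m) = SymmetricAlgebra.ι R' M' (g m) := by
  letI : Algebra R (SymmetricAlgebra R' M') := ((algebraMap R' (SymmetricAlgebra R' M')).comp ρ).toAlgebra
  exact SymmetricAlgebra.lift_ι_apply _ m

theorem map_algebraMap (r : R) :
    map ρ g hg (algebraMap R (SymmetricAlgebra R M) r) = algebraMap R' (SymmetricAlgebra R' M') (ρ r) := by
  letI : Algebra R (SymmetricAlgebra R' M') := ((algebraMap R' (SymmetricAlgebra R' M')).comp ρ).toAlgebra
  exact AlgHom.commutes _ r

/-- Ring homomorphisms out of a symmetric algebra agree if they agree on scalars and generators. -/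
theorem ringHom_ext {C : Type*} [Semiring C] {f f' : SymmetricAlgebra R M →+* C}
    (h₀ : ∀ r, f (algebraMap R (SymmetricAlgebra R M) r) = f' (algebraMap R (SymmetricAlgebra R M) r))
    (h₁ : ∀ m, f (SymmetricAlgebra.ι R M m) = f' (SymmetricAlgebra.ι R M m)) : f = f' := by
  refine RingHom.ext fun x => ?_
  induction x using SymmetricAlgebra.induction with
  | algebraMap r => exact h₀ r
  | ι m => exact h₁ m
  | mul a b ha hb => rw [map_mul, map_mul, ha, hb]
  | add a b ha hb => rw [map_add, map_add, ha, hb]

/-- The symmetric algebra commutes with localization. -/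
theorem isLocalization (r : R) [inst : Algebra R R'] [IsLocalization.Away r R'] (hρ : ρ = algebraMap R R')
    (hu : ∀ x : M', ∃ (n : ℕ) (m : M), ρ (r ^ n) • x = g m)
    (hz : ∀ m : M, g m = 0 → ∃ n : ℕ, r ^ n • m = 0) :
    letI := (map ρ g hg).toAlgebra
    IsLocalization.Away (algebraMap R (SymmetricAlgebra R M) r) (SymmetricAlgebra R' M') := by
  letI := (map ρ g hg).toAlgebra
  subst hρ
  let a := algebraMap R (SymmetricAlgebra R M) r
  let L := Localization.Away a
  let q : R →+* L := (algebraMap (SymmetricAlgebra R M) L).comp (algebraMap R (SymmetricAlgebra R M))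
  have hq : IsUnit (q r) := IsLocalization.Away.algebraMap_isUnit a
  let q' : R' →+* L := IsLocalization.Away.lift r hq
  letI : Algebra R' L := q'.toAlgebra
  letI : Module R M' := Module.compHom M' (algebraMap R R')
  haveI : IsScalarTower R R' M' :=
    ⟨fun x y z => by
      show (x • y) • z = algebraMap R R' x • (y • z)
      rw [Algebra.smul_def, mul_smul]⟩
  let gl : M →ₗ[R] M' := { toFun := g, map_add' := g.map_add, map_smul' := fun x m => hg x m }
  have hunitR' : ∀ n : ℕ, IsUnit (algebraMap R R' (r ^ n)) := fun n => by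
    rw [map_pow]; exact (IsLocalization.Away.algebraMap_isUnit r).pow n
  haveI : IsLocalizedModule (Submonoid.powers r) gl := by
    refine ⟨fun s => ?_, fun y => ?_, fun {x₁ x₂} h => ?_⟩
    · obtain ⟨_, n, rfl⟩ := s
      obtain ⟨v, hv⟩ := hunitR' n
      refine (Module.End.isUnit_iff _).mpr ⟨fun y₁ y₂ h => ?_, fun y => ⟨(↑v⁻¹ : R') • y, ?_⟩⟩
      · have h' : algebraMap R R' (r ^ n) • y₁ = algebraMap R R' (r ^ n) • y₂ := h
        rw [← one_smul R' y₁, ← one_smul R' y₂, ← Units.inv_mul v, hv, mul_smul, mul_smul, h']
      · show algebraMap R R' (r ^ n) • (↑v⁻¹ : R') • y = y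
        rw [← mul_smul, ← hv, Units.mul_inv, one_smul]
    · obtain ⟨n, m, hm⟩ := hu y
      exact ⟨⟨m, ⟨r ^ n, n, rfl⟩⟩, hm⟩
    · have h0 : g (x₁ - x₂) = 0 := by rw [map_sub, sub_eq_zero]; exact h
      obtain ⟨n, hn⟩ := hz _ h0
      refine ⟨⟨r ^ n, n, rfl⟩, ?_⟩
      rw [smul_sub, sub_eq_zero] at hn
      exact hn
  haveI : IsScalarTower R R' L :=
    IsScalarTower.of_algebraMap_eq fun x => (RingHom.congr_fun (IsScalarTower.algebraMap_eq R (SymmetricAlgebra R M) L) x).trans
      (IsLocalization.Away.lift_eq (S := R') r hq x).symm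
  have hqR : algebraMap R L = q := IsScalarTower.algebraMap_eq R (SymmetricAlgebra R M) L
  let f₀ : M →ₗ[R] L := (IsScalarTower.toAlgHom R (SymmetricAlgebra R M) L).toLinearMap.comp (SymmetricAlgebra.ι R M)
  have hL : ∀ s : Submonoid.powers r, IsUnit ((algebraMap R (Module.End R L)) s) := by
    rintro ⟨_, n, rfl⟩
    have hu' : IsUnit (algebraMap R L (r ^ n)) := by rw [hqR, map_pow]; exact hq.pow n
    exact (Module.End.isUnit_iff _).mpr ⟨fun y₁ y₂ h => hu'.mul_left_cancel (by
      rw [← Algebra.smul_def, ← Algebra.smul_def]; exact h), fun y => ⟨((hu'.unit⁻¹ : Lˣ) : L) * y, by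
      show (r ^ n) • (((hu'.unit⁻¹ : Lˣ) : L) * y) = y
      rw [Algebra.smul_def, ← mul_assoc, IsUnit.mul_val_inv, one_mul]⟩⟩
  let f' : M' →ₗ[R] L := IsLocalizedModule.lift (Submonoid.powers r) gl f₀ hL
  have hf' : ∀ m, f' (g m) = f₀ m := fun m =>
    LinearMap.congr_fun (IsLocalizedModule.lift_comp (Submonoid.powers r) gl f₀ hL) m
  let f'' : M' →ₗ[R'] L :=
    { toFun := f'
      map_add' := f'.map_add
      map_smul' := fun x y => by
        obtain ⟨b, s, rfl⟩ := IsLocalization.exists_mk'_eq (Submonoid.powers r) x
        obtain ⟨n, hn⟩ := s.2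
        have hu' : IsUnit (algebraMap R L (s : R)) := by rw [← hn, hqR, map_pow]; exact hq.pow n
        refine hu'.mul_left_cancel ?_
        have hspec : ∀ {N : Type u} [AddCommGroup N] [Module R' N] [Module R N] [IsScalarTower R R' N] (v : N),
            (s : R) • (IsLocalization.mk' R' b s • v) = b • v := fun v => by
          rw [← IsScalarTower.algebraMap_smul R' (s : R), smul_smul, mul_comm, IsLocalization.mk'_spec,
            IsScalarTower.algebraMap_smul]
        simp only [RingHom.id_apply, ← Algebra.smul_def]
        rw [← f'.map_smul, hspec, f'.map_smul, hspec] }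
  let back : SymmetricAlgebra R' M' →+* L := (SymmetricAlgebra.lift f'').toRingHom
  have hback : back.comp (map (algebraMap R R') g hg) = algebraMap (SymmetricAlgebra R M) L := by
    refine ringHom_ext (fun x => ?_) (fun m => ?_)
    · rw [RingHom.comp_apply, map_algebraMap]
      refine (AlgHom.commutes (SymmetricAlgebra.lift f'') _).trans ?_
      exact IsLocalization.Away.lift_eq (S := R') r hq x
    · rw [RingHom.comp_apply, map_ι]
      exact (SymmetricAlgebra.lift_ι_apply f'' _).trans (hf' m)
  have hunit : IsUnit (algebraMap (SymmetricAlgebra R M) (SymmetricAlgebra R' M') a) := by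
    show IsUnit (map (algebraMap R R') g hg a)
    rw [map_algebraMap]
    exact (IsLocalization.Away.algebraMap_isUnit r).map _
  let forth : L →+* SymmetricAlgebra R' M' := IsLocalization.Away.lift a hunit
  have hforth : ∀ x, forth (algebraMap (SymmetricAlgebra R M) L x) = map (algebraMap R R') g hg x := fun x =>
    IsLocalization.Away.lift_eq (S := L) a hunit x
  have h1 : back.comp forth = RingHom.id L := by
    refine IsLocalization.ringHom_ext (Submonoid.powers a) ?_
    rw [RingHom.comp_assoc, RingHom.id_comp]
    refine (congrArg back.comp (RingHom.ext hforth)).trans hback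
  have h2 : forth.comp back = RingHom.id _ := by
    refine ringHom_ext (fun x => ?_) (fun m => ?_)
    · show forth (back _) = _
      rw [show back (algebraMap R' (SymmetricAlgebra R' M') x) = q' x from AlgHom.commutes (SymmetricAlgebra.lift f'') x]
      refine RingHom.congr_fun (IsLocalization.ringHom_ext (Submonoid.powers r)
        (j := forth.comp q') (k := algebraMap R' (SymmetricAlgebra R' M')) (RingHom.ext fun y => ?_)) x
      show forth (q' (algebraMap R R' y)) = _
      rw [IsLocalization.Away.lift_eq]
      exact (hforth _).trans (map_algebraMap _ g hg y)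
    · obtain ⟨n, m₀, hm⟩ := hu m
      refine (((hunitR' n).map (algebraMap R' (SymmetricAlgebra R' M')))).mul_left_cancel ?_
      show _ * forth (back _) = _ * _
      have e : algebraMap R' (SymmetricAlgebra R' M') (algebraMap R R' (r ^ n)) =
          forth (back (algebraMap R' (SymmetricAlgebra R' M') (algebraMap R R' (r ^ n)))) := by
        rw [show back (algebraMap R' (SymmetricAlgebra R' M') (algebraMap R R' (r ^ n))) = q' (algebraMap R R' (r ^ n)) from
          AlgHom.commutes (SymmetricAlgebra.lift f'') _, IsLocalization.Away.lift_eq]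
        exact ((hforth _).trans (map_algebraMap _ g hg _)).symm
      conv_lhs => rw [e, ← map_mul, ← map_mul, ← Algebra.smul_def, ← map_smul, hm, ← map_ι (algebraMap R R') g hg]
      rw [show back (map (algebraMap R R') g hg _) = algebraMap (SymmetricAlgebra R M) L _ from RingHom.congr_fun hback _,
        hforth, map_ι, ← hm, map_smul, Algebra.smul_def]
      rfl
  exact IsLocalization.isLocalization_of_algEquiv (Submonoid.powers a)
    (AlgEquiv.ofRingEquiv (f := RingEquiv.ofRingHom forth back h2 h1) hforth)

section Grading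

variable (R M)

/-- The graded pieces of the symmetric algebra. -/
def piece (n : ℕ) : Submodule R (SymmetricAlgebra R M) := LinearMap.range (SymmetricAlgebra.ι R M) ^ n

/-- A version of `ι` into the graded structure. -/
def gι : M →ₗ[R] ⨁ i : ℕ, ↥(piece R M i) :=
  DirectSum.lof R ℕ (fun i => ↥(piece R M i)) 1 ∘ₗ
    (SymmetricAlgebra.ι R M).codRestrict _ fun m => by
      simpa only [piece, pow_one] using LinearMap.mem_range_self _ m

instance : SetLike.GradedMonoid (piece R M) := Submodule.nat_power_gradedMonoid _

instance gradedAlgebra : GradedAlgebra (piece R M) :=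
  GradedAlgebra.ofAlgHom _ (SymmetricAlgebra.lift (gι R M))
    (by
      refine SymmetricAlgebra.algHom_ext (LinearMap.ext fun m => ?_)
      show DirectSum.coeAlgHom (piece R M) (SymmetricAlgebra.lift (gι R M) (SymmetricAlgebra.ι R M m)) = _
      rw [SymmetricAlgebra.lift_ι_apply]
      exact DirectSum.coeAlgHom_of _ _ _)
    fun i x => by
    obtain ⟨x, hx⟩ := x
    induction hx using Submodule.pow_induction_on_left' with
    | algebraMap r =>
      rw [AlgHom.commutes, DirectSum.algebraMap_apply]; rfl
    | add x y i hx hy ihx ihy =>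
      rw [map_add, ihx, ihy, ← map_add]
      rfl
    | mem_mul m hm i x hx ih =>
      obtain ⟨m', rfl⟩ := hm
      rw [map_mul, ih, SymmetricAlgebra.lift_ι_apply]
      refine (DirectSum.of_mul_of _ _).trans ?_
      exact DirectSum.of_eq_of_gradedMonoid_eq (Sigma.subtype_ext (add_comm _ _) rfl)

theorem ι_mem (m : M) : SymmetricAlgebra.ι R M m ∈ piece R M 1 := by
  simpa only [piece, pow_one] using LinearMap.mem_range_self _ m

theorem algebraMap_mem (r : R) : algebraMap R (SymmetricAlgebra R M) r ∈ piece R M 0 := by
  rw [piece, pow_zero]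
  exact Submodule.algebraMap_mem r

end Grading

theorem map_mem_piece {n : ℕ} {x : SymmetricAlgebra R M} (hx : x ∈ piece R M n) :
    map ρ g hg x ∈ piece R' M' n := by
  induction hx using Submodule.pow_induction_on_left' with
  | algebraMap r => rw [map_algebraMap]; exact algebraMap_mem R' M' (ρ r)
  | add x y i hx hy ihx ihy => rw [map_add]; exact add_mem ihx ihy
  | mem_mul m hm i x hx ih =>
    obtain ⟨m', rfl⟩ := hm
    rw [map_mul, map_ι, Nat.succ_eq_one_add]
    exact SetLike.mul_mem_graded (ι_mem R' M' _) ih

end Groth.L18.SymRing
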