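import Groth.Agent.L18.AffineAlgExtend
import Groth.Agent.L18.SymRing
import Groth.Agent.L16.AffineBC.Local
import Groth.Agent.L16.QCohSections
import Groth.Prelude.Def_RelProj2

/-!
# The symmetric algebra of a quasi-coherent module
-/

set_option autoImplicit false

noncomputable section

universe u

open CategoryTheory CategoryTheory.Limits AlgebraicGeometry TopologicalSpace Opposite

namespace Groth.L18.SymSheaf

open Groth.L18.Frame (rs ro)

variable {S : Scheme.{u}} (E : S.Modules)

/-- The symmetric algebra of the sections. -/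
abbrev Sym (U : S.Opens) : Type u := SymmetricAlgebra Γ(S, U) Γ(E, U)

/-- Restriction of the symmetric algebras. -/
def resMap {U V : S.Opens} (h : V ≤ U) : Sym E U →+* Sym E V :=
  SymRing.map (S.presheaf.map (homOfLE h).op).hom (E.presheaf.map (homOfLE h).op).hom
    (fun r m => Scheme.Modules.map_smul E (homOfLE h) r m)

theorem resMap_algebraMap {U V : S.Opens} (h : V ≤ U) (r : Γ(S, U)) :
    resMap E h (algebraMap _ (Sym E U) r) = algebraMap _ (Sym E V) ((S.presheaf.map (homOfLE h).op).hom r) :=
  SymRing.map_algebraMap _ _ _ r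

theorem resMap_ι {U V : S.Opens} (h : V ≤ U) (m : Γ(E, U)) :
    resMap E h (SymmetricAlgebra.ι _ Γ(E, U) m) = SymmetricAlgebra.ι _ Γ(E, V) ((E.presheaf.map (homOfLE h).op).hom m) :=
  SymRing.map_ι _ _ _ m

variable [Coh.IsQCoh E]

/-- The affine data of the symmetric algebra. -/
def data : AlgExt.Data S where
  obj U _ := CommRingCat.of (Sym E U)
  res _ _ h := CommRingCat.ofHom (resMap E h)
  res_id {U} _ := CommRingCat.hom_ext (SymRing.ringHom_ext
    (fun r => (resMap_algebraMap E _ r).trans (congrArg (algebraMap _ (Sym E U))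
      (ConcreteCategory.congr_hom (S.presheaf.map_id (op U)) r)))
    (fun m => (resMap_ι E _ m).trans (congrArg (SymmetricAlgebra.ι _ Γ(E, U))
      (ConcreteCategory.congr_hom (E.presheaf.map_id (op U)) m))))
  res_comp {U V W} _ _ _ h h' := CommRingCat.hom_ext (SymRing.ringHom_ext
    (fun r => by
      show resMap E h' (resMap E h _) = resMap E _ _
      rw [resMap_algebraMap, resMap_algebraMap, resMap_algebraMap]
      exact congrArg (algebraMap _ (Sym E W))
        (ConcreteCategory.congr_hom (S.presheaf.map_comp (homOfLE h).op (homOfLE h').op) r).symm)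
    (fun m => by
      show resMap E h' (resMap E h _) = resMap E _ _
      rw [resMap_ι, resMap_ι, resMap_ι]
      exact congrArg (SymmetricAlgebra.ι _ Γ(E, W))
        (ConcreteCategory.congr_hom (E.presheaf.map_comp (homOfLE h).op (homOfLE h').op) m).symm))
  str U _ := CommRingCat.ofHom (algebraMap _ (Sym E U))
  str_res _ _ h := CommRingCat.hom_ext (RingHom.ext fun r => resMap_algebraMap E h r)
  isLoc U hU r := by
    letI : Algebra Γ(S, U) Γ(S, S.basicOpen r) := (S.presheaf.map (homOfLE (S.basicOpen_le r)).op).hom.toAlgebra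
    haveI : IsLocalization.Away r Γ(S, S.basicOpen r) := hU.isLocalization_basicOpen r
    exact SymRing.isLocalization (R' := Γ(S, S.basicOpen r)) (M' := Γ(E, S.basicOpen r)) (S.presheaf.map (homOfLE (S.basicOpen_le r)).op).hom
      (E.presheaf.map (homOfLE (S.basicOpen_le r)).op).hom (fun a m => Scheme.Modules.map_smul E (homOfLE (S.basicOpen_le r)) a m) r rfl
      (fun x => by
        obtain ⟨n, t, ht⟩ := Groth.L16.QCohSect.exists_pow_smul_eq_res (M := E) hU r x
        exact ⟨n, t, ht.symm⟩)
      (fun m hm => Groth.L16.QCohSect.exists_pow_smul_eq_zero (M := E) hU r m hm)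

/-- The symmetric algebra sheaf. -/
def symAlg : RelSpec.QCAlg S := (data E).alg

/-- Its sections over affine opens. -/
def secEquiv (U : S.Opens) (hU : IsAffineOpen U) : (symAlg E).presheaf.obj (op U) ≃+* Sym E U :=
  (data E).evEquiv U hU

theorem secEquiv_res {U V : S.Opens} (hU : IsAffineOpen U) (hV : IsAffineOpen V) (h : V ≤ U)
    (a : (symAlg E).presheaf.obj (op U)) :
    secEquiv E V hV (((symAlg E).presheaf.map (homOfLE h).op).hom a) = resMap E h (secEquiv E U hU a) :=
  (data E).ev_res hU hV h a

theorem secEquiv_str (U : S.Opens) (hU : IsAffineOpen U) (r : Γ(S, U)) :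
    secEquiv E U hU (((symAlg E).str.app (op U)).hom r) = algebraMap _ (Sym E U) r :=
  ConcreteCategory.congr_hom ((data E).str_ev U hU) r

omit [Coh.IsQCoh E] in
theorem smul_toModule (A : RelSpec.QCAlg S) (U : S.Opens) (r : Γ(S, U)) (m : Γ(A.toModule, U)) :
    r • m = (show A.presheaf.obj (op U) from (A.str.app (op U)).hom r * (show A.presheaf.obj (op U) from m)) :=
  A.str_smul_def (op U) r m

theorem secEquiv_symm_res {U V : S.Opens} (hU : IsAffineOpen U) (hV : IsAffineOpen V) (h : V ≤ U) (a : Sym E U) :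
    ((symAlg E).presheaf.map (homOfLE h).op).hom ((secEquiv E U hU).symm a) = (secEquiv E V hV).symm (resMap E h a) := by
  apply (secEquiv E V hV).injective
  rw [secEquiv_res E hU hV, RingEquiv.apply_symm_apply, RingEquiv.apply_symm_apply]

theorem exists_j : ∃ j : E ⟶ (symAlg E).toModule, ∀ (U : S.Opens) (hU : IsAffineOpen U) (m : Γ(E, U)),
    secEquiv E U hU (j.app U m) = SymmetricAlgebra.ι _ Γ(E, U) m := by
  obtain ⟨j, hj⟩ := Groth.L16.AffineBC.exists_hom_affine (M := E) (N := (symAlg E).toModule)
    (fun U hU => (secEquiv E U hU).symm.toAddMonoidHom.comp (SymmetricAlgebra.ι _ Γ(E, U)).toAddMonoidHom)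
    (fun U V hU hV h m => by
      show (secEquiv E V hV).symm _ = ((symAlg E).presheaf.map (homOfLE h).op).hom ((secEquiv E U hU).symm _)
      rw [secEquiv_symm_res E hU hV]
      exact congrArg _ (resMap_ι E h m).symm)
    (fun U hU r m => by
      apply (secEquiv E U hU).injective
      rw [smul_toModule]
      show secEquiv E U hU ((secEquiv E U hU).symm (SymmetricAlgebra.ι _ Γ(E, U) (r • m))) =
        secEquiv E U hU (_ * (secEquiv E U hU).symm (SymmetricAlgebra.ι _ Γ(E, U) m))
      rw [map_mul, secEquiv_str, RingEquiv.apply_symm_apply, RingEquiv.apply_symm_apply, map_smul, Algebra.smul_def])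
  exact ⟨j, fun U hU m => by rw [hj U hU m]; exact (secEquiv E U hU).apply_symm_apply _⟩

/-- The canonical map. -/
def j : E ⟶ (symAlg E).toModule := (exists_j E).choose

theorem secEquiv_j (U : S.Opens) (hU : IsAffineOpen U) (m : Γ(E, U)) :
    secEquiv E U hU ((j E).app U m) = SymmetricAlgebra.ι _ Γ(E, U) m := (exists_j E).choose_spec U hU m

omit [Coh.IsQCoh E] in
/-- Algebra maps from their values on affine opens. -/
theorem exists_algHom {A B : RelSpec.QCAlg S}
    (f : ∀ (U : S.Opens), IsAffineOpen U → (A.presheaf.obj (op U) ⟶ B.presheaf.obj (op U)))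
    (hnat : ∀ (U V : S.Opens) (hU : IsAffineOpen U) (hV : IsAffineOpen V) (h : V ≤ U),
      A.presheaf.map (homOfLE h).op ≫ f V hV = f U hU ≫ B.presheaf.map (homOfLE h).op)
    (hstr : ∀ (U : S.Opens) (hU : IsAffineOpen U), A.str.app (op U) ≫ f U hU = B.str.app (op U)) :
    ∃ ψ : A ⟶ B, ∀ (U : S.Opens) (hU : IsAffineOpen U), ψ.hom.app (op U) = f U hU := by
  let G := Scheme.AffineZariskiSite.toOpensFunctor S
  let K := Opens.grothendieckTopology S
  let B' : TopCat.Sheaf CommRingCat.{u} S.carrier := ⟨B.presheaf, B.isSheaf⟩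
  let α : G.op ⋙ A.presheaf ⟶ G.op ⋙ B.presheaf :=
    { app := fun U => f U.unop.1 U.unop.2
      naturality := fun U V i => hnat _ _ U.unop.2 V.unop.2 (Scheme.AffineZariskiSite.toOpens_mono i.unop.le) }
  let ψ₀ := Functor.IsCoverDense.restrictHomEquivHom (G := G) (K := K) (ℱ := A.presheaf) (ℱ' := B') α
  have hres : G.op.whiskerLeft ψ₀ = α :=
    (Functor.IsCoverDense.restrictHomEquivHom (G := G) (K := K) (ℱ := A.presheaf) (ℱ' := B')).symm_apply_apply α
  have happ : ∀ (U : S.Opens) (hU : IsAffineOpen U), ψ₀.app (op U) = f U hU := fun U hU =>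
    NatTrans.congr_app hres (op ⟨U, hU⟩)
  refine ⟨⟨ψ₀, ?_⟩, happ⟩
  apply (Functor.IsCoverDense.restrictHomEquivHom (G := G) (K := K) (ℱ := S.presheaf) (ℱ' := B')).symm.injective
  ext U : 2
  change A.str.app (op U.unop.1) ≫ ψ₀.app (op U.unop.1) = B.str.app (op U.unop.1)
  rw [happ U.unop.1 U.unop.2, hstr]

omit [Coh.IsQCoh E] in
/-- Algebra maps are determined on affine opens. -/
theorem algHom_ext {A B : RelSpec.QCAlg S} (ψ ψ' : A ⟶ B)
    (h : ∀ (U : S.Opens), IsAffineOpen U → ψ.hom.app (op U) = ψ'.hom.app (op U)) : ψ = ψ' := by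
  refine RelSpec.QCAlg.hom_ext ?_
  let G := Scheme.AffineZariskiSite.toOpensFunctor S
  apply (Functor.IsCoverDense.restrictHomEquivHom (G := G) (K := Opens.grothendieckTopology S) (ℱ := A.presheaf)
    (ℱ' := (⟨B.presheaf, B.isSheaf⟩ : TopCat.Sheaf CommRingCat.{u} S.carrier))).symm.injective
  ext U : 2
  exact h U.unop.1 U.unop.2

theorem isSymAlg : RelSpec.IsSymAlg E (symAlg E) (j E) := by
  intro B φ
  let alg : ∀ U : S.Opens, Algebra Γ(S, U) (B.presheaf.obj (op U)) := fun U => (B.str.app (op U)).hom.toAlgebra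
  let L : ∀ U : S.Opens, Sym E U →+* B.presheaf.obj (op U) := fun U =>
    letI := alg U
    (SymmetricAlgebra.lift (R := Γ(S, U)) (A := B.presheaf.obj (op U))
      { toFun := fun m => (show B.presheaf.obj (op U) from φ.app U m)
        map_add' := fun x y => map_add (φ.app U).hom x y
        map_smul' := fun r m => (Scheme.Modules.Hom.app_smul φ r m).trans (smul_toModule B U r _) }).toRingHom
  have Lι : ∀ (U : S.Opens) (m : Γ(E, U)), L U (SymmetricAlgebra.ι _ Γ(E, U) m) = φ.app U m := fun U m => by
    letI := alg U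
    exact SymmetricAlgebra.lift_ι_apply _ m
  have La : ∀ (U : S.Opens) (r : Γ(S, U)), L U (algebraMap _ (Sym E U) r) = (B.str.app (op U)).hom r := fun U r => by
    letI := alg U
    exact AlgHom.commutes _ r
  obtain ⟨ψ, hψ⟩ := exists_algHom (A := symAlg E) (B := B)
    (fun U hU => CommRingCat.ofHom ((L U).comp (secEquiv E U hU).toRingHom))
    (fun U V hU hV h => by
      refine CommRingCat.hom_ext (RingHom.ext fun a => ?_)
      show L V (secEquiv E V hV _) = (B.presheaf.map (homOfLE h).op).hom (L U (secEquiv E U hU a))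
      refine (congrArg (L V) (secEquiv_res E hU hV h a)).trans ?_
      generalize secEquiv E U hU a = b
      refine RingHom.congr_fun (SymRing.ringHom_ext (f := (L V).comp (resMap E h))
        (f' := (B.presheaf.map (homOfLE h).op).hom.comp (L U)) (fun r => ?_) (fun m => ?_)) b
      · rw [RingHom.comp_apply, RingHom.comp_apply, resMap_algebraMap, La, La]
        exact ConcreteCategory.congr_hom (B.str.naturality (homOfLE h).op) r
      · rw [RingHom.comp_apply, RingHom.comp_apply, resMap_ι, Lι, Lι]
        exact ConcreteCategory.congr_hom (φ.mapPresheaf.naturality (homOfLE h).op) m)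
    (fun U hU => CommRingCat.hom_ext (RingHom.ext fun r => by
      exact (congrArg (L U) (secEquiv_str E U hU r)).trans (La U r)))
  refine ⟨ψ, ?_, fun ψ' hψ' => algHom_ext _ _ fun U hU => ?_⟩
  · refine Groth.L16.AffineBC.hom_ext_affine _ _ fun U hU m => ?_
    show (ψ.hom.app (op U)).hom ((j E).app U m) = φ.app U m
    rw [hψ U hU]
    show L U (secEquiv E U hU _) = _
    rw [secEquiv_j E U hU, Lι]
  · rw [hψ U hU]
    refine CommRingCat.hom_ext (RingHom.ext fun a => ?_)
    obtain ⟨b, rfl⟩ := (secEquiv E U hU).symm.surjective a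
    show _ = L U (secEquiv E U hU ((secEquiv E U hU).symm b))
    rw [RingEquiv.apply_symm_apply]
    refine RingHom.congr_fun (SymRing.ringHom_ext (f := (ψ'.hom.app (op U)).hom.comp (secEquiv E U hU).symm.toRingHom)
      (f' := L U) (fun r => ?_) (fun m => ?_)) b
    · rw [La, RingHom.comp_apply]
      rw [show (secEquiv E U hU).symm.toRingHom (algebraMap _ (Sym E U) r) = ((symAlg E).str.app (op U)).hom r from by
        apply (secEquiv E U hU).injective
        rw [secEquiv_str]
        exact (secEquiv E U hU).apply_symm_apply _]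
      exact ConcreteCategory.congr_hom (NatTrans.congr_app ψ'.comm (op U)) r
    · rw [Lι, RingHom.comp_apply, show (secEquiv E U hU).symm.toRingHom (SymmetricAlgebra.ι _ Γ(E, U) m) =
        (j E).app U m from by
          apply (secEquiv E U hU).injective
          rw [secEquiv_j E U hU]
          exact (secEquiv E U hU).apply_symm_apply _]
      exact congrArg (fun g : E ⟶ B.toModule => g.app U m) hψ'

/-- The degree pieces over affine opens. -/
def deg (U : S.Opens) (hU : IsAffineOpen U) (n : ℕ) : AddSubgroup ((symAlg E).presheaf.obj (op U)) :=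
  (SymRing.piece Γ(S, U) Γ(E, U) n).toAddSubgroup.comap (secEquiv E U hU).toAddMonoidHom

end Groth.L18.SymSheaf
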