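import Groth.Agent.L16.QAffFactor.Basic
import Groth.Agent.L18.SymSheaf
import Groth.Agent.L17.Approx.Extend
import Groth.Agent.L00.QCAlgModule

/-!
An affine morphism of finite type embeds in a vector bundle.
-/

set_option autoImplicit false
set_option linter.style.haveILetI false
set_option backward.isDefEq.respectTransparency false
set_option backward.isDefEq.respectTransparency.types false

noncomputable section

universe u

open CategoryTheory CategoryTheory.Limits AlgebraicGeometry TopologicalSpace Opposite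

namespace Groth.L18.AffineVB

variable {X Y : Scheme.{u}} (f : X ⟶ Y) [IsAffineHom f]

theorem exists_embedding [CompactSpace Y] [QuasiSeparatedSpace Y] [LocallyOfFiniteType f] :
    ∃ (E : Y.Modules) (_ : Coh.IsCoh E) (A : RelSpec.QCAlg Y) (j : E ⟶ A.toModule)
      (_ : RelSpec.IsSymAlg E A j) (i : X ⟶ A.spec), IsClosedImmersion i ∧ i ≫ A.π = f := by
  classical
  let B := RelSpec.QCAlg.directImage f
  haveI : Coh.IsQCoh B.toModule := Groth.L00.QCAlgModule.isQCoh_toModule B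
  choose U hU hxU _ using fun y : Y => exists_isAffineOpen_mem_and_subset (x := y) (U := ⊤) trivial
  obtain ⟨S, hS⟩ := isCompact_univ.elim_finite_subcover (fun y : Y => (U y : Set Y)) (fun y => (U y).2)
    (fun y _ => Set.mem_iUnion.2 ⟨y, hxU y⟩)
  have hft : ∀ y, (f.app (U y)).hom.FiniteType := fun y => by
    rw [Scheme.Hom.app_eq_appLE]
    exact f.finiteType_appLE (hU y) ((hU y).preimage f) le_rfl
  choose t ht using fun y => (show
    letI := (f.app (U y)).hom.toAlgebra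
    ∃ t : Finset Γ(X, f ⁻¹ᵁ U y), Algebra.adjoin Γ(Y, U y) (t : Set Γ(X, f ⁻¹ᵁ U y)) = ⊤ from
      letI := (f.app (U y)).hom.toAlgebra
      (show Algebra.FiniteType Γ(Y, U y) Γ(X, f ⁻¹ᵁ U y) from hft y).out)
  obtain ⟨E, ι, -, hE, hmem⟩ := Groth.L17.Approx.exists_submodule_finset B.toModule U
    (fun y => (hU y).isCompact) (fun y => ↥(t y)) (fun y a => (show Γ(B.toModule, U y) from (a : Γ(X, f ⁻¹ᵁ U y)))) S
  haveI := hE.1
  obtain ⟨ψ, hψ, -⟩ := Groth.L18.SymSheaf.isSymAlg E B ι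
  let A := Groth.L18.SymSheaf.symAlg E
  have hsurj : ∀ y ∈ S, Function.Surjective (ψ.hom.app (op (U y))).hom := by
    intro y hy
    letI := (f.app (U y)).hom.toAlgebra
    let φ : A.presheaf.obj (op (U y)) →+* Γ(X, f ⁻¹ᵁ U y) := (ψ.hom.app (op (U y))).hom
    let R : Subalgebra Γ(Y, U y) Γ(X, f ⁻¹ᵁ U y) :=
      { φ.range with
        algebraMap_mem' := fun r => ⟨(A.str.app (op (U y))).hom r,
          ConcreteCategory.congr_hom (NatTrans.congr_app ψ.comm (op (U y))) r⟩ }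
    have hle : (t y : Set Γ(X, f ⁻¹ᵁ U y)) ⊆ R := fun a ha => by
      obtain ⟨e, he⟩ := hmem y hy ⟨a, ha⟩
      exact ⟨(Groth.L18.SymSheaf.j E).app (U y) e,
        (congrArg (fun g : E ⟶ B.toModule => g.app (U y) e) hψ).trans he⟩
    have htop : R = ⊤ := top_le_iff.1 (le_trans (ht y).ge (Algebra.adjoin_le hle))
    intro b
    exact ((htop ▸ Algebra.mem_top (R := Γ(Y, U y)) (A := Γ(X, f ⁻¹ᵁ U y))) :
      (show Γ(X, f ⁻¹ᵁ U y) from b) ∈ R)
  let i : X ⟶ A.spec := Groth.L16.QAffFactor.toHull f ≫ RelSpec.QCAlg.specMap ψ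
  have hiπ : i ≫ A.π = f := by
    rw [Category.assoc, RelSpec.QCAlg.specMap_π]
    exact Groth.L16.QAffFactor.toHull_π f
  refine ⟨E, hE, A, Groth.L18.SymSheaf.j E, Groth.L18.SymSheaf.isSymAlg E, i, ?_, hiπ⟩
  refine IsZariskiLocalAtTarget.of_openCover (P := @IsClosedImmersion)
    ({ I₀ := S, X := fun y => Spec (A.presheaf.obj (op (U y.1))), f := fun y => A.ι (U y.1) (hU y.1)
       mem₀ := by
        rw [Scheme.presieve₀_mem_precoverage_iff]
        refine ⟨fun z => ?_, fun y => inferInstance⟩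
        obtain ⟨y, hy, hzy⟩ := Set.mem_iUnion₂.1 (hS (Set.mem_univ (A.π z)))
        exact ⟨⟨y, hy⟩, show z ∈ (A.ι (U y) (hU y)).opensRange from (A.π_preimage (U y) (hU y)) ▸ hzy⟩ } :
      A.spec.OpenCover) fun y => ?_
  haveI : IsAffine ((f ⁻¹ᵁ U y.1 : X.Opens) : Scheme.{u}) := (hU y.1).preimage f
  haveI : IsClosedImmersion (Spec.map (ψ.hom.app (op (U y.1)))) :=
    IsClosedImmersion.spec_of_surjective _ (hsurj y.1 y.2)
  haveI : IsIso (f ⁻¹ᵁ U y.1).toSpecΓ := by rw [Scheme.Opens.toSpecΓ]; infer_instance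
  let k : ((f ⁻¹ᵁ U y.1 : X.Opens) : Scheme.{u}) ⟶ Spec (A.presheaf.obj (op (U y.1))) :=
    (f ⁻¹ᵁ U y.1).toSpecΓ ≫ Spec.map (ψ.hom.app (op (U y.1)))
  have hk : (f ⁻¹ᵁ U y.1).ι ≫ i = k ≫ A.ι (U y.1) (hU y.1) := by
    show (f ⁻¹ᵁ U y.1).ι ≫ Groth.L16.QAffFactor.toHull f ≫ RelSpec.QCAlg.specMap ψ = _
    rw [← Category.assoc, Groth.L16.QAffFactor.ι_toHull f ⟨U y.1, hU y.1⟩, Category.assoc,
      RelSpec.QCAlg.ι_specMap]
    rfl
  have hpb : IsPullback k (f ⁻¹ᵁ U y.1).ι (A.ι (U y.1) (hU y.1)) i :=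
    IsOpenImmersion.isPullback _ _ _ _ hk (by
      rw [Scheme.Opens.opensRange_ι, ← A.π_preimage (U y.1) (hU y.1), ← Scheme.Hom.comp_preimage, hiπ])
  refine (MorphismProperty.arrow_mk_iso_iff @IsClosedImmersion ?_).mp (inferInstance : IsClosedImmersion k)
  exact Arrow.isoMk hpb.flip.isoPullback (Iso.refl _)
    (by exact hpb.flip.isoPullback_hom_snd.trans (Category.comp_id _).symm)

end Groth.L18.AffineVB
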