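import Groth.Agent.L18.RelAmpleOps

/-!
Ampleness and disjoint unions.
-/

set_option autoImplicit false
set_option backward.isDefEq.respectTransparency false
universe u

open CategoryTheory CategoryTheory.Limits AlgebraicGeometry TopologicalSpace Opposite

noncomputable section

namespace Groth.L18.Ample

open Groth.L18.Frame (rs ro rs_rs rs_self IsFrame)
open Groth.L18.GenLoc

variable {X Y : Scheme.{u}} {L : X.Modules}

theorem exists_basicOpen_eq_of_isCompl {B C : X.Opens} (h : IsCompl B C) :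
    ∃ a : Γ(X, ⊤), X.basicOpen a = B := by
  have hd : B ⊓ C = ⊥ := h.inf_eq_bot
  have hcov : (⊤ : X.Opens) ≤ ⨆ b : Bool, bif b then B else C := h.sup_eq_top.ge.trans
    (sup_le (le_iSup (fun b : Bool => bif b then B else C) true) (le_iSup (fun b : Bool => bif b then B else C) false))
  obtain ⟨a, ha, -⟩ := X.sheaf.existsUnique_gluing' (fun b : Bool => bif b then B else C) ⊤
    (fun b => homOfLE le_top) hcov (fun b => match b with | true => (1 : Γ(X, B)) | false => (0 : Γ(X, C)))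
    (fun b c => by
      cases b <;> cases c
      · rfl
      · haveI : Subsingleton Γ(X, C ⊓ B) := by rw [inf_comm, hd]; infer_instance
        exact Subsingleton.elim (α := Γ(X, C ⊓ B)) _ _
      · haveI : Subsingleton Γ(X, B ⊓ C) := by rw [hd]; infer_instance
        exact Subsingleton.elim (α := Γ(X, B ⊓ C)) _ _
      · rfl)
  refine ⟨a, ?_⟩
  have hB : X.basicOpen a ⊓ B = B := by
    rw [inf_comm, ← Scheme.basicOpen_res _ a (homOfLE (le_top : B ≤ ⊤)).op]
    exact (congrArg X.basicOpen (ha true)).trans (X.basicOpen_of_isUnit isUnit_one)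
  have hC : X.basicOpen a ⊓ C = ⊥ := by
    rw [inf_comm, ← Scheme.basicOpen_res _ a (homOfLE (le_top : C ≤ ⊤)).op]
    exact (congrArg X.basicOpen (ha false)).trans (Scheme.basicOpen_zero _ _)
  calc X.basicOpen a = X.basicOpen a ⊓ (B ⊔ C) := by rw [h.sup_eq_top, inf_top_eq]
    _ = B := by rw [inf_sup_left, hB, hC, sup_bot_eq]

theorem quasiSeparatedSpace_of_isCompl {B C : X.Opens} (h : IsCompl B C) [QuasiSeparatedSpace (B : Scheme.{u})]
    [QuasiSeparatedSpace (C : Scheme.{u})] : QuasiSeparatedSpace X := by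
  have hBC : (B : Set X)ᶜ = C := (Set.ext fun x => by
    refine ⟨fun hx => ?_, fun hx hx' => h.inf_eq_bot.le ⟨hx', hx⟩⟩
    rcases h.sup_eq_top.ge (Opens.mem_top x) with h' | h'
    exacts [absurd h' hx, h'])
  have hB : IsClosed (B : Set X) := ⟨hBC ▸ C.2⟩
  have hC : IsClosed (C : Set X) := hBC ▸ B.2.isClosed_compl
  have key : ∀ (D : X.Opens) [QuasiSeparatedSpace (D : Scheme.{u})], IsClosed (D : Set X) → ∀ U V : Set X,
      IsOpen U → IsCompact U → IsOpen V → IsCompact V → IsCompact ((U ∩ D) ∩ (V ∩ D)) := by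
    intro D _ hD U V hU hUc hV hVc
    exact (isQuasiSeparated_iff_quasiSeparatedSpace _ D.2).mpr ‹_› _ _ Set.inter_subset_right (hU.inter D.2)
      (hUc.inter_right hD) Set.inter_subset_right (hV.inter D.2) (hVc.inter_right hD)
  refine ⟨fun U V hU hUc hV hVc => ?_⟩
  have e : U ∩ V = (U ∩ B) ∩ (V ∩ B) ∪ (U ∩ C) ∩ (V ∩ C) := by
    rw [← hBC]; ext x; simp only [Set.mem_inter_iff, Set.mem_union, Set.mem_compl_iff]; tauto
  rw [e]
  exact (key B hB U V hU hUc hV hVc).union (key C hC U V hU hUc hV hVc)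

theorem isAmple_of_isCompl {B C : X.Opens} (h : IsCompl B C) (hB : CohB1.IsAmple (L.restrict B.ι))
    (hC : CohB1.IsAmple (L.restrict C.ι)) : CohB1.IsAmple L := by
  haveI := hB.2.1
  haveI := hC.2.1
  haveI := isSeparated_of_isAmple hB
  haveI := isSeparated_of_isAmple hC
  haveI := quasiSeparatedSpace_of_isCompl h
  haveI : CompactSpace X := ⟨by
    rw [← Opens.coe_top, ← h.sup_eq_top, Opens.coe_sup]
    exact (isCompact_iff_compactSpace.mpr ‹_›).union (isCompact_iff_compactSpace.mpr ‹_›)⟩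
  have hmem : ∀ x : X, x ∈ B ∨ x ∈ C := fun x => h.sup_eq_top.ge (Opens.mem_top x)
  have hL : PicF.IsInvertible L := isInvertible_of_cover fun x =>
    (hmem x).elim (fun hx => ⟨B, hx, hB.1⟩) (fun hx => ⟨C, hx, hC.1⟩)
  have key : ∀ (G H : X.Opens), IsCompl G H → CohB1.IsAmple (L.restrict G.ι) → ∀ x ∈ G,
      ∃ (n : ℕ) (s : Coh.structureModule X ⟶ CohB1.tensorPow L (n + 1)),
        x ∈ CohB1.genLocus _ s ∧ IsAffineOpen (CohB1.genLocus _ s) := by
    intro G H hGH hG x hx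
    obtain ⟨a, rfl⟩ := exists_basicOpen_eq_of_isCompl hGH
    obtain ⟨n, s, hxs, hs⟩ := hG.2.2 ⟨x, hx⟩
    obtain ⟨s', hs'⟩ := exists_genLocus_eq_of_restrict hL a s
    refine ⟨n, s', ?_⟩
    rw [hs']
    exact ⟨⟨⟨x, hx⟩, hxs, rfl⟩, hs.image_of_isOpenImmersion _⟩
  exact ⟨hL, inferInstance, fun x => (hmem x).elim (key B C h hB x) (key C B h.symm hC x)⟩

theorem isAmple_restrict_image_iff {Z : Scheme.{u}} (j : Z ⟶ X) [IsOpenImmersion j] (W : Z.Opens) :
    CohB1.IsAmple (L.restrict (j ''ᵁ W).ι) ↔ CohB1.IsAmple (((Scheme.Modules.pullback j).obj L).restrict W.ι) := by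
  have e : (Scheme.Modules.pullback W.ι).obj ((Scheme.Modules.pullback j).obj L) ≅
      (Scheme.Modules.pullback (W.ι ≫ j)).obj L := (Scheme.Modules.pullbackComp W.ι j).app L
  rw [isAmple_restrict_iff_pullback, isAmple_restrict_iff_pullback]
  exact Iff.trans (isAmple_pullback_congr (j.isoImage W) _ _ (Scheme.Hom.isoImage_hom_ι _ _)).symm
    ⟨isAmple_of_iso e.symm, isAmple_of_iso e⟩

theorem isRelAmple_coprod_iff {X' Y : Scheme.{u}} (f : X ⟶ Y) (f' : X' ⟶ Y) [QuasiCompact f] [QuasiCompact f']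
    (L'' : (X ⨿ X').Modules) :
    RelAmple.IsRelAmple (coprod.desc f f') L'' ↔
      RelAmple.IsRelAmple f ((Scheme.Modules.pullback (coprod.inl : X ⟶ X ⨿ X')).obj L'') ∧
        RelAmple.IsRelAmple f' ((Scheme.Modules.pullback (coprod.inr : X' ⟶ X ⨿ X')).obj L'') := by
  have hc := isCompl_opensRange_inl_inr X X'
  have hl : ∀ V : Y.Opens, (coprod.inl : X ⟶ X ⨿ X') ''ᵁ (f ⁻¹ᵁ V) =
      coprod.desc f f' ⁻¹ᵁ V ⊓ (coprod.inl : X ⟶ X ⨿ X').opensRange := fun V => by
    rw [inf_comm, ← Scheme.Hom.image_preimage_eq_opensRange_inf, ← Scheme.Hom.comp_preimage, coprod.inl_desc]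
  have hr : ∀ V : Y.Opens, (coprod.inr : X' ⟶ X ⨿ X') ''ᵁ (f' ⁻¹ᵁ V) =
      coprod.desc f f' ⁻¹ᵁ V ⊓ (coprod.inr : X' ⟶ X ⨿ X').opensRange := fun V => by
    rw [inf_comm, ← Scheme.Hom.image_preimage_eq_opensRange_inf, ← Scheme.Hom.comp_preimage, coprod.inr_desc]
  have hu : ∀ V : Y.Opens, (coprod.inl : X ⟶ X ⨿ X') ''ᵁ (f ⁻¹ᵁ V) ⊔ (coprod.inr : X' ⟶ X ⨿ X') ''ᵁ (f' ⁻¹ᵁ V) =
      coprod.desc f f' ⁻¹ᵁ V := fun V => by rw [hl, hr, ← inf_sup_left, hc.sup_eq_top, inf_top_eq]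
  haveI : QuasiCompact (coprod.desc f f') := ⟨fun U hU hUc => by
    have e := congrArg SetLike.coe (hu ⟨U, hU⟩)
    simp only [Opens.coe_sup, Scheme.Hom.coe_image] at e
    rw [show (coprod.desc f f') ⁻¹' U = _ from e.symm]
    exact ((f.isCompact_preimage (U := ⟨U, hU⟩) hUc).image (coprod.inl : X ⟶ X ⨿ X').continuous).union
      ((f'.isCompact_preimage (U := ⟨U, hU⟩) hUc).image (coprod.inr : X' ⟶ X ⨿ X').continuous)⟩
  constructor
  · intro h
    exact ⟨⟨inferInstance, fun V => (isAmple_restrict_image_iff _ _).1 (isAmple_restrict_of_le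
        ((hl V.1).le.trans inf_le_left) ((f.isCompact_preimage V.2.isCompact).image (coprod.inl : X ⟶ X ⨿ X').continuous)
        (h.2 V))⟩, ⟨inferInstance, fun V => (isAmple_restrict_image_iff _ _).1 (isAmple_restrict_of_le
        ((hr V.1).le.trans inf_le_left) ((f'.isCompact_preimage V.2.isCompact).image (coprod.inr : X' ⟶ X ⨿ X').continuous)
        (h.2 V))⟩⟩
  · rintro ⟨h, h'⟩
    refine ⟨inferInstance, fun V => ?_⟩
    set A := coprod.desc f f' ⁻¹ᵁ V.1
    have hA : ∀ B : (X ⨿ X').Opens, A.ι ''ᵁ (A.ι ⁻¹ᵁ B) = A ⊓ B := fun B => by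
      rw [Scheme.Hom.image_preimage_eq_opensRange_inf, Scheme.Opens.opensRange_ι]
    have hBC : IsCompl (A.ι ⁻¹ᵁ (coprod.inl : X ⟶ X ⨿ X').opensRange) (A.ι ⁻¹ᵁ (coprod.inr : X' ⟶ X ⨿ X').opensRange) := by
      constructor
      · rw [disjoint_iff, ← Scheme.Hom.preimage_inf, hc.inf_eq_bot]; rfl
      · rw [codisjoint_iff, ← Scheme.Hom.preimage_sup, hc.sup_eq_top]; rfl
    refine isAmple_of_isCompl hBC ?_ ?_
    · rw [isAmple_restrict_restrict_iff, isAmple_restrict_congr ((hA _).trans (hl V.1).symm)]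
      exact (isAmple_restrict_image_iff _ _).2 (h.2 V)
    · rw [isAmple_restrict_restrict_iff, isAmple_restrict_congr ((hA _).trans (hr V.1).symm)]
      exact (isAmple_restrict_image_iff _ _).2 (h'.2 V)

end Groth.L18.Ample
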