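import Groth.Agent.L18.AmpleGG

/-!
An ample module from finitely many globally generated ones with affine loci.
-/

set_option autoImplicit false
set_option backward.isDefEq.respectTransparency false
universe u

open CategoryTheory AlgebraicGeometry TopologicalSpace Opposite

noncomputable section

namespace Groth.L18.Ample

open Groth.L18.GenLoc

variable {X : Scheme.{u}}

theorem exists_isAmple_of_gg_family [CompactSpace X]
    (h : ∀ x : X, ∃ (L : X.Modules) (s : Coh.structureModule X ⟶ L), PicF.IsInvertible L ∧ Curv2.IsGloballyGenerated L ∧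
      x ∈ CohB1.genLocus L s ∧ IsAffineOpen (CohB1.genLocus L s)) :
    ∃ M : X.Modules, CohB1.IsAmple M := by
  classical
  choose L s hL hgg hxs hs using h
  obtain ⟨T, hT⟩ := isCompact_univ.elim_finite_subcover (fun x : X => (CohB1.genLocus _ (s x) : Set X))
    (fun x => (CohB1.genLocus _ (s x)).2) (fun x _ => Set.mem_iUnion.2 ⟨x, hxs x⟩)
  suffices H : ∀ S : Finset X, ∃ M : X.Modules, PicF.IsInvertible M ∧
      (∀ z : X, ∃ t : Coh.structureModule X ⟶ M, z ∈ CohB1.genLocus M t) ∧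
      ∀ x ∈ S, ∀ z ∈ CohB1.genLocus _ (s x), ∃ t : Coh.structureModule X ⟶ M,
        z ∈ CohB1.genLocus M t ∧ IsAffineOpen (CohB1.genLocus M t) by
    obtain ⟨M, hM, -, hMs⟩ := H T
    refine ⟨M, hM, inferInstance, fun z => ?_⟩
    obtain ⟨x, hx, hzx⟩ := Set.mem_iUnion₂.1 (hT (Set.mem_univ z))
    obtain ⟨t, hzt, ht⟩ := hMs x hx z hzx
    refine ⟨0, t ≫ (Groth.L00.Tensor.tensorPowOne M).symm.hom, ?_⟩
    rw [Groth.L16.genLocus_comp_iso]
    exact ⟨hzt, ht⟩
  intro S
  induction S using Finset.induction with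
  | empty =>
    exact ⟨Coh.structureModule X, isInvertible_structureModule X,
      fun z => ⟨𝟙 _, by rw [genLocus_id]; exact Opens.mem_top z⟩, by simp⟩
  | insert x S _ ih =>
    obtain ⟨M, hM, hMgen, hMs⟩ := ih
    refine ⟨CohB1.tensorMod (L x) M, isInvertible_tensor (hL x) hM, fun z => ?_, fun y hy z hz => ?_⟩
    · obtain ⟨t, ht⟩ := hMgen z
      obtain ⟨t', ht'⟩ := exists_genLocus_mem_of_gg (hL x) (hgg x) z
      exact ⟨tensHom t' t, by rw [genLocus_tensHom (hL x) hM]; exact ⟨ht', ht⟩⟩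
    · rcases Finset.mem_insert.1 hy with rfl | hy
      · obtain ⟨t, ht⟩ := hMgen z
        refine ⟨tensHom (s y) t, ?_⟩
        rw [genLocus_tensHom (hL y) hM]
        exact ⟨⟨hz, ht⟩, inf_comm (CohB1.genLocus M t) _ ▸ isAffineOpen_genLocus_inf hM t (hs y)⟩
      · obtain ⟨t, hzt, ht⟩ := hMs y hy z hz
        obtain ⟨t', ht'⟩ := exists_genLocus_mem_of_gg (hL x) (hgg x) z
        refine ⟨tensHom t' t, ?_⟩
        rw [genLocus_tensHom (hL x) hM]
        exact ⟨⟨ht', hzt⟩, isAffineOpen_genLocus_inf (hL x) t' ht⟩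

end Groth.L18.Ample
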