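import Groth.Agent.L18.AmpleNil

/-!
Ampleness descends along homeomorphisms on whose sections, over affine opens, powers come from below.
-/

set_option autoImplicit false
set_option backward.isDefEq.respectTransparency false
universe u

open CategoryTheory AlgebraicGeometry TopologicalSpace Opposite

noncomputable section

namespace Groth.L18.AmpleNil

open Groth.L18.Frame (rs ro rs_rs rs_self rs_smul ro_ro ro_self ro_mul IsFrame pull pull_rs pull_smul)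
open Groth.L18.GenLoc
open Groth.L18.SecTwistExt (epow epow_rs epow_smul)

variable {X : Scheme.{u}}

theorem isAmple_of_isAmple_pullback_of_pow {Z : Scheme.{u}} (i : Z ⟶ X) (hi : IsHomeomorph i.base)
    {q : ℕ} (hq : 0 < q)
    (hpow : ∀ W : X.Opens, IsAffineOpen W → ∀ b : Γ(Z, i ⁻¹ᵁ W), ∃ (k : ℕ) (a : Γ(X, W)), b ^ q ^ k = i.app W a)
    {L : X.Modules} (hL : PicF.IsInvertible L)
    (hA : CohB1.IsAmple ((Scheme.Modules.pullback i).obj L)) : CohB1.IsAmple L := by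
  classical
  haveI : CompactSpace Z := hA.2.1
  haveI := Groth.L18.Ample.isSeparated_of_isAmple hA
  haveI : CompactSpace X := hi.surjective.compactSpace hi.continuous
  haveI : QuasiSeparatedSpace X := QuasiSeparatedSpace.of_isOpenEmbedding hi.homeomorph.symm.isOpenEmbedding
  refine ⟨hL, inferInstance, fun x => ?_⟩
  obtain ⟨z, rfl⟩ := hi.surjective x
  obtain ⟨W₀, e₀', hW₀, hzW₀, he₀'⟩ := exists_affine_frame hL (i z)
  obtain ⟨n, s, hzs, hsW, -⟩ := Groth.L18.Ample.exists_affine_genLocus_subset hA (i ⁻¹ᵁ W₀) (x := z) hzW₀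
  set M := CohB1.tensorPow L (n + 1) with hMdef
  set s' : Coh.structureModule Z ⟶ (Scheme.Modules.pullback i).obj M :=
    s ≫ (Groth.L18.Ample.pullPow i L (n + 1)).symm.hom with hs'def
  have hs' : CohB1.genLocus _ s' = CohB1.genLocus _ s := Groth.L16.genLocus_comp_iso _ _
  -- affine frames, indexed by `Option X`
  choose W₁ e₁ hW₁ hxW₁ he₁ using fun y : X =>
    exists_affine_frame (Groth.L18.Ample.isInvertible_tensorPow hL (n + 1)) y
  obtain ⟨S, hS⟩ := isCompact_univ.elim_finite_subcover (fun y : X => (W₁ y : Set X)) (fun y => (W₁ y).2)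
    (fun y _ => Set.mem_iUnion.2 ⟨y, hxW₁ y⟩)
  let e₀ : Γ(M, W₀) := epow e₀' (n + 1)
  have he₀ : IsFrame M W₀ e₀ := isFrame_epow he₀' (n + 1)
  have hco : ∀ (W : X.Opens) (e : Γ(M, W)), IsAffineOpen W → IsFrame M W e →
      ∃ (b : Γ(Z, i ⁻¹ᵁ W)) (k : ℕ), b • pull i M W e = rs ((Scheme.Modules.pullback i).obj M) le_top (secOf s') ∧
        i ⁻¹ᵁ W ⊓ CohB1.genLocus _ s' = Z.basicOpen b ∧
        ∀ K, k ≤ K → ∃ t : Γ(X, W), i.app W t = b ^ q ^ K := by
    intro W e hW he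
    obtain ⟨b, hb⟩ := (he.pullback i M).exists_coeff le_rfl (rs _ le_top (secOf s'))
    rw [rs_self] at hb
    obtain ⟨k, a, ha⟩ := hpow W hW b
    refine ⟨b, k, hb, (inf_comm _ _).trans (genLocus_inf_eq s' (he.pullback i M) hb), fun K hK => ⟨a ^ q ^ (K - k), ?_⟩⟩
    rw [map_pow, ← ha, ← pow_mul, ← pow_add, Nat.add_sub_cancel' hK]
  obtain ⟨b₀, k₀, hb₀, hlb₀, hK₀⟩ := hco W₀ e₀ hW₀ he₀
  choose b k hb hlb hK using fun y : X => hco (W₁ y) (e₁ y) (hW₁ y) (he₁ y)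
  set K := k₀ + S.sup k
  set m := q ^ K
  have hm : 0 < m := Nat.pow_pos hq
  obtain ⟨a₀, ha₀⟩ := hK₀ K (Nat.le_add_right _ _)
  have hGpre : ∀ (W : X.Opens) (t : Γ(X, W)) (c : Γ(Z, i ⁻¹ᵁ W)), i.app W t = c ^ m →
      i ⁻¹ᵁ W ⊓ CohB1.genLocus _ s' = Z.basicOpen c →
      i ⁻¹ᵁ X.basicOpen t = i ⁻¹ᵁ W ⊓ CohB1.genLocus _ s' := by
    intro W t c ht hc
    rw [Scheme.preimage_basicOpen, hc, ← Z.basicOpen_pow c hm]
    exact congrArg Z.basicOpen ht
  set G := X.basicOpen a₀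
  have hG : i ⁻¹ᵁ G = CohB1.genLocus _ s' :=
    (hGpre W₀ a₀ b₀ ha₀ hlb₀).trans (inf_eq_right.mpr (hs'.trans_le hsW))
  have hiG : G ≤ W₀ := X.basicOpen_le a₀
  let σ : Γ(CohB1.tensorPow M m, G) := ro hiG a₀ • rs (CohB1.tensorPow M m) hiG (epow e₀ m)
  obtain ⟨N, τ, hτ⟩ := exists_pow_extend G σ fun y => by
    obtain ⟨j, hj, hyj⟩ := Set.mem_iUnion₂.1 (hS (Set.mem_univ y))
    obtain ⟨t, ht⟩ := hK j K ((Finset.le_sup hj).trans (Nat.le_add_left _ _))
    have hGW : G ⊓ (W₁ j) = X.basicOpen t := Opens.ext (Set.preimage_injective.mpr hi.surjective (by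
      show ((i ⁻¹ᵁ (G ⊓ (W₁ j)) : Z.Opens) : Set Z) = ((i ⁻¹ᵁ X.basicOpen t : Z.Opens) : Set Z)
      rw [hGpre (W₁ j) t (b j) ht (hlb j), Scheme.Hom.preimage_inf, hG, inf_comm]))
    have h0W : G ⊓ (W₁ j) ≤ W₀ := inf_le_left.trans hiG
    obtain ⟨c, hc⟩ := (he₁ j).exists_coeff (inf_le_right : G ⊓ (W₁ j) ≤ (W₁ j)) (rs M h0W e₀)
    refine ⟨(W₁ j), epow (e₁ j) m, t, ro h0W a₀ * c ^ m, hyj, hW₁ j, isFrame_epow (he₁ j) m, hGW, ?_, ?_⟩
    · show _ = rs (CohB1.tensorPow M m) inf_le_left (ro hiG a₀ • rs (CohB1.tensorPow M m) hiG (epow e₀ m))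
      rw [rs_smul, rs_rs, ro_ro, epow_rs, epow_rs, mul_smul, ← epow_smul, hc]
    · have hcpt : IsCompact ((G ⊓ (W₁ j) : X.Opens) : Set X) := by rw [hGW]; exact ((hW₁ j).basicOpen t).isCompact
      have hle₀ : i ⁻¹ᵁ (G ⊓ (W₁ j)) ≤ i ⁻¹ᵁ W₀ := i.preimage_mono h0W
      have hle₁ : i ⁻¹ᵁ (G ⊓ (W₁ j)) ≤ i ⁻¹ᵁ (W₁ j) := i.preimage_mono inf_le_right
      have hrel : ro hle₀ b₀ * i.app (G ⊓ (W₁ j)) c = ro hle₁ (b j) := by
        refine ((he₁ j).pullback i M).inj hle₁ ?_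
        have h1 := congrArg (rs ((Scheme.Modules.pullback i).obj M) hle₀) hb₀
        have h2 := congrArg (rs ((Scheme.Modules.pullback i).obj M) hle₁) (hb j)
        rw [rs_smul, rs_rs] at h1 h2
        rw [h2, mul_smul]
        refine Eq.trans (congrArg (ro hle₀ b₀ • ·) ?_) h1
        rw [pull_rs, pull_rs, ← pull_smul, hc]
        all_goals first | exact inf_le_right | exact h0W
      have h0 : i.app (G ⊓ (W₁ j)) (ro h0W a₀ * c ^ m - ro inf_le_right t) = 0 := by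
        have e1 : i.app (G ⊓ (W₁ j)) (ro h0W a₀) = ro hle₀ b₀ ^ m := by
          refine (ConcreteCategory.congr_hom (i.naturality (homOfLE h0W).op) a₀).trans ?_
          exact (congrArg (ro hle₀) ha₀).trans (map_pow (Z.presheaf.map (homOfLE hle₀).op).hom b₀ m)
        have e2 : i.app (G ⊓ (W₁ j)) (ro (inf_le_right : G ⊓ (W₁ j) ≤ (W₁ j)) t) = ro hle₁ (b j) ^ m := by
          refine (ConcreteCategory.congr_hom (i.naturality (homOfLE (inf_le_right : G ⊓ (W₁ j) ≤ (W₁ j))).op) t).trans ?_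
          exact (congrArg (ro hle₁) ht).trans (map_pow (Z.presheaf.map (homOfLE hle₁).op).hom (b j) m)
        rw [map_sub, map_mul, map_pow, e1, e2, ← hrel, mul_pow, sub_self]
      rw [Scheme.isNilpotent_iff_basicOpen_eq_bot_of_isCompact hcpt]
      refine Opens.ext (Set.preimage_injective.mpr hi.surjective ?_)
      show ((i ⁻¹ᵁ X.basicOpen (ro h0W a₀ * c ^ m - ro inf_le_right t) : Z.Opens) : Set Z) = _
      rw [Scheme.preimage_basicOpen, h0, Scheme.basicOpen_zero]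
      rfl
  obtain ⟨n', τ', hτ'⟩ := Groth.L18.Ample.exists_of_iso (L := L) (j := (n + 1) * (m * (N + 1))) (by positivity) τ
    (Groth.L00.Tensor.tensorPowMul M m (N + 1) ≪≫ Groth.L00.Tensor.tensorPowMul L (n + 1) (m * (N + 1)))
  refine ⟨n', τ', ?_, ?_⟩
  · rw [hτ', hτ]
    exact (hG.trans hs').ge hzs
  · rw [hτ', hτ]
    exact hW₀.basicOpen a₀

end Groth.L18.AmpleNil
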