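import Groth.Agent.L18.AmpleNil
import Groth.Agent.L18.RelAmpleOps
import Groth.Prelude.Def_MoreMor

/-!
Relative ampleness along thickenings.
-/

set_option autoImplicit false
set_option backward.isDefEq.respectTransparency false
universe u

open CategoryTheory CategoryTheory.Limits AlgebraicGeometry TopologicalSpace Opposite

noncomputable section

namespace Groth.L18.AmpleNil

theorem isHomeomorph_of_isThickening {Z X : Scheme.{u}} {i : Z ⟶ X} (h : MoreMor.IsThickening i) :
    IsHomeomorph i.base := by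
  haveI := h.1
  exact isHomeomorph_iff_isEmbedding_surjective.mpr ⟨i.isEmbedding, h.2.1⟩

theorem isHomeomorph_morphismRestrict {Z X : Scheme.{u}} {i : Z ⟶ X} [IsClosedImmersion i]
    (hi : IsHomeomorph i.base) (U : X.Opens) : IsHomeomorph (i ∣_ U).base := by
  haveI : Surjective i := ⟨hi.surjective⟩
  haveI : Surjective (i ∣_ U) := MorphismProperty.of_isPullback (isPullback_morphismRestrict i U).flip ‹_›
  haveI : IsClosedImmersion (i ∣_ U) := MorphismProperty.of_isPullback (isPullback_morphismRestrict i U).flip ‹_›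
  exact isHomeomorph_iff_isEmbedding_surjective.mpr ⟨(i ∣_ U).isEmbedding, (i ∣_ U).surjective⟩

theorem isAmple_restrict_iff {Z X : Scheme.{u}} (i : Z ⟶ X) [IsClosedImmersion i] (hi : IsHomeomorph i.base)
    {L : X.Modules} (hL : PicF.IsInvertible L) (U : X.Opens) :
    CohB1.IsAmple (((Scheme.Modules.pullback i).obj L).restrict (i ⁻¹ᵁ U).ι) ↔ CohB1.IsAmple (L.restrict U.ι) := by
  haveI : IsClosedImmersion (i ∣_ U) := MorphismProperty.of_isPullback (isPullback_morphismRestrict i U).flip ‹_›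
  rw [← isAmple_pullback_iff (i ∣_ U) (isHomeomorph_morphismRestrict hi U)
    (Groth.L18.Ample.isInvertible_restrict hL U)]
  let e := (Scheme.Modules.restrictFunctorIsoPullback (i ⁻¹ᵁ U).ι).app ((Scheme.Modules.pullback i).obj L) ≪≫
    (Scheme.Modules.pullbackComp _ _).app L ≪≫
    (Scheme.Modules.pullbackCongr (morphismRestrict_ι i U).symm).app L ≪≫
    ((Scheme.Modules.pullbackComp _ _).app L).symm ≪≫
    (Scheme.Modules.pullback (i ∣_ U)).mapIso ((Scheme.Modules.restrictFunctorIsoPullback U.ι).app L).symm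
  exact ⟨Groth.L18.Ample.isAmple_of_iso e, Groth.L18.Ample.isAmple_of_iso e.symm⟩

theorem isRelAmple_thickening_iff {X X' S S' : Scheme.{u}} (iX : X ⟶ X') (iS : S ⟶ S') (f : X ⟶ S) (f' : X' ⟶ S')
    (hX : MoreMor.IsThickening iX) (hS : MoreMor.IsThickening iS) (w : iX ≫ f' = f ≫ iS)
    {L' : X'.Modules} (hL' : PicF.IsInvertible L') :
    RelAmple.IsRelAmple f' L' ↔ RelAmple.IsRelAmple f ((Scheme.Modules.pullback iX).obj L') := by
  haveI := hX.1
  haveI := hX.2
  haveI := hS.1
  have hi := isHomeomorph_of_isThickening hX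
  have key : ∀ V : S'.Opens, iX ⁻¹ᵁ (f' ⁻¹ᵁ V) = f ⁻¹ᵁ (iS ⁻¹ᵁ V) := fun V => by
    rw [← Scheme.Hom.comp_preimage, w, Scheme.Hom.comp_preimage]
  constructor
  · intro h
    haveI := h.1
    haveI : QuasiCompact (f ≫ iS) := w ▸ inferInstance
    haveI : QuasiCompact f := QuasiCompact.of_comp f iS
    refine Groth.L18.Ample.isRelAmple_of_local f fun y => ?_
    obtain ⟨V, hV, hyV, -⟩ := Groth.L18.Ample.exists_affine_le (Opens.mem_top (iS y))
    refine ⟨iS ⁻¹ᵁ V, hV.preimage iS, hyV, ?_⟩
    rw [← key]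
    exact (isAmple_restrict_iff iX hi hL' _).mpr (h.2 ⟨V, hV⟩)
  · intro h
    haveI := h.1
    haveI : QuasiCompact (iX ≫ f') := w ▸ inferInstance
    refine ⟨⟨fun U hU hUc => ?_⟩, fun V => ?_⟩
    · have h1 : IsCompact ((iX ≫ f') ⁻¹' U) := QuasiCompact.isCompact_preimage U hU hUc
      have h2 := h1.image iX.continuous
      rwa [Scheme.Hom.comp_base, TopCat.coe_comp, Set.preimage_comp, Set.image_preimage_eq _ hi.surjective] at h2
    · refine (isAmple_restrict_iff iX hi hL' _).mp ?_
      rw [key]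
      exact h.2 ⟨_, V.2.preimage iS⟩

end Groth.L18.AmpleNil
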