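import Groth.Agent.L13.LiaisonHilb
import Groth.Agent.L15.HilbGrowth
import Groth.Agent.L22.AffineDim
import Groth.Agent.L22.SyzTilde.Alg
import Groth.Agent.L11.LenSpec.Alg
import Groth.Agent.L22.ProjDict
import Groth.Agent.S10907

/-!
# The degree of a projective scheme as the sum over its components

Translation of `Groth.L13.Liaison.Hilb.exists_coeff_formula` to the natural number grading.
-/

set_option autoImplicit false

universe u

open Polynomial

namespace Groth.L18.AssocDegree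

open Groth.L15.HilbGrowth (hf hf_add_finrank)
open Groth.L13.Liaison.Hilb (len hq)

variable {k : Type u} [Field k] {n : ℕ}

local notation "Rk" => MvPolynomial (Fin (n + 1)) k
local notation "𝒜" => CohB1.polyGrading n k

theorem isHomogeneous_stdGr {I : Ideal Rk} (hI : I.IsHomogeneous 𝒜) :
    I.IsHomogeneous (GrSyz.stdGr k (Fin (n + 1))) := by
  rw [← Ideal.IsHomogeneous.toIdeal_homogeneousCore_eq_self hI]
  refine Ideal.homogeneous_span _ _ ?_
  rintro _ ⟨⟨x, i, hi⟩, -, rfl⟩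
  exact ⟨(i : ℤ), Groth.L22.SyzTilde.mem_G_cast.2 hi⟩

theorem hq_eq_hf (A : Ideal Rk) (m : ℕ) : hq A (m : ℤ) = hf A m := by
  have h : GrSyz.stdGr k (Fin (n + 1)) (m : ℤ) = 𝒜 m :=
    Submodule.ext fun p => Groth.L22.SyzTilde.mem_G_cast
  unfold hq hf Groth.L15.HilbGrowth.piece
  rw [h]

theorem hf_mono {A B : Ideal Rk} (h : A ≤ B) (m : ℕ) : hf B m ≤ hf A m := by
  haveI := Groth.L15.HilbGrowth.finite_piece A m
  have h2 : Groth.L15.HilbGrowth.piece B m =
      (Groth.L15.HilbGrowth.piece A m).map (Ideal.Quotient.factorₐ k h).toLinearMap := by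
    unfold Groth.L15.HilbGrowth.piece
    rw [← Submodule.map_comp]
    rfl
  unfold hf
  rw [h2]
  exact Submodule.finrank_map_le _ _

/-- `dim Rk/p + ht p = n + 1`. -/
theorem height_add_dim (p : Ideal Rk) [p.IsPrime] :
    ∃ h e : ℕ, p.height = h ∧ ringKrullDim (Rk ⧸ p) = (e : WithBot ℕ∞) ∧ h + e = n + 1 := by
  obtain ⟨h, e, d, hh, he, hd, hhe⟩ := Groth.L22.AffineDim.dim_formula k Rk p
  have hd' : ringKrullDim Rk = ((n + 1 : ℕ) : WithBot ℕ∞) := by
    rw [MvPolynomial.ringKrullDim_of_isNoetherianRing, ringKrullDim_eq_zero_of_field, zero_add]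
    simp
  rw [hd] at hd'
  exact ⟨h, e, hh, he, by rw [hhe]; exact_mod_cast hd'⟩

/-- The local length of `Rk/I` at a minimal prime, computed in `Rk/I`. -/
theorem len_bot_eq {T : Type u} [CommRing T] (I p : Ideal T) [p.IsPrime]
    (Q : Ideal (T ⧸ I)) [Q.IsPrime] (hQ : Q.comap (Ideal.Quotient.mk I) = p) :
    len Q ⊥ = Module.length (Localization.AtPrime p) (LocalizedModule p.primeCompl (T ⧸ I)) := by
  let L := Localization.AtPrime p
  let L' := Localization.AtPrime Q
  have hmon : Algebra.algebraMapSubmonoid (T ⧸ I) p.primeCompl = Q.primeCompl := by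
    subst hQ
    ext z
    obtain ⟨z, rfl⟩ := Ideal.Quotient.mk_surjective z
    constructor
    · rintro ⟨w, hw, hwz⟩
      rw [← hwz]
      exact hw
    · exact fun hz => ⟨z, hz, rfl⟩
  have hu : ∀ s : p.primeCompl, IsUnit (algebraMap T L' s) := fun s => by
    rw [IsScalarTower.algebraMap_apply T (T ⧸ I) L']
    exact IsLocalization.map_units L' (⟨algebraMap T (T ⧸ I) s, hmon ▸ Algebra.mem_algebraMapSubmonoid_of_mem s⟩ :
      Q.primeCompl)
  let φ : L →+* L' := IsLocalization.lift hu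
  letI : Algebra L L' := φ.toAlgebra
  haveI : IsScalarTower T L L' := IsScalarTower.of_algebraMap_eq fun t => (IsLocalization.lift_eq hu t).symm
  haveI : IsLocalization (Algebra.algebraMapSubmonoid (T ⧸ I) p.primeCompl) L' := by
    rw [hmon]; infer_instance
  haveI : IsLocalizedModule p.primeCompl (IsScalarTower.toAlgHom T (T ⧸ I) L').toLinearMap :=
    isLocalizedModule_iff_isLocalization.2 inferInstance
  have hsurj : Function.Surjective φ := by
    intro z
    obtain ⟨a, ⟨b, hb⟩, rfl⟩ := IsLocalization.exists_mk'_eq Q.primeCompl z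
    rw [← hmon] at hb
    obtain ⟨b, hb', rfl⟩ := hb
    obtain ⟨a, rfl⟩ := Ideal.Quotient.mk_surjective a
    refine ⟨IsLocalization.mk' L a (⟨b, hb'⟩ : p.primeCompl), ?_⟩
    rw [IsLocalization.lift_mk'_spec, eq_comm, IsScalarTower.algebraMap_apply T (T ⧸ I) L',
      IsScalarTower.algebraMap_apply T (T ⧸ I) L' a, mul_comm]
    exact IsLocalization.mk'_spec L' _ _
  rw [Groth.L11.LenSpec.length_eq_of_isLocalizedModule p.primeCompl L L
    (LocalizedModule.mkLinearMap p.primeCompl (T ⧸ I)) (IsScalarTower.toAlgHom T (T ⧸ I) L').toLinearMap]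
  rw [@Module.length_eq_of_surjective L' L' _ _ _ L _ _ _ _ hsurj]
  unfold len
  rw [Ideal.map_bot]
  exact (Submodule.quotEquivOfEqBot (⊥ : Ideal L') rfl).length_eq

theorem poly_eq_zero_of_le {I J : Ideal (MvPolynomial (Fin (n + 1)) k)} {P : ℚ[X]} (hIJ : I ≤ J) {Q : ℚ[X]} (hP0 : P = 0)
    (hP : ∃ m₀, ∀ m : ℕ, m₀ ≤ m → P.eval (m : ℚ) = (hf (k := k) (n := n) I m : ℕ))
    (hQ : ∃ m₀, ∀ m : ℕ, m₀ ≤ m → Q.eval (m : ℚ) = (hf (k := k) (n := n) J m : ℕ)) : Q = 0 := by
  subst hP0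
  obtain ⟨a, ha⟩ := hP
  obtain ⟨b, hb⟩ := hQ
  refine eq_zero_of_infinite_isRoot Q (Set.Infinite.mono ?_
    ((Set.Ici_infinite (max a b)).image (Nat.cast_injective (R := ℚ)).injOn))
  rintro _ ⟨m, hm, rfl⟩
  rw [Set.mem_Ici] at hm
  have h1 := ha m (le_of_max_le_left hm)
  rw [eval_zero, eq_comm, Nat.cast_eq_zero] at h1
  show Q.eval (m : ℚ) = 0
  rw [hb m (le_of_max_le_right hm), Nat.eq_zero_of_le_zero ((hf_mono hIJ m).trans h1.le), Nat.cast_zero]

/-- The degree as a sum over the top-dimensional components. -/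
theorem degree_eq_sum {I : Ideal (MvPolynomial (Fin (n + 1)) k)} {P : ℚ[X]} (hI : I.IsHomogeneous 𝒜)
    (hP : ∃ m₀, ∀ m : ℕ, m₀ ≤ m → P.eval (m : ℚ) = (hf (k := k) (n := n) I m : ℕ))
    (r : ℕ) (p : Fin r → Ideal Rk) [hp : ∀ i, (p i).IsPrime] (hinj : Function.Injective p)
    (hmin : ∀ q : Ideal Rk, q ∈ I.minimalPrimes ↔ ∃ i, q = p i)
    (hhom : ∀ i, (p i).IsHomogeneous 𝒜)
    (Qp : Fin r → ℚ[X]) (hQ : ∀ i, ∃ m₀, ∀ m : ℕ, m₀ ≤ m → (Qp i).eval (m : ℚ) = (hf (k := k) (n := n) (p i) m : ℕ)) :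
    (∀ i, (Qp i).natDegree ≤ P.natDegree) ∧
    P.coeff P.natDegree = ∑ i, (Qp i).coeff P.natDegree *
      ((Module.length (Localization.AtPrime (p i)) (LocalizedModule (p i).primeCompl (Rk ⧸ I))).toNat : ℚ) := by
  classical
  have hle : ∀ i, I ≤ p i := fun i => ((hmin _).2 ⟨i, rfl⟩).1.2
  have hdeg : ∀ i, (Qp i).natDegree ≤ P.natDegree := fun i => by
    obtain ⟨a, ha⟩ := hQ i
    obtain ⟨b, hb⟩ := hP
    refine Groth.L06.HilbertSamuel.natDegree_le_of_growth (f := hf (p i)) ?_ ⟨a, fun m hm => (ha m hm).symm⟩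
    exact (Groth.L06.HilbertSamuel.growth_of_poly (f := hf I) le_rfl ⟨b, fun m hm => (hb m hm).ge⟩).mono
      ⟨0, fun m _ => hf_mono (hle i) m⟩
  refine ⟨hdeg, ?_⟩
  rcases eq_or_ne P 0 with rfl | hP0
  · rw [coeff_zero]
    refine (Finset.sum_eq_zero fun i _ => ?_).symm
    rw [poly_eq_zero_of_le (hle i) rfl hP (hQ i), coeff_zero, zero_mul]
  set d := P.natDegree
  have hdim : ringKrullDim (Rk ⧸ I) = (d : WithBot ℕ∞) + 1 :=
    Groth.Agent.S10907.result k n I hI P hP0 (hP.imp fun a ha m hm => by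
      rw [ha m hm, ← hf_add_finrank I m, Nat.cast_add, add_sub_cancel_right])
  have hht : ((n + 1 : ℕ) : ℕ∞) ≤ I.height + ((d + 1 : ℕ) : ℕ∞) := by
    rw [Ideal.height_eq_inf_minimalPrimes, ENat.iInf_add]
    refine le_iInf fun J => ?_
    by_cases hJ : J ∈ I.minimalPrimes
    · rw [iInf_pos hJ]
      haveI := hJ.1.1
      obtain ⟨h, e, hh, he, hhe⟩ := height_add_dim J
      have hed := ringKrullDim_le_of_surjective (Ideal.Quotient.factor hJ.1.2) (Ideal.Quotient.factor_surjective hJ.1.2)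
      rw [he, hdim] at hed
      have hed' : e ≤ d + 1 := by exact_mod_cast hed
      rw [hh]
      exact_mod_cast (by omega : n + 1 ≤ h + (d + 1))
    · simp [hJ]
  obtain ⟨w, S, hS, hform⟩ := Groth.L13.Liaison.Hilb.exists_coeff_formula I d hht
  let π := Ideal.Quotient.mk I
  let Qi : Fin r → PrimeSpectrum (Rk ⧸ I) := fun i => ⟨(p i).map π,
    Ideal.map_isPrime_of_surjective Ideal.Quotient.mk_surjective (by rw [Ideal.mk_ker]; exact hle i)⟩
  have hcomap : ∀ i, (Qi i).asIdeal.comap π = p i := fun i => by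
    rw [Ideal.comap_map_of_surjective' _ Ideal.Quotient.mk_surjective, Ideal.mk_ker, sup_eq_left.2 (hle i)]
  have hQinj : Function.Injective Qi := fun i j h => hinj (by rw [← hcomap i, ← hcomap j, h])
  have hsub : ∀ Q ∈ S, ∃ i, Qi i = Q := fun Q hQS => by
    have hmem : Q.asIdeal.comap π ∈ I.minimalPrimes := by
      rw [Ideal.minimalPrimes_eq_comap]
      exact ⟨Q.asIdeal, hS Q hQS, rfl⟩
    obtain ⟨i, hi⟩ := (hmin _).1 hmem
    refine ⟨i, PrimeSpectrum.ext ?_⟩
    show (p i).map π = _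
    rw [← hi, Ideal.map_comap_of_surjective _ Ideal.Quotient.mk_surjective]
  have hlen : ∀ i, ∀ Q ∈ S, len Q.asIdeal ((p i).map π) = if Q = Qi i then 1 else 0 := fun i Q hQS => by
    split_ifs with h
    · subst h
      exact @Groth.L13.Liaison.Hilb.len_self _ _ (Qi i).asIdeal (Qi i).2
    · refine Groth.L13.Liaison.Hilb.len_of_not_le _ fun hle' => h (PrimeSpectrum.ext (le_antisymm ?_ hle'))
      exact (hS Q hQS).2 ⟨(Qi i).2, bot_le⟩ hle'
  have hcoef : ∀ i, (Qp i).coeff d = if Qi i ∈ S then w (Qi i) else 0 := fun i => by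
    obtain ⟨a, ha⟩ := hQ i
    obtain ⟨-, h⟩ := hform (p i) (isHomogeneous_stdGr (hhom i)) (hle i)
    rw [h (Qp i) a (fun j hj => ?_)]
    · rw [← Finset.sum_ite_eq' S (Qi i) w]
      refine Finset.sum_congr rfl fun Q hQS => ?_
      rw [hlen i Q hQS]
      split_ifs <;> simp
    · lift j to ℕ using le_trans (Int.natCast_nonneg a) hj
      rw [hq_eq_hf]
      exact_mod_cast (ha j (by exact_mod_cast hj)).symm
  obtain ⟨b, hb⟩ := hP
  obtain ⟨-, h⟩ := hform I (isHomogeneous_stdGr hI) le_rfl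
  rw [h P b (fun j hj => ?_)]
  · have himg : S = (Finset.univ.filter fun i => Qi i ∈ S).image Qi := by
      ext Q
      simp only [Finset.mem_image, Finset.mem_filter, Finset.mem_univ, true_and]
      refine ⟨fun hQS => ?_, fun ⟨i, hi, e⟩ => by rwa [← e]⟩
      obtain ⟨i, hi⟩ := hsub Q hQS
      exact ⟨i, by rwa [hi], hi⟩
    conv_lhs => rw [himg]
    rw [Finset.sum_image hQinj.injOn, Finset.sum_filter]
    refine Finset.sum_congr rfl fun i _ => ?_
    rw [hcoef i]
    split_ifs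
    · rw [mul_comm, Ideal.map_quotient_self, @len_bot_eq _ _ I (p i) _ (Qi i).asIdeal (Qi i).2 (hcomap i)]
    · rw [zero_mul]
  · lift j to ℕ using le_trans (Int.natCast_nonneg b) hj
    rw [hq_eq_hf]
    exact_mod_cast (hb j (by exact_mod_cast hj)).symm

/-- A homogeneous prime other than the vertex has nonzero Hilbert function in every degree. -/
theorem one_le_hf_of_dim {p : Ideal (MvPolynomial (Fin (n + 1)) k)} [p.IsPrime] (hph : p.IsHomogeneous 𝒜)
    (hdim : ringKrullDim (Rk ⧸ p) ≠ 0) (m : ℕ) : 1 ≤ hf p m := by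
  obtain ⟨i, hi⟩ : ∃ i, (MvPolynomial.X i : Rk) ∉ p := by
    by_contra h
    push Not at h
    refine hdim ?_
    have he : p = Groth.L22.ProjDict.vertex k n :=
      le_antisymm (Groth.L22.ProjDict.le_vertex hph (Ideal.IsPrime.ne_top ‹_›)) fun x hx => by
        have h1 := Groth.L22.ProjDict.sub_constantCoeff_mem x
        rw [Groth.L22.ProjDict.vertex, RingHom.mem_ker] at hx
        rw [hx, map_zero, sub_zero] at h1
        exact Ideal.span_le.2 (by rintro _ ⟨i, rfl⟩; exact h i) h1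
    rw [he]
    exact Groth.L22.ProjDict.dim_vertex
  haveI := Groth.L15.HilbGrowth.finite_piece p m
  refine Submodule.one_le_finrank_iff.2 fun h0 => ?_
  have hm : Ideal.Quotient.mk p (MvPolynomial.X i ^ m) ∈ Groth.L15.HilbGrowth.piece p m :=
    ⟨_, by simpa using (MvPolynomial.isHomogeneous_X k i).pow m, rfl⟩
  rw [h0, Submodule.mem_bot, Ideal.Quotient.eq_zero_iff_mem] at hm
  exact hi (Ideal.IsPrime.mem_of_pow_mem ‹_› m hm)

/-- The components of a hypersurface section have dimension one less. -/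
theorem dim_component {I p : Ideal (MvPolynomial (Fin (n + 1)) k)} [I.IsPrime] [p.IsPrime]
    {f : Rk} (hfI : f ∉ I) (hp : p ∈ (I ⊔ Ideal.span {f}).minimalPrimes) {d : ℕ}
    (hd : ringKrullDim (Rk ⧸ I) = ((d + 1 : ℕ) : WithBot ℕ∞)) :
    ringKrullDim (Rk ⧸ p) = (d : WithBot ℕ∞) := by
  let π := Ideal.Quotient.mk I
  have hle : I ≤ p := le_sup_left.trans hp.1.2
  have hker : RingHom.ker π ≤ p := by rw [Ideal.mk_ker]; exact hle
  haveI : (p.map π).IsPrime := Ideal.map_isPrime_of_surjective Ideal.Quotient.mk_surjective hker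
  have hback : ((p.map π).comap π) = p := by
    rw [Ideal.comap_map_of_surjective' _ Ideal.Quotient.mk_surjective, Ideal.mk_ker, sup_eq_left.2 hle]
  have hmin : p.map π ∈ (Ideal.span {π f}).minimalPrimes := by
    refine ⟨⟨inferInstance, ?_⟩, fun J hJ hJp => ?_⟩
    · rw [Ideal.span_le, Set.singleton_subset_iff]
      exact Ideal.mem_map_of_mem _ (hp.1.2 (Ideal.mem_sup_right (Ideal.subset_span rfl)))
    · haveI := hJ.1
      have h2 := hp.2 (y := J.comap π) ⟨inferInstance, sup_le (fun z hz => by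
          rw [Ideal.mem_comap, Ideal.Quotient.eq_zero_iff_mem.2 hz]
          exact J.zero_mem) ?_⟩ ((Ideal.comap_mono hJp).trans hback.le)
      · exact Ideal.map_le_iff_le_comap.2 h2
      · rw [Ideal.span_le, Set.singleton_subset_iff]
        exact hJ.2 (Ideal.subset_span rfl)
  haveI : Algebra.FiniteType k (Rk ⧸ I) :=
    (inferInstance : Algebra.FiniteType k Rk).of_surjective (Ideal.Quotient.mkₐ k I) Ideal.Quotient.mk_surjective
  obtain ⟨h, e, d', hh, he, hd', hhe⟩ := Groth.L22.AffineDim.dim_formula k (Rk ⧸ I) (p.map π)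
  rw [hd] at hd'
  have hd'' : d + 1 = d' := by exact_mod_cast hd'
  have h1 : (p.map π).height ≤ 1 :=
    Ideal.height_le_one_of_isPrincipal_of_mem_minimalPrimes _ _ hmin
  have h0 : (p.map π).height ≠ 0 := fun h0 => by
    have h3 := Ideal.height_eq_zero_iff.1 h0
    have hbot : (p.map π) ≤ (⊥ : Ideal (Rk ⧸ I)) := h3.2 ⟨Ideal.isPrime_bot, le_rfl⟩ bot_le
    exact hfI (Ideal.Quotient.eq_zero_iff_mem.1 ((Submodule.mem_bot _).1
      (hbot (Ideal.mem_map_of_mem _ (hp.1.2 (Ideal.mem_sup_right (Ideal.subset_span rfl)))))))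
  rw [hh] at h1 h0
  have h1' : h ≤ 1 := by exact_mod_cast h1
  have h0' : h ≠ 0 := by exact_mod_cast h0
  rw [← ringKrullDim_eq_of_ringEquiv (DoubleQuot.quotQuotEquivQuotOfLE hle), he,
    show e = d by omega]

end Groth.L18.AssocDegree
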