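import Groth.Agent.L18.NormalExtend
import Groth.Agent.L20.UnivHomeo

/-!
Universally closed radicial birational morphisms to normal schemes are isomorphisms.
-/

noncomputable section

namespace Groth.L18

open CategoryTheory AlgebraicGeometry Limits

universe u

variable {X Y : Scheme.{u}} [IsIntegral X] [IsIntegral Y]

theorem residue_genericPoint_injective {x : X} (hx : x = genericPoint X) :
    Function.Injective (X.residue x).hom := by
  subst hx
  exact RingHom.injective (R := X.functionField) (X.residue (genericPoint X)).hom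

theorem exists_evaluation_eq_of_isIntegral (hY : Pi1.IsNormalScheme Y) {V : Y.Opens}
    (hV : IsAffineOpen V) {η : Y} (hη : η = genericPoint Y) (hηV : η ∈ V) (z : Y.residueField η)
    (hz : (Y.evaluation V η hηV).hom.IsIntegralElem z) : ∃ a, (Y.evaluation V η hηV).hom a = z := by
  subst hη
  have : Nonempty V := ⟨⟨_, hηV⟩⟩
  have := isIntegrallyClosed_of_isNormalScheme hY hV
  have := functionField_isFractionRing_of_isAffineOpen Y V hV
  obtain ⟨w, rfl⟩ := Y.residue_surjective (genericPoint Y) z
  obtain ⟨P, hP, hPz⟩ := hz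
  have hint : _root_.IsIntegral Γ(Y, V) (show Y.functionField from w) := by
    refine ⟨P, hP, residue_genericPoint_injective rfl ?_⟩
    rw [Polynomial.hom_eval₂, map_zero]
    exact hPz
  obtain ⟨a, ha⟩ := IsIntegrallyClosed.isIntegral_iff.mp hint
  exact ⟨a, congrArg (Y.residue (genericPoint Y)).hom ha⟩

/-- A morphism of integral schemes which is universally closed, radicial and birational, with normal
target, is an isomorphism. -/
theorem isIso_of_universallyClosed_birational (hY : Pi1.IsNormalScheme Y) (h : X ⟶ Y)
    [UniversallyClosed h] [UniversallyInjective h] (hgen : h (genericPoint X) = genericPoint Y)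
    (hbir : Function.Bijective (h.residueFieldMap (genericPoint X)).hom) : IsIso h := by
  have : Surjective h := by
    constructor
    intro y
    exact ((genericPoint_spec Y).specializes trivial).mem_closed h.isClosedMap.isClosed_range
      ⟨genericPoint X, hgen⟩
  have hu : FlatMor.IsUnivHomeo h :=
    (Groth.L20.isUnivHomeo_iff h).mpr ⟨inferInstance, inferInstance, inferInstance⟩
  have := Groth.L20.isIntegralHom_of_isUnivHomeo hu
  change MorphismProperty.isomorphisms Scheme h
  rw [IsZariskiLocalAtTarget.iff_of_iSup_eq_top (P := MorphismProperty.isomorphisms Scheme) _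
    (iSup_affineOpens_eq_top Y)]
  rintro ⟨V, hV⟩
  have hO := hV.preimage h
  have : IsAffine V := hV
  have : IsAffine (h ⁻¹ᵁ V) := hO
  show IsIso (h ∣_ V)
  suffices hb : Function.Bijective (h.app V).hom by
    have h1 : IsIso (h.app V) := (ConcreteCategory.isIso_iff_bijective _).mpr hb
    have h2 : IsIso (h ∣_ V).appTop := by
      rw [morphismRestrict_appTop]
      have : IsIso (h.app (V.ι ''ᵁ ⊤)) := by rw [Scheme.Opens.ι_image_top]; exact h1
      exact IsIso.comp_isIso' this (Functor.map_isIso _ _)
    have h3 : IsIso (Spec.map (h ∣_ V).appTop) := inferInstance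
    rw [show (h ∣_ V) = (h ⁻¹ᵁ V).toScheme.isoSpec.hom ≫ Spec.map (h ∣_ V).appTop ≫ V.toScheme.isoSpec.inv by
      rw [Scheme.isoSpec_inv_naturality, Iso.hom_inv_id_assoc]]
    infer_instance
  rcases (V : Set Y).eq_empty_or_nonempty with he | hne
  · have : V = ⊥ := TopologicalSpace.Opens.ext he
    subst this
    have : Subsingleton Γ(Y, ⊥) := CommRingCat.subsingleton_of_isTerminal Y.sheaf.isTerminalOfEmpty
    have : Subsingleton Γ(X, h ⁻¹ᵁ ⊥) := CommRingCat.subsingleton_of_isTerminal X.sheaf.isTerminalOfEmpty
    exact ⟨fun a b _ => Subsingleton.elim a b, fun b => ⟨0, Subsingleton.elim _ _⟩⟩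
  have hηV : h (genericPoint X) ∈ V :=
    hgen.symm ▸ ((genericPoint_spec Y).mem_open_set_iff V.2).mpr (by simpa using hne)
  have hinjY : Function.Injective (Y.evaluation V _ hηV).hom :=
    (residue_genericPoint_injective hgen).comp
      (by
        have : ∀ (η : Y) (hη : η = genericPoint Y) (hm : η ∈ V),
            Function.Injective (Y.presheaf.germ V η hm).hom := by
          rintro _ rfl hm; exact germ_injective_of_isIntegral Y _ hm
        exact this _ hgen hηV)
  have hinjX : Function.Injective (X.evaluation (h ⁻¹ᵁ V) (genericPoint X) hηV).hom :=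
    (residue_genericPoint_injective rfl).comp (germ_injective_of_isIntegral X _ hηV)
  have hnat : ∀ s, (h.residueFieldMap (genericPoint X)).hom ((Y.evaluation V _ hηV).hom s) =
      (X.evaluation (h ⁻¹ᵁ V) (genericPoint X) hηV).hom ((h.app V).hom s) :=
    fun s => Scheme.evaluation_naturality_apply h _ hηV s
  refine ⟨fun a b hab => hinjY (hbir.1 ((hnat a).trans ((congrArg _ hab).trans (hnat b).symm))), fun b => ?_⟩
  obtain ⟨z, hz⟩ := hbir.2 ((X.evaluation (h ⁻¹ᵁ V) (genericPoint X) hηV).hom b)
  have hzi : (Y.evaluation V _ hηV).hom.IsIntegralElem z := by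
    obtain ⟨P, hP, hPb⟩ := h.isIntegral_app V hV b
    refine ⟨P, hP, hbir.1 ?_⟩
    rw [Polynomial.hom_eval₂, map_zero, hz]
    have h2 := congrArg (X.evaluation (h ⁻¹ᵁ V) (genericPoint X) hηV).hom hPb
    rw [Polynomial.hom_eval₂, map_zero] at h2
    refine Eq.trans ?_ h2
    congr 1
    exact RingHom.ext hnat
  obtain ⟨a, ha⟩ := exists_evaluation_eq_of_isIntegral hY hV hgen hηV z hzi
  exact ⟨a, hinjX ((hnat a).symm.trans ((congrArg _ ha).trans hz))⟩

end Groth.L18
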