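import Groth.Agent.L18.CIProjStep
import Groth.Agent.L18.CIProjUnit
import Groth.Agent.L21.PlaneCurve.HypCoh

/-!
Cohomology of complete intersections of projective space.
-/

set_option autoImplicit false
set_option backward.isDefEq.respectTransparency false
set_option backward.isDefEq.respectTransparency.types false
set_option linter.style.haveILetI false
universe u

open CategoryTheory CategoryTheory.Limits AlgebraicGeometry TopologicalSpace MvPolynomial

noncomputable section

namespace Groth.L18.CIProj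

open Groth.L18.Frame (pull)
open Groth.L18.CIProjRing
open Groth.L21.PlaneCurve (OC)
open Groth.L00.Tensor (tensorIso)

variable {k : Type u} [Field k] {n : ℕ}

/-- Kernel of the last step of a complete intersection. -/
theorem ker_step {r : ℕ} {a : Fin (r + 1) → ℕ} (G : ∀ j, LefPen.Form n k (a j)) :
    ((lastIdeal G).subschemeι ≫ (LefPen.ciIdeal (init G)).subschemeι).ker = LefPen.ciIdeal G := by
  let I := LefPen.ciIdeal (init G)
  refine Scheme.IdealSheafData.ext_of_iSup_eq_top
    (fun i => (⟨LefPen.chart n k i, Groth.L21.PlaneCurve.isAffineOpen_chart i⟩ : (CohB1.ProjSpace n k).affineOpens))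
    (eq_top_iff.2 fun x _ => Opens.mem_iSup.2 (Groth.L21.PlaneCurve.exists_mem_chart x)) fun i => ?_
  have hC := Groth.L21.PlaneCurve.isAffineOpen_chart (k := k) i
  rw [Scheme.Hom.ker_comp, Scheme.IdealSheafData.ker_subschemeι,
    Scheme.IdealSheafData.ideal_map_of_isAffineHom,
    Groth.L22.Ideals.comap_ideal I.subschemeι _ ⟨_, hC⟩ ⟨_, hC.preimage _⟩ le_rfl,
    ← Scheme.Hom.app_eq_appLE, Ideal.comap_map_of_surjective _ (I.subschemeι_app_surjective ⟨_, hC⟩),
    ← RingHom.ker_eq_comap_bot]
  refine (congrArg (_ ⊔ ·) (I.ker_subschemeι_app ⟨_, hC⟩)).trans ?_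
  rw [ciIdeal_chart, Groth.L21.PlaneCurve.hypIdeal_chart, ciIdeal_chart, ← Ideal.span_union]
  refine congrArg Ideal.span (Set.ext fun z => ⟨?_, ?_⟩)
  · rintro (rfl | ⟨j, rfl⟩)
    · exact ⟨Fin.last r, rfl⟩
    · exact ⟨j.castSucc, rfl⟩
  · rintro ⟨j, rfl⟩
    induction j using Fin.lastCases with
    | last => exact Or.inl rfl
    | cast j => exact Or.inr ⟨j, rfl⟩

/-- Middle cohomology vanishes and restriction is surjective on sections. -/
theorem vanishing_surjective : ∀ (r : ℕ) (a : Fin r → ℕ) (_ : ∀ j, 1 ≤ a j) (G : ∀ j, LefPen.Form n k (a j)),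
    IsCI (pols G) →
    (∀ (i : ℤ) (p : ℕ), 0 < p → p < n - r → Subsingleton (Coh.HH (LefPen.ciIdeal G).subscheme (OC (LefPen.ciIdeal G) i) p)) ∧
    (1 ≤ n - r → ∀ i : ℤ, Function.Surjective (pull (LefPen.ciIdeal G).subschemeι (Twist.twistProjSpace n k i) ⊤)) := by
  intro r
  induction r with
  | zero =>
    intro a _ G _
    have hker : (LefPen.ciIdeal G).subschemeι.ker = Scheme.Hom.ker (𝟙 (CohB1.ProjSpace n k)) := by
      rw [Scheme.IdealSheafData.ker_subschemeι, Scheme.Hom.ker_eq_bot_of_isIso, LefPen.ciIdeal, iSup_of_empty]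
    refine ⟨fun i p hp hpn => ?_, fun _ i => ?_⟩
    · refine (transfer _ (𝟙 _) hker (Twist.twistProjSpace n k i)).1 p ?_
      obtain ⟨e⟩ := nonempty_HH_of_isIso (𝟙 (CohB1.ProjSpace n k)) (Twist.twistProjSpace n k i) p
      haveI := Groth.L21.PlaneCurve.h_mid_twist k n (p := p) (by omega) (by omega) i
      exact e.toEquiv.subsingleton
    · exact (transfer _ (𝟙 _) hker _).2 (pull_bijective_of_isIso (𝟙 _) _ ⊤).2
  | succ r ih =>
    intro a ha G hci
    obtain ⟨hv, hs⟩ := ih (fun j => a j.castSucc) (fun j => ha _) (init G)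
      (hci.castSucc (isHomogeneous_pols G) ha)
    let I := LefPen.ciIdeal (init G)
    let J := lastIdeal G
    obtain ⟨e⟩ := nonempty_idealMod_lastIdeal G ha hci
    have hK : ∀ (i : ℤ) (p : ℕ), 0 < p → p < n - r →
        Subsingleton (Coh.HH I.subscheme (CohB1.tensorMod (OC I i) (ClSub.idealMod J)) p) := by
      intro i p hp hpn
      obtain ⟨f⟩ := nonempty_pullback_add I (show i + -(a (Fin.last r) : ℤ) = i - a (Fin.last r) by omega)
      exact Groth.L22.EnrSev.subsingleton_of_iso (tensorIso (Iso.refl _) e ≪≫ f).symm p (hv _ p hp hpn)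
    have hker : (LefPen.ciIdeal G).subschemeι.ker = (J.subschemeι ≫ I.subschemeι).ker := by
      rw [Scheme.IdealSheafData.ker_subschemeι, ker_step]
    refine ⟨fun i p hp hpn => ?_, fun h1 i => ?_⟩
    · refine (transfer _ (J.subschemeι ≫ I.subschemeι) hker (Twist.twistProjSpace n k i)).1 p ?_
      exact Groth.L22.EnrSev.subsingleton_of_iso ((Scheme.Modules.pullbackComp J.subschemeι I.subschemeι).app _) p
        (subsingleton_pullback_subscheme J (Groth.L21.PlaneCurve.isInvertible_OC I i) (hv i p hp (by omega))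
          (hK i (p + 1) (by omega) (by omega)))
    · refine (transfer _ (J.subschemeι ≫ I.subschemeι) hker (Twist.twistProjSpace n k i)).2 fun y => ?_
      let c := ((Scheme.Modules.pullbackComp J.subschemeι I.subschemeι).inv.app (Twist.twistProjSpace n k i)).app
        ((J.subschemeι ≫ I.subschemeι) ⁻¹ᵁ ⊤)
      have hc : Function.Bijective c := ConcreteCategory.bijective_of_isIso c
      obtain ⟨z, hz⟩ := ((surjective_pull_subscheme J (Groth.L21.PlaneCurve.isInvertible_OC I i)
        (hK i 1 one_pos (by omega))).comp (hs (by omega) i)) (c y)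
      refine ⟨z, hc.1 ?_⟩
      rw [Groth.L19.ProjBdl.pull_comp]
      exact hz

end Groth.L18.CIProj
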