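import Groth.Agent.L22.ProjInter
import Groth.Agent.L12.GrCI.Regular
import Groth.Agent.L18.AssocDegree

/-!
Homogeneous complete intersections in a polynomial ring over a field.
-/

set_option autoImplicit false
universe u

open MvPolynomial Groth.L22.ProjDict

noncomputable section

namespace Groth.L18.CIProjRing

variable {k : Type u} [Field k] {n : ℕ}

local notation "Rk" => MvPolynomial (Fin (n + 1)) k
local notation "𝒜" => CohB1.polyGrading n k

/-- The dimension condition of a complete intersection. -/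
def IsCI {r : ℕ} (g : Fin r → Rk) : Prop :=
  ∀ P : Ideal Rk, P.IsPrime → Ideal.span (Set.range g) ≤ P →
    ringKrullDim (Rk ⧸ P) + (r : WithBot ℕ∞) ≤ ((n + 1 : ℕ) : WithBot ℕ∞)

theorem span_isHomogeneous {r : ℕ} {g : Fin r → Rk} {a : Fin r → ℕ} (hg : ∀ j, (g j).IsHomogeneous (a j)) :
    (Ideal.span (Set.range g)).IsHomogeneous 𝒜 := by
  refine Ideal.homogeneous_span _ _ ?_
  rintro _ ⟨j, rfl⟩
  exact ⟨a j, (mem_homogeneousSubmodule _ _).2 (hg j)⟩

theorem span_le_vertex {r : ℕ} {g : Fin r → Rk} {a : Fin r → ℕ} (hg : ∀ j, (g j).IsHomogeneous (a j))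
    (ha : ∀ j, 1 ≤ a j) : Ideal.span (Set.range g) ≤ vertex k n := by
  rw [Ideal.span_le]
  rintro _ ⟨j, rfl⟩
  exact mem_vertex_of_isHomogeneous (hg j) (ha j)

/-- Each minimal prime of `r` homogeneous forms has dimension at least `n + 1 - r`. -/
theorem le_dim_minimal {r : ℕ} (g : Fin r → Rk) {P : Ideal Rk}
    (hP : P ∈ (Ideal.span (Set.range g)).minimalPrimes) :
    ((n + 1 : ℕ) : WithBot ℕ∞) ≤ ringKrullDim (Rk ⧸ P) + (r : WithBot ℕ∞) := by
  haveI := hP.1.1
  rw [← dim_bot (k := k) (n := n)]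
  exact dim_le_of_mem_minimalPrimes g (by rwa [bot_sup_eq])

theorem dim_le_of_le {P Q : Ideal Rk} (h : P ≤ Q) : ringKrullDim (Rk ⧸ Q) ≤ ringKrullDim (Rk ⧸ P) :=
  ringKrullDim_le_of_surjective (Ideal.Quotient.factor h) (Ideal.Quotient.factor_surjective h)

/-- It is enough to test at homogeneous minimal primes other than the vertex. -/
theorem isCI_of_minimal {r : ℕ} {g : Fin r → Rk} {a : Fin r → ℕ} (hg : ∀ j, (g j).IsHomogeneous (a j))
    (hr : r ≤ n + 1)
    (h : ∀ P : Ideal Rk, P.IsPrime → P.IsHomogeneous 𝒜 → P ≠ vertex k n → Ideal.span (Set.range g) ≤ P →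
      ringKrullDim (Rk ⧸ P) + (r : WithBot ℕ∞) ≤ ((n + 1 : ℕ) : WithBot ℕ∞)) : IsCI g := by
  intro P hP hle
  obtain ⟨Q, hQ, hQP⟩ := Ideal.exists_minimalPrimes_le hle
  refine le_trans (add_le_add_left (dim_le_of_le hQP) _) ?_
  by_cases hv : Q = vertex k n
  · rw [hv, dim_vertex, zero_add]
    exact_mod_cast hr
  · exact h Q hQ.1.1 (isHomogeneous_of_mem_minimalPrimes (span_isHomogeneous hg) hQ) hv hQ.1.2

/-- An initial segment of a complete intersection is one. -/
theorem IsCI.castSucc {r : ℕ} {g : Fin (r + 1) → Rk} (hci : IsCI g) {a : Fin (r + 1) → ℕ}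
    (hg : ∀ j, (g j).IsHomogeneous (a j)) (ha : ∀ j, 1 ≤ a j) : IsCI fun j : Fin r => g j.castSucc := by
  intro P hP hle
  obtain ⟨Q, hQ, hQP⟩ := Ideal.exists_minimalPrimes_le hle
  refine le_trans (add_le_add_left (dim_le_of_le hQP) _) ?_
  haveI := hQ.1.1
  have hQh : Q.IsHomogeneous 𝒜 :=
    isHomogeneous_of_mem_minimalPrimes (span_isHomogeneous fun j => hg j.castSucc) hQ
  have hQv : Q ≤ vertex k n := le_vertex hQh hQ.1.1.ne_top
  let f : Fin 1 → Rk := fun _ => g (Fin.last r)
  have hlev : Q ⊔ Ideal.span (Set.range f) ≤ vertex k n := by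
    refine sup_le hQv (Ideal.span_le.2 ?_)
    rintro _ ⟨-, rfl⟩
    exact mem_vertex_of_isHomogeneous (hg _) (ha _)
  haveI : (vertex k n).IsPrime := vertex_isMaximal.isPrime
  obtain ⟨R, hR, -⟩ := Ideal.exists_minimalPrimes_le hlev
  have h1 := dim_le_of_mem_minimalPrimes f hR
  have hgR : Ideal.span (Set.range g) ≤ R := by
    rw [Ideal.span_le]
    rintro _ ⟨j, rfl⟩
    refine hR.1.2 ?_
    induction j using Fin.lastCases with
    | last => exact Ideal.mem_sup_right (Ideal.subset_span ⟨0, rfl⟩)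
    | cast j => exact Ideal.mem_sup_left (hQ.1.2 (Ideal.subset_span ⟨j, rfl⟩))
  have h2 := hci R hR.1.1 hgR
  refine le_trans (add_le_add_left h1 _) ?_
  rw [Nat.cast_add, Nat.cast_one] at h2
  rw [Nat.cast_one, add_assoc, add_comm (1 : WithBot ℕ∞)]
  exact h2

/-- A complete intersection is a regular sequence. -/
theorem isWeaklyRegular {r : ℕ} {g : Fin r → Rk} {a : Fin r → ℕ} (hg : ∀ j, (g j).IsHomogeneous (a j))
    (ha : ∀ j, 1 ≤ a j) (hci : IsCI g) :
    RingTheory.Sequence.IsWeaklyRegular Rk (List.ofFn g) := by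
  classical
  haveI hmax : (vertex k n).IsMaximal := vertex_isMaximal
  set m : Ideal Rk := vertex k n with hm
  let A := Localization.AtPrime m
  haveI : IsRegularLocalRing A := IsRegularRing.isRegularLocalRing_localization m
  let φ := algebraMap Rk A
  have hl : ∀ x ∈ (List.ofFn g).map φ, x ∈ IsLocalRing.maximalIdeal A := by
    intro x hx
    obtain ⟨y, hy, rfl⟩ := List.mem_map.mp hx
    obtain ⟨j, rfl⟩ := List.mem_ofFn.mp hy
    exact (IsLocalization.AtPrime.to_map_mem_maximal_iff A m _).mpr (mem_vertex_of_isHomogeneous (hg j) (ha j))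
  have hdimA : ((n + 1 : ℕ) : WithBot ℕ∞) ≤ ringKrullDim A := by
    obtain ⟨h, e, hh, he, hhe⟩ := Groth.L18.AssocDegree.height_add_dim m
    rw [dim_vertex] at he
    have he0 : e = 0 := by exact_mod_cast he.symm
    rw [IsLocalization.AtPrime.ringKrullDim_eq_height m A, hh, show h = n + 1 by omega]
    exact le_of_eq rfl
  set J := Ideal.span (Set.range g) with hJ
  have hlist : Ideal.ofList ((List.ofFn g).map φ) = J.map φ := by
    rw [← Ideal.map_ofList]
    congr 1
    exact congrArg Ideal.span (Set.ext fun x => by simp [List.mem_ofFn])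
  have hdimQ : ringKrullDim (A ⧸ J.map φ) + (r : WithBot ℕ∞) ≤ ((n + 1 : ℕ) : WithBot ℕ∞) := by
    let c : PrimeSpectrum (A ⧸ J.map φ) → PrimeSpectrum Rk :=
      PrimeSpectrum.comap ((Ideal.Quotient.mk (J.map φ)).comp φ)
    haveI : Nontrivial (A ⧸ J.map φ) := by
      rw [Ideal.Quotient.nontrivial_iff, ← hlist]
      exact fun htop => (IsLocalRing.maximalIdeal.isMaximal A).ne_top
        (top_le_iff.mp (htop ▸ Ideal.span_le.mpr hl))
    have hmono : StrictMono c := by
      refine Monotone.strictMono_of_injective (fun P Q h => Ideal.comap_mono h) fun P Q h => ?_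
      refine PrimeSpectrum.comap_injective_of_surjective _ Ideal.Quotient.mk_surjective ?_
      refine PrimeSpectrum.localization_comap_injective A m.primeCompl ?_
      exact h
    have hJc : ∀ P, J ≤ (c P).asIdeal := by
      intro P x hx
      show Ideal.Quotient.mk (J.map φ) (φ x) ∈ P.asIdeal
      rw [Ideal.Quotient.eq_zero_iff_mem.2 (Ideal.mem_map_of_mem _ hx)]
      exact zero_mem _
    have key : ∀ l : LTSeries (PrimeSpectrum (A ⧸ J.map φ)),
        (l.length : WithBot ℕ∞) + (r : WithBot ℕ∞) ≤ ((n + 1 : ℕ) : WithBot ℕ∞) := by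
      intro l
      let P₀ := c l.head
      refine le_trans (add_le_add_left ?_ _) (hci P₀.asIdeal P₀.2 (hJc _))
      rw [ringKrullDim_quotient]
      let l' : LTSeries (PrimeSpectrum.zeroLocus (P₀.asIdeal : Set Rk)) :=
        { length := l.length
          toFun := fun i => ⟨c (l.toFun i), Ideal.comap_mono (LTSeries.head_le l i)⟩
          step := fun i => hmono (l.step i) }
      exact Order.LTSeries.length_le_krullDim l'
    rw [ringKrullDim, Order.krullDim_eq_iSup_length]
    have : (⨆ l : LTSeries (PrimeSpectrum (A ⧸ J.map φ)), (l.length : ℕ∞)) + (r : ℕ∞) ≤ ((n + 1 : ℕ) : ℕ∞) := by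
      rw [ENat.iSup_add]
      exact iSup_le fun l => by exact_mod_cast key l
    exact_mod_cast this
  have hregA : RingTheory.Sequence.IsWeaklyRegular A ((List.ofFn g).map φ) := by
    refine Groth.L07.RegQuot.isWeaklyRegular_of_dim _ hl ?_
    rw [List.length_map, List.length_ofFn, hlist]
    exact hdimQ.trans hdimA
  rw [Groth.L12.GrCI.wreg_iff] at hregA
  rw [Groth.L12.GrCI.wreg_ofFn_iff]
  intro i y hy
  have h1 := hregA i (by simp) (φ y) (by
    simp only [List.getElem_map, List.getElem_ofFn, Fin.eta, ← map_mul, ← List.map_take,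
      ← Ideal.map_ofList]
    exact Ideal.mem_map_of_mem _ hy)
  rw [← List.map_take, ← Ideal.map_ofList,
    IsLocalization.algebraMap_mem_map_algebraMap_iff m.primeCompl] at h1
  obtain ⟨s, hs, hsy⟩ := h1
  refine Groth.L12.GrCI.mem_of_mul_mem (w := (1 : Fin (n + 1) → ℕ)) (fun _ => Nat.one_pos)
    (Groth.L12.GrCI.homog_take (ε := a) (fun j => hg j) i) (fun z hz => ?_) hsy
  have hs0 : constantCoeff s ≠ 0 := hs
  have := Ideal.mul_mem_left _ (C (constantCoeff s)⁻¹) hz
  rwa [← mul_assoc, ← map_mul, inv_mul_cancel₀ hs0, map_one, one_mul] at this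

/-- The last form of a complete intersection is regular modulo the others. -/
theorem mem_of_mul_last {r : ℕ} {g : Fin (r + 1) → Rk} {a : Fin (r + 1) → ℕ}
    (hg : ∀ j, (g j).IsHomogeneous (a j)) (ha : ∀ j, 1 ≤ a j) (hci : IsCI g) {y : Rk}
    (h : g (Fin.last r) * y ∈ Ideal.span (Set.range fun j : Fin r => g j.castSucc)) :
    y ∈ Ideal.span (Set.range fun j : Fin r => g j.castSucc) := by
  have h1 := (Groth.L12.GrCI.wreg_ofFn_iff g).1 (isWeaklyRegular hg ha hci) (Fin.last r) y
  have e : Ideal.ofList ((List.ofFn g).take (Fin.last r : ℕ)) =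
      Ideal.span (Set.range fun j : Fin r => g j.castSucc) := by
    rw [List.ofFn_succ', List.concat_eq_append, Fin.val_last,
      List.take_left' (by simp)]
    exact congrArg Ideal.span (Set.ext fun x => by simp [List.mem_ofFn])
  rw [e] at h1
  exact h1 h

end Groth.L18.CIProjRing
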