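import Groth.Agent.L18.ClosedSub
import Groth.Agent.L18.ProjSpaceUP
import Groth.Agent.L16.ProjSpace.Charts

/-!
Forms vanishing on a closed subscheme of projective space, via the pullback of `O(d)`.
-/

noncomputable section

namespace Groth.L18.ClosedSubPn

open HomogeneousLocalization CategoryTheory AlgebraicGeometry TopologicalSpace Opposite MvPolynomial
open Groth.L18.PUP Groth.L18.ClosedSub Groth.L18.Frame

universe u

variable {R : Type u} [CommRing R] {n : ℕ}

/-- `O(d)`. -/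
abbrev Od (n : ℕ) (R : Type u) [CommRing R] (d : ℕ) : (P n R).Modules :=
  Twist.twist (CohB1.polyGrading n R) (d : ℤ)

theorem X_pow_mem (j : Fin (n + 1)) (d : ℕ) :
    (X j : MvPolynomial (Fin (n + 1)) R) ^ d ∈ CohB1.polyGrading n R d := by
  have := SetLike.pow_mem_graded d (Groth.L18.PS.X_mem (R := R) n j)
  simpa using this

/-- The section `T_j^d` of `O(d)`. -/
abbrev Tpow (j : Fin (n + 1)) (d : ℕ) : Γ(Od n R d, ⊤) :=
  Twist.globalOf (CohB1.polyGrading n R) (i := d) ⟨X j ^ d, X_pow_mem j d⟩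

theorem Tpow_frame (j : Fin (n + 1)) (d : ℕ) :
    IsFrame (Od n R d) (D j) (rs (Od n R d) le_top (Tpow j d)) := by
  intro V h
  rw [rs_rs]
  let one' : CohB1.polyGrading n R 0 := ⟨1, SetLike.GradedOne.one_mem⟩
  let a : CohB1.polyGrading n R d := ⟨X j ^ d, X_pow_mem j d⟩
  have hN : ((d : ℤ)) = ((0 : ℕ) : ℤ) + (d : ℤ) := by norm_num
  have ha : ∀ x : (V : Opens (ProjectiveSpectrum.top (CohB1.polyGrading n R))), a.1 ∉ x.1.asHomogeneousIdeal :=
    fun x hx => (Proj.mem_basicOpen _ _ _).1 (h x.2) (x.1.isPrime.mem_of_pow_mem d hx)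
  have hb : ∀ x : (V : Opens (ProjectiveSpectrum.top (CohB1.polyGrading n R))), one'.1 ∉ x.1.asHomogeneousIdeal :=
    fun x hx => x.1.isPrime.ne_top ((Ideal.eq_top_iff_one _).mpr hx)
  exact ⟨Groth.L16.ProjTwist.smul_gen_injective a one' hN V hb ha,
    Groth.L16.ProjTwist.smul_gen_surjective a one' hN V ha hb⟩

theorem sec_smul (j : Fin (n + 1)) {d : ℕ} {F : MvPolynomial (Fin (n + 1)) R}
    (hF : F ∈ CohB1.polyGrading n R d) :
    sec (CohB1.polyGrading n R) (Groth.L18.PS.X_mem n j) F hF •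
        rs (Od n R d) (le_top : D j ≤ ⊤) (Tpow j d) =
      rs (Od n R d) le_top (Twist.globalOf (CohB1.polyGrading n R) (i := d) ⟨F, hF⟩) := by
  refine Subtype.ext (funext fun x => Subtype.ext ?_)
  erw [Twist.coe_smul_val]
  show HomogeneousLocalization.val ((sec (CohB1.polyGrading n R) (Groth.L18.PS.X_mem n j) F hF).1 x) *
    Localization.mk _ _ = Localization.mk _ _
  rw [sec_val _ hF x.1 x.2, Localization.mk_mul, Localization.mk_eq_mk_iff, Localization.r_iff_exists]
  refine ⟨1, ?_⟩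
  simp only [OneMemClass.coe_one, one_mul, Submonoid.coe_mul, mul_one]
  exact mul_comm _ _

theorem pullSec_eq_zero_iff {Z : Scheme.{u}} (i : Z ⟶ P n R) {d : ℕ} {F : MvPolynomial (Fin (n + 1)) R}
    (hF : F ∈ CohB1.polyGrading n R d) :
    ProjUP.pullSec i (Od n R d) (Twist.globalOf (CohB1.polyGrading n R) (i := d) ⟨F, hF⟩) = 0 ↔
      ∀ j : Fin (n + 1), i.app (D j) (sec (CohB1.polyGrading n R) (Groth.L18.PS.X_mem n j) F hF) = 0 := by
  set M := (Scheme.Modules.pullback i).obj (Od n R d)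
  have key : ∀ j : Fin (n + 1),
      rs M (le_top : i ⁻¹ᵁ D j ≤ ⊤) (ProjUP.pullSec i (Od n R d) (Twist.globalOf (CohB1.polyGrading n R) (i := d) ⟨F, hF⟩)) =
        i.app (D j) (sec (CohB1.polyGrading n R) (Groth.L18.PS.X_mem n j) F hF) •
          pull i (Od n R d) (D j) (rs (Od n R d) le_top (Tpow j d)) := by
    intro j
    rw [← pull_smul, sec_smul]
    exact pull_rs i (Od n R d) (le_top : D j ≤ ⊤) _
  refine ⟨fun h j => ?_, fun h => ?_⟩
  · refine (IsFrame.pullback i (Od n R d) (Tpow_frame j d)).inj le_rfl ?_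
    rw [rs_self, ← key j, h, zero_smul]
    exact map_zero _
  · let OM : TopCat.Sheaf Ab.{u} Z.toTopCat := ⟨M.presheaf, M.isSheaf⟩
    refine OM.eq_of_locally_eq' (fun j : Fin (n + 1) => i ⁻¹ᵁ D j) ⊤ (fun j => homOfLE le_top) ?_ _ _ fun j => ?_
    · intro z _
      have hcov := Groth.L16.ProjSpace.iSup_basicOpen_X_eq_top n R
      obtain ⟨j, hj⟩ := Opens.mem_iSup.mp (hcov.ge (Set.mem_univ (i z)))
      exact Opens.mem_iSup.mpr ⟨j, hj⟩
    · show rs M le_top _ = rs M le_top 0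
      rw [key, h j, zero_smul]
      exact (map_zero _).symm

end Groth.L18.ClosedSubPn
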