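import Groth.Agent.L22.Bundle.SpecPush
import Groth.Agent.L22.Bundle.Chart
import Groth.Agent.L03.ShStab.PreHom
import Groth.Agent.L16.HomSh.Adjunction
import Groth.Agent.L12.ExtSh.TensBasis
import Groth.Agent.L18.SymGraded
import Groth.Agent.L20.DescLocus.Unit
import Groth.Agent.L16.SymTop.Basic
import Groth.Agent.L16.AffineBC.Pullback
import Mathlib.Algebra.Homology.ShortComplex.Exact

/-!
The complement of a sub-bundle `P(B) ⊆ P(A ⊕ B)` is the vector bundle `V(M ⊗ B)` over `P(A)`,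
`M` inverse to `O_{P(A)}(1)`.
-/

set_option autoImplicit false
set_option linter.style.haveILetI false
set_option backward.isDefEq.respectTransparency.types false
set_option backward.isDefEq.respectTransparency false

universe u

open CategoryTheory CategoryTheory.Limits MonoidalCategory AlgebraicGeometry TopologicalSpace Opposite
open Groth.L18.Frame (rs ro rs_rs ro_ro rs_smul rs_self ro_self IsFrame pull pull_rs pull_smul isUnit_of_isFrame)
open Groth.L19.ProjBdl (IsBasisOn lc app_rs app_lc pull_comp pull_congr pull_app isFrame_of_iso one1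
  isFrame_one1 smul_one1 rs_one1 locus locus_le le_locus isFrame_locus crd crd_smul crd_self sec Acrd ratio)
open Groth.L18.GenLoc (tens tens_rs tens_smul_left tens_smul_right isFrame_tens)

noncomputable section

namespace Groth.L18.ComplBundle

/-! ## General lemmas -/

theorem tens_add_left {X : Scheme.{u}} {M N : X.Modules} {U : X.Opens} (m m' : Γ(M, U)) (n : Γ(N, U)) :
    tens M N U (m + m') n = tens M N U m n + tens M N U m' n :=
  Groth.L19.ProjBdl.tens_add_left m m' n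

theorem tens_add_right {X : Scheme.{u}} {M N : X.Modules} {U : X.Opens} (m : Γ(M, U)) (n n' : Γ(N, U)) :
    tens M N U m (n + n') = tens M N U m n + tens M N U m n' :=
  Groth.L00.Tensor.ev_add₂ (Groth.L00.Tensor.unit (Groth.L00.Tensor.pre M ⊗ Groth.L00.Tensor.pre N)) (op U) m n n'

/-- A frame equal to zero lives on the empty set. -/
theorem eq_bot_of_isFrame_zero {X : Scheme.{u}} {L : X.Modules} {W : X.Opens} {e : Γ(L, W)}
    (he : IsFrame L W e) (h : e = 0) : W = ⊥ := by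
  subst h
  have h1 : (1 : Γ(X, W)) = 0 := he.inj le_rfl (by rw [rs_self, smul_zero, smul_zero])
  refine eq_bot_iff.2 fun x hx => ?_
  have := congrArg (X.presheaf.germ W x hx) h1
  rw [map_one, map_zero] at this
  exact (one_ne_zero this).elim

/-- Pulling back along equal morphisms, on pulled back sections. -/
theorem pull_congr_hom {X Y : Scheme.{u}} {g g' : X ⟶ Y} (e : g = g') (M : Y.Modules) (V : Y.Opens)
    (m : Γ(M, V)) (e' : g ⁻¹ᵁ V = g' ⁻¹ᵁ V) :
    ((Scheme.Modules.pullbackCongr e).hom.app M).app (g ⁻¹ᵁ V) (pull g M V m) =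
      rs ((Scheme.Modules.pullback g').obj M) e'.le (pull g' M V m) := by
  subst e
  exact (congr($((Scheme.Modules.pullback g).obj M |>.presheaf.map_id (op (g ⁻¹ᵁ V))) (pull g M V m))).symm

/-- A pulled back map on a section pulled back along a composite. -/
theorem app_pull_map {X Y Z : Scheme.{u}} (f : X ⟶ Y) (g : Y ⟶ Z) {M : Z.Modules} {N : Y.Modules}
    {K : X.Modules} (φ : (Scheme.Modules.pullback g).obj M ⟶ N) (ψ : (Scheme.Modules.pullback f).obj N ⟶ K)
    (V : Z.Opens) (m : Γ(M, V)) :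
    ((Scheme.Modules.pullbackComp f g).inv.app M ≫ (Scheme.Modules.pullback f).map φ ≫ ψ).app ((f ≫ g) ⁻¹ᵁ V)
      (pull (f ≫ g) M V m) = ψ.app _ (pull f N _ (φ.app _ (pull g M V m))) := by
  show ψ.app _ (((Scheme.Modules.pullback f).map φ).app _ (((Scheme.Modules.pullbackComp f g).inv.app M).app _
    (pull (f ≫ g) M V m))) = _
  refine congrArg (ψ.app _) ?_
  refine (congrArg (((Scheme.Modules.pullback f).map φ).app _) (pull_comp f g M V m)).trans ?_
  exact pull_app f φ (g ⁻¹ᵁ V) _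

/-- The same along an equal morphism. -/
theorem app_pull_map' {X Y Z : Scheme.{u}} {f : X ⟶ Y} {g : Y ⟶ Z} {h : X ⟶ Z} (e : f ≫ g = h) {M : Z.Modules}
    {N : Y.Modules} {K : X.Modules} (φ : (Scheme.Modules.pullback g).obj M ⟶ N)
    (ψ : (Scheme.Modules.pullback f).obj N ⟶ K) (V : Z.Opens) (m : Γ(M, V)) (e' : h ⁻¹ᵁ V ≤ (f ≫ g) ⁻¹ᵁ V) :
    ((Scheme.Modules.pullbackCongr e).inv.app M ≫ (Scheme.Modules.pullbackComp f g).inv.app M ≫
        (Scheme.Modules.pullback f).map φ ≫ ψ).app (h ⁻¹ᵁ V) (pull h M V m) =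
      rs K e' (ψ.app _ (pull f N _ (φ.app _ (pull g M V m)))) := by
  subst e
  refine Eq.trans ?_ (rs_self K le_rfl _).symm
  refine Eq.trans ?_ (app_pull_map f g φ ψ V m)
  rfl

/-- A pulled back section which is a frame comes from the locus. -/
theorem le_preimage_locus {S P T : Scheme.{u}} {p : P ⟶ S} {F : S.Modules} {O1 : P.Modules}
    {u : (Scheme.Modules.pullback p).obj F ⟶ O1} {V : S.Opens} {n : ℕ} {b : Fin n → Γ(F, V)}
    (hPB : KRR.IsProjBundle p F O1 u) (hb : IsBasisOn F V b) (h : T ⟶ P) {G : T.Opens}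
    (hG : G ≤ h ⁻¹ᵁ (p ⁻¹ᵁ V)) {l : Fin n}
    (hl : IsFrame ((Scheme.Modules.pullback h).obj O1) G (rs _ hG (pull h O1 _ (sec p u b l)))) :
    G ≤ h ⁻¹ᵁ locus p u b l := by
  haveI := hPB.epi
  intro t ht
  obtain ⟨k, hk⟩ := Groth.L19.ProjBdl.exists_mem_locus p u b hPB.invertible hb (show h t ∈ p ⁻¹ᵁ V from hG ht)
  set Wk := locus p u b k
  set a := crd p u b k l
  let T' := G ⊓ h ⁻¹ᵁ Wk
  have hT1 : T' ≤ G := inf_le_left
  have hT2 : T' ≤ h ⁻¹ᵁ Wk := inf_le_right
  have e1 := crd_smul p u b k l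
  have e2 : rs _ hT1 (rs _ hG (pull h O1 _ (sec p u b l))) =
      ro hT2 (h.app Wk a) • rs _ hT2 (pull h O1 Wk (rs O1 (locus_le p u b k) (sec p u b k))) := by
    rw [← rs_smul, ← pull_smul, e1, ← pull_rs, rs_rs, rs_rs]
  have h1 := hl.mono hT1
  rw [e2] at h1
  have hu := isUnit_of_isFrame (((isFrame_locus p u b k).pullback h O1).mono hT2) h1
  have htk : t ∈ h ⁻¹ᵁ Wk := hk
  have hb1 : t ∈ T.basicOpen (h.app Wk a) := by
    refine (T.mem_basicOpen _ t htk).mpr ?_
    have := hu.map (T.presheaf.germ T' t ⟨ht, htk⟩).hom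
    rwa [show (T.presheaf.germ T' t ⟨ht, htk⟩).hom (ro hT2 (h.app Wk a)) =
      T.presheaf.germ (h ⁻¹ᵁ Wk) t htk (h.app Wk a) from TopCat.Presheaf.germ_res_apply _ _ _ _ _] at this
  rw [← Scheme.preimage_basicOpen] at hb1
  have hB := P.basicOpen_le a
  refine le_locus p u b (hB.trans (locus_le p u b k)) ?_ hb1
  have := ((isFrame_locus p u b k).mono hB).smul_unit
    (show IsUnit (ro hB a) from RingedSpace.isUnit_res_basicOpen P.toRingedSpace a)
  rwa [← rs_smul, e1, rs_rs] at this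

section Split

variable {X : Scheme.{u}} {A E B : X.Modules} {f : A ⟶ E} {g : E ⟶ B} {σ : E ⟶ A} {s : B ⟶ E}

/-- Bases of the summands give a basis. -/
theorem isBasisOn_append (hfσ : f ≫ σ = 𝟙 A) (hsg : s ≫ g = 𝟙 B) (hfg : f ≫ g = 0) (hsσ : s ≫ σ = 0)
    (htot : σ ≫ f + g ≫ s = 𝟙 E) {V : X.Opens} {a m : ℕ} {α : Fin a → Γ(A, V)} {b : Fin m → Γ(B, V)}
    (hα : IsBasisOn A V α) (hb : IsBasisOn B V b) :
    IsBasisOn E V (Fin.append (fun i => f.app V (α i)) fun k => s.app V (b k)) := by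
  intro V' h
  have key : ∀ c : Fin (a + m) → Γ(X, V'),
      lc E (Fin.append (fun i => f.app V (α i)) fun k => s.app V (b k)) h c =
        f.app V' (lc A α h fun i => c (Fin.castAdd m i)) + s.app V' (lc B b h fun k => c (Fin.natAdd a k)) := by
    intro c
    rw [app_lc, app_lc, lc, Fin.sum_univ_add]
    refine congrArg₂ (· + ·) (Finset.sum_congr rfl fun i _ => ?_) (Finset.sum_congr rfl fun k _ => ?_)
    · rw [Fin.append_left]
    · rw [Fin.append_right]
  have e1 : ∀ x : Γ(A, V'), σ.app V' (f.app V' x) = x := fun x => congr($(hfσ).app V' x)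
  have e2 : ∀ x : Γ(B, V'), g.app V' (s.app V' x) = x := fun x => congr($(hsg).app V' x)
  have e3 : ∀ x : Γ(A, V'), g.app V' (f.app V' x) = 0 := fun x => congr($(hfg).app V' x)
  have e4 : ∀ x : Γ(B, V'), σ.app V' (s.app V' x) = 0 := fun x => congr($(hsσ).app V' x)
  have e5 : ∀ x : Γ(E, V'), f.app V' (σ.app V' x) + s.app V' (g.app V' x) = x := fun x => congr($(htot).app V' x)
  refine ⟨fun c c' hcc => ?_, fun x => ?_⟩
  · rw [key, key] at hcc
    have hA := congrArg (σ.app V') hcc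
    have hB := congrArg (g.app V') hcc
    rw [map_add, map_add, e1, e1, e4, e4, add_zero, add_zero] at hA
    rw [map_add, map_add, e2, e2, e3, e3, zero_add, zero_add] at hB
    have hA' := (hα V' h).1 hA
    have hB' := (hb V' h).1 hB
    funext l
    exact Fin.addCases (fun i => congrFun hA' i) (fun k => congrFun hB' k) l
  · obtain ⟨c₁, hc₁⟩ := (hα V' h).2 (σ.app V' x)
    obtain ⟨c₂, hc₂⟩ := (hb V' h).2 (g.app V' x)
    refine ⟨Fin.append c₁ c₂, ?_⟩
    rw [key]
    simp only [Fin.append_left, Fin.append_right]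
    rw [hc₁, hc₂, e5]

theorem exists_bases (hA : FlatMod.IsFinLocFree A) (hB : FlatMod.IsFinLocFree B) (x : X) :
    ∃ (V : X.Opens) (a m : ℕ) (α : Fin a → Γ(A, V)) (b : Fin m → Γ(B, V)),
      IsAffineOpen V ∧ x ∈ V ∧ IsBasisOn A V α ∧ IsBasisOn B V b := by
  obtain ⟨V₁, a, α, -, hx₁, -, hα⟩ := Groth.L19.ProjBdl.exists_basisOn hA x ⊤ trivial
  obtain ⟨V, m, b, hV, hx, hle, hb⟩ := Groth.L19.ProjBdl.exists_basisOn hB x V₁ hx₁
  exact ⟨V, a, m, _, b, hV, hx, hα.mono hle, hb⟩

end Split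

/-! ## The projection away from the sub-bundle -/

section Main

variable {X P PA : Scheme.{u}} {A E B : X.Modules} {f : A ⟶ E} (s : B ⟶ E)
  {π : P ⟶ X} {O1 : P.Modules} {q : (Scheme.Modules.pullback π).obj E ⟶ O1}
  {πA : PA ⟶ X} {O1A : PA.Modules} {qA : (Scheme.Modules.pullback πA).obj A ⟶ O1A}
  (W : P.Opens) {β : (W : Scheme.{u}) ⟶ PA} (hβ : β ≫ πA = W.ι ≫ π)
  (eβ : (Scheme.Modules.pullback β).obj O1A ≅ (Scheme.Modules.pullback W.ι).obj O1)

include hβ in
theorem preimage_eq (V : X.Opens) : W.ι ⁻¹ᵁ (π ⁻¹ᵁ V) = β ⁻¹ᵁ (πA ⁻¹ᵁ V) := by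
  rw [← Scheme.Hom.comp_preimage, ← Scheme.Hom.comp_preimage, hβ]

/-- The compatibility of `β` with the tautological quotients, as a hypothesis. -/
abbrev Compat (f : A ⟶ E) (q : (Scheme.Modules.pullback π).obj E ⟶ O1)
    (qA : (Scheme.Modules.pullback πA).obj A ⟶ O1A) : Prop :=
  (Scheme.Modules.pullbackCongr hβ).inv.app A ≫ (Scheme.Modules.pullbackComp β πA).inv.app A ≫
      (Scheme.Modules.pullback β).map qA ≫ eβ.hom =
    (Scheme.Modules.pullbackComp W.ι π).inv.app A ≫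
      (Scheme.Modules.pullback W.ι).map ((Scheme.Modules.pullback π).map f ≫ q)

variable {eβ}

theorem eβ_sec (hq : Compat W hβ eβ f q qA) {V : X.Opens} (m : Γ(A, V)) :
    eβ.hom.app _ (pull β O1A _ (qA.app _ (pull πA A V m))) =
      rs _ (preimage_eq W hβ V).ge (pull W.ι O1 _ (q.app _ (pull π E V (f.app V m)))) := by
  have e' : (W.ι ≫ π) ⁻¹ᵁ V = (β ≫ πA) ⁻¹ᵁ V := by rw [hβ]
  have h0 := congr($(hq).app ((W.ι ≫ π) ⁻¹ᵁ V) (pull (W.ι ≫ π) A V m))
  have hL := app_pull_map' hβ qA eβ.hom V m e'.le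
  have hR : ((Scheme.Modules.pullbackComp W.ι π).inv.app A ≫
      (Scheme.Modules.pullback W.ι).map ((Scheme.Modules.pullback π).map f ≫ q)).app
        ((W.ι ≫ π) ⁻¹ᵁ V) (pull (W.ι ≫ π) A V m) =
      pull W.ι O1 _ (q.app _ (pull π E V (f.app V m))) := by
    have h := app_pull_map W.ι π ((Scheme.Modules.pullback π).map f ≫ q) (𝟙 _) V m
    rw [Category.comp_id] at h
    exact h.trans (congrArg (fun z => pull W.ι O1 _ (q.app _ z)) (pull_app π f V m))
  rw [hL, hR] at h0
  rw [← h0, rs_rs]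
  exact (rs_self _ _ _).symm

variable (q) in
/-- The component of the tautological quotient along the complement of `A`. -/
def compB : (Scheme.Modules.pullback β).obj ((Scheme.Modules.pullback πA).obj B) ⟶
    (Scheme.Modules.pullback W.ι).obj O1 :=
  (Scheme.Modules.pullbackComp β πA).hom.app B ≫ (Scheme.Modules.pullbackCongr hβ).hom.app B ≫
    (Scheme.Modules.pullbackComp W.ι π).inv.app B ≫
      (Scheme.Modules.pullback W.ι).map ((Scheme.Modules.pullback π).map s ≫ q)

theorem compB_pull {V : X.Opens} (x : Γ(B, V)) :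
    (compB s q W hβ).app (β ⁻¹ᵁ (πA ⁻¹ᵁ V)) (pull β _ _ (pull πA B V x)) =
      rs _ (preimage_eq W hβ V).ge (pull W.ι O1 _ (q.app _ (pull π E V (s.app V x)))) := by
  have h1 : ((Scheme.Modules.pullbackComp β πA).hom.app B).app ((β ≫ πA) ⁻¹ᵁ V)
      (pull β _ (πA ⁻¹ᵁ V) (pull πA B V x)) = pull (β ≫ πA) B V x := by
    rw [← pull_comp β πA B V x]
    exact congr($((Scheme.Modules.pullbackComp β πA).inv_hom_id_app B).app _ (pull (β ≫ πA) B V x))
  show ((Scheme.Modules.pullback W.ι).map ((Scheme.Modules.pullback π).map s ≫ q)).app _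
    (((Scheme.Modules.pullbackComp W.ι π).inv.app B).app _ (((Scheme.Modules.pullbackCongr hβ).hom.app B).app _
      (((Scheme.Modules.pullbackComp β πA).hom.app B).app ((β ≫ πA) ⁻¹ᵁ V)
        (pull β _ (πA ⁻¹ᵁ V) (pull πA B V x))))) = _
  rw [h1]
  refine (congrArg (fun z => ((Scheme.Modules.pullback W.ι).map ((Scheme.Modules.pullback π).map s ≫ q)).app _
    (((Scheme.Modules.pullbackComp W.ι π).inv.app B).app _ z)) (pull_congr_hom hβ B V x (by rw [hβ]))).trans ?_
  refine (congrArg (((Scheme.Modules.pullback W.ι).map ((Scheme.Modules.pullback π).map s ≫ q)).app _)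
    (app_rs _ _ _)).trans ?_
  refine (app_rs _ _ _).trans (congrArg (rs _ (preimage_eq W hβ V).ge) ?_)
  have h := app_pull_map W.ι π ((Scheme.Modules.pullback π).map s ≫ q) (𝟙 _) V x
  rw [Category.comp_id] at h
  exact h.trans (congrArg (fun z => pull W.ι O1 _ (q.app _ z)) (pull_app π s V x))

section Loci

variable {V : X.Opens} {a m : ℕ} {α : Fin a → Γ(A, V)} {b : Fin m → Γ(B, V)}

/-- The basis of `E`. -/
abbrev bE (f : A ⟶ E) (s : B ⟶ E) (α : Fin a → Γ(A, V)) (b : Fin m → Γ(B, V)) : Fin (a + m) → Γ(E, V) :=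
  Fin.append (fun i => f.app V (α i)) fun k => s.app V (b k)

theorem sec_castAdd (i : Fin a) :
    sec π q (bE f s α b) (Fin.castAdd m i) = q.app _ (pull π E V (f.app V (α i))) := by
  rw [sec, bE, Fin.append_left]

theorem sec_natAdd (k : Fin m) :
    sec π q (bE f s α b) (Fin.natAdd a k) = q.app _ (pull π E V (s.app V (b k))) := by
  rw [sec, bE, Fin.append_right]

theorem preimage_locus_eq (hP : KRR.IsProjBundle π E O1 q) (hPA : KRR.IsProjBundle πA A O1A qA)
    (hq : Compat W hβ eβ f q qA) (hα : IsBasisOn A V α) (hE : IsBasisOn E V (bE f s α b)) (i : Fin a) :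
    β ⁻¹ᵁ locus πA qA α i = W.ι ⁻¹ᵁ locus π q (bE f s α b) (Fin.castAdd m i) := by
  refine le_antisymm ?_ ?_
  · have hG : β ⁻¹ᵁ locus πA qA α i ≤ W.ι ⁻¹ᵁ (π ⁻¹ᵁ V) :=
      (β.preimage_mono (locus_le πA qA α i)).trans (preimage_eq W hβ V).ge
    refine le_preimage_locus hP hE W.ι hG ?_
    have h := isFrame_of_iso eβ ((isFrame_locus πA qA α i).pullback β O1A)
    rw [← pull_rs, app_rs, sec, eβ_sec W hβ hq, rs_rs] at h
    rwa [sec_castAdd]
  · have hG : W.ι ⁻¹ᵁ locus π q (bE f s α b) (Fin.castAdd m i) ≤ β ⁻¹ᵁ (πA ⁻¹ᵁ V) :=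
      (W.ι.preimage_mono (locus_le _ _ _ _)).trans (preimage_eq W hβ V).le
    refine le_preimage_locus hPA hα β hG ?_
    have h := isFrame_of_iso eβ.symm ((isFrame_locus π q (bE f s α b) (Fin.castAdd m i)).pullback W.ι O1)
    have e1 : rs _ hG (pull β O1A _ (sec πA qA α i)) =
        eβ.inv.app _ (pull W.ι O1 _ (rs O1 (locus_le π q (bE f s α b) (Fin.castAdd m i))
          (sec π q (bE f s α b) (Fin.castAdd m i)))) := by
      have h3 : eβ.inv.app _ (eβ.hom.app _ (pull β O1A _ (sec πA qA α i))) = pull β O1A _ (sec πA qA α i) :=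
        congr($(eβ.hom_inv_id).app _ (pull β O1A _ (sec πA qA α i)))
      have h2 : eβ.hom.app _ (pull β O1A _ (sec πA qA α i)) =
          rs _ (preimage_eq W hβ V).ge (pull W.ι O1 _ (sec π q (bE f s α b) (Fin.castAdd m i))) := by
        rw [sec_castAdd]
        exact eβ_sec W hβ hq (α i)
      rw [← h3, h2, ← app_rs, rs_rs, ← pull_rs, app_rs]
    rw [e1]
    exact h

theorem exists_kappa (hP : KRR.IsProjBundle π E O1 q) (hV : IsAffineOpen V) (hE : IsBasisOn E V (bE f s α b))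
    (i : Fin a) (hle : locus π q (bE f s α b) (Fin.castAdd m i) ≤ W) (G : (W : Scheme.{u}).Opens)
    (hG : G = W.ι ⁻¹ᵁ locus π q (bE f s α b) (Fin.castAdd m i)) (h : G ≤ W.ι ⁻¹ᵁ (π ⁻¹ᵁ V)) :
    ∃ κ : Acrd V (Fin.castAdd m i) ≃+* Γ((W : Scheme.{u}), G),
      (∀ r, κ (MvPolynomial.C r) = (W.ι ≫ π).appLE V G h r) ∧
      ∀ l, κ (ratio V (Fin.castAdd m i) l) • rs _ h (pull W.ι O1 _ (sec π q (bE f s α b) (Fin.castAdd m i))) =
        rs _ h (pull W.ι O1 _ (sec π q (bE f s α b) l)) := by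
  subst hG
  obtain ⟨c⟩ := Groth.L22.Bundle.nonempty_cData hP hE hV (Fin.castAdd m i)
  haveI : IsIso (W.ι.app (locus π q (bE f s α b) (Fin.castAdd m i))) :=
    Scheme.Hom.isIso_app _ _ (hle.trans W.opensRange_ι.ge)
  refine ⟨c.θ.trans (asIso (W.ι.app (locus π q (bE f s α b) (Fin.castAdd m i)))).commRingCatIsoToRingEquiv,
    fun r => ?_, fun l => ?_⟩
  · show W.ι.app _ (c.θ (MvPolynomial.C r)) = _
    rw [c.θ_C, ← Scheme.Hom.appLE_comp_appLE W.ι π V (locus π q (bE f s α b) (Fin.castAdd m i)) _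
      (locus_le _ _ _ _) le_rfl, Scheme.Hom.app_eq_appLE]
    rfl
  · show W.ι.app _ (c.θ (ratio V (Fin.castAdd m i) l)) • _ = _
    have h1 := congrArg (pull W.ι O1 _) (crd_smul π q (bE f s α b) (Fin.castAdd m i) l)
    rw [pull_smul, ← pull_rs, ← pull_rs] at h1
    rw [c.θ_ratio]
    exact h1

theorem locus_le_W {PB : Scheme.{u}} {πB : PB ⟶ X} {O1B : PB.Modules}
    {qB : (Scheme.Modules.pullback πB).obj B ⟶ O1B} {g : E ⟶ B} (hfg : f ≫ g = 0) (c : PB ⟶ P) (hc : c ≫ π = πB)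
    (ec : (Scheme.Modules.pullback c).obj O1 ≅ O1B)
    (hcq : (Scheme.Modules.pullbackCongr hc).inv.app E ≫ (Scheme.Modules.pullbackComp c π).inv.app E ≫
      (Scheme.Modules.pullback c).map q ≫ ec.hom = (Scheme.Modules.pullback πB).map g ≫ qB)
    (hW : (W : Set P)ᶜ = Set.range c.base) (i : Fin a) :
    locus π q (bE f s α b) (Fin.castAdd m i) ≤ W := by
  set L := locus π q (bE f s α b) (Fin.castAdd m i) with hLdef
  have hL := locus_le π q (bE f s α b) (Fin.castAdd m i)
  have h0 := congr($(hcq).app (πB ⁻¹ᵁ V) (pull πB E V (f.app V (α i))))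
  have e' : πB ⁻¹ᵁ V = (c ≫ π) ⁻¹ᵁ V := by rw [hc]
  have hl' : ((Scheme.Modules.pullbackCongr hc).inv.app E ≫ (Scheme.Modules.pullbackComp c π).inv.app E ≫
      (Scheme.Modules.pullback c).map q ≫ ec.hom).app (πB ⁻¹ᵁ V) (pull πB E V (f.app V (α i))) =
      rs _ e'.le (ec.hom.app _ (pull c O1 _ (sec π q (bE f s α b) (Fin.castAdd m i)))) := by
    rw [sec_castAdd]
    exact app_pull_map' hc q ec.hom V _ e'.le
  have hr' : ((Scheme.Modules.pullback πB).map g ≫ qB).app (πB ⁻¹ᵁ V) (pull πB E V (f.app V (α i))) = 0 := by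
    show qB.app _ (((Scheme.Modules.pullback πB).map g).app _ (pull πB E V (f.app V (α i)))) = 0
    rw [pull_app, show g.app V (f.app V (α i)) = 0 from congr($(hfg).app V (α i))]
    exact (congrArg (qB.app _) (map_zero _)).trans (map_zero _)
  rw [hl', hr'] at h0
  have hO : c ⁻¹ᵁ L ≤ πB ⁻¹ᵁ V := (c.preimage_mono hL).trans e'.ge
  have h1 := congrArg (rs O1B hO) h0
  rw [rs_rs] at h1
  have hfr := isFrame_of_iso ec ((isFrame_locus π q (bE f s α b) (Fin.castAdd m i)).pullback c O1)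
  rw [← pull_rs, app_rs] at hfr
  have hbot : c ⁻¹ᵁ L = ⊥ := eq_bot_of_isFrame_zero hfr (h1.trans (map_zero _))
  intro z hz
  by_contra hzW
  obtain ⟨w, hw⟩ : z ∈ Set.range c.base := hW ▸ hzW
  have : w ∈ c ⁻¹ᵁ L := by
    show c.base w ∈ L
    rw [hw]
    exact hz
  rw [hbot] at this
  exact this

end Loci

theorem isAffineHom_beta (hP : KRR.IsProjBundle π E O1 q) (hPA : KRR.IsProjBundle πA A O1A qA)
    (hq : Compat W hβ eβ f q qA)
    (hbase : ∀ x : X, ∃ (V : X.Opens) (a m : ℕ) (α : Fin a → Γ(A, V)) (b : Fin m → Γ(B, V)),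
      IsAffineOpen V ∧ x ∈ V ∧ IsBasisOn A V α ∧ IsBasisOn E V (bE f s α b) ∧
      ∀ i, locus π q (bE f s α b) (Fin.castAdd m i) ≤ W) : IsAffineHom β := by
  haveI := hPA.epi
  refine isAffineHom_of_forall_exists_isAffineOpen _ fun z => ?_
  obtain ⟨V, a, m, α, b, hV, hzV, hα, hE, hle⟩ := hbase (πA z)
  obtain ⟨i, hi⟩ := Groth.L19.ProjBdl.exists_mem_locus πA qA α hPA.invertible hα (show z ∈ πA ⁻¹ᵁ V from hzV)
  refine ⟨_, hi, Groth.L19.ProjBdl.isAffineOpen_locus hPA hα hV i, ?_⟩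
  rw [preimage_locus_eq s W hβ hP hPA hq hα hE i, ← W.ι.isAffineOpen_iff_of_isOpenImmersion,
    Scheme.Hom.image_preimage_eq_opensRange_inf, Scheme.Opens.opensRange_ι, inf_eq_right.2 (hle i)]
  exact Groth.L19.ProjBdl.isAffineOpen_locus hP hE hV _

variable (eβ) {Minv : PA.Modules} (θ₀ : CohB1.tensorMod Minv O1A ≅ Coh.structureModule PA)

/-- The pairing of the pullback of `M` with `O(1)`. -/
def Lam : CohB1.tensorMod ((Scheme.Modules.pullback β).obj Minv) ((Scheme.Modules.pullback W.ι).obj O1) ⟶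
    Coh.structureModule (W : Scheme.{u}) :=
  Groth.L00.Tensor.tensorMap (𝟙 _) eβ.inv ≫ (Groth.L29.DC.PullTensor.pullTensor β Minv O1A).hom ≫
    (Scheme.Modules.pullback β).map θ₀.hom ≫ (Groth.L29.LocFree.pullbackUnitIso β).hom

theorem Lam_tens {U : PA.Opens} (x : Γ(Minv, U)) (y : Γ(O1A, U)) :
    (Lam W eβ θ₀).app (β ⁻¹ᵁ U) (tens _ _ _ (pull β Minv U x) (eβ.hom.app _ (pull β O1A U y))) =
      β.app U (show Γ(PA, U) from θ₀.hom.app U (tens Minv O1A U x y)) := by
  show (Groth.L29.LocFree.pullbackUnitIso β).hom.app _ (((Scheme.Modules.pullback β).map θ₀.hom).app _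
    ((Groth.L29.DC.PullTensor.pullTensor β Minv O1A).hom.app _
      ((Groth.L00.Tensor.tensorMap (𝟙 _) eβ.inv).app _ _))) = _
  rw [Groth.L16.HomSh.tensorMap_tens]
  have h3 : eβ.inv.app _ (eβ.hom.app _ (pull β O1A U y)) = pull β O1A U y :=
    congr($(eβ.hom_inv_id).app _ (pull β O1A U y))
  rw [h3]
  refine (congrArg (fun z => (Groth.L29.LocFree.pullbackUnitIso β).hom.app _
    (((Scheme.Modules.pullback β).map θ₀.hom).app _ z)) (Groth.L16.HomSh.pullTensor_tens β Minv O1A U x y)).trans ?_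
  rw [pull_app]
  exact congr($(Groth.L20.DescLocus.unit_structure β).app U (θ₀.hom.app U (tens Minv O1A U x y)))

theorem exists_phi [QuasiCompact β] [QuasiSeparated β] :
    ∃ φ : CohB1.tensorMod Minv ((Scheme.Modules.pullback πA).obj B) ⟶ (RelSpec.QCAlg.directImage β).toModule,
      ∀ (U : PA.affineOpens) (x : Γ(Minv, U.1)) (y : Γ((Scheme.Modules.pullback πA).obj B, U.1)),
        φ.app U.1 (tens _ _ U.1 x y) = (show (RelSpec.QCAlg.directImage β).presheaf.obj (op U.1) from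
          (Lam W eβ θ₀).app (β ⁻¹ᵁ U.1)
            (tens _ _ _ (pull β Minv U.1 x) ((compB s q W hβ).app _ (pull β _ U.1 y)))) := by
  let L := Lam W eβ θ₀
  let r := compB s q W hβ
  let pr : ∀ U : PA.Opens, Γ(Minv, U) → Γ((Scheme.Modules.pullback πA).obj B, U) →
      Γ((RelSpec.QCAlg.directImage β).toModule, U) := fun U x y =>
    (show (RelSpec.QCAlg.directImage β).presheaf.obj (op U) from
      L.app (β ⁻¹ᵁ U) (tens _ _ _ (pull β Minv U x) (r.app _ (pull β _ U y))))
  have hs1 : ∀ (U : PA.Opens) (c : Γ(PA, U)) x y, pr U (c • x) y = c • pr U x y := fun U c x y => by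
    rw [Groth.L18.SymSheaf.smul_toModule]
    show L.app _ (tens _ _ _ (pull β Minv U (c • x)) _) = _
    rw [pull_smul, tens_smul_left, Scheme.Modules.Hom.app_smul]
    rfl
  have hs2 : ∀ (U : PA.Opens) (c : Γ(PA, U)) x y, pr U x (c • y) = c • pr U x y := fun U c x y => by
    rw [Groth.L18.SymSheaf.smul_toModule]
    show L.app _ (tens _ _ _ _ (r.app _ (pull β _ U (c • y)))) = _
    rw [pull_smul, Scheme.Modules.Hom.app_smul, tens_smul_right, Scheme.Modules.Hom.app_smul]
    rfl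
  have ha1 : ∀ (U : PA.Opens) x x' y, pr U (x + x') y = pr U x y + pr U x' y := fun U x x' y => by
    show L.app _ (tens _ _ _ (pull β Minv U (x + x')) _) = _
    rw [show pull β Minv U (x + x') = pull β Minv U x + pull β Minv U x' from map_add _ _ _, tens_add_left, map_add]
  have ha2 : ∀ (U : PA.Opens) x y y', pr U x (y + y') = pr U x y + pr U x y' := fun U x y y' => by
    show L.app _ (tens _ _ _ _ (r.app _ (pull β _ U (y + y')))) = _
    rw [show pull β _ U (y + y') = pull β _ U y + pull β _ U y' from map_add _ _ _, map_add, tens_add_right, map_add]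
  obtain ⟨φ, hφ⟩ := Groth.L03.ShStab.PreHom.exists_hom_tensor Minv ((Scheme.Modules.pullback πA).obj B)
    (RelSpec.QCAlg.directImage β).toModule
    (fun U => LinearMap.mk₂ _ (pr U.1) (ha1 U.1) (hs1 U.1) (ha2 U.1) (hs2 U.1))
    (fun U U' h x y => by
      show rs (Coh.structureModule (W : Scheme.{u})) (β.preimage_mono h)
          (L.app _ (tens _ _ _ (pull β Minv U.1 x) (r.app _ (pull β _ U.1 y)))) =
        L.app _ (tens _ _ _ (pull β Minv U'.1 (rs Minv h x)) (r.app _ (pull β _ U'.1 (rs _ h y))))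
      rw [← pull_rs, ← pull_rs, app_rs, ← tens_rs, app_rs])
  exact ⟨φ, hφ⟩

variable {eβ} in
theorem bijective_app (hP : KRR.IsProjBundle π E O1 q) (hPA : KRR.IsProjBundle πA A O1A qA)
    (hq : Compat W hβ eβ f q qA) [QuasiCompact β] [QuasiSeparated β]
    [Coh.IsQCoh (CohB1.tensorMod Minv ((Scheme.Modules.pullback πA).obj B))]
    {AV : RelSpec.QCAlg PA} {jV : CohB1.tensorMod Minv ((Scheme.Modules.pullback πA).obj B) ⟶ AV.toModule}
    (hAV : RelSpec.IsSymAlg (CohB1.tensorMod Minv ((Scheme.Modules.pullback πA).obj B)) AV jV)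
    (θ : AV ⟶ RelSpec.QCAlg.directImage β)
    (hθ : ∀ (U : PA.affineOpens) (x : Γ(Minv, U.1)) (y : Γ((Scheme.Modules.pullback πA).obj B, U.1)),
      (θ.hom.app (op U.1)).hom (jV.app U.1 (tens _ _ U.1 x y)) =
        (show (RelSpec.QCAlg.directImage β).presheaf.obj (op U.1) from
          (Lam W eβ θ₀).app (β ⁻¹ᵁ U.1)
            (tens _ _ _ (pull β Minv U.1 x) ((compB s q W hβ).app _ (pull β _ U.1 y)))))
    {V : X.Opens} {a m : ℕ} {α : Fin a → Γ(A, V)} {b : Fin m → Γ(B, V)} (hV : IsAffineOpen V)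
    (hα : IsBasisOn A V α) (hb : IsBasisOn B V b) (hE : IsBasisOn E V (bE f s α b)) (i : Fin a)
    (hle : locus π q (bE f s α b) (Fin.castAdd m i) ≤ W) :
    Function.Bijective (θ.hom.app (op (locus πA qA α i))).hom := by
  set L := locus πA qA α i with hLdef
  have hL : IsAffineOpen L := Groth.L19.ProjBdl.isAffineOpen_locus hPA hα hV i
  have hLV : L ≤ πA ⁻¹ᵁ V := locus_le πA qA α i
  let G := β ⁻¹ᵁ L
  have hG : G ≤ W.ι ⁻¹ᵁ (π ⁻¹ᵁ V) := (β.preimage_mono hLV).trans (preimage_eq W hβ V).ge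
  obtain ⟨κ, hκC, hκr⟩ := exists_kappa s W hP hV hE i hle G (preimage_locus_eq s W hβ hP hPA hq hα hE i) hG
  obtain ⟨cA⟩ := Groth.L22.Bundle.nonempty_cData hPA hα hV i
  let sA : Γ(O1A, L) := rs O1A hLV (sec πA qA α i)
  have hsA : IsFrame O1A L sA := isFrame_locus πA qA α i
  let si := rs ((Scheme.Modules.pullback W.ι).obj O1) hG (pull W.ι O1 _ (sec π q (bE f s α b) (Fin.castAdd m i)))
  have hesA : ∀ j, eβ.hom.app G (pull β O1A L (rs O1A hLV (sec πA qA α j))) =
      rs _ hG (pull W.ι O1 _ (sec π q (bE f s α b) (Fin.castAdd m j))) := fun j => by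
    rw [← pull_rs, app_rs, sec, eβ_sec W hβ hq, rs_rs, sec_castAdd]
  have hsi : IsFrame _ G si := by
    have h := isFrame_of_iso eβ (hsA.pullback β O1A)
    rwa [show eβ.hom.app G (pull β O1A L sA) = si from hesA i] at h
  -- the dual frame
  have hbij : Function.Bijective fun x : Γ(Minv, L) =>
      (show Γ(PA, L) from θ₀.hom.app L (tens Minv O1A L x sA)) := by
    have h := (ConcreteCategory.bijective_of_isIso (θ₀.hom.app L)).comp
      (Groth.L19.ProjBdl.bijective_tens_frame (M := Minv) hsA (le_refl L))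
    simp only [rs_self] at h
    exact h
  obtain ⟨mi, hmi⟩ := hbij.2 1
  have hmi' : ∀ x : Γ(Minv, L), ∃ r : Γ(PA, L), x = r • mi := fun x => by
    refine ⟨(show Γ(PA, L) from θ₀.hom.app L (tens Minv O1A L x sA)), hbij.1 ?_⟩
    show θ₀.hom.app L (tens Minv O1A L x sA) = θ₀.hom.app L (tens Minv O1A L (_ • mi) sA)
    rw [tens_smul_left, Scheme.Modules.Hom.app_smul,
      show θ₀.hom.app L (tens Minv O1A L mi sA) = one1 PA L from hmi]
    exact (smul_one1 _).symm
  let bb : Fin m → Γ((Scheme.Modules.pullback πA).obj B, L) := fun k => rs _ hLV (pull πA B V (b k))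
  have hgen : ∀ n : Γ(CohB1.tensorMod Minv ((Scheme.Modules.pullback πA).obj B), L),
      ∃ r : Fin m → Γ(PA, L), n = ∑ k, r k • tens _ _ L mi (bb k) := fun n => by
    obtain ⟨w, rfl⟩ := (Groth.L12.ExtSh.bijective_tens_family (M := Minv) ((hb.pullback πA).mono hLV)
      (le_refl L)).2 n
    choose r hr using fun k => hmi' (w k)
    refine ⟨r, Finset.sum_congr rfl fun k _ => ?_⟩
    rw [hr k, tens_smul_left, rs_self]
  -- ring maps
  let TH : AV.presheaf.obj (op L) →+* Γ((W : Scheme.{u}), G) := (θ.hom.app (op L)).hom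
  let strL : Γ(PA, L) →+* AV.presheaf.obj (op L) := (AV.str.app (op L)).hom
  have hTHstr : ∀ r, TH (strL r) = (β.app L).hom r := fun r =>
    ConcreteCategory.congr_hom (NatTrans.congr_app θ.comm (op L)) r
  have hCC : ∀ r, (β.app L).hom (cA.θ (MvPolynomial.C r)) = κ (MvPolynomial.C r) := fun r => by
    rw [cA.θ_C, hκC, Scheme.Hom.app_eq_appLE, ← CommRingCat.comp_apply, Scheme.Hom.appLE_comp_appLE]
    simp only [hβ]
    rfl
  have hcrd : ∀ j, (β.app L).hom (crd πA qA α i j) = κ (ratio V (Fin.castAdd m i) (Fin.castAdd m j)) := fun j => by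
    refine hsi.inj le_rfl ?_
    rw [rs_self, hκr, ← hesA j, ← crd_smul πA qA α i j, pull_smul, Scheme.Modules.Hom.app_smul]
    exact congrArg (_ • ·) (hesA i).symm
  have hjV : ∀ k, TH (jV.app L (tens _ _ L mi (bb k))) = κ (ratio V (Fin.castAdd m i) (Fin.natAdd a k)) := fun k => by
    refine (hθ ⟨L, hL⟩ mi (bb k)).trans ?_
    show (Lam W eβ θ₀).app G (tens _ _ G (pull β Minv L mi) ((compB s q W hβ).app G (pull β _ L (bb k)))) = _
    rw [show (compB s q W hβ).app G (pull β _ L (bb k)) =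
        rs _ hG (pull W.ι O1 _ (sec π q (bE f s α b) (Fin.natAdd a k))) by
      rw [← pull_rs, app_rs, compB_pull, rs_rs, sec_natAdd],
      ← hκr, tens_smul_right, Scheme.Modules.Hom.app_smul, ← hesA i, Lam_tens]
    rw [show (show Γ(PA, L) from θ₀.hom.app L (tens Minv O1A L mi (rs O1A hLV (sec πA qA α i)))) = 1 from hmi,
      map_one]
    exact smul_one1 _
  -- the inverse
  let gA : Fin a → AV.presheaf.obj (op L) := fun j => strL (crd πA qA α i j)
  let gB : Fin m → AV.presheaf.obj (op L) := fun k => jV.app L (tens _ _ L mi (bb k))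
  let γ : Acrd V (Fin.castAdd m i) →+* AV.presheaf.obj (op L) :=
    MvPolynomial.eval₂Hom (strL.comp (cA.θ.toRingHom.comp MvPolynomial.C)) fun l => Fin.addCases gA gB l.1
  have hγrat : ∀ l, γ (ratio V (Fin.castAdd m i) l) = Fin.addCases gA gB l := fun l => by
    by_cases h : l = Fin.castAdd m i
    · subst h
      rw [show ratio V (Fin.castAdd m i) (Fin.castAdd m i) = 1 from dif_pos rfl, map_one, Fin.addCases_left]
      show 1 = strL (crd πA qA α i i)
      rw [crd_self, map_one]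
    · rw [show ratio V (Fin.castAdd m i) l = MvPolynomial.X ⟨l, h⟩ from Groth.L19.ProjBdl.ratio_ne V ⟨l, h⟩]
      exact MvPolynomial.eval₂Hom_X' _ _ _
  have hTγ : TH.comp γ = κ.toRingHom := MvPolynomial.ringHom_ext (fun r => by
      show TH (γ (MvPolynomial.C r)) = κ _
      rw [show γ (MvPolynomial.C r) = strL (cA.θ (MvPolynomial.C r)) from MvPolynomial.eval₂Hom_C _ _ r,
        hTHstr, hCC]) fun l => by
    show TH (γ (MvPolynomial.X l)) = κ (MvPolynomial.X l)
    rw [← Groth.L19.ProjBdl.ratio_ne V l, hγrat]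
    induction l.1 using Fin.addCases with
    | left j => rw [Fin.addCases_left, hTHstr]; exact hcrd j
    | right k => rw [Fin.addCases_right]; exact hjV k
  have hsurj : Function.Surjective γ := by
    obtain ⟨Φ, hΦ, hΦj, -⟩ := Groth.L18.SymSheaf.exists_equiv hAV
    let R := γ.range
    have hR1 : ∀ r, strL r ∈ R := fun r => by
      obtain ⟨y, rfl⟩ := cA.θ.surjective r
      induction y using MvPolynomial.induction_on with
      | C c => exact ⟨MvPolynomial.C c, MvPolynomial.eval₂Hom_C _ _ c⟩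
      | add y z hy hz => rw [map_add, map_add]; exact R.add_mem hy hz
      | mul_X y j hy =>
        rw [map_mul, map_mul]
        refine R.mul_mem hy ⟨ratio V (Fin.castAdd m i) (Fin.castAdd m j.1), ?_⟩
        rw [hγrat, Fin.addCases_left, ← Groth.L19.ProjBdl.ratio_ne V j, cA.θ_ratio]
    have hR2 : ∀ n, jV.app L n ∈ R := fun n => by
      obtain ⟨r, rfl⟩ := hgen n
      rw [map_sum]
      refine R.sum_mem fun k _ => ?_
      rw [Scheme.Modules.Hom.app_smul, Groth.L18.SymSheaf.smul_toModule]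
      exact R.mul_mem (hR1 (r k)) ⟨ratio V (Fin.castAdd m i) (Fin.natAdd a k), by rw [hγrat, Fin.addCases_right]⟩
    intro x
    obtain ⟨y, rfl⟩ := (Φ L hL).surjective x
    let T : Subalgebra Γ(PA, L) (Groth.L18.SymSheaf.Sym
        (CohB1.tensorMod Minv ((Scheme.Modules.pullback πA).obj B)) L) :=
      { toSubsemiring := R.toSubsemiring.comap (Φ L hL).toRingHom
        algebraMap_mem' := fun r => by
          show Φ L hL _ ∈ R
          rw [hΦ]
          exact hR1 r }
    have hT : T = ⊤ := Groth.L16.SymTop.eq_top_of_ι_mem fun n => by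
      show Φ L hL _ ∈ R
      rw [hΦj]
      exact hR2 n
    exact (show y ∈ T by rw [hT]; exact Algebra.mem_top)
  have hTγ' : ∀ y, TH (γ y) = κ y := fun y => RingHom.congr_fun hTγ y
  refine ⟨fun x x' h => ?_, fun z => ⟨γ (κ.symm z), (hTγ' _).trans (κ.apply_symm_apply z)⟩⟩
  obtain ⟨y, rfl⟩ := hsurj x
  obtain ⟨y', rfl⟩ := hsurj x'
  exact congrArg γ (κ.injective ((hTγ' y).symm.trans (Eq.trans h (hTγ' y'))))

end Main

/-! ## Isomorphisms of spectra -/

theorem isIso_specMap {X : Scheme.{u}} {A B : RelSpec.QCAlg X} (φ : A ⟶ B) {ι : Type u} (U : ι → X.Opens)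
    (hU : ∀ i, IsAffineOpen (U i)) (hcov : ∀ x : X, ∃ i, x ∈ U i)
    (hbij : ∀ i, Function.Bijective (φ.hom.app (op (U i))).hom) : IsIso (RelSpec.QCAlg.specMap φ) := by
  let 𝒰 : A.spec.OpenCover :=
    { I₀ := ι, X := fun i => Spec (A.presheaf.obj (op (U i))), f := fun i => A.ι (U i) (hU i)
      mem₀ := by
        rw [Scheme.presieve₀_mem_precoverage_iff]
        refine ⟨fun z => ?_, fun y => inferInstance⟩
        obtain ⟨i, hi⟩ := hcov (A.π z)
        exact ⟨i, show z ∈ (A.ι (U i) (hU i)).opensRange from (A.π_preimage (U i) (hU i)) ▸ hi⟩ }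
  refine IsZariskiLocalAtTarget.of_openCover (P := MorphismProperty.isomorphisms Scheme) 𝒰 fun i => ?_
  haveI : IsIso (φ.hom.app (op (U i))) := (ConcreteCategory.isIso_iff_bijective _).2 (hbij i)
  have hpb := Groth.L22.Bundle.isPullback_chart φ (hU i)
  refine (MorphismProperty.arrow_mk_iso_iff (MorphismProperty.isomorphisms Scheme) ?_).mp
    (show MorphismProperty.isomorphisms Scheme (Spec.map (φ.hom.app (op (U i)))) from inferInstanceAs (IsIso _))
  exact Arrow.isoMk hpb.flip.isoPullback (Iso.refl _)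
    (by exact hpb.flip.isoPullback_hom_snd.trans (Category.comp_id _).symm)

end Groth.L18.ComplBundle
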