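import Groth.Agent.L18.OffAffineCoh

/-!
# The transition maps of the direct images of a completion
-/

set_option autoImplicit false
set_option backward.isDefEq.respectTransparency.types false
set_option backward.isDefEq.respectTransparency false
universe u
open CategoryTheory CategoryTheory.Limits AlgebraicGeometry

namespace Groth.L18.ComplTrans

variable {X : Scheme.{u}}

/-- The pullbacks to a system of subschemes. -/
noncomputable def mkMod (𝔛 : FSch.Sys.{u}) (g : ∀ n, 𝔛.X n ⟶ X) (hc : ∀ n, 𝔛.ι n ≫ g (n+1) = g n) (F : X.Modules) :
    FSch.ModSys 𝔛 where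
  F n := (Scheme.Modules.pullback (g n)).obj F
  e n := (Scheme.Modules.pullbackComp (𝔛.ι n) (g (n+1))).app F ≪≫ (Scheme.Modules.pullbackCongr (hc n)).app F

theorem trans_gen (𝔛 : FSch.Sys.{u}) (g : ∀ n, 𝔛.X n ⟶ X) (hc : ∀ n, 𝔛.ι n ≫ g (n+1) = g n) (F : X.Modules) (m : ℕ) :
    (Scheme.Modules.pullbackPushforwardAdjunction (g (m + 1))).unit.app F ≫
      ((Scheme.Modules.pushforward (g (m + 1))).map
            ((Scheme.Modules.pullbackPushforwardAdjunction (𝔛.ι m)).unit.app ((mkMod 𝔛 g hc F).F (m + 1))) ≫
          (Scheme.Modules.pushforwardComp (𝔛.ι m) (g (m + 1))).hom.app _ ≫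
          (Scheme.Modules.pushforwardCongr (hc m)).hom.app _ ≫
          (Scheme.Modules.pushforward (g m)).map ((mkMod 𝔛 g hc F).e m).hom) =
      (Scheme.Modules.pullbackPushforwardAdjunction (g m)).unit.app F :=
  Groth.L18.OffAffine.unit_trans (𝔛.ι m) (g (m+1)) (g m) (hc m) F

theorem mk_eq (I : X.IdealSheafData) (F : X.Modules) :
    FSch.completionMod I F = mkMod (FSch.completionAlong X I) (FSch.completionToX X I)
      (fun n => Scheme.IdealSheafData.inclusion_subschemeι (FSch.pow_succ_le X I n)) F := rfl

theorem hc_completion (I : X.IdealSheafData) (n : ℕ) :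
    (FSch.completionAlong X I).ι n ≫ FSch.completionToX X I (n + 1) = FSch.completionToX X I n :=
  Scheme.IdealSheafData.inclusion_subschemeι (FSch.pow_succ_le X I n)

theorem congr_eq (I : X.IdealSheafData) (m : ℕ) :
    Scheme.Modules.pushforwardCongr (Scheme.IdealSheafData.inclusion_subschemeι (FSch.pow_succ_le X I m)) =
    Scheme.Modules.pushforwardCongr (hc_completion I m) := rfl

theorem e_eq (I : X.IdealSheafData) (F : X.Modules) (m : ℕ) :
    ((FSch.completionMod I F).e m).hom = ((mkMod (FSch.completionAlong X I) (FSch.completionToX X I) (hc_completion I) F).e m).hom := rfl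

theorem clean (I : X.IdealSheafData) (F : X.Modules) (m : ℕ) :
    (Scheme.Modules.pullbackPushforwardAdjunction (FSch.completionToX X I (m + 1))).unit.app F ≫
      ((Scheme.Modules.pushforward (FSch.completionToX X I (m + 1))).map
            ((Scheme.Modules.pullbackPushforwardAdjunction ((FSch.completionAlong X I).ι m)).unit.app ((mkMod (FSch.completionAlong X I) (FSch.completionToX X I) (hc_completion I) F).F (m + 1))) ≫
          (Scheme.Modules.pushforwardComp ((FSch.completionAlong X I).ι m) (FSch.completionToX X I (m + 1))).hom.app _ ≫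
          (Scheme.Modules.pushforwardCongr (hc_completion I m)).hom.app _ ≫
          (Scheme.Modules.pushforward (FSch.completionToX X I m)).map ((mkMod (FSch.completionAlong X I) (FSch.completionToX X I) (hc_completion I) F).e m).hom) =
      (Scheme.Modules.pullbackPushforwardAdjunction (FSch.completionToX X I m)).unit.app F :=
  trans_gen (FSch.completionAlong X I) (FSch.completionToX X I) (hc_completion I) F m

theorem F_eq (I : X.IdealSheafData) (F : X.Modules) (n : ℕ) : (FSch.completionMod I F).F n = (mkMod (FSch.completionAlong X I) (FSch.completionToX X I) (hc_completion I) F).F n := rfl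

/-- The transition of the direct images of the completion. -/
noncomputable def trans (I : X.IdealSheafData) (F : X.Modules) (m : ℕ) :=
  (Scheme.Modules.pushforward (FSch.completionToX X I (m + 1))).map
      ((Scheme.Modules.pullbackPushforwardAdjunction ((FSch.completionAlong X I).ι m)).unit.app ((FSch.completionMod I F).F (m + 1))) ≫
    (Scheme.Modules.pushforwardComp ((FSch.completionAlong X I).ι m) (FSch.completionToX X I (m + 1))).hom.app _ ≫
    (Scheme.Modules.pushforwardCongr (Scheme.IdealSheafData.inclusion_subschemeι (FSch.pow_succ_le X I m))).hom.app _ ≫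
    (Scheme.Modules.pushforward (FSch.completionToX X I m)).map ((FSch.completionMod I F).e m).hom

theorem trans_def (I : X.IdealSheafData) (F : X.Modules) (m : ℕ) : trans I F m =
    (Scheme.Modules.pushforward (FSch.completionToX X I (m + 1))).map
            ((Scheme.Modules.pullbackPushforwardAdjunction ((FSch.completionAlong X I).ι m)).unit.app ((FSch.completionMod I F).F (m + 1))) ≫
          (Scheme.Modules.pushforwardComp ((FSch.completionAlong X I).ι m) (FSch.completionToX X I (m + 1))).hom.app _ ≫
          (Scheme.Modules.pushforwardCongr (Scheme.IdealSheafData.inclusion_subschemeι (FSch.pow_succ_le X I m))).hom.app _ ≫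
          (Scheme.Modules.pushforward (FSch.completionToX X I m)).map ((FSch.completionMod I F).e m).hom := by
  delta trans
  rfl

theorem app_congr {M N : X.Modules} {φ ψ : M ⟶ N} (h : φ = ψ) (V : X.Opens) (z : Γ(M, V)) : φ.app V z = ψ.app V z := by
  rw [h]

theorem trans_unit (I : X.IdealSheafData) (F : X.Modules) (m : ℕ) :
    (Scheme.Modules.pullbackPushforwardAdjunction (FSch.completionToX X I (m + 1))).unit.app F ≫ trans I F m =
      (Scheme.Modules.pullbackPushforwardAdjunction (FSch.completionToX X I m)).unit.app F := by
  rw [trans_def, congr_eq, e_eq]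
  exact clean I F m

end Groth.L18.ComplTrans
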