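import Mathlib.RingTheory.GradedAlgebra.HomogeneousLocalization
import Mathlib.RingTheory.GradedAlgebra.Homogeneous.Maps
import Mathlib.Algebra.Polynomial.Eval.Coeff
import Mathlib.RingTheory.Polynomial.Basic

/-!
# The degree zero localization of `A[z]` at `z`
-/

noncomputable section

namespace Groth.L18.ConeAlg

open HomogeneousLocalization Polynomial

universe u

variable {A B σ τ : Type u} [CommRing A] [CommRing B] [SetLike σ A] [AddSubgroupClass σ A]
  [SetLike τ B] [AddSubgroupClass τ B] {𝒜 : ℕ → σ} [GradedRing 𝒜] {ℬ : ℕ → τ} [GradedRing ℬ]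
  (ι : A →+* B) (hι : ∀ i, ∀ x ∈ 𝒜 i, ι x ∈ ℬ i) (z : B) (hz : z ∈ ℬ 1)

/-- `x / z^i` for `x` homogeneous of degree `i`. -/
def gen (i : ℕ) (x : A) (hx : x ∈ 𝒜 i) : Away ℬ z :=
  Away.mk ℬ hz i (ι x) (by simpa using hι i x hx)

theorem gen_val (i : ℕ) (x : A) (hx : x ∈ 𝒜 i) :
    (gen ι hι z hz i x hx).val = Localization.mk (ι x) (⟨z ^ i, i, rfl⟩ : Submonoid.powers z) := rfl

section

variable (hsurj : Function.Surjective (Polynomial.eval₂RingHom ι z))

include hι hz hsurj

theorem mem_closure_of_mem (m : ℕ) {b : B} (hb : b ∈ ℬ m) :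
    b ∈ AddSubgroup.closure {y : B | ∃ i j x, i + j = m ∧ x ∈ 𝒜 i ∧ y = ι x * z ^ j} := by
  classical
  have key : ∀ p : A[X], (DirectSum.decompose ℬ (Polynomial.eval₂ ι z p) m : B) ∈
      AddSubgroup.closure {y : B | ∃ i j x, i + j = m ∧ x ∈ 𝒜 i ∧ y = ι x * z ^ j} := by
    intro p
    induction p using Polynomial.induction_on' with
    | add p q hp hq =>
      rw [Polynomial.eval₂_add, DirectSum.decompose_add, DirectSum.add_apply, AddMemClass.coe_add]
      exact add_mem hp hq
    | monomial n a =>
      rw [Polynomial.eval₂_monomial]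
      conv in ι a => rw [← DirectSum.sum_support_decompose 𝒜 a]
      rw [map_sum, Finset.sum_mul, DirectSum.decompose_sum]
      rw [DFinsupp.finsetSum_apply, AddSubmonoidClass.coe_finsetSum]
      refine AddSubgroup.sum_mem _ fun i _ => ?_
      have hmem : ι (DirectSum.decompose 𝒜 a i : A) * z ^ n ∈ ℬ (i + n) :=
        SetLike.mul_mem_graded (hι i _ (SetLike.coe_mem _)) (by simpa using SetLike.pow_mem_graded n hz)
      by_cases h : i + n = m
      · subst h
        rw [DirectSum.decompose_of_mem_same _ hmem]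
        exact AddSubgroup.subset_closure ⟨i, n, _, rfl, SetLike.coe_mem _, rfl⟩
      · rw [DirectSum.decompose_of_mem_ne _ hmem h]
        exact zero_mem _
  obtain ⟨p, hp⟩ := hsurj b
  have := key p
  rwa [show Polynomial.eval₂ ι z p = b from hp, DirectSum.decompose_of_mem_same _ hb] at this

/-- Additive induction on `B_(z)`. -/
theorem away_induction {P : Away ℬ z → Prop} (h0 : P 0) (hadd : ∀ a b, P a → P b → P (a + b))
    (hneg : ∀ a, P a → P (-a)) (hgen : ∀ i x (hx : x ∈ 𝒜 i), P (gen ι hι z hz i x hx)) (q : Away ℬ z) : P q := by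
  obtain ⟨m, b, hb, rfl⟩ := Away.mk_surjective ℬ hz q
  have hb' : b ∈ ℬ m := by simpa using hb
  suffices ∀ y ∈ AddSubgroup.closure {y : B | ∃ i j x, i + j = m ∧ x ∈ 𝒜 i ∧ y = ι x * z ^ j},
      ∃ hy : y ∈ ℬ (m • 1), P (Away.mk ℬ hz m y hy) by
    obtain ⟨_, h⟩ := this b (mem_closure_of_mem ι hι z hz hsurj m hb')
    exact h
  intro y hy
  induction hy using AddSubgroup.closure_induction with
  | mem y hy =>
    obtain ⟨i, j, x, rfl, hx, rfl⟩ := hy
    refine ⟨by simpa using SetLike.mul_mem_graded (hι i x hx) (by simpa using SetLike.pow_mem_graded j hz), ?_⟩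
    convert hgen i x hx using 1
    apply HomogeneousLocalization.val_injective
    rw [Away.val_mk, gen_val, Localization.mk_eq_mk_iff, Localization.r_iff_exists]
    exact ⟨1, by simp [pow_add]; ring⟩
  | zero =>
    refine ⟨zero_mem _, ?_⟩
    convert h0 using 1
    exact HomogeneousLocalization.val_injective _ (by simp [Localization.mk_zero])
  | add a b _ _ ha hb =>
    obtain ⟨ha, pa⟩ := ha
    obtain ⟨hb, pb⟩ := hb
    refine ⟨add_mem ha hb, ?_⟩
    convert hadd _ _ pa pb using 1
    exact HomogeneousLocalization.val_injective _ (by simp [Localization.add_mk_self])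
  | neg a _ ha =>
    obtain ⟨ha, pa⟩ := ha
    refine ⟨neg_mem ha, ?_⟩
    convert hneg _ pa using 1
    exact HomogeneousLocalization.val_injective _ (by simp [Localization.neg_mk])

theorem hom_ext {C : Type u} [AddCommGroup C] (f g : Away ℬ z →+ C)
    (h : ∀ i x (hx : x ∈ 𝒜 i), f (gen ι hι z hz i x hx) = g (gen ι hι z hz i x hx)) (q : Away ℬ z) : f q = g q := by
  refine away_induction ι hι z hz hsurj (P := fun q => f q = g q) ?_ ?_ ?_ h q
  · rw [map_zero, map_zero]
  · intro a b ha hb; rw [map_add, map_add, ha, hb]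
  · intro a ha; rw [map_neg, map_neg, ha]

variable (θ : Away ℬ z →+* A) (hθ : ∀ i x (hx : x ∈ 𝒜 i), θ (gen ι hι z hz i x hx) = x)

include hθ

theorem bijective : Function.Bijective θ := by
  classical
  let ψ₀ : (DirectSum ℕ fun i => 𝒜 i) →+ Away ℬ z := DirectSum.toAddMonoid fun i =>
    { toFun := fun x => gen ι hι z hz i x x.2
      map_zero' := HomogeneousLocalization.val_injective _ (by simp [gen, Localization.mk_zero])
      map_add' := fun a b => HomogeneousLocalization.val_injective _ (by simp [gen, Localization.add_mk_self]) }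
  let ψ : A →+ Away ℬ z := ψ₀.comp (DirectSum.decomposeAddEquiv 𝒜).toAddMonoidHom
  have hψ : ∀ i x (hx : x ∈ 𝒜 i), ψ x = gen ι hι z hz i x hx := fun i x hx => by
    show ψ₀ (DirectSum.decompose 𝒜 x) = _
    rw [DirectSum.decompose_of_mem 𝒜 hx, DirectSum.toAddMonoid_of]
    rfl
  have h1 : ∀ q, ψ (θ q) = q := fun q => hom_ext ι hι z hz hsurj (ψ.comp θ.toAddMonoidHom) (AddMonoidHom.id _)
    (fun i x hx => by
      show ψ (θ (gen ι hι z hz i x hx)) = _
      rw [hθ i x hx, hψ i x hx]
      rfl) q
  refine ⟨fun a b hab => by rw [← h1 a, hab, h1 b], fun a => ⟨ψ a, ?_⟩⟩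
  conv_lhs => rw [← DirectSum.sum_support_decompose 𝒜 a, map_sum, map_sum]
  conv_rhs => rw [← DirectSum.sum_support_decompose 𝒜 a]
  exact Finset.sum_congr rfl fun i _ => by rw [hψ i _ (SetLike.coe_mem _), hθ]

end

theorem mem_nonZeroDivisors (hbij : Function.Bijective (Polynomial.eval₂RingHom ι z)) : z ∈ nonZeroDivisors B := by
  rw [mem_nonZeroDivisors_iff_right]
  intro b hb
  obtain ⟨p, rfl⟩ := hbij.2 b
  have h : Polynomial.eval₂RingHom ι z (p * X) = Polynomial.eval₂RingHom ι z 0 := by
    rw [map_mul, map_zero, Polynomial.coe_eval₂RingHom, Polynomial.eval₂_X]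
    exact hb
  have hp := hbij.1 h
  have hp0 : p = 0 := Polynomial.ext fun n => by
    rw [← Polynomial.coeff_mul_X p n, hp]
    rfl
  rw [hp0, map_zero]

/-- The grading concentrated in degree zero. -/
def trivGrading (A : Type u) [CommRing A] (n : ℕ) : AddSubgroup A := if n = 0 then ⊤ else ⊥

theorem trivGrading_eq_zero (A : Type u) [CommRing A] {n : ℕ} {x : A} (hx : x ∈ trivGrading A n) (hn : n ≠ 0) :
    x = 0 := by
  simpa [trivGrading, hn] using hx

theorem mem_trivGrading_zero (A : Type u) [CommRing A] (x : A) : x ∈ trivGrading A 0 := by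
  simp [trivGrading]

instance gradedMonoid_trivGrading (A : Type u) [CommRing A] : SetLike.GradedMonoid (trivGrading A) where
  one_mem := mem_trivGrading_zero A 1
  mul_mem {i j a b} ha hb := by
    by_cases hi : i = 0
    · subst hi
      by_cases hj : j = 0
      · subst hj; exact mem_trivGrading_zero A _
      · rw [trivGrading_eq_zero A hb hj, mul_zero]; exact zero_mem _
    · rw [trivGrading_eq_zero A ha hi, zero_mul]; exact zero_mem _

instance decomposition_trivGrading (A : Type u) [CommRing A] : DirectSum.Decomposition (trivGrading A) where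
  decompose' x := DirectSum.of (fun i => trivGrading A i) 0 ⟨x, mem_trivGrading_zero A x⟩
  left_inv x := DirectSum.coeAddMonoidHom_of _ _ _
  right_inv d := by
    induction d using DirectSum.induction_on with
    | zero =>
      simp only [map_zero]
      exact (congrArg (DirectSum.of (fun i => trivGrading A i) 0) (Subtype.ext rfl : (⟨0, _⟩ : trivGrading A 0) = 0)).trans
        (map_zero _)
    | of i x =>
      rcases eq_or_ne i 0 with rfl | hi
      · exact congrArg _ (Subtype.ext (DirectSum.coeAddMonoidHom_of _ _ _))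
      · have hx : x = 0 := Subtype.ext (trivGrading_eq_zero A x.2 hi)
        subst hx
        simp only [map_zero]
        exact (congrArg (DirectSum.of (fun i => trivGrading A i) 0) (Subtype.ext rfl : (⟨0, _⟩ : trivGrading A 0) = 0)).trans
          (map_zero _)
    | add a b ha hb =>
      conv_rhs => rw [← ha, ← hb, ← map_add]
      exact congrArg _ (Subtype.ext (map_add _ _ _))

instance gradedRing_trivGrading (A : Type u) [CommRing A] : GradedRing (trivGrading A) :=
  { gradedMonoid_trivGrading A, decomposition_trivGrading A with }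

end Groth.L18.ConeAlg
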