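import Groth.Agent.S8304
import Groth.Agent.L18.PBundle.Segre
import Groth.Agent.L18.PBundle.BundleIso
import Groth.Agent.L18.PBundle.UPExist
import Groth.Agent.L18.PBundle.SymMap
import Groth.Agent.L18.ProjConeInfinity
import Groth.Agent.L18.SymInvertible
import Groth.Agent.L12.FinCov.Basis
import Groth.Agent.L03.ShStab.PreHom
import Groth.Agent.L16.HomSh.Adjunction
import Groth.Agent.L18.AmplePull
import Groth.Agent.L19.ProjBdl.Points

/-!
The projective closures of a line bundle and of its dual are isomorphic, exchanging zero section and infinity.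
-/

set_option autoImplicit false
set_option linter.style.haveILetI false
set_option backward.isDefEq.respectTransparency.types false
set_option backward.isDefEq.respectTransparency false

universe u

open CategoryTheory CategoryTheory.Limits AlgebraicGeometry TopologicalSpace Opposite
open scoped HomogeneousIdeal
open Groth.L18
open Groth.L18.Frame (rs ro rs_rs rs_self rs_smul IsFrame pull pull_rs pull_smul isUnit_of_isFrame)
open Groth.L18.GenLoc (tens tens_rs tens_smul_left tens_smul_right isFrame_tens)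
open Groth.L18.PBundle (el dom dom_le sec Sol IsTaut)
open Groth.L19.ProjBdl (one1 isFrame_one1 smul_one1 rs_one1 app_rs isFrame_of_iso)

noncomputable section

namespace Groth.L18.ConeExchange

variable {Y PC : Scheme.{u}} {L : Y.Modules} {𝒮 𝒮h : RelProj.QCGrAlg Y} {j : L ⟶ 𝒮.toModule}
  {ι : 𝒮.toQCAlg ⟶ 𝒮h.toQCAlg} {z : 𝒮h.presheaf.obj (op ⊤)}
  {pC : PC ⟶ Y}
  {chartC : ∀ (U : Y.Opens) (hU : IsAffineOpen U), (((pC ⁻¹ᵁ U : PC.Opens) : Scheme.{u}) ≅ Proj (𝒮h.deg U hU))}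

/-- The section `z` as a map. -/
def kz (z : 𝒮h.presheaf.obj (op ⊤)) : Coh.structureModule Y ⟶ 𝒮h.toModule :=
  Groth.L16.homOfSection 𝒮h.toModule (show Γ(𝒮h.toModule, ⊤) from z)

theorem kz_one (U : Y.Opens) : (kz z).app U (1 : Γ(Y, U)) = RelCone.restrictTop 𝒮h z U :=
  one_smul Γ(Y, U) (show Γ(𝒮h.toModule, U) from RelCone.restrictTop 𝒮h z U)

/-- The generators of the homogeneous coordinates of the projective closure. -/
def jz (j : L ⟶ 𝒮.toModule) (ι : 𝒮.toQCAlg ⟶ 𝒮h.toQCAlg) (z : 𝒮h.presheaf.obj (op ⊤)) :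
    L ⊞ Coh.structureModule Y ⟶ 𝒮h.toModule :=
  biprod.desc (j ≫ RelSpec.QCAlg.Hom.toModuleMap ι) (kz z)

theorem isGrSymAlg_jz (hL : Coh.IsQCoh L) (hS : RelProj.IsGrSymAlg L 𝒮 j) (hz : RelCone.IsPolyOver 𝒮 𝒮h ι z) :
    RelProj.IsGrSymAlg (L ⊞ Coh.structureModule Y) 𝒮h (jz j ι z) :=
  Groth.Agent.S8304.result L hL 𝒮 𝒮h j hS ι z hz (kz z) kz_one

theorem el_inl (U : Y.Opens) (l : Γ(L, U)) :
    el (jz j ι z) ((biprod.inl : L ⟶ L ⊞ Coh.structureModule Y).app U l) = (ι.hom.app (op U)).hom (j.app U l) :=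
  congr($(biprod.inl_desc (j ≫ RelSpec.QCAlg.Hom.toModuleMap ι) (kz z)).app U l)

theorem el_inr (U : Y.Opens) :
    el (jz j ι z) ((biprod.inr : Coh.structureModule Y ⟶ L ⊞ Coh.structureModule Y).app U (one1 Y U)) =
      RelCone.restrictTop 𝒮h z U :=
  (congr($(biprod.inr_desc (j ≫ RelSpec.QCAlg.Hom.toModuleMap ι) (kz z)).app U (one1 Y U))).trans (kz_one U)

theorem mem_dom_emb {E : Y.Modules} {k : E ⟶ 𝒮h.toModule} (U : Y.Opens) (hU : IsAffineOpen U) (x : Γ(E, U))
    (v : Proj (𝒮h.deg U hU)) :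
    (RelProj.emb pC chartC U hU).base v ∈ dom chartC k U hU x ↔ el k x ∉ v.asHomogeneousIdeal := by
  constructor
  · rintro ⟨w, hw, e⟩
    rw [(RelProj.emb pC chartC U hU).isOpenEmbedding.injective e] at hw
    exact (Proj.mem_basicOpen _ _ _).1 hw
  · exact fun h => ⟨v, (Proj.mem_basicOpen _ _ _).2 h, rfl⟩

section Loci

variable {hz : RelCone.IsPolyOver 𝒮 𝒮h ι z} (hPC : RelProj.IsRelProj 𝒮h pC chartC)
  {i : 𝒮.toQCAlg.spec ⟶ PC} (hi : RelCone.IsConeImm 𝒮 hz pC chartC i)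

include hPC hi

theorem mem_range_iff_dom {U : Y.Opens} (hU : IsAffineOpen U) (x : PC) (hx : x ∈ pC ⁻¹ᵁ U) :
    x ∈ Set.range i.base ↔
      x ∈ dom chartC (jz j ι z) U hU ((biprod.inr : Coh.structureModule Y ⟶ L ⊞ Coh.structureModule Y).app U (one1 Y U)) := by
  obtain ⟨v, rfl⟩ : ∃ v, (RelProj.emb pC chartC U hU).base v = x := ⟨_, PConeImm.emb_chart pC chartC U hU ⟨x, hx⟩⟩
  rw [mem_dom_emb, el_inr, PConeImm.mem_range_iff (PConeImm.data_of_polyOver hz) hPC (fun U hU => hi U hU) U hU v]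

theorem domOpen_iff (h0 : RelCone.StrZeroBij 𝒮) {aug : 𝒮.toQCAlg ⟶ RelSpec.QCAlg.unit Y}
    (haug : RelCone.IsAugmentation 𝒮 aug) {ε : Y ⟶ 𝒮.toQCAlg.spec} (hε : RelCone.IsVertex 𝒮 aug ε)
    (U : Y.Opens) (hU : IsAffineOpen U) (v : Proj (𝒮h.deg U hU)) :
    v ∈ RelCone.domOpen (RelProj.gradedHomAt ι hz.graded U hU) ↔
      (RelProj.emb pC chartC U hU).base v ∉ Set.range (ε ≫ i).base := by
  have D := PConeImm.data_of_polyOver hz
  have hi' : ∀ (U : Y.Opens) (hU : IsAffineOpen U),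
      𝒮.toQCAlg.ι U hU ≫ i = PConeImm.chartMap D PC pC chartC U hU := fun U hU => hi U hU
  haveI := PConeImm.isOpenImmersion D hPC hi'
  rw [RelCone.mem_domOpen]
  by_cases hv : (𝒮h.presheaf.map (homOfLE le_top).op).hom z ∈ v.asHomogeneousIdeal
  · refine iff_of_true (PConeImm.exists_not_mem_of_z_mem (RelProj.gradedHomAt ι hz.graded U hU) _ (hz.deg_z U hU)
      (hz.bij U hU).2 v hv) ?_
    rintro ⟨y, hy⟩
    exact (PConeImm.mem_range_iff D hPC hi' U hU v).mp ⟨ε.base y, by rw [← hy]; rfl⟩ hv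
  · obtain ⟨y, hy⟩ := (PConeImm.mem_range_iff D hPC hi' U hU v).mpr hv
    obtain ⟨w, rfl, hwv⟩ := PConeImm.exists_point_of_mem D hPC hi' U hU v y hy
    have h1 : (RelProj.emb pC chartC U hU).base v ∈ Set.range (ε ≫ i).base ↔
        (𝒮.toQCAlg.ι U hU).base w ∈ Set.range ε.base := by
      constructor
      · rintro ⟨s, hs⟩
        exact ⟨s, i.isOpenEmbedding.injective ((hs.trans hy.symm))⟩
      · rintro ⟨s, hs⟩
        exact ⟨s, (congrArg i.base hs).trans hy⟩
    rw [h1, Cone.preimage_range_vertex h0 haug hε U hU w, not_not]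
    have h2 : w ∈ RelCone.vertexCompl (𝒮.deg U hU) ↔
        ∃ f ∈ (HomogeneousIdeal.irrelevant (𝒮.deg U hU)).toIdeal, f ∉ w.asIdeal :=
      Set.not_subset
    rw [h2, PConeImm.exists_homogeneous_not_mem (𝒜 := 𝒮.deg U hU) (p := w.asIdeal)]
    subst hwv
    refine Iff.trans (PConeImm.exists_homogeneous_not_mem (p := Ideal.comap (RelProj.gradedHomAt ι hz.graded U hU)
      ((Proj.awayι (𝒮h.deg U hU) _ (D.deg_z U hU) one_pos).base
        ((Spec.map (CommRingCat.ofHom (hz.awayZToBase U hU))).base w)).asHomogeneousIdeal.toIdeal)) ?_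
    exact exists_congr fun n => and_congr_right fun hn => exists_congr fun f => and_congr_right fun hf =>
      PConeImm.ι_mem_iff D hPC hi' U hU w n hn f hf

theorem not_mem_vertex_iff_dom (hLq : Coh.IsQCoh L) (hS : RelProj.IsGrSymAlg L 𝒮 j) (h0 : RelCone.StrZeroBij 𝒮)
    {aug : 𝒮.toQCAlg ⟶ RelSpec.QCAlg.unit Y}
    (haug : RelCone.IsAugmentation 𝒮 aug) {ε : Y ⟶ 𝒮.toQCAlg.spec} (hε : RelCone.IsVertex 𝒮 aug ε)
    {U : Y.Opens} (hU : IsAffineOpen U) {e : Γ(L, U)} (he : IsFrame L U e) (x : PC) (hx : x ∈ pC ⁻¹ᵁ U) :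
    x ∉ Set.range (ε ≫ i).base ↔
      x ∈ dom chartC (jz j ι z) U hU ((biprod.inl : L ⟶ L ⊞ Coh.structureModule Y).app U e) := by
  haveI := hLq
  obtain ⟨v, rfl⟩ : ∃ v, (RelProj.emb pC chartC U hU).base v = x := ⟨_, PConeImm.emb_chart pC chartC U hU ⟨x, hx⟩⟩
  rw [mem_dom_emb, el_inl, ← domOpen_iff hPC hi h0 haug hε U hU v, RelCone.mem_domOpen]
  constructor
  · rintro ⟨f, hf, hfv⟩ h
    obtain ⟨c, rfl⟩ := Ideal.mem_span_singleton.1 (SymInv.irrelevant_le_span hS hU he hf)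
    refine hfv ?_
    show RelProj.gradedHomAt ι hz.graded U hU (SymInv.gen j e * c) ∈ v.asHomogeneousIdeal
    rw [map_mul]
    exact v.asHomogeneousIdeal.toIdeal.mul_mem_right _ h
  · exact fun h => ⟨j.app U e, HomogeneousIdeal.mem_irrelevant_of_mem (𝒮.deg U hU) one_pos (hS.2 U hU e), h⟩

end Loci

section Exchange

variable {L' : Y.Modules}

theorem exists_duals (hL : PicF.IsInvertible L) (hL' : PicF.IsInvertible L')
    (θ₀ : CohB1.tensorMod L L' ≅ Coh.structureModule Y) (y : Y) :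
    ∃ (U : Y.Opens) (_ : IsAffineOpen U) (e : Γ(L, U)) (e' : Γ(L', U)), y ∈ U ∧ IsFrame L U e ∧ IsFrame L' U e' ∧
      θ₀.hom.app U (tens L L' U e e') = one1 Y U := by
  obtain ⟨W, e₀, hyW, he₀⟩ := Groth.L18.Frame.exists_frame hL y
  obtain ⟨W', e₁, hyW', he₁⟩ := Groth.L18.Frame.exists_frame hL' y
  obtain ⟨U, hU, hyU, hle⟩ := exists_isAffineOpen_mem_and_subset (x := y) (U := W ⊓ W') ⟨hyW, hyW'⟩
  have he := he₀.mono (fun x hx => (hle hx).1 : U ≤ W)
  have he' := he₁.mono (fun x hx => (hle hx).2 : U ≤ W')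
  set e := rs L (fun x hx => (hle hx).1 : U ≤ W) e₀
  set e'' := rs L' (fun x hx => (hle hx).2 : U ≤ W') e₁
  have hc : IsFrame (Coh.structureModule Y) U (θ₀.hom.app U (tens L L' U e e'')) :=
    isFrame_of_iso θ₀ (isFrame_tens he he')
  set c : Γ(Y, U) := (show Γ(Y, U) from θ₀.hom.app U (tens L L' U e e'')) with hcdef
  have hu : IsUnit c := isUnit_of_isFrame (isFrame_one1 U) (a := c) (by rw [smul_one1]; exact hc)
  refine ⟨U, hU, e, (↑hu.unit⁻¹ : Γ(Y, U)) • e'', hyU, he, he'.smul_unit (Units.isUnit _), ?_⟩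
  rw [tens_smul_right, Scheme.Modules.Hom.app_smul]
  exact IsUnit.val_inv_mul hu

variable {PC' : Scheme.{u}} {𝒮' 𝒮h' : RelProj.QCGrAlg Y} {j' : L' ⟶ 𝒮'.toModule}
  {ι' : 𝒮'.toQCAlg ⟶ 𝒮h'.toQCAlg} {z' : 𝒮h'.presheaf.obj (op ⊤)} {pC' : PC' ⟶ Y}
  {chartC' : ∀ (U : Y.Opens) (hU : IsAffineOpen U), (((pC' ⁻¹ᵁ U : PC'.Opens) : Scheme.{u}) ≅ Proj (𝒮h'.deg U hU))}

theorem exists_exchange (hL : PicF.IsInvertible L) (hL' : PicF.IsInvertible L') (hLq : Coh.IsQCoh L)
    (hL'q : Coh.IsQCoh L') (θ₀ : CohB1.tensorMod L L' ≅ Coh.structureModule Y)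
    (hS : RelProj.IsGrSymAlg L 𝒮 j) (h0 : RelCone.StrZeroBij 𝒮) (hz : RelCone.IsPolyOver 𝒮 𝒮h ι z)
    (hPC : RelProj.IsRelProj 𝒮h pC chartC)
    {aug : 𝒮.toQCAlg ⟶ RelSpec.QCAlg.unit Y} (haug : RelCone.IsAugmentation 𝒮 aug)
    {ε : Y ⟶ 𝒮.toQCAlg.spec} (hε : RelCone.IsVertex 𝒮 aug ε)
    {i : 𝒮.toQCAlg.spec ⟶ PC} (hi : RelCone.IsConeImm 𝒮 hz pC chartC i)
    (hS' : RelProj.IsGrSymAlg L' 𝒮' j') (h0' : RelCone.StrZeroBij 𝒮') (hz' : RelCone.IsPolyOver 𝒮' 𝒮h' ι' z')
    (hPC' : RelProj.IsRelProj 𝒮h' pC' chartC')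
    {aug' : 𝒮'.toQCAlg ⟶ RelSpec.QCAlg.unit Y} (haug' : RelCone.IsAugmentation 𝒮' aug')
    {ε' : Y ⟶ 𝒮'.toQCAlg.spec} (hε' : RelCone.IsVertex 𝒮' aug' ε')
    {i' : 𝒮'.toQCAlg.spec ⟶ PC'} (hi' : RelCone.IsConeImm 𝒮' hz' pC' chartC' i') :
    ∃ Φ : PC ≅ PC', Φ.hom ≫ pC' = pC ∧
      Φ.hom.base '' Set.range (ε ≫ i).base = (Set.range i'.base)ᶜ ∧
        Φ.hom.base '' (Set.range i.base)ᶜ = Set.range (ε' ≫ i').base := by
  haveI := hLq
  haveI := hL'q
  have hO : Coh.IsQCoh (Coh.structureModule Y) :=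
    Groth.L21.Extend.isQCoh_of_isInvertible (Groth.L18.GenLoc.isInvertible_of_frames
      fun _ => ⟨⊤, _, trivial, isFrame_one1 ⊤⟩)
  haveI := hO
  have hE : Coh.IsQCoh (L ⊞ Coh.structureModule Y) := Groth.L17.QCohExtension.isQCoh_extension
    (ShortComplex.mk biprod.inl biprod.snd (by simp))
    (ShortComplex.Splitting.shortExact
      { r := biprod.fst, s := biprod.inr, f_r := biprod.inl_fst, s_g := biprod.inr_snd, id := biprod.total })
    hLq hO
  have hF : Coh.IsQCoh (L' ⊞ Coh.structureModule Y) := Groth.L17.QCohExtension.isQCoh_extension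
    (ShortComplex.mk biprod.inl biprod.snd (by simp))
    (ShortComplex.Splitting.shortExact
      { r := biprod.fst, s := biprod.inr, f_r := biprod.inl_fst, s_g := biprod.inr_snd, id := biprod.total })
    hL'q hO
  have hj := isGrSymAlg_jz hLq hS hz
  have hk := isGrSymAlg_jz hL'q hS' hz'
  obtain ⟨O1, lam, hO1⟩ := PBundle.exists_twist hPC 1
  obtain ⟨OQ, lamQ, hOQ⟩ := PBundle.exists_twist hPC' 1
  obtain ⟨φ, hφ⟩ := PBundle.exists_taut hj hPC hE hO1
  obtain ⟨φQ, hφQ⟩ := PBundle.exists_taut hk hPC' hF hOQ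
  have hO1inv := RelTilde.isInvertible_of_genDegOne (PBundle.isGenDegOne_of_isGrSymAlg hE hj) hO1
  have hpL' := Groth.L18.Ample.isInvertible_pullback pC hL'
  let M := CohB1.tensorMod O1 ((Scheme.Modules.pullback pC).obj L')
  let Q : ∀ U : Y.Opens, Γ(L ⊞ Coh.structureModule Y, U) := fun U =>
    (biprod.inr : Coh.structureModule Y ⟶ L ⊞ Coh.structureModule Y).app U (one1 Y U)
  let T : ∀ (U : Y.Opens), Γ(L ⊞ Coh.structureModule Y, U) → Γ(L', U) → Γ((Scheme.Modules.pushforward pC).obj M, U) :=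
    fun U x l' => tens O1 _ (pC ⁻¹ᵁ U) (φ.app U x) (pull pC L' U l')
  have hTadd₁ : ∀ U x x' l', T U (x + x') l' = T U x l' + T U x' l' := fun U x x' l' => by
    show tens O1 _ _ (φ.app U (x + x')) _ = _
    rw [map_add]
    exact PBundle.tens_add_left' _ _ _
  have hTadd₂ : ∀ U x l₁ l₂, T U x (l₁ + l₂) = T U x l₁ + T U x l₂ := fun U x l₁ l₂ => by
    show tens O1 _ _ _ (pull pC L' U (l₁ + l₂)) = _
    rw [show pull pC L' U (l₁ + l₂) = pull pC L' U l₁ + pull pC L' U l₂ from map_add _ _ _]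
    exact Groth.L00.Tensor.ev_add₂ (Groth.L00.Tensor.unit _) (op (pC ⁻¹ᵁ U)) _ _ _
  have hTsmul₁ : ∀ U (c : Γ(Y, U)) x l', T U (c • x) l' = c • T U x l' := fun U c x l' => by
    show tens O1 _ _ (φ.app U (c • x)) _ = _
    rw [Scheme.Modules.Hom.app_smul]
    exact tens_smul_left (pC.app U c) (φ.app U x) (pull pC L' U l')
  have hTsmul₂ : ∀ U (c : Γ(Y, U)) x l', T U x (c • l') = c • T U x l' := fun U c x l' => by
    show tens O1 _ _ _ (pull pC L' U (c • l')) = _
    rw [pull_smul]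
    exact tens_smul_right _ _ _
  have hTrs : ∀ {U V : Y.Opens} (h : V ≤ U) x l',
      rs M (pC.preimage_mono h) (T U x l') = T V (rs _ h x) (rs L' h l') := fun {U V} h x l' => by
    show _ = tens O1 _ _ (φ.app V (rs _ h x)) (pull pC L' V (rs L' h l'))
    rw [← pull_rs, app_rs]
    exact tens_rs _ _ _
  have hQrs : ∀ {U V : Y.Opens} (h : V ≤ U), rs _ h (Q U) = Q V := fun {U V} h => by
    show rs _ h ((biprod.inr : Coh.structureModule Y ⟶ L ⊞ Coh.structureModule Y).app U (one1 Y U)) = _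
    rw [← app_rs, rs_one1]
  let w₁ : L' ⟶ (Scheme.Modules.pushforward pC).obj M :=
    Groth.L12.FinCov.mkHom (fun U l' => T U (Q U) l') (fun U a b => hTadd₂ U _ a b)
      (fun U c l' => hTsmul₂ U c _ l')
      (fun U V h l' => by
        show T V (Q V) (rs L' h l') = rs M (pC.preimage_mono h) (T U (Q U) l')
        rw [hTrs h, hQrs h])
  obtain ⟨ψ, hψ⟩ := Groth.L03.ShStab.PreHom.exists_hom_tensor L L' ((Scheme.Modules.pushforward pC).obj M)
    (fun U => LinearMap.mk₂ _ (fun l l' => T U.1 ((biprod.inl : L ⟶ L ⊞ Coh.structureModule Y).app U.1 l) l')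
      (fun l₁ l₂ l' => by rw [map_add, hTadd₁])
      (fun c l l' => by rw [Scheme.Modules.Hom.app_smul, hTsmul₁])
      (fun l l₁ l₂ => hTadd₂ _ _ _ _) (fun c l l' => hTsmul₂ _ _ _ _))
    (fun U V h l l' => by
      show rs M (pC.preimage_mono h) (T U.1 _ l') = T V.1 _ _
      rw [hTrs h, ← app_rs])
  let w : L' ⊞ Coh.structureModule Y ⟶ (Scheme.Modules.pushforward pC).obj M := biprod.desc w₁ (θ₀.inv ≫ ψ)
  -- on a chart with dual frames
  have local_data : ∀ (U : Y.Opens) (hU : IsAffineOpen U) (e : Γ(L, U)) (e' : Γ(L', U)), IsFrame L U e →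
      IsFrame L' U e' → θ₀.hom.app U (tens L L' U e e') = one1 Y U →
      ∃ f : Γ(L ⊞ Coh.structureModule Y, U) →ₗ[Γ(Y, U)] Γ(L' ⊞ Coh.structureModule Y, U),
        Function.Surjective f ∧ (∀ x, w.app U (f x) = T U x e') ∧
        f (Q U) = (biprod.inl : L' ⟶ L' ⊞ Coh.structureModule Y).app U e' ∧
        f ((biprod.inl : L ⟶ L ⊞ Coh.structureModule Y).app U e) =
          (biprod.inr : Coh.structureModule Y ⟶ L' ⊞ Coh.structureModule Y).app U (one1 Y U) := by
    intro U hU e e' he he' hee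
    let xe := (biprod.inl : L ⟶ L ⊞ Coh.structureModule Y).app U e
    let u' := (biprod.inr : Coh.structureModule Y ⟶ L' ⊞ Coh.structureModule Y).app U (one1 Y U)
    let le' := (biprod.inl : L' ⟶ L' ⊞ Coh.structureModule Y).app U e'
    let A : Γ(L ⊞ Coh.structureModule Y, U) → Γ(Y, U) := fun x =>
      θ₀.hom.app U (tens L L' U ((biprod.fst : L ⊞ Coh.structureModule Y ⟶ L).app U x) e')
    let C : Γ(L ⊞ Coh.structureModule Y, U) → Γ(Y, U) := fun x =>
      (biprod.snd : L ⊞ Coh.structureModule Y ⟶ Coh.structureModule Y).app U x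
    have hA1 : ∀ x y, A (x + y) = A x + A y := fun x y => by
      show θ₀.hom.app U (tens L L' U ((biprod.fst : L ⊞ Coh.structureModule Y ⟶ L).app U (x + y)) e') = _
      rw [map_add, PBundle.tens_add_left', map_add]
    have hA2 : ∀ (c : Γ(Y, U)) x, A (c • x) = c * A x := fun c x => by
      show θ₀.hom.app U (tens L L' U ((biprod.fst : L ⊞ Coh.structureModule Y ⟶ L).app U (c • x)) e') = _
      rw [Scheme.Modules.Hom.app_smul, tens_smul_left, Scheme.Modules.Hom.app_smul]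
      rfl
    have hC1 : ∀ x y, C (x + y) = C x + C y := fun x y =>
      map_add ((biprod.snd : L ⊞ Coh.structureModule Y ⟶ Coh.structureModule Y).app U).hom x y
    have hC2 : ∀ (c : Γ(Y, U)) x, C (c • x) = c * C x := fun c x =>
      Scheme.Modules.Hom.app_smul (biprod.snd : L ⊞ Coh.structureModule Y ⟶ Coh.structureModule Y) c x
    let f : Γ(L ⊞ Coh.structureModule Y, U) →ₗ[Γ(Y, U)] Γ(L' ⊞ Coh.structureModule Y, U) :=
      { toFun := fun x => A x • u' + C x • le'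
        map_add' := fun x y => by rw [hA1, hC1, add_smul, add_smul]; abel
        map_smul' := fun c x => by rw [hA2, hC2, mul_smul, mul_smul, RingHom.id_apply, smul_add] }
    have e1 : (biprod.fst : L ⊞ Coh.structureModule Y ⟶ L).app U xe = e :=
      congr($(biprod.inl_fst (X := L) (Y := Coh.structureModule Y)).app U e)
    have e2 : (biprod.snd : L ⊞ Coh.structureModule Y ⟶ Coh.structureModule Y).app U xe = 0 :=
      congr($(biprod.inl_snd (X := L) (Y := Coh.structureModule Y)).app U e)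
    have e3 : (biprod.fst : L ⊞ Coh.structureModule Y ⟶ L).app U (Q U) = 0 :=
      congr($(biprod.inr_fst (X := L) (Y := Coh.structureModule Y)).app U (one1 Y U))
    have e4 : (biprod.snd : L ⊞ Coh.structureModule Y ⟶ Coh.structureModule Y).app U (Q U) = one1 Y U :=
      congr($(biprod.inr_snd (X := L) (Y := Coh.structureModule Y)).app U (one1 Y U))
    have hAe : A xe = 1 := by
      show θ₀.hom.app U (tens L L' U ((biprod.fst : L ⊞ Coh.structureModule Y ⟶ L).app U xe) e') = _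
      rw [e1, hee]
      rfl
    have hCe : C xe = 0 := e2
    have hAQ : A (Q U) = 0 := by
      show θ₀.hom.app U (tens L L' U ((biprod.fst : L ⊞ Coh.structureModule Y ⟶ L).app U (Q U)) e') = _
      rw [e3, Groth.L19.ProjBdl.tens_zero_left, map_zero]
    have hCQ : C (Q U) = 1 := e4
    have hdec : ∀ x, x = A x • xe + C x • Q U := fun x => by
      obtain ⟨a, ha⟩ := he.exists_coeff le_rfl ((biprod.fst : L ⊞ Coh.structureModule Y ⟶ L).app U x)
      rw [rs_self] at ha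
      have hAa : A x = a := by
        show θ₀.hom.app U (tens L L' U ((biprod.fst : L ⊞ Coh.structureModule Y ⟶ L).app U x) e') = _
        rw [← ha, tens_smul_left, Scheme.Modules.Hom.app_smul, hee]
        exact smul_one1 a
      have hC : C x • Q U = (biprod.inr : Coh.structureModule Y ⟶ L ⊞ Coh.structureModule Y).app U
          ((biprod.snd : L ⊞ Coh.structureModule Y ⟶ Coh.structureModule Y).app U x) := by
        show C x • (biprod.inr : Coh.structureModule Y ⟶ L ⊞ Coh.structureModule Y).app U (one1 Y U) = _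
        rw [← Scheme.Modules.Hom.app_smul, smul_one1]
      rw [hAa, hC, show a • xe = (biprod.inl : L ⟶ L ⊞ Coh.structureModule Y).app U
        ((biprod.fst : L ⊞ Coh.structureModule Y ⟶ L).app U x) by
          rw [← ha, Scheme.Modules.Hom.app_smul]]
      exact (Groth.L16.SymBiprod.biprod_app_total U x).symm
    have hfQ : f (Q U) = le' := by
      show A (Q U) • u' + C (Q U) • le' = _
      rw [hAQ, hCQ, zero_smul, one_smul, zero_add]
    have hfe : f xe = u' := by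
      show A xe • u' + C xe • le' = _
      rw [hAe, hCe, zero_smul, one_smul, add_zero]
    have hwl : w.app U le' = T U (Q U) e' :=
      congr($(biprod.inl_desc w₁ (θ₀.inv ≫ ψ)).app U e')
    have hwu : w.app U u' = T U xe e' := by
      refine (congr($(biprod.inr_desc w₁ (θ₀.inv ≫ ψ)).app U (one1 Y U))).trans ?_
      show ψ.app U (θ₀.inv.app U (one1 Y U)) = _
      rw [show θ₀.inv.app U (one1 Y U) = tens L L' U e e' by
        rw [← hee]
        exact congr($(θ₀.hom_inv_id).app U (tens L L' U e e'))]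
      exact hψ ⟨U, hU⟩ e e'
    refine ⟨f, fun y => ?_, fun x => ?_, hfQ, hfe⟩
    · obtain ⟨a, ha⟩ := he'.exists_coeff le_rfl ((biprod.fst : L' ⊞ Coh.structureModule Y ⟶ L').app U y)
      rw [rs_self] at ha
      refine ⟨(show Γ(Y, U) from (biprod.snd : L' ⊞ Coh.structureModule Y ⟶ Coh.structureModule Y).app U y) • xe +
        a • Q U, ?_⟩
      rw [map_add, map_smul, map_smul, hfe, hfQ]
      conv_rhs => rw [← Groth.L16.SymBiprod.biprod_app_total U y, ← ha]
      rw [add_comm, ← Scheme.Modules.Hom.app_smul, ← Scheme.Modules.Hom.app_smul, smul_one1]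
    · conv_rhs => rw [hdec x]
      rw [hTadd₁, hTsmul₁, hTsmul₁, ← hwu, ← hwl]
      show w.app U (A x • u' + C x • le') = _
      rw [map_add, Scheme.Modules.Hom.app_smul, Scheme.Modules.Hom.app_smul]
  -- the quotient and the morphism
  have hfr : ∀ (U : Y.Opens) (hU : IsAffineOpen U) (x : Γ(L ⊞ Coh.structureModule Y, U)) (e' : Γ(L', U)),
      IsFrame L' U e' → IsFrame M (dom chartC (jz j ι z) U hU x)
        (rs M (dom_le chartC (jz j ι z) U hU x) (T U x e')) := fun U hU x e' he' => by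
    show IsFrame M _ (rs M _ (tens O1 _ _ (φ.app U x) (pull pC L' U e')))
    rw [tens_rs]
    exact isFrame_tens (PBundle.isFrame_dom hj hO1 hφ hU x)
      ((he'.pullback pC L').mono (dom_le chartC (jz j ι z) U hU x))
  have hepi : Epi (PBundle.adjHom w) := PBundle.epi_adjHom_of_gen w fun x => by
    obtain ⟨U, hU, e, e', hy, he, he', hee⟩ := exists_duals hL hL' θ₀ (pC x)
    obtain ⟨f, -, hwf, -, -⟩ := local_data U hU e e' he he' hee
    obtain ⟨x₀, hx₀⟩ := PBundle.exists_mem_dom (chart := chartC) hj hU hE (z := x) hy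
    refine ⟨U, f x₀, _, dom_le chartC (jz j ι z) U hU x₀, hx₀, ?_⟩
    rw [hwf]
    exact hfr U hU x₀ e' he'
  obtain ⟨r, hr, hsol'⟩ := PBundle.exists_morphism hk hF hPC' hOQ hφQ
    (GenLoc.isInvertible_tensor hO1inv hpL') (PBundle.adjHom w) hepi
  have hsol : Sol φQ r hr w := by
    rwa [PBundle.adjSec, PBundle.adjHom, Equiv.apply_symm_apply] at hsol'
  have hpre : ∀ (U : Y.Opens) (hU : IsAffineOpen U) (e : Γ(L, U)) (e' : Γ(L', U)), IsFrame L' U e' →
      ∀ (x : Γ(L ⊞ Coh.structureModule Y, U)) (y : Γ(L' ⊞ Coh.structureModule Y, U)), w.app U y = T U x e' →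
      r ⁻¹ᵁ dom chartC' (jz j' ι' z') U hU y = dom chartC (jz j ι z) U hU x := by
    intro U hU e e' he' x y hxy
    refine le_antisymm ?_ fun t ht => ?_
    · have hle : r ⁻¹ᵁ dom chartC' (jz j' ι' z') U hU y ≤ pC ⁻¹ᵁ U :=
        (r.preimage_mono (dom_le chartC' (jz j' ι' z') U hU y)).trans (PBundle.base_le hr U)
      have h := hsol.isFrame hk hOQ hφQ hU y
      rw [hxy] at h
      change IsFrame M _ (rs M hle (tens O1 _ _ (φ.app U x) (pull pC L' U e'))) at h
      rw [tens_rs] at h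
      exact PBundle.le_dom_of_isFrame hj hO1 hφ hE hU x hle (PBundle.isFrame_left_of_tens hO1inv hpL' h)
    · refine hsol.mem hF hk hOQ hφQ hU y (dom_le chartC (jz j ι z) U hU x) ?_ ht
      rw [hxy]
      exact hfr U hU x e' he'
  haveI : IsIso r := by
    refine PBundle.isIso_of_bijective_sections hj hO1 hφ hE hPC hF hk hPC' hOQ hφQ hsol fun t => ?_
    obtain ⟨U, hU, e, e', hy, he, he', hee⟩ := exists_duals hL hL' θ₀ (pC' t)
    obtain ⟨f, hf, hwf, -, -⟩ := local_data U hU e e' he he' hee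
    obtain ⟨y, hy'⟩ := PBundle.exists_mem_dom (chart := chartC') hk hU hF (z := t) hy
    obtain ⟨x₀, rfl⟩ := hf y
    refine ⟨U, hU, x₀, f, hf, hy', hpre U hU e e' he' x₀ _ (hwf x₀), fun x c hc => ?_⟩
    rw [hwf, hwf]
    show c • rs M _ (tens O1 _ _ (φ.app U x₀) (pull pC L' U e')) =
      rs M _ (tens O1 _ _ (φ.app U x) (pull pC L' U e'))
    rw [tens_rs, tens_rs, ← tens_smul_left, hc]
  have hloci : ∀ t : PC, (r.base t ∈ Set.range i'.base ↔ t ∉ Set.range (ε ≫ i).base) ∧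
      (r.base t ∉ Set.range (ε' ≫ i').base ↔ t ∈ Set.range i.base) := by
    intro t
    obtain ⟨U, hU, e, e', hy, he, he', hee⟩ := exists_duals hL hL' θ₀ (pC t)
    obtain ⟨f, -, hwf, hfQ, hfe⟩ := local_data U hU e e' he he' hee
    have hrt : r.base t ∈ pC' ⁻¹ᵁ U := PBundle.le_base hr U hy
    constructor
    · rw [mem_range_iff_dom (j := j') hPC' hi' hU _ hrt, not_mem_vertex_iff_dom hPC hi hLq hS h0 haug hε hU he t hy,
        ← hpre U hU e e' he' _ _ (hwf ((biprod.inl : L ⟶ L ⊞ Coh.structureModule Y).app U e)), hfe]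
      rfl
    · rw [not_mem_vertex_iff_dom hPC' hi' hL'q hS' h0' haug' hε' hU he' _ hrt, mem_range_iff_dom (j := j) hPC hi hU t hy,
        ← hpre U hU e e' he' _ _ (hwf (Q U)), hfQ]
      rfl
  have hsurj : Function.Surjective r.base :=
    (ConcreteCategory.bijective_of_isIso r.base).2
  refine ⟨asIso r, hr, Set.ext fun y => ⟨?_, fun hy => ?_⟩, Set.ext fun y => ⟨?_, fun hy => ?_⟩⟩
  · rintro ⟨t, ht, rfl⟩
    exact fun h => (hloci t).1.1 h ht
  · obtain ⟨t, rfl⟩ := hsurj y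
    exact ⟨t, not_not.1 fun h => hy ((hloci t).1.2 h), rfl⟩
  · rintro ⟨t, ht, rfl⟩
    exact not_not.1 fun h => ht ((hloci t).2.1 h)
  · obtain ⟨t, rfl⟩ := hsurj y
    exact ⟨t, fun h => (hloci t).2.2 h hy, rfl⟩

end Exchange

end Groth.L18.ConeExchange
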