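import Groth.Agent.L18.ConeExchange
import Groth.Agent.L16.SymTop.Basic
import Mathlib.Algebra.Polynomial.AlgebraMap

/-!
The cone data of a graded symmetric algebra: augmentation, degree zero, adjoined variable, cone immersion.
-/

set_option autoImplicit false
set_option linter.style.haveILetI false
set_option backward.isDefEq.respectTransparency.types false
set_option backward.isDefEq.respectTransparency false

universe u

open CategoryTheory CategoryTheory.Limits AlgebraicGeometry TopologicalSpace Opposite
open Groth.L18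
open Groth.L18.Frame (rs ro rs_rs rs_self)
open Groth.L19.ProjBdl (one1 rs_one1 smul_one1 app_rs)

noncomputable section

namespace Groth.L18.ConeSymData

variable {Y : Scheme.{u}} {E : Y.Modules} [Coh.IsQCoh E] {𝒮 : RelProj.QCGrAlg Y} {j : E ⟶ 𝒮.toModule}

theorem exists_aug (hS : RelProj.IsGrSymAlg E 𝒮 j) :
    ∃ aug : 𝒮.toQCAlg ⟶ RelSpec.QCAlg.unit Y, RelCone.IsAugmentation 𝒮 aug := by
  obtain ⟨aug, haug, -⟩ := hS.1 (RelSpec.QCAlg.unit Y) 0
  refine ⟨aug, fun U hU d x hx => ?_⟩
  obtain ⟨Φ, h0, h1, hmem⟩ := SymSheaf.exists_gradedEquiv hS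
  obtain ⟨t, rfl⟩ := (Φ U hU).surjective x
  have ht := (hmem U hU (d + 1) t).2 hx
  rw [SymRing.piece, pow_succ'] at ht
  induction ht using Submodule.mul_induction_on' with
  | mem_mul_mem m hm n hn =>
    obtain ⟨m', rfl⟩ := hm
    rw [map_mul, map_mul, h1]
    rw [show (aug.hom.app (op U)).hom (j.app U m') = 0 from congr($(haug).app U m'), zero_mul]
  | add a _ b _ iha ihb =>
    rw [map_add, map_add, iha ((hmem U hU (d + 1) a).1 (by rw [SymRing.piece, pow_succ']; assumption)),
      ihb ((hmem U hU (d + 1) b).1 (by rw [SymRing.piece, pow_succ']; assumption)), add_zero]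

theorem strZeroBij (hS : RelProj.IsGrSymAlg E 𝒮 j) : RelCone.StrZeroBij 𝒮 := by
  intro U hU
  obtain ⟨Φ, h0, h1, hmem⟩ := SymSheaf.exists_gradedEquiv hS
  refine ⟨fun a b h => ?_, fun y => ?_⟩
  · have h' := congrArg Subtype.val h
    rw [RelProj.QCGrAlg.strZero_apply_coe, RelProj.QCGrAlg.strZero_apply_coe, ← h0 U hU, ← h0 U hU] at h'
    have h'' := congrArg (SymmetricAlgebra.algebraMapInv) ((Φ U hU).injective h')
    rwa [AlgHom.commutes, AlgHom.commutes] at h''
  · obtain ⟨t, ht⟩ := (Φ U hU).surjective y.1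
    have h := (hmem U hU 0 t).2 (ht ▸ y.2)
    rw [SymRing.piece, pow_zero, Submodule.mem_one] at h
    obtain ⟨r, rfl⟩ := h
    exact ⟨r, Subtype.ext ((h0 U hU r).symm.trans ht)⟩

theorem exists_isPolyOver (hS : RelProj.IsGrSymAlg E 𝒮 j) [Coh.IsQCoh (E ⊞ Coh.structureModule Y)] :
    ∃ (ι : 𝒮.toQCAlg ⟶ (SymSheaf.symGr (E ⊞ Coh.structureModule Y)).toQCAlg)
      (z : (SymSheaf.symGr (E ⊞ Coh.structureModule Y)).presheaf.obj (op ⊤)),
      RelCone.IsPolyOver 𝒮 (SymSheaf.symGr (E ⊞ Coh.structureModule Y)) ι z := by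
  classical
  let T := SymSheaf.symGr (E ⊞ Coh.structureModule Y)
  let jh := SymSheaf.j (E ⊞ Coh.structureModule Y)
  have hT : RelProj.IsGrSymAlg (E ⊞ Coh.structureModule Y) T jh := SymSheaf.isGrSymAlg _
  obtain ⟨ι, hι, -⟩ := hS.1 T.toQCAlg ((biprod.inl : E ⟶ E ⊞ Coh.structureModule Y) ≫ jh)
  let Q : ∀ U : Y.Opens, Γ(E ⊞ Coh.structureModule Y, U) := fun U =>
    (biprod.inr : Coh.structureModule Y ⟶ E ⊞ Coh.structureModule Y).app U (one1 Y U)
  let z : T.presheaf.obj (op ⊤) := jh.app ⊤ (Q ⊤)
  have hQrs : ∀ {U : Y.Opens}, rs _ le_top (Q ⊤) = Q U := fun {U} => by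
    show rs _ le_top ((biprod.inr : Coh.structureModule Y ⟶ E ⊞ Coh.structureModule Y).app ⊤ (one1 Y ⊤)) = _
    rw [← app_rs, rs_one1]
  have hzU : ∀ U : Y.Opens, RelCone.restrictTop T z U = jh.app U (Q U) := fun U => by
    refine Eq.trans ?_ (congrArg (jh.app U) (hQrs (U := U)))
    exact (app_rs jh le_top (Q ⊤)).symm
  obtain ⟨ΦE, hE0, hE1, hEmem⟩ := SymSheaf.exists_gradedEquiv hS
  obtain ⟨Φh, hh0, hh1, hhmem⟩ := SymSheaf.exists_gradedEquiv hT
  have ιstr : ∀ (U : Y.Opens) r, (ι.hom.app (op U)).hom ((𝒮.str.app (op U)).hom r) = (T.str.app (op U)).hom r :=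
    fun U r => ConcreteCategory.congr_hom (NatTrans.congr_app ι.comm (op U)) r
  have ιj : ∀ (U : Y.Opens) m, (ι.hom.app (op U)).hom (j.app U m) =
      jh.app U ((biprod.inl : E ⟶ E ⊞ Coh.structureModule Y).app U m) :=
    fun U m => congr($(hι).app U m)
  refine ⟨ι, z, fun U hU d x hx => ?_, fun U hU => ?_, fun U hU => ?_⟩
  · obtain ⟨t, rfl⟩ := (ΦE U hU).surjective x
    have ht := (hEmem U hU d t).2 hx
    clear hx
    induction ht using Submodule.pow_induction_on_left' with
    | algebraMap r => rw [hE0, ιstr]; exact T.str_mem U hU r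
    | add a b k ha hb iha ihb => rw [map_add, map_add]; exact add_mem iha ihb
    | mem_mul m hm k a ha ih =>
      obtain ⟨m', rfl⟩ := hm
      rw [map_mul, map_mul, hE1, ιj, Nat.succ_eq_one_add]
      exact SetLike.mul_mem_graded (hT.2 U hU _) ih
  · rw [hzU]
    exact hT.2 U hU _
  · let R := Γ(Y, U)
    let A := 𝒮.presheaf.obj (op U)
    let F : Polynomial A →+* T.presheaf.obj (op U) :=
      Polynomial.eval₂RingHom (ι.hom.app (op U)).hom (RelCone.restrictTop T z U)
    letI : Algebra R (Polynomial A) := ((Polynomial.C).comp (𝒮.str.app (op U)).hom).toAlgebra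
    let l : Γ(E ⊞ Coh.structureModule Y, U) →ₗ[R] Polynomial A :=
      { toFun := fun x => Polynomial.C (show A from j.app U ((biprod.fst : E ⊞ Coh.structureModule Y ⟶ E).app U x)) +
          Polynomial.C ((𝒮.str.app (op U)).hom
            ((biprod.snd : E ⊞ Coh.structureModule Y ⟶ Coh.structureModule Y).app U x)) * Polynomial.X
        map_add' := fun a b => by
          have h1 : (show A from j.app U ((biprod.fst : E ⊞ Coh.structureModule Y ⟶ E).app U (a + b))) =
              (show A from j.app U ((biprod.fst : E ⊞ Coh.structureModule Y ⟶ E).app U a)) +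
                (show A from j.app U ((biprod.fst : E ⊞ Coh.structureModule Y ⟶ E).app U b)) := by
            rw [map_add, map_add]
          have h2 : (𝒮.str.app (op U)).hom
              ((biprod.snd : E ⊞ Coh.structureModule Y ⟶ Coh.structureModule Y).app U (a + b)) =
              (𝒮.str.app (op U)).hom ((biprod.snd : E ⊞ Coh.structureModule Y ⟶ Coh.structureModule Y).app U a) +
                (𝒮.str.app (op U)).hom ((biprod.snd : E ⊞ Coh.structureModule Y ⟶ Coh.structureModule Y).app U b) := by
            rw [map_add]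
            exact map_add (𝒮.str.app (op U)).hom _ _
          rw [h1, h2, Polynomial.C_add, Polynomial.C_add, add_mul]
          abel
        map_smul' := fun c a => by
          rw [RingHom.id_apply, Algebra.smul_def, Scheme.Modules.Hom.app_smul, Scheme.Modules.Hom.app_smul,
            Scheme.Modules.Hom.app_smul, SymSheaf.smul_toModule]
          show Polynomial.C ((𝒮.str.app (op U)).hom c * _) +
              Polynomial.C ((𝒮.str.app (op U)).hom (c * (show Γ(Y, U) from _))) * Polynomial.X =
            Polynomial.C ((𝒮.str.app (op U)).hom c) * _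
          rw [map_mul (𝒮.str.app (op U)).hom, Polynomial.C_mul, Polynomial.C_mul, mul_add, mul_assoc] }
    let G : T.presheaf.obj (op U) →+* Polynomial A :=
      (SymmetricAlgebra.lift (R := R) l).toRingHom.comp (Φh U hU).symm.toRingHom
    have Gstr : ∀ r, G ((T.str.app (op U)).hom r) = Polynomial.C ((𝒮.str.app (op U)).hom r) := fun r => by
      show SymmetricAlgebra.lift l ((Φh U hU).symm _) = _
      rw [← hh0 U hU, RingEquiv.symm_apply_apply, AlgHom.commutes]
      rfl
    have Gj : ∀ x, G (jh.app U x) = l x := fun x => by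
      show SymmetricAlgebra.lift l ((Φh U hU).symm _) = _
      rw [show (Φh U hU).symm (jh.app U x) = SymmetricAlgebra.ι _ _ x from
        (Φh U hU).symm_apply_eq.2 (hh1 U hU x).symm, SymmetricAlgebra.lift_ι_apply]
    have hGF : G.comp F = RingHom.id _ := by
      refine Polynomial.ringHom_ext (fun a => ?_) ?_
      · obtain ⟨t, rfl⟩ := (ΦE U hU).surjective a
        refine RingHom.congr_fun (SymRing.ringHom_ext (f := (G.comp F).comp (Polynomial.C.comp (ΦE U hU).toRingHom))
          (f' := Polynomial.C.comp (ΦE U hU).toRingHom) (fun r => ?_) (fun m => ?_)) t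
        · show G (F (Polynomial.C (ΦE U hU (algebraMap _ _ r)))) = Polynomial.C (ΦE U hU (algebraMap _ _ r))
          rw [hE0, show F (Polynomial.C _) = _ from Polynomial.eval₂_C _ _, ιstr, Gstr]
        · show G (F (Polynomial.C (ΦE U hU (SymmetricAlgebra.ι _ _ m)))) =
            Polynomial.C (ΦE U hU (SymmetricAlgebra.ι _ _ m))
          rw [hE1, show F (Polynomial.C _) = _ from Polynomial.eval₂_C _ _, ιj, Gj]
          show Polynomial.C (show A from _) + Polynomial.C ((𝒮.str.app (op U)).hom _) * Polynomial.X = _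
          rw [show (biprod.fst : E ⊞ Coh.structureModule Y ⟶ E).app U
              ((biprod.inl : E ⟶ E ⊞ Coh.structureModule Y).app U m) = m from
              congr($(biprod.inl_fst (X := E) (Y := Coh.structureModule Y)).app U m),
            show (biprod.snd : E ⊞ Coh.structureModule Y ⟶ Coh.structureModule Y).app U
              ((biprod.inl : E ⟶ E ⊞ Coh.structureModule Y).app U m) = (0 : Γ(Y, U)) from
              congr($(biprod.inl_snd (X := E) (Y := Coh.structureModule Y)).app U m)]
          erw [map_zero (𝒮.str.app (op U)).hom]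
          rw [Polynomial.C_0, zero_mul, add_zero]
      · show G (F Polynomial.X) = Polynomial.X
        rw [show F Polynomial.X = _ from Polynomial.eval₂_X _ _, hzU, Gj]
        show Polynomial.C (show A from j.app U _) + Polynomial.C ((𝒮.str.app (op U)).hom _) * Polynomial.X = _
        rw [show (biprod.fst : E ⊞ Coh.structureModule Y ⟶ E).app U (Q U) = 0 from
            congr($(biprod.inr_fst (X := E) (Y := Coh.structureModule Y)).app U (one1 Y U)),
          show (biprod.snd : E ⊞ Coh.structureModule Y ⟶ Coh.structureModule Y).app U (Q U) = (1 : Γ(Y, U)) from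
            congr($(biprod.inr_snd (X := E) (Y := Coh.structureModule Y)).app U (one1 Y U))]
        erw [map_zero (j.app U).hom, map_one (𝒮.str.app (op U)).hom]
        rw [Polynomial.C_1, one_mul]
        exact (congrArg (· + Polynomial.X) Polynomial.C_0).trans (zero_add _)
    have hsurj : Function.Surjective F := by
      intro y
      obtain ⟨t, rfl⟩ := (Φh U hU).surjective y
      let S₀ : Subalgebra R (SymSheaf.Sym (E ⊞ Coh.structureModule Y) U) :=
        { toSubsemiring := F.range.toSubsemiring.comap (Φh U hU).toRingHom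
          algebraMap_mem' := fun r => by
            show Φh U hU _ ∈ F.range
            rw [hh0]
            exact ⟨Polynomial.C ((𝒮.str.app (op U)).hom r), (Polynomial.eval₂_C _ _).trans (ιstr U r)⟩ }
      have hS₀ : S₀ = ⊤ := Groth.L16.SymTop.eq_top_of_ι_mem fun x => by
        show Φh U hU _ ∈ F.range
        rw [hh1, ← Groth.L16.SymBiprod.biprod_app_total U x, map_add]
        refine add_mem ⟨Polynomial.C (show A from j.app U _), (Polynomial.eval₂_C _ _).trans (ιj U _)⟩ ?_
        refine ⟨Polynomial.C ((𝒮.str.app (op U)).hom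
          ((biprod.snd : E ⊞ Coh.structureModule Y ⟶ Coh.structureModule Y).app U x)) * Polynomial.X, ?_⟩
        rw [map_mul, show F (Polynomial.C _) = _ from Polynomial.eval₂_C _ _,
          show F Polynomial.X = _ from Polynomial.eval₂_X _ _, hzU, ιstr]
        rw [show (biprod.inr : Coh.structureModule Y ⟶ E ⊞ Coh.structureModule Y).app U
            ((biprod.snd : E ⊞ Coh.structureModule Y ⟶ Coh.structureModule Y).app U x) =
            (show Γ(Y, U) from (biprod.snd : E ⊞ Coh.structureModule Y ⟶ Coh.structureModule Y).app U x) • Q U by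
          show _ = _ • (biprod.inr : Coh.structureModule Y ⟶ E ⊞ Coh.structureModule Y).app U (one1 Y U)
          rw [← Scheme.Modules.Hom.app_smul, smul_one1],
          Scheme.Modules.Hom.app_smul, SymSheaf.smul_toModule]
        rfl
      exact (show t ∈ S₀ by rw [hS₀]; exact Algebra.mem_top)
    exact ⟨fun a b h => (RingHom.congr_fun hGF a).symm.trans ((congrArg G h).trans (RingHom.congr_fun hGF b)), hsurj⟩

end Groth.L18.ConeSymData
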