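import Groth.Agent.L21.P1Fam.Geom
import Groth.Agent.L12.CurveFam.FibVA.Main
import Groth.Agent.L12.CurveFam.Omega
import Groth.Agent.L22.Bundle.UPBridge
import Groth.Agent.L18.Grass.MapEpi
import Groth.Agent.L12.KBun.Atlas
import Groth.Agent.L13.PointBlow.Twist

/-!
# Modules of degree `d` on a family of genus zero curves and their linear system
-/

set_option autoImplicit false
set_option linter.style.haveILetI false
set_option linter.unusedSectionVars false
set_option backward.isDefEq.respectTransparency false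
set_option backward.isDefEq.respectTransparency.types false

universe u

open CategoryTheory CategoryTheory.Limits AlgebraicGeometry TopologicalSpace

noncomputable section

namespace Groth.L18.ConicFam

open Groth.Agent.Elliptic (isProper_fibre smooth_fibre isIntegral_fibre dim_fibre h0_fibre)
open Groth.L21.RR (h)
open Groth.L21.P1Fam (Genus0 epi_counit_of_globally isFlatOver_of_inv isFP_of_inv)

attribute [local instance] Groth.Agent.Elliptic.fibOver

local notation "pb" => Scheme.Modules.pullback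

/-- The module has degree `d` on every fibre. -/
def DegN {X S : Scheme.{u}} (f : X ⟶ S) (L : X.Modules) (d : ℕ) : Prop :=
  ∀ s : S, Curv2.deg (S.residueField s) (f.fiber s) ((pb (f.fiberι s)).obj L) 1 = d

variable {X S : Scheme.{u}} {f : X ⟶ S} [IsProper f] [SmoothOfRelativeDimension 1 f] [GeometricallyConnected f]
  {L : X.Modules} {d : ℕ}

theorem fibre_cohom (hg : Genus0 f) (hL : PicF.IsInvertible L) (hd : DegN f L d) (s : S) :
    Subsingleton (CohIII.fiberH f L s 1) ∧ CohIII.fiberRank f L 0 s = d + 1 ∧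
      Curv2.IsGloballyGenerated ((pb (f.fiberι s)).obj L) := by
  haveI := isProper_fibre f s
  haveI := isIntegral_fibre f s
  let k := S.residueField s
  let M := (pb (f.fiberι s)).obj L
  have hM : PicF.IsInvertible M := Groth.L18.Ample.isInvertible_pullback _ hL
  have hdim := dim_fibre f s
  have h0 := h0_fibre f s
  have h1O : h k 1 (Coh.structureModule (f.fiber s)) = 0 := hg s
  have hdeg : Curv2.deg k (f.fiber s) M 1 = d := hd s
  haveI hv : Subsingleton (Coh.HH (f.fiber s) M 1) :=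
    Groth.L21.RR.subsingleton_h1_of_deg_gt k hdim.le h0 hM (by rw [h1O, hdeg]; push_cast; omega)
  refine ⟨hv, ?_, Groth.L21.RR.isGloballyGenerated_of_deg k hdim.le h0 hM (by rw [h1O, hdeg]; push_cast; omega)⟩
  show h k 0 M = d + 1
  have h := hdeg
  rw [Curv2.deg, Groth.L21.RR.euler_eq k hdim.le, Groth.L21.RR.euler_eq k hdim.le, h0, h1O,
    Groth.L21.RR.h_eq_zero_of_subsingleton k hv] at h
  push_cast at h
  omega

theorem forall_split [HasInjectiveResolutions X.Modules] (hg : Genus0 f) (hL : PicF.IsInvertible L)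
    (hd : DegN f L d) :
    ∀ y ∈ (⊤ : S.Opens), ∃ (V : S.Opens) (hV : IsAffineOpen V) (l : Groth.L17.BC.Classes.FreeBC0 f L V),
      y ∈ V ∧ ∀ y' (hy' : y' ∈ V), y' ∈ (⊤ : S.Opens) → l.free.Split hV 0 hy' :=
  haveI : Smooth f := SmoothOfRelativeDimension.smooth 1 f
  haveI := Groth.L21.Extend.isQCoh_of_isInvertible hL
  Groth.L17.BC.Classes.forall_split0_of_vanishing f L (isFP_of_inv hL) (isFlatOver_of_inv hL) ⊤
    fun y _ => (fibre_cohom hg hL hd y).1

theorem isFinLocFreeOfRank_push (hg : Genus0 f) (hL : PicF.IsInvertible L) (hd : DegN f L d) :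
    FlatMod.IsFinLocFreeOfRank (d + 1) ((Scheme.Modules.pushforward f).obj L) := by
  intro y
  haveI : Smooth f := SmoothOfRelativeDimension.smooth 1 f
  haveI := Groth.L17.PushQCoh.hasInjectiveResolutions X
  haveI := Groth.L21.Extend.isQCoh_of_isInvertible hL
  obtain ⟨U, hy, ⟨e⟩⟩ := Groth.L17.BC.exists_free_of_vanishing f L (isFP_of_inv hL) (isFlatOver_of_inv hL) y 0
    (fun q hq => absurd hq (Nat.succ_ne_zero q)) (fibre_cohom hg hL hd y).1
  rw [(fibre_cohom hg hL hd y).2.1] at e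
  obtain ⟨θ⟩ := Groth.L17.BC.Classes.nonempty_Rpush_zero_iso f L
  exact ⟨U, hy, ⟨((Scheme.Modules.restrictFunctor U.ι).mapIso θ).symm ≪≫ e⟩⟩

theorem isIso_bc0 (hg : Genus0 f) (hL : PicF.IsInvertible L) (hd : DegN f L d) {S' X' : Scheme.{u}}
    {g : S' ⟶ S} {f' : X' ⟶ S'} {g' : X' ⟶ X} (sq : IsPullback g' f' f g) :
    IsIso (CohBC.bc0 f g f' g' sq.w L) := by
  haveI : Smooth f := SmoothOfRelativeDimension.smooth 1 f
  haveI := Groth.L17.PushQCoh.hasInjectiveResolutions X
  haveI := Groth.L21.Extend.isQCoh_of_isInvertible hL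
  exact Groth.L17.BC.Classes.isIso_bc0 (f := f) (F := L) (U := ⊤) sq (fun _ => trivial) (forall_split hg hL hd)

/-- The base change map spelled out with the adjunction. -/
theorem isIso_homEquiv (hg : Genus0 f) (hL : PicF.IsInvertible L) (hd : DegN f L d) {S' X' : Scheme.{u}}
    {g : S' ⟶ S} {f' : X' ⟶ S'} {g' : X' ⟶ X} (sq : IsPullback g' f' f g) :
    IsIso (((Scheme.Modules.pullbackPushforwardAdjunction f').homEquiv _ _)
      ((Scheme.Modules.pullbackComp f' g).hom.app _ ≫
        (Scheme.Modules.pullbackCongr sq.w.symm).hom.app _ ≫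
        (Scheme.Modules.pullbackComp g' f).inv.app _ ≫
        (pb g').map ((Scheme.Modules.pullbackPushforwardAdjunction f).counit.app L))) := by
  haveI := isIso_bc0 hg hL hd sq
  have h := Groth.L20.DescLocus.bc0_eq f g f' g' sq.w L
  rw [h] at this
  have e1 : (Groth.L20.DescLocus.sqIso f g f' g' sq.w ((Scheme.Modules.pushforward f).obj L)).inv =
      (Scheme.Modules.pullbackComp f' g).hom.app _ ≫ (Scheme.Modules.pullbackCongr sq.w.symm).hom.app _ ≫
        (Scheme.Modules.pullbackComp g' f).inv.app _ := by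
    unfold Groth.L20.DescLocus.sqIso
    simp [Scheme.Modules.pullbackCongr]
  simpa only [e1, Category.assoc] using this

theorem epi_counit (hg : Genus0 f) (hL : PicF.IsInvertible L) (hd : DegN f L d) :
    Epi ((Scheme.Modules.pullbackPushforwardAdjunction f).counit.app L) := by
  refine (Groth.L21.Mod.epi_iff_stalk_surjective _).2 fun x => ?_
  let s := f x
  let q := f.fiberToSpecResidueField s
  haveI : IsIso (CohBC.bc0 f (S.fromSpecResidueField s) q (f.fiberι s) (f.fiber_fac s) L) :=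
    isIso_bc0 hg hL hd (IsPullback.of_hasPullback f (S.fromSpecResidueField s))
  haveI : Epi ((Scheme.Modules.pullbackPushforwardAdjunction q).counit.app
      ((pb (f.fiberι s)).obj L)) := epi_counit_of_globally q (fibre_cohom hg hL hd s).2.2
  haveI : Epi ((pb (f.fiberι s)).map
      ((Scheme.Modules.pullbackPushforwardAdjunction f).counit.app L)) := by
    rw [Groth.L20.DescLocus.pullback_counit f (S.fromSpecResidueField s) q (f.fiberι s) (f.fiber_fac s)]
    infer_instance
  obtain ⟨z, hz⟩ : x ∈ Set.range (f.fiberι s) := by rw [f.range_fiberι s]; exact rfl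
  rw [← hz]
  exact Groth.L16.Rees.FibreMonoEpi.surjective_stalk f s
    (Groth.L16.NegPow.isCoh_of_isFinLocFree (Groth.L16.Existence.isFinLocFree_of_isInvertible hL)) _ z

theorem isRelVeryAmple (hg : Genus0 f) (hL : PicF.IsInvertible L) (hd : DegN f L d) (h1d : 1 ≤ d) :
    RelProj.IsRelVeryAmple f L := by
  haveI : Smooth f := SmoothOfRelativeDimension.smooth 1 f
  refine Groth.L12.CurveFam.isRelVeryAmple_of_fibres f L hL (fun s => ?_) fun s => (fibre_cohom hg hL hd s).1
  refine (Groth.L12.CurveFam.fiber_va_of_deg_ge f s (dim_fibre f s) hL ?_).1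
  show 2 * (Curv2.genus (S.residueField s) (f.fiber s) : ℤ) + 1 ≤
    Curv2.deg (S.residueField s) (f.fiber s) ((pb (f.fiberι s)).obj L) 1
  rw [hg s, hd s]
  push_cast
  omega

omit [IsProper f] [SmoothOfRelativeDimension 1 f] [GeometricallyConnected f] in
/-- A relatively very ample module makes any map classifying its sections a monomorphism. -/
theorem mono_of_isRelVeryAmple (hva : RelProj.IsRelVeryAmple f L) {P : Scheme.{u}} {p : P ⟶ S} {O1 : P.Modules}
    (q : (pb p).obj ((Scheme.Modules.pushforward f).obj L) ⟶ O1) (h : X ⟶ P) (hf : h ≫ p = f)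
    (e : (pb h).obj O1 ≅ L)
    (he : Grass.quotBC hf q ≫ e.hom = (Scheme.Modules.pullbackPushforwardAdjunction f).counit.app L) :
    Mono h := by
  obtain ⟨E', hq', 𝒮, j, hS, P', p', chart, hP', O', lam, hO', i, hi, hip, ⟨ε⟩⟩ := hva
  haveI := hi
  obtain ⟨q', hB⟩ := Groth.L22.Bundle.exists_isProjBundle hq' hS hP' hO'
    (Groth.L18.RelTilde.isInvertible_of_genDegOne (Groth.L18.PBundle.isGenDegOne_of_isGrSymAlg hq' hS) hO')
  let ct := (Scheme.Modules.pullbackPushforwardAdjunction f).counit.app L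
  let s₀ : (pb f).obj E' ⟶ L := Grass.quotBC hip q' ≫ ε.inv
  haveI := hB.epi
  haveI : Epi s₀ := by
    haveI := Groth.L18.MapEpi.epi_quotBC hip q'
    exact epi_comp _ _
  let v := (Scheme.Modules.pullbackPushforwardAdjunction f).homEquiv _ _ s₀
  have hv : s₀ = (pb f).map v ≫ ct := by
    have h2 := ((Scheme.Modules.pullbackPushforwardAdjunction f).homEquiv _ _).symm_apply_apply s₀
    rw [Adjunction.homEquiv_counit] at h2
    exact h2.symm
  refine ⟨fun {T} a b hab => ?_⟩
  have key : ∀ (y : T ⟶ P) (x : T ⟶ X) (g : T ⟶ S) (_ : x ≫ h = y) (hy : y ≫ p = g) (hx : x ≫ f = g),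
      ∃ Θ : (pb y).obj O1 ≅ (pb x).obj L, Grass.quotBC hy q ≫ Θ.hom = Grass.quotBC hx ct := by
    intro y x g hxy hy hx
    subst hxy
    refine ⟨((Scheme.Modules.pullbackComp x h).app O1).symm ≪≫ (pb x).mapIso e, ?_⟩
    rw [← Groth.L18.MapEpi.quotBC_quotBC hf hx hy q]
    show _ = Grass.quotBC hx ((Scheme.Modules.pullbackPushforwardAdjunction f).counit.app L)
    rw [← he, Groth.L18.MapEpi.quotBC_comp_right]
    simp
  have hb : b ≫ f = a ≫ f := by rw [← hf, reassoc_of% hab]
  have hyp : (a ≫ h) ≫ p = a ≫ f := by rw [Category.assoc, hf]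
  obtain ⟨Θa, hΘa⟩ := key (a ≫ h) a (a ≫ f) rfl hyp rfl
  obtain ⟨Θb, hΘb⟩ := key (a ≫ h) b (a ≫ f) hab.symm hyp hb
  have hφ : Grass.quotBC (rfl : a ≫ f = a ≫ f) s₀ ≫ Θa.inv ≫ Θb.hom = Grass.quotBC hb s₀ := by
    rw [hv, ← Groth.L18.MapEpi.map_quotBC, ← Groth.L18.MapEpi.map_quotBC, ← hΘa, ← hΘb]
    simp
  have sol : ∀ (x : T ⟶ X) (hx : x ≫ f = a ≫ f), ∃ (hxi : (x ≫ i) ≫ p' = a ≫ f)
      (Ψ : (pb (x ≫ i)).obj O' ≅ (pb x).obj L), Grass.quotBC hxi q' ≫ Ψ.hom = Grass.quotBC hx s₀ := by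
    intro x hx
    have hxi : (x ≫ i) ≫ p' = a ≫ f := by rw [Category.assoc, hip, hx]
    refine ⟨hxi, ((Scheme.Modules.pullbackComp x i).app O').symm ≪≫ (pb x).mapIso ε.symm, ?_⟩
    show _ = Grass.quotBC hx (Grass.quotBC hip q' ≫ ε.inv)
    rw [← Groth.L18.MapEpi.quotBC_quotBC hip hx hxi q', Groth.L18.MapEpi.quotBC_comp_right]
    simp
  obtain ⟨hai, Ψa, hΨa⟩ := sol a rfl
  obtain ⟨hbi, Ψb, hΨb⟩ := sol b hb
  have hinv : PicF.IsInvertible L := Groth.L18.Ample.isInvertible_of_iso ε.symm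
    (Groth.L18.Ample.isInvertible_pullback i (Groth.L22.Bundle.isInvertible_of_one hB.invertible))
  refine (cancel_mono i).1 ((hB.univ T (a ≫ f) _
    (Groth.L22.Bundle.isFinLocFree_one (Groth.L18.Ample.isInvertible_pullback b hinv)) (Grass.quotBC hb s₀)
    (Groth.L18.MapEpi.epi_quotBC hb s₀)).unique ⟨hai, Ψa ≪≫ Θa.symm ≪≫ Θb, ?_⟩
      ⟨hbi, Ψb, (by simpa only [Grass.quotBC, Category.assoc] using hΨb)⟩)
  have h9 : Grass.quotBC hai q' ≫ (Ψa ≪≫ Θa.symm ≪≫ Θb).hom = Grass.quotBC hb s₀ := by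
    rw [Iso.trans_hom, ← Category.assoc, hΨa]
    exact hφ
  simpa only [Grass.quotBC, Category.assoc] using h9

end Groth.L18.ConicFam
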