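import Mathlib.RingTheory.GradedAlgebra.HomogeneousLocalization
import Mathlib.RingTheory.Ideal.Quotient.Operations

/-!
# Dehomogenization with respect to an element of degree one
-/

set_option autoImplicit false
universe u

open HomogeneousLocalization DirectSum

namespace Groth.L18

variable {R B : Type u} [CommRing R] [CommRing B] [Algebra R B] (ℬ : ℕ → Submodule R B) [GradedAlgebra ℬ]
  {f : B} (hf : f ∈ ℬ 1)

/-- The degree `n` component of dehomogenization. -/
noncomputable def dehomAux (n : ℕ) : ℬ n →+ Away ℬ f where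
  toFun x := Away.mk ℬ hf n x.1 (by rw [smul_eq_mul, mul_one]; exact x.2)
  map_zero' := by
    apply val_injective
    rw [Away.val_mk, val_zero]
    simp [Localization.mk_zero]
  map_add' x y := by
    apply val_injective
    rw [val_add, Away.val_mk, Away.val_mk, Away.val_mk, Localization.add_mk_self]
    rfl

/-- Dehomogenization: a homogeneous `x` of degree `n` goes to `x / f ^ n`. -/
noncomputable def dehom : B →+* Away ℬ f :=
  (DirectSum.toSemiring (dehomAux ℬ hf)
    (by
      apply val_injective
      rw [val_one]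
      show (Away.mk ℬ hf 0 (1 : B) _).val = 1
      rw [Away.val_mk]
      simp only [pow_zero]
      exact Localization.mk_one)
    (fun {i j} ai aj => by
      apply val_injective
      rw [val_mul]
      show (Away.mk ℬ hf (i + j) ((ai : B) * aj) _).val =
        (Away.mk ℬ hf i (ai : B) _).val * (Away.mk ℬ hf j (aj : B) _).val
      rw [Away.val_mk, Away.val_mk, Away.val_mk, Localization.mk_mul]
      congr 1
      exact Subtype.ext (pow_add f i j))).comp (decomposeRingEquiv ℬ).toRingHom

lemma dehom_val {n : ℕ} {x : B} (hx : x ∈ ℬ n) :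
    (dehom ℬ hf x).val = Localization.mk x ⟨f ^ n, pow_mem (Submonoid.mem_powers f) n⟩ := by
  have h : decomposeRingEquiv ℬ x = DirectSum.of (fun i => ℬ i) n ⟨x, hx⟩ := decompose_of_mem ℬ hx
  rw [dehom, RingHom.comp_apply]
  erw [h]
  rw [DirectSum.toSemiring_of]
  show (Away.mk ℬ hf n x _).val = _
  rw [Away.val_mk]

lemma dehom_self : dehom ℬ hf f = 1 := by
  apply val_injective
  rw [dehom_val ℬ hf hf, val_one, ← Localization.mk_self ⟨f, Submonoid.mem_powers f⟩]
  congr 1
  exact Subtype.ext (pow_one f)

lemma dehom_surjective : Function.Surjective (dehom ℬ hf) := fun z => by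
  obtain ⟨k, x, hx, rfl⟩ := Away.mk_surjective ℬ hf z
  refine ⟨x, val_injective _ ?_⟩
  have hx' : x ∈ ℬ k := by rwa [smul_eq_mul, mul_one] at hx
  rw [dehom_val ℬ hf hx', Away.val_mk]

lemma ker_dehom : RingHom.ker (dehom ℬ hf) = Ideal.span {f - 1} := by
  classical
  refine le_antisymm (fun x hx => ?_) (by
    rw [Ideal.span_singleton_le_iff_mem, RingHom.mem_ker, map_sub, dehom_self, map_one, sub_self])
  rw [RingHom.mem_ker] at hx
  set q := Ideal.Quotient.mk (Ideal.span {f - 1})
  have hq : q f = 1 := by
    rw [← map_one q, Ideal.Quotient.mk_eq_mk_iff_sub_mem]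
    exact Ideal.mem_span_singleton_self _
  let s := (decompose ℬ x).support
  let N := s.sup id
  let y : B := ∑ i ∈ s, (decompose ℬ x i : B) * f ^ (N - i)
  have hqy : q y = q x := by
    conv_rhs => rw [← DirectSum.sum_support_decompose ℬ x]
    rw [map_sum, map_sum]
    exact Finset.sum_congr rfl fun i _ => by rw [map_mul, map_pow, hq, one_pow, mul_one]
  have hy : y ∈ ℬ N := Submodule.sum_mem _ fun i hi => by
    have := SetLike.mul_mem_graded (SetLike.coe_mem (decompose ℬ x i)) (SetLike.pow_mem_graded (N - i) hf)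
    have hle : i ≤ N := Finset.le_sup (f := id) hi
    rwa [smul_eq_mul, mul_one, Nat.add_sub_cancel' hle] at this
  have hdy : dehom ℬ hf y = 0 := by
    conv_rhs => rw [← hx, ← DirectSum.sum_support_decompose ℬ x]
    rw [map_sum, map_sum]
    exact Finset.sum_congr rfl fun i _ => by rw [map_mul, map_pow, dehom_self, one_pow, mul_one]
  have hv := congrArg HomogeneousLocalization.val hdy
  rw [dehom_val ℬ hf hy, val_zero, Localization.mk_eq_mk', IsLocalization.mk'_eq_zero_iff] at hv
  obtain ⟨⟨_, k, rfl⟩, hk⟩ := hv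
  rw [← Ideal.Quotient.eq_zero_iff_mem]
  show q x = 0
  rw [← hqy]
  have := congrArg q hk
  rwa [map_mul, map_pow, hq, one_pow, one_mul, map_zero] at this

/-- `B / (f - 1) ≃ B_(f)`. -/
noncomputable def dehomEquiv : B ⧸ Ideal.span {f - 1} ≃+* Away ℬ f :=
  (Ideal.quotEquivOfEq (ker_dehom ℬ hf).symm).trans
    (RingHom.quotientKerEquivOfSurjective (dehom_surjective ℬ hf))

lemma dehomEquiv_mk (x : B) : dehomEquiv ℬ hf (Ideal.Quotient.mk _ x) = dehom ℬ hf x := rfl

end Groth.L18
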