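import Groth.Agent.L18.DirImgFull
import Groth.Agent.L16.Devissage

/-!
Along an affine morphism every quasi-coherent module over the direct image of the structure sheaf is a direct image.
-/

set_option autoImplicit false
set_option linter.style.haveILetI false
set_option backward.isDefEq.respectTransparency false
set_option backward.isDefEq.respectTransparency.types false

noncomputable section

universe u

open CategoryTheory CategoryTheory.Limits AlgebraicGeometry TopologicalSpace Opposite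

namespace Groth.L18.DirImgEss

open Groth.L18.QCohColim (secF)

/-- Sections killed by a map lift to its kernel. -/
theorem exists_kernel_lift {X : Scheme.{u}} {N Q : X.Modules} (ψ : N ⟶ Q) {U : X.Opens} (x : Γ(N, U))
    (hx : ψ.app U x = 0) : ∃ k : Γ(kernel ψ, U), (kernel.ι ψ).app U k = x := by
  let G : SheafOfModules.{u} X.ringCatSheaf ⥤ _ := SheafOfModules.evaluation.{u} X.ringCatSheaf (op U)
  let f := G.map (show (N : SheafOfModules.{u} X.ringCatSheaf) ⟶ Q from ψ)
  let l : ModuleCat.of _ (X.ringCatSheaf.obj.obj (op U)) ⟶ G.obj N :=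
    ModuleCat.ofHom (LinearMap.toSpanSingleton _ _ (show G.obj N from x))
  have hl : l ≫ f = 0 := by
    refine ModuleCat.hom_ext (LinearMap.ext_ring ?_)
    show f ((1 : X.ringCatSheaf.obj.obj (op U)) • (show G.obj N from x)) = 0
    rw [one_smul]
    exact hx
  refine ⟨(kernel.lift f l hl ≫ (PreservesKernel.iso G ψ).inv) (1 : X.ringCatSheaf.obj.obj (op U)), ?_⟩
  have e : (kernel.lift f l hl ≫ (PreservesKernel.iso G ψ).inv) ≫ G.map (kernel.ι ψ) = l := by
    rw [Category.assoc, PreservesKernel.iso_inv_ι, kernel.lift_ι]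
  refine (ConcreteCategory.congr_hom e _).trans ?_
  show (1 : X.ringCatSheaf.obj.obj (op U)) • (show G.obj N from x) = _
  exact one_smul _ _

variable {X S : Scheme.{u}} (f : X ⟶ S) [IsAffineHom f]

/-- The unit on sections. -/
abbrev eta (N : S.Modules) (U : S.Opens) (m : Γ(N, U)) :
    Γ((Scheme.Modules.pullback f).obj N, f ⁻¹ᵁ U) :=
  ((Scheme.Modules.pullbackPushforwardAdjunction f).unit.app N).app U m

theorem eta_eq (N : S.Modules) (U : S.Opens) (m : Γ(N, U)) :
    Groth.L16.AffineBC.pullRes f N (le_refl (f ⁻¹ᵁ U)) m = eta f N U m :=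
  ConcreteCategory.congr_hom (((Scheme.Modules.pullback f).obj N).presheaf.map_id (op (f ⁻¹ᵁ U))) _

/-- Sections of a pullback over the preimage of an affine open are spanned by pulled back sections. -/
theorem induction_pull (N : S.Modules) [Coh.IsQCoh N] {U : S.Opens} (hU : IsAffineOpen U)
    {C : Γ((Scheme.Modules.pullback f).obj N, f ⁻¹ᵁ U) → Prop}
    (h0 : C 0) (he : ∀ m, C (eta f N U m)) (hs : ∀ (b : Γ(X, f ⁻¹ᵁ U)) z, C z → C (b • z))
    (ha : ∀ y z, C y → C z → C (y + z)) (z) : C z := by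
  letI : Algebra Γ(S, U) Γ(X, f ⁻¹ᵁ U) := (f.appLE U (f ⁻¹ᵁ U) le_rfl).hom.toAlgebra
  letI := Module.compHom Γ((Scheme.Modules.pullback f).obj N, f ⁻¹ᵁ U) (f.appLE U (f ⁻¹ᵁ U) le_rfl).hom
  haveI : IsScalarTower Γ(S, U) Γ(X, f ⁻¹ᵁ U) Γ((Scheme.Modules.pullback f).obj N, f ⁻¹ᵁ U) :=
    IsScalarTower.of_algebraMap_smul fun _ _ => rfl
  exact (Groth.L16.AffineBC.isBaseChange_pull f N hU (hU.preimage f) le_rfl).inductionOn z C h0
    (fun m => (eta_eq f N U m).symm ▸ he m) hs ha

variable (M : AMod (RelSpec.QCAlg.directImage f))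

/-- The underlying module on the base. -/
abbrev base : S.Modules := (AMod.toOS _).obj M

/-- Scalar action of the functions on the preimage. -/
def act (U : S.Opens) (b : Γ(X, f ⁻¹ᵁ U)) (m : Γ(base f M, U)) : Γ(base f M, U) :=
  (show (AMod.ringSheaf (RelSpec.QCAlg.directImage f)).obj.obj (op U) from b) • (show M.val.obj (op U) from m)

theorem act_app (U : S.Opens) (r : Γ(S, U)) (m : Γ(base f M, U)) : act f M U (f.app U r) m = r • m := rfl

theorem act_zero (U : S.Opens) (b : Γ(X, f ⁻¹ᵁ U)) : act f M U b 0 = 0 :=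
  smul_zero (A := M.val.obj (op U)) (show (AMod.ringSheaf (RelSpec.QCAlg.directImage f)).obj.obj (op U) from b)

theorem act_res {U V : S.Opens} (h : V ≤ U) (b : Γ(X, f ⁻¹ᵁ U)) (m : Γ(base f M, U)) :
    (base f M).presheaf.map (homOfLE h).op (act f M U b m) =
      act f M V (X.presheaf.map ((Opens.map f.base).map (homOfLE h)).op b) ((base f M).presheaf.map (homOfLE h).op m) :=
  M.val.map_smul (homOfLE h).op _ _

variable [Coh.IsQCoh (base f M)]

theorem exists_proj {U : S.Opens} (hU : IsAffineOpen U) :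
    ∃ p : Γ((Scheme.Modules.pullback f).obj (base f M), f ⁻¹ᵁ U) →+ Γ(base f M, U),
      (∀ m, p (eta f (base f M) U m) = m) ∧ ∀ b z, p (b • z) = act f M U b (p z) := by
  set N := base f M
  set P := (Scheme.Modules.pullback f).obj N
  letI : Algebra Γ(S, U) Γ(X, f ⁻¹ᵁ U) := (f.appLE U (f ⁻¹ᵁ U) le_rfl).hom.toAlgebra
  letI := Module.compHom Γ(P, f ⁻¹ᵁ U) (f.appLE U (f ⁻¹ᵁ U) le_rfl).hom
  haveI : IsScalarTower Γ(S, U) Γ(X, f ⁻¹ᵁ U) Γ(P, f ⁻¹ᵁ U) := IsScalarTower.of_algebraMap_smul fun _ _ => rfl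
  letI : Module Γ(X, f ⁻¹ᵁ U) (M.val.obj (op U)) := (M.val.obj (op U)).isModule
  letI := Module.compHom (M.val.obj (op U)) (f.appLE U (f ⁻¹ᵁ U) le_rfl).hom
  haveI : IsScalarTower Γ(S, U) Γ(X, f ⁻¹ᵁ U) (M.val.obj (op U)) :=
    IsScalarTower.of_algebraMap_smul fun _ _ => rfl
  let g : Γ(N, U) →ₗ[Γ(S, U)] (M.val.obj (op U)) :=
    { toFun := fun m => m
      map_add' := fun _ _ => rfl
      map_smul' := fun r m => by
        show r • m = act f M U (f.appLE U (f ⁻¹ᵁ U) le_rfl r) m
        rw [← Scheme.Hom.app_eq_appLE]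
        exact (act_app f M U r m).symm }
  have hb := Groth.L16.AffineBC.isBaseChange_pull f N hU (hU.preimage f) (le_refl (f ⁻¹ᵁ U))
  refine ⟨(hb.lift g).toAddMonoidHom, fun m => ?_, fun b z => (hb.lift g).map_smul b z⟩
  show hb.lift g (eta f N U m) = m
  rw [← eta_eq f N U m]
  exact IsBaseChange.lift_eq hb g m

theorem exists_dirImg_iso :
    ∃ F : X.Modules, Coh.IsQCoh F ∧ Nonempty ((AMod.dirImg f).obj F ≅ M) := by
  classical
  let adj := Scheme.Modules.pullbackPushforwardAdjunction f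
  let N := base f M
  let P := (Scheme.Modules.pullback f).obj N
  haveI : Coh.IsQCoh P := Groth.L16.AffineBC.isQCoh_pullback f N
  haveI : Coh.IsQCoh ((Scheme.Modules.pushforward f).obj P) := Groth.L18.DirImg.isQCoh_push f P inferInstance
  choose p hp hps using fun (U : S.Opens) (hU : IsAffineOpen U) => exists_proj f M hU
  have heta_res : ∀ (K : S.Modules) {U V : S.Opens} (h : V ≤ U) (m : Γ(K, U)),
      ((Scheme.Modules.pullback f).obj K).presheaf.map ((Opens.map f.base).map (homOfLE h)).op (eta f K U m) =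
        eta f K V (K.presheaf.map (homOfLE h).op m) := fun K U V h m =>
    (ConcreteCategory.congr_hom ((adj.unit.app K).mapPresheaf.naturality (homOfLE h).op) m).symm
  have hpnat : ∀ (U V : S.Opens) (hU : IsAffineOpen U) (hV : IsAffineOpen V) (h : V ≤ U) (z : Γ(P, f ⁻¹ᵁ U)),
      p V hV (P.presheaf.map ((Opens.map f.base).map (homOfLE h)).op z) =
        N.presheaf.map (homOfLE h).op (p U hU z) := by
    intro U V hU hV h z
    refine induction_pull f N hU (C := fun z => p V hV (P.presheaf.map ((Opens.map f.base).map (homOfLE h)).op z) =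
      N.presheaf.map (homOfLE h).op (p U hU z)) ?_ (fun m => ?_) (fun b z hz => ?_) (fun y z hy hz => ?_) z
    · simp only [map_zero]
    · rw [hp, heta_res N h, hp]
    · rw [hps, act_res]
      refine (congrArg (p V hV) (Scheme.Modules.map_smul P ((Opens.map f.base).map (homOfLE h)) b z)).trans ?_
      rw [hps, hz]
    · simp only [map_add, hy, hz]
  obtain ⟨π, hπ⟩ := Groth.L16.AffineBC.exists_hom_affine (M := (Scheme.Modules.pushforward f).obj P) (N := N)
    (fun U hU => p U hU) hpnat (fun U hU r z => by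
      refine (hps U hU (f.app U r) z).trans ?_
      exact act_app f M U r _)
  haveI : Coh.IsQCoh (kernel π) := Groth.L18.IdealModule.isQCoh_kernel π
  let κ : (Scheme.Modules.pullback f).obj (kernel π) ⟶ P := (adj.homEquiv _ _).symm (kernel.ι π)
  have hκ : ∀ (U : S.Opens) (k : Γ(kernel π, U)),
      κ.app (f ⁻¹ᵁ U) (eta f (kernel π) U k) = (kernel.ι π).app U k := fun U k =>
    congrArg (fun a : kernel π ⟶ (Scheme.Modules.pushforward f).obj P => a.app U k)
      ((adj.homEquiv_unit _ _ _).symm.trans (Equiv.apply_symm_apply _ _))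
  haveI : Coh.IsQCoh ((Scheme.Modules.pullback f).obj (kernel π)) := Groth.L16.AffineBC.isQCoh_pullback f _
  haveI hFq : Coh.IsQCoh (cokernel κ) := Groth.L16.Devissage.isQCoh_cokernel κ
  let v := cokernel.π κ
  have hpκ : ∀ (U : S.Opens) (hU : IsAffineOpen U) w, p U hU (κ.app (f ⁻¹ᵁ U) w) = 0 := by
    intro U hU w
    refine induction_pull f (kernel π) hU (C := fun w => p U hU (κ.app (f ⁻¹ᵁ U) w) = 0)
      ?_ (fun k => ?_) (fun b z hz => ?_) (fun y z hy hz => ?_) w
    · simp only [map_zero]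
    · rw [hκ]
      refine (hπ U hU _).symm.trans ?_
      exact congrArg (fun a : kernel π ⟶ N => a.app U k) (kernel.condition π)
    · rw [Scheme.Modules.Hom.app_smul, hps, hz, act_zero]
    · simp only [map_add, hy, hz, add_zero]
  have hker : ∀ (U : S.Opens) (hU : IsAffineOpen U) (z : Γ(P, f ⁻¹ᵁ U)), p U hU z = 0 → v.app (f ⁻¹ᵁ U) z = 0 := by
    intro U hU z hz
    obtain ⟨k, hk⟩ := exists_kernel_lift π (U := U) z ((hπ U hU z).trans hz)
    refine (congrArg (v.app (f ⁻¹ᵁ U)) hk).symm.trans ?_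
    refine (congrArg (v.app (f ⁻¹ᵁ U)) (hκ U k)).symm.trans ?_
    exact congrArg (fun a : (Scheme.Modules.pullback f).obj (kernel π) ⟶ cokernel κ => a.app (f ⁻¹ᵁ U) (eta f (kernel π) U k))
      (cokernel.condition κ)
  have hvker : ∀ (U : S.Opens) (hU : IsAffineOpen U) (z : Γ(P, f ⁻¹ᵁ U)), v.app (f ⁻¹ᵁ U) z = 0 → p U hU z = 0 := by
    intro U hU z hz
    obtain ⟨y, hy⟩ := exists_kernel_lift v z hz
    haveI : Coh.IsQCoh (Abelian.image κ) := Groth.L18.IdealModule.isQCoh_kernel v
    obtain ⟨w, hw⟩ := Groth.L16.AffineBC.surjective_app_of_epi (Abelian.factorThruImage κ) (hU.preimage f) y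
    rw [← hy, ← hw]
    refine Eq.trans (congrArg (p U hU) ?_) (hpκ U hU w)
    exact congrArg (fun a : (Scheme.Modules.pullback f).obj (kernel π) ⟶ P => a.app (f ⁻¹ᵁ U) w) (Abelian.image.fac κ)
  let θ : N ⟶ (Scheme.Modules.pushforward f).obj (cokernel κ) :=
    adj.unit.app N ≫ (Scheme.Modules.pushforward f).map v
  haveI : Coh.IsQCoh ((Scheme.Modules.pushforward f).obj (cokernel κ)) := Groth.L18.DirImg.isQCoh_push f _ hFq
  have hbij : ∀ (U : S.Opens), IsAffineOpen U → Function.Bijective (θ.app U) := by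
    intro U hU
    refine ⟨(injective_iff_map_eq_zero _).2 fun m hm => ?_, fun y => ?_⟩
    · rw [← hp U hU m]
      exact hvker U hU _ hm
    · obtain ⟨z, hz⟩ := Groth.L16.AffineBC.surjective_app_of_epi v (hU.preimage f) y
      refine ⟨p U hU z, ?_⟩
      refine Eq.trans ?_ hz
      have := hker U hU (eta f N U (p U hU z) - z) (by rw [map_sub, hp, sub_self])
      rw [map_sub, sub_eq_zero] at this
      exact this
  haveI : IsIso θ := Groth.L18.DirImg.isIso_of_isIso_affine θ fun U hU =>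
    (ConcreteCategory.isIso_iff_bijective _).2 (hbij U hU)
  have haff : ∀ (U : S.Opens), IsAffineOpen U → ∀ (b : Γ(X, f ⁻¹ᵁ U)) (m : Γ(N, U)),
      θ.app U (act f M U b m) = (show Γ(cokernel κ, f ⁻¹ᵁ U) from b • v.app (f ⁻¹ᵁ U) (eta f N U m)) := by
    intro U hU b m
    have := hker U hU (eta f N U (act f M U b m) - b • eta f N U m) (by rw [map_sub, hp, hps, hp, sub_self])
    rw [map_sub, sub_eq_zero, Scheme.Modules.Hom.app_smul] at this
    exact this
  refine ⟨cokernel κ, hFq, ⟨?_⟩⟩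
  let G := (AMod.dirImg f).obj (cokernel κ)
  have hlin : ∀ (V : (Opens S)ᵒᵖ) (b : (AMod.ringSheaf (RelSpec.QCAlg.directImage f)).obj.obj V) (s : M.val.obj V),
      θ.mapPresheaf.app V (b • s) = b • (show G.val.obj V from θ.mapPresheaf.app V s) := by
    intro V b s
    obtain ⟨Us, hUs, hV⟩ := TopologicalSpace.Opens.isBasis_iff_cover.1 S.isBasis_affineOpens V.unop
    refine TopCat.Sheaf.eq_of_locally_eq' ⟨((AMod.toOS _).obj G).presheaf, ((AMod.toOS _).obj G).isSheaf⟩
      (fun W : Us => (W : S.Opens)) V.unop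
      (fun W => homOfLE ((le_sSup W.2).trans hV.ge)) (hV.le.trans (sSup_eq_iSup' _).le) _ _ fun W => ?_
    let i : op V.unop ⟶ op (W : S.Opens) := (homOfLE ((le_sSup W.2).trans hV.ge)).op
    refine (ConcreteCategory.congr_hom (θ.mapPresheaf.naturality i) (b • s)).symm.trans ?_
    refine Eq.trans ?_ (G.val.map_smul i b (show G.val.obj V from θ.mapPresheaf.app V s)).symm
    show θ.mapPresheaf.app (op (W : S.Opens)) (M.val.map i (b • s)) = _
    rw [PresheafOfModules.map_smul]
    refine (haff _ (hUs W.2) _ _).trans ?_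
    exact congrArg _ (ConcreteCategory.congr_hom (θ.mapPresheaf.naturality i) s)
  let ψ : M ⟶ G := ⟨PresheafOfModules.homMk θ.mapPresheaf hlin⟩
  haveI : IsIso ψ := by
    haveI : IsIso θ.mapPresheaf := inferInstanceAs (IsIso ((Scheme.Modules.toPresheaf S).map θ))
    haveI : IsIso ((SheafOfModules.toSheaf (AMod.ringSheaf (RelSpec.QCAlg.directImage f))).map ψ) := by
      haveI : IsIso ((sheafToPresheaf (Opens.grothendieckTopology S) AddCommGrpCat.{u}).map
          ((SheafOfModules.toSheaf (AMod.ringSheaf (RelSpec.QCAlg.directImage f))).map ψ)) :=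
        inferInstanceAs (IsIso θ.mapPresheaf)
      exact isIso_of_reflects_iso _ (sheafToPresheaf (Opens.grothendieckTopology S) AddCommGrpCat.{u})
    exact isIso_of_reflects_iso ψ (SheafOfModules.toSheaf (AMod.ringSheaf (RelSpec.QCAlg.directImage f)))
  exact (asIso ψ).symm

end Groth.L18.DirImgEss
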