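import Groth.Agent.L18.DirImgFull
import Groth.Agent.L17.FSheaf.LocPres
import Groth.Agent.L20.ModStalk
import Groth.Agent.L16.CohClosedPush

/-!
Finite type along an affine morphism, over the direct image of the structure sheaf.
-/

set_option autoImplicit false
set_option linter.style.haveILetI false
set_option backward.isDefEq.respectTransparency false
set_option backward.isDefEq.respectTransparency.types false

noncomputable section

universe u

open CategoryTheory CategoryTheory.Limits AlgebraicGeometry TopologicalSpace Opposite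

namespace Groth.L18.DirImgFT

open Groth.L18.Frame (rs ro rs_rs rs_self)

variable {X : Scheme.{u}} (F : X.Modules) [Coh.IsQCoh F] {W : X.Opens} {ι : Type u} [Finite ι]

theorem rs_smul' {U V : X.Opens} (h : V ≤ U) (a : Γ(X, U)) (m : Γ(F, U)) :
    rs F h (a • m) = ro h a • rs F h m :=
  Scheme.Modules.map_smul F (homOfLE h) a m

omit [Finite ι] in
theorem rs_mem_span {U V : X.Opens} (h : V ≤ U) (s : ι → Γ(F, U)) {z : Γ(F, U)}
    (hz : z ∈ Submodule.span Γ(X, U) (Set.range s)) :
    rs F h z ∈ Submodule.span Γ(X, V) (Set.range fun i => rs F h (s i)) := by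
  induction hz using Submodule.span_induction with
  | mem y hy => obtain ⟨i, rfl⟩ := hy; exact Submodule.subset_span ⟨i, rfl⟩
  | zero => rw [show rs F h 0 = 0 from map_zero _]; exact Submodule.zero_mem _
  | add a b _ _ ha hb => rw [show rs F h (a + b) = rs F h a + rs F h b from map_add _ a b]; exact Submodule.add_mem _ ha hb
  | smul a y _ hy => rw [rs_smul']; exact Submodule.smul_mem _ _ hy

/-- Membership in the span is local on an affine open. -/
theorem mem_span_of_local (hW : IsAffineOpen W) (s : ι → Γ(F, W)) (z : Γ(F, W))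
    (h : ∀ x ∈ W, ∃ g : Γ(X, W), x ∈ X.basicOpen g ∧ rs F (X.basicOpen_le g) z ∈
      Submodule.span Γ(X, X.basicOpen g) (Set.range fun i => rs F (X.basicOpen_le g) (s i))) :
    z ∈ Submodule.span Γ(X, W) (Set.range s) := by
  classical
  cases nonempty_fintype ι
  set N := Submodule.span Γ(X, W) (Set.range s)
  let J : Ideal Γ(X, W) := N.colon {z}
  choose g hxg hg using fun x : W => h x.1 x.2
  have hpow : ∀ x : W, g x ∈ J.radical := fun x => by
    obtain ⟨c, hc⟩ := (Submodule.mem_span_range_iff_exists_fun _).1 (hg x)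
    letI : Algebra Γ(X, W) Γ(X, X.basicOpen (g x)) := (X.presheaf.map (homOfLE (X.basicOpen_le (g x))).op).hom.toAlgebra
    haveI : IsLocalization.Away (g x) Γ(X, X.basicOpen (g x)) := hW.isLocalization_basicOpen (g x)
    obtain ⟨⟨_, k, rfl⟩, hk⟩ := IsLocalization.exist_integer_multiples_of_finite (Submonoid.powers (g x)) c
    choose a ha using hk
    have h0 : rs F (X.basicOpen_le (g x)) (g x ^ k • z - ∑ i, a i • s i) = 0 := by
      rw [show rs F (X.basicOpen_le (g x)) (g x ^ k • z - ∑ i, a i • s i) =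
        rs F (X.basicOpen_le (g x)) (g x ^ k • z) - rs F (X.basicOpen_le (g x)) (∑ i, a i • s i) from map_sub _ _ _,
        sub_eq_zero, rs_smul', show rs F (X.basicOpen_le (g x)) (∑ i, a i • s i) =
          ∑ i, rs F (X.basicOpen_le (g x)) (a i • s i) from map_sum _ _ _, ← hc, Finset.smul_sum]
      refine Finset.sum_congr rfl fun i _ => ?_
      rw [rs_smul', smul_smul]
      exact congrArg (· • rs F (X.basicOpen_le (g x)) (s i)) ((Algebra.smul_def _ _).symm.trans (ha i).symm)
    obtain ⟨l, hl⟩ := Groth.L16.QCohSect.exists_pow_smul_eq_zero (M := F) hW (g x) _ h0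
    refine ⟨l + k, Submodule.mem_colon_singleton.2 ?_⟩
    rw [smul_sub, sub_eq_zero, smul_smul, ← pow_add] at hl
    rw [hl]
    exact Submodule.smul_mem _ _ (Submodule.sum_mem _ fun i _ => Submodule.smul_mem _ _ (Submodule.subset_span ⟨i, rfl⟩))
  have htop : Ideal.span (Set.range g) = ⊤ := hW.iSup_basicOpen_eq_self_iff.mp (by
    refine le_antisymm (iSup_le fun i => X.basicOpen_le _) fun x hx => ?_
    exact Opens.mem_iSup.mpr ⟨⟨g ⟨x, hx⟩, ⟨⟨x, hx⟩, rfl⟩⟩, hxg ⟨x, hx⟩⟩)
  have h1 : (1 : Γ(X, W)) ∈ J := by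
    rw [← Ideal.eq_top_iff_one, ← Ideal.radical_eq_top, eq_top_iff, ← htop]
    exact Ideal.span_le.2 (Set.range_subset_iff.2 hpow)
  have := Submodule.mem_colon_singleton.1 h1
  rwa [one_smul] at this

/-- Generators of the sections on an affine open generate on smaller affine opens. -/
theorem span_restrict_eq_top (hW : IsAffineOpen W) {W' : X.Opens} (hW' : IsAffineOpen W') (h : W' ≤ W)
    (s : ι → Γ(F, W)) (hs : Submodule.span Γ(X, W) (Set.range s) = ⊤) :
    Submodule.span Γ(X, W') (Set.range fun i => rs F h (s i)) = ⊤ := by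
  refine eq_top_iff.2 fun z _ => mem_span_of_local F hW' _ z fun x hx => ?_
  obtain ⟨a, b, hab, hxa⟩ := exists_basicOpen_le_affine_inter hW hW' x ⟨h hx, hx⟩
  have hxb : x ∈ X.basicOpen b := hab ▸ hxa
  refine ⟨b, hxb, ?_⟩
  obtain ⟨n, t, ht⟩ := Groth.L16.QCohSect.exists_pow_smul_eq_res (M := F) hW a (rs F hab.le (rs F (X.basicOpen_le b) z))
  have hm := rs_mem_span F (X.basicOpen_le a) s (hs ▸ Submodule.mem_top : t ∈ Submodule.span Γ(X, W) (Set.range s))
  rw [ht] at hm
  have hu : IsUnit (ro (X.basicOpen_le a) (a ^ n)) := by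
    rw [show ro (X.basicOpen_le a) (a ^ n) = ro (X.basicOpen_le a) a ^ n from map_pow _ a n]
    exact (X.toRingedSpace.isUnit_res_basicOpen a).pow n
  have hm' := rs_mem_span F hab.ge _ ((Submodule.smul_mem_iff_of_isUnit _ hu).1 hm)
  rw [rs_rs, rs_rs] at hm'
  simpa only [rs_rs] using hm'

section

variable {S : Scheme.{u}} (f : X ⟶ S) [IsAffineHom f]

theorem isFiniteType_dirImg_of (hF : CohB1.IsFT F) :
    SheafOfModules.IsFiniteType.{u} (R := AMod.ringSheaf (RelSpec.QCAlg.directImage f)) ((AMod.dirImg f).obj F) := by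
  let M := (AMod.dirImg f).obj F
  have h : ∀ x : S, ∃ V : S.Opens, x ∈ V ∧ ∃ σ : (M.over V).GeneratingSections, σ.IsFiniteType := fun x => by
    obtain ⟨_, ⟨V, hV, rfl⟩, hxV, -⟩ :=
      S.isBasis_affineOpens.exists_subset_of_mem_open (Set.mem_univ x) isOpen_univ
    haveI : Module.Finite Γ(X, f ⁻¹ᵁ V) Γ(F, f ⁻¹ᵁ V) :=
      Groth.L20.ModStalk.finite_sections F ⟨inferInstance, hF⟩ (hV.preimage f)
    obtain ⟨n, s, hs⟩ := Module.Finite.exists_fin (R := Γ(X, f ⁻¹ᵁ V)) (M := Γ(F, f ⁻¹ᵁ V))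
    have hu : Submodule.span Γ(X, f ⁻¹ᵁ V) (Set.range fun i : ULift.{u} (Fin n) => s i.down) = ⊤ := by
      rw [← hs]
      exact congrArg _ (Equiv.ulift.surjective.range_comp s)
    obtain ⟨σ, hσ, -⟩ := Groth.L17.FSheaf.exists_generators (R := AMod.ringSheaf (RelSpec.QCAlg.directImage f))
      (U := V) (B := {W : S.Opens | IsAffineOpen W}) S.isBasis_affineOpens (M.over V) s fun W hW hWV => by
        have := span_restrict_eq_top F (hV.preimage f) (hW.preimage f)
          (fun y hy => hWV hy) (fun i : ULift.{u} (Fin n) => s i.down) hu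
        rw [show (Set.range fun i : ULift.{u} (Fin n) => rs F (fun y hy => hWV hy : f ⁻¹ᵁ W ≤ f ⁻¹ᵁ V) (s i.down)) =
          Set.range fun i => rs F (fun y hy => hWV hy : f ⁻¹ᵁ W ≤ f ⁻¹ᵁ V) (s i) from
            Equiv.ulift.surjective.range_comp (fun i : Fin n => rs F (fun y hy => hWV hy : f ⁻¹ᵁ W ≤ f ⁻¹ᵁ V) (s i))] at this
        exact this
    exact ⟨V, hxV, σ, hσ⟩
  choose V hV σ hσ using h
  let d : SheafOfModules.LocalGeneratorsData.{u} (R := AMod.ringSheaf (RelSpec.QCAlg.directImage f)) M :=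
    SheafOfModules.LocalGeneratorsData.mk.{u, u, u, u} (R := AMod.ringSheaf (RelSpec.QCAlg.directImage f)) (M := M) (↥S) V
      (Groth.L00.Local.coversTop_of_forall_exists V fun x => ⟨x, hV x⟩) σ
  haveI : SheafOfModules.LocalGeneratorsData.IsFiniteType.{u, u, u, u}
      (R := AMod.ringSheaf (RelSpec.QCAlg.directImage f)) (M := M) d :=
    SheafOfModules.LocalGeneratorsData.IsFiniteType.mk (R := AMod.ringSheaf (RelSpec.QCAlg.directImage f)) (M := M) (p := d) hσ
  refine SheafOfModules.IsFiniteType.mk (R := AMod.ringSheaf (RelSpec.QCAlg.directImage f)) (M := M) ?_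
  exact ⟨d, this⟩

omit [Coh.IsQCoh F] in
theorem lift_mem_span {U V' : S.Opens} (hV : V' ≤ U)
    (σ : (((AMod.dirImg f).obj F).over U).GeneratingSections) [Fintype σ.I]
    (t : σ.I → Γ(F, f ⁻¹ᵁ V')) (ht : ∀ j, (σ.s j).val (Groth.L17.FSheaf.objO hV) = t j)
    (c : σ.I → ((AMod.ringSheaf (RelSpec.QCAlg.directImage f)).over U).obj.obj (Groth.L17.FSheaf.objO hV))
    (a : (SheafOfModules.free (R := (AMod.ringSheaf (RelSpec.QCAlg.directImage f)).over U) σ.I).val.obj
      (Groth.L17.FSheaf.objO hV))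
    (ha : a = ∑ j, c j • Groth.L17.FSheaf.e σ.I j (Groth.L17.FSheaf.objO hV)) :
    ((σ.π.val.app (Groth.L17.FSheaf.objO hV)).hom a : Γ(F, f ⁻¹ᵁ V')) ∈
      Submodule.span Γ(X, f ⁻¹ᵁ V') (Set.range t) := by
  subst ha
  rw [map_sum]
  refine Submodule.sum_mem _ fun j _ => ?_
  rw [map_smul, Groth.L17.FSheaf.π_e, ht j]
  exact Submodule.smul_mem _ _ (Submodule.subset_span ⟨j, rfl⟩)

theorem isFT_of_dirImg
    (h : SheafOfModules.IsFiniteType.{u} (R := AMod.ringSheaf (RelSpec.QCAlg.directImage f)) ((AMod.dirImg f).obj F)) :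
    CohB1.IsFT F := by
  obtain ⟨d, hd⟩ := h.exists_localGeneratorsData
  have hc : TopologicalSpace.IsOpenCover d.X := (Opens.coversTop_iff _ d.X).1 d.coversTop
  refine (Groth.L16.CohClosedPush.isCoh_of_finite_sections F fun x => ?_).2
  obtain ⟨i, hi⟩ := TopologicalSpace.Opens.mem_iSup.1
    (show f x ∈ ⨆ i, d.X i from hc.symm ▸ TopologicalSpace.Opens.mem_top _)
  obtain ⟨_, ⟨V, hV, rfl⟩, hxV, hVi⟩ := S.isBasis_affineOpens.exists_subset_of_mem_open hi (d.X i).isOpen
  refine ⟨f ⁻¹ᵁ V, hxV, hV.preimage f, ?_⟩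
  haveI : Finite (d.generators i).I := (hd.isFiniteType i).finite
  letI := Fintype.ofFinite (d.generators i).I
  let s : (d.generators i).I → Γ(F, f ⁻¹ᵁ V) := fun j => ((d.generators i).s j).val (Groth.L17.FSheaf.objO hVi)
  refine ⟨Submodule.fg_def.2 ⟨Set.range s, Set.finite_range s, eq_top_iff.2 fun z _ =>
    mem_span_of_local F (hV.preimage f) s z fun y hy => ?_⟩⟩
  haveI : Epi (d.generators i).π := (d.generators i).epi
  obtain ⟨V', hV', hyV', a, ha⟩ := Groth.L17.FSheaf.exists_lift_over (d.generators i).π hVi z (f y) hy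
  obtain ⟨c, hca⟩ := Groth.L17.FSheaf.exists_coeff _ a
  obtain ⟨g, hg, hyg⟩ := (hV.preimage f).exists_basicOpen_le (V := f ⁻¹ᵁ V') ⟨y, hyV'⟩ hy
  refine ⟨g, hyg, ?_⟩
  have hle : f ⁻¹ᵁ V' ≤ f ⁻¹ᵁ V := fun w hw => hV' hw
  have hspan : rs F hle z ∈ Submodule.span Γ(X, f ⁻¹ᵁ V') (Set.range fun j => rs F hle (s j)) := by
    have hz : ((((d.generators i).π).val.app (Groth.L17.FSheaf.objO (hV'.trans hVi))).hom a :
        Γ(F, f ⁻¹ᵁ V')) = rs F hle z := ha
    rw [← hz]
    have hr : ∀ j, ((d.generators i).s j).val (Groth.L17.FSheaf.objO (hV'.trans hVi)) = rs F hle (s j) := fun j =>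
      (((d.generators i).s j).property
        (show Groth.L17.FSheaf.objO hVi ⟶ Groth.L17.FSheaf.objO (hV'.trans hVi) from (Over.homMk (homOfLE hV')).op)).symm
    exact lift_mem_span F f (hV'.trans hVi) (d.generators i) (fun j => rs F hle (s j)) hr c a hca
  have := rs_mem_span F hg _ hspan
  simpa only [rs_rs] using this

end

end Groth.L18.DirImgFT
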