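import Groth.Agent.L18.DirImg
import Groth.Agent.L20.ResDescent
import Groth.Agent.L18.IdealModule
import Mathlib.CategoryTheory.Abelian.Basic

/-!
# The direct image along an affine morphism is fully faithful on quasi-coherent modules
-/

set_option autoImplicit false
set_option linter.style.haveILetI false
set_option backward.isDefEq.respectTransparency false
set_option backward.isDefEq.respectTransparency.types false

noncomputable section

universe u

open CategoryTheory CategoryTheory.Limits AlgebraicGeometry TopologicalSpace Opposite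

namespace Groth.L18.DirImgFull

variable {X S : Scheme.{u}} (f : X ⟶ S) [IsAffineHom f]

theorem pushforward_map_injective {F G : X.Modules} [Coh.IsQCoh F] {a b : F ⟶ G}
    (h : (Scheme.Modules.pushforward f).map a = (Scheme.Modules.pushforward f).map b) : a = b :=
  sub_eq_zero.1 (Groth.L20.ResDescent.eq_zero_of_push f (a - b) (by rw [Functor.map_sub, h, sub_self]))

theorem dirImg_map_bijective (F G : X.Modules) [hF : Coh.IsQCoh F] :
    Function.Bijective
      ((AMod.dirImg f).map : (F ⟶ G) → ((AMod.dirImg f).obj F ⟶ (AMod.dirImg f).obj G)) := by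
  refine ⟨fun a b h => pushforward_map_injective f (congrArg (AMod.toOS _).map h), fun φ => ?_⟩
  let adj := Scheme.Modules.pullbackPushforwardAdjunction f
  let M := (Scheme.Modules.pushforward f).obj F
  haveI : Coh.IsQCoh M := Groth.L18.DirImg.isQCoh_push f F hF
  haveI : Coh.IsQCoh ((Scheme.Modules.pullback f).obj M) := Groth.L16.AffineBC.isQCoh_pullback f M
  let φ₀ : M ⟶ (Scheme.Modules.pushforward f).obj G := (AMod.toOS _).map φ
  let Φ : (Scheme.Modules.pullback f).obj M ⟶ G := (adj.homEquiv _ _).symm φ₀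
  let ε : (Scheme.Modules.pullback f).obj M ⟶ F := adj.counit.app F
  have hε : adj.unit.app M ≫ (Scheme.Modules.pushforward f).map ε = 𝟙 M :=
    adj.right_triangle_components F
  have hΦ : adj.unit.app M ≫ (Scheme.Modules.pushforward f).map Φ = φ₀ := by
    exact (adj.homEquiv_unit _ _ _).symm.trans (Equiv.apply_symm_apply _ _)
  have hεV : ∀ (V : S.Opens) (m : Γ(M, V)), ε.app (f ⁻¹ᵁ V) ((adj.unit.app M).app V m) = m := fun V m =>
    congrArg (fun k : M ⟶ M => k.app V m) hε
  have hΦV : ∀ (V : S.Opens) (m : Γ(M, V)), Φ.app (f ⁻¹ᵁ V) ((adj.unit.app M).app V m) = φ₀.app V m :=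
    fun V m => congrArg (fun k : M ⟶ (Scheme.Modules.pushforward f).obj G => k.app V m) hΦ
  have hx : ∀ x : X, ∃ V : S.Opens, IsAffineOpen V ∧ x ∈ f ⁻¹ᵁ V := fun x => by
    obtain ⟨_, ⟨V, hV, rfl⟩, hxV, -⟩ :=
      S.isBasis_affineOpens.exists_subset_of_mem_open (Set.mem_univ (f x)) isOpen_univ
    exact ⟨V, hV, hxV⟩
  have key : ∀ (V : S.Opens), IsAffineOpen V → ∀ z : Γ((Scheme.Modules.pullback f).obj M, f ⁻¹ᵁ V),
      Φ.app (f ⁻¹ᵁ V) z = φ.val.app (op V) (ε.app (f ⁻¹ᵁ V) z) := by
    intro V hV z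
    letI : Algebra Γ(S, V) Γ(X, f ⁻¹ᵁ V) := (f.appLE V (f ⁻¹ᵁ V) le_rfl).hom.toAlgebra
    letI := Module.compHom Γ((Scheme.Modules.pullback f).obj M, f ⁻¹ᵁ V) (f.appLE V (f ⁻¹ᵁ V) le_rfl).hom
    haveI : IsScalarTower Γ(S, V) Γ(X, f ⁻¹ᵁ V) Γ((Scheme.Modules.pullback f).obj M, f ⁻¹ᵁ V) :=
      IsScalarTower.of_algebraMap_smul fun _ _ => rfl
    refine (Groth.L16.AffineBC.isBaseChange_pull f M hV (hV.preimage f) le_rfl).inductionOn z _ ?_ ?_ ?_ ?_
    · rw [map_zero, map_zero]
      exact (map_zero _).symm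
    · intro m
      have e : Groth.L16.AffineBC.pullRes f M (le_refl (f ⁻¹ᵁ V)) m = (adj.unit.app M).app V m :=
        ConcreteCategory.congr_hom (((Scheme.Modules.pullback f).obj M).presheaf.map_id (op (f ⁻¹ᵁ V))) _
      rw [e, hΦV, hεV]
      rfl
    · intro b z hz
      rw [Scheme.Modules.Hom.app_smul, hz, Scheme.Modules.Hom.app_smul]
      exact ((φ.val.app (op V)).hom.map_smul b (ε.app (f ⁻¹ᵁ V) z)).symm
    · intro y z hy hz
      rw [map_add, hy, hz, map_add]
      exact ((φ.val.app (op V)).hom.map_add _ _).symm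
  haveI : Epi ε := by
    refine Preadditive.epi_of_cancel_zero _ fun {Z} g hg => ?_
    refine Groth.L20.ResDescent.eq_zero_of_affine g fun x => ?_
    obtain ⟨V, hV, hxV⟩ := hx x
    refine ⟨f ⁻¹ᵁ V, hV.preimage f, hxV, fun m => ?_⟩
    rw [← hεV V m]
    exact congrArg (fun k : (Scheme.Modules.pullback f).obj M ⟶ Z => k.app (f ⁻¹ᵁ V) ((adj.unit.app M).app V m)) hg
  haveI : Coh.IsQCoh (kernel ε) := Groth.L18.IdealModule.isQCoh_kernel ε
  have hk : kernel.ι ε ≫ Φ = 0 := by
    refine Groth.L20.ResDescent.eq_zero_of_affine _ fun x => ?_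
    obtain ⟨V, hV, hxV⟩ := hx x
    refine ⟨f ⁻¹ᵁ V, hV.preimage f, hxV, fun m => ?_⟩
    show Φ.app (f ⁻¹ᵁ V) ((kernel.ι ε).app (f ⁻¹ᵁ V) m) = 0
    rw [key V hV]
    have h0 : ε.app (f ⁻¹ᵁ V) ((kernel.ι ε).app (f ⁻¹ᵁ V) m) = 0 :=
      congrArg (fun k : kernel ε ⟶ F => k.app (f ⁻¹ᵁ V) m) (kernel.condition ε)
    rw [h0]
    exact map_zero _
  refine ⟨Abelian.epiDesc ε Φ hk, Groth.L18.DirImg.toOS_map_injective f ?_⟩
  show (Scheme.Modules.pushforward f).map (Abelian.epiDesc ε Φ hk) = φ₀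
  refine (Category.id_comp _).symm.trans ?_
  rw [← hε, Category.assoc, ← Functor.map_comp, Abelian.comp_epiDesc]
  exact hΦ

end Groth.L18.DirImgFull

namespace Groth.L18.DirImgFull

variable {X S : Scheme.{u}} (f : X ⟶ S) [IsAffineHom f]

/-- The direct image along an affine morphism reflects isomorphisms of quasi-coherent modules. -/
theorem isIso_of_isIso_pushforward {F G : X.Modules} [Coh.IsQCoh F] [Coh.IsQCoh G] (v : F ⟶ G)
    [IsIso ((Scheme.Modules.pushforward f).map v)] : IsIso v := by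
  haveI : Coh.IsQCoh (kernel v) := Groth.L18.IdealModule.isQCoh_kernel v
  have h1 : kernel.ι v = 0 := Groth.L20.ResDescent.eq_zero_of_push f _ (by
    rw [← cancel_mono ((Scheme.Modules.pushforward f).map v), ← Functor.map_comp, kernel.condition, Functor.map_zero,
      zero_comp])
  have h2 : cokernel.π v = 0 := Groth.L20.ResDescent.eq_zero_of_push f _ (by
    rw [← cancel_epi ((Scheme.Modules.pushforward f).map v), ← Functor.map_comp, cokernel.condition, Functor.map_zero,
      comp_zero])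
  haveI : Mono v := Abelian.mono_of_kernel_ι_eq_zero v h1
  haveI : Epi v := Abelian.epi_of_cokernel_π_eq_zero v h2
  exact isIso_of_mono_of_epi v

end Groth.L18.DirImgFull
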