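import Groth.Agent.L00.ExtEfface

/-! Naturality of `Ext.mapExactFunctor` in the exact functor, and compatibility with composition. -/

universe w v u w' v' u' w'' v'' u''

open CategoryTheory CategoryTheory.Limits CategoryTheory.Abelian

namespace Groth.L18.ExtFunNat

variable {A : Type u} [Category.{v} A] [Abelian A] [HasExt.{w} A]
  {B : Type u'} [Category.{v'} B] [Abelian B] [HasExt.{w'} B]
  {C : Type u''} [Category.{v''} C] [Abelian C] [HasExt.{w''} C]

theorem natTrans_comp (F G : A ⥤ B) [F.Additive] [PreservesFiniteLimits F] [PreservesFiniteColimits F]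
    [G.Additive] [PreservesFiniteLimits G] [PreservesFiniteColimits G] (η : F ⟶ G) :
    ∀ {n : ℕ} {X Y : A} (x : Ext.{w} X Y n),
      (Ext.mk₀ (η.app X)).comp (x.mapExactFunctor G) (zero_add n) =
        (x.mapExactFunctor F).comp (Ext.mk₀ (η.app Y)) (add_zero n) := by
  intro n
  induction n with
  | zero =>
    intro X Y x
    obtain ⟨f, rfl⟩ := (Ext.mk₀_bijective X Y).2 x
    rw [Ext.mapExactFunctor_mk₀, Ext.mapExactFunctor_mk₀, Ext.mk₀_comp_mk₀, Ext.mk₀_comp_mk₀,
      η.naturality f]
  | succ n ih =>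
    intro X Y x
    obtain ⟨L, p, hp, hpx⟩ := Groth.L00.ExtEfface.exists_epi (Nat.le_add_left 1 n) x
    have hS : (ShortComplex.mk (kernel.ι p) p (kernel.condition p)).ShortExact :=
      { exact := ShortComplex.exact_kernel p }
    obtain ⟨z, rfl⟩ := Ext.contravariant_sequence_exact₃ hS Y x hpx (by omega : 1 + n = n + 1)
    let φ : (ShortComplex.mk (kernel.ι p) p (kernel.condition p)).map F ⟶
        (ShortComplex.mk (kernel.ι p) p (kernel.condition p)).map G :=
      ShortComplex.mapNatTrans _ η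
    have hn : (hS.map_of_exact F).extClass.comp (Ext.mk₀ (η.app (kernel p))) (add_zero 1) =
        (Ext.mk₀ (η.app X)).comp (hS.map_of_exact G).extClass (zero_add 1) :=
      ShortComplex.ShortExact.extClass_naturality (hS.map_of_exact F) (hS.map_of_exact G) φ
    have hz := ih z
    dsimp at hz
    rw [Ext.mapExactFunctor_comp, Ext.mapExactFunctor_comp, Ext.mapExactFunctor_extClass,
      Ext.mapExactFunctor_extClass, ← Ext.comp_assoc _ _ _ (zero_add 1) (by omega) (by omega)]
    erw [← hn]
    refine ((Ext.comp_assoc _ _ _ (add_zero 1) (zero_add n) (by omega)).trans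
      (congrArg (fun t => Ext.comp _ t (Nat.add_comm 1 n)) hz)).trans ?_
    exact (Ext.comp_assoc _ _ _ (Nat.add_comm 1 n) (add_zero n) (by omega)).symm

theorem id_eq [h : (𝟭 A).Additive] {n : ℕ} {X Y : A} (x : Ext.{w} X Y n) :
    x.mapExactFunctor (𝟭 A) = x := by
  induction n generalizing X with
  | zero =>
    obtain ⟨f, rfl⟩ := (Ext.mk₀_bijective X Y).2 x
    rw [Ext.mapExactFunctor_mk₀]
    rfl
  | succ n ih =>
    obtain ⟨L, p, hp, hpx⟩ := Groth.L00.ExtEfface.exists_epi (Nat.le_add_left 1 n) x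
    have hS : (ShortComplex.mk (kernel.ι p) p (kernel.condition p)).ShortExact :=
      { exact := ShortComplex.exact_kernel p }
    obtain ⟨z, rfl⟩ := Ext.contravariant_sequence_exact₃ hS Y x hpx (by omega : 1 + n = n + 1)
    rw [Ext.mapExactFunctor_comp, Ext.mapExactFunctor_extClass, ih]
    rfl

theorem comp_eq (F : A ⥤ B) (G : B ⥤ C) [F.Additive] [PreservesFiniteLimits F] [PreservesFiniteColimits F]
    [G.Additive] [PreservesFiniteLimits G] [PreservesFiniteColimits G]
    [PreservesFiniteLimits (F ⋙ G)] [PreservesFiniteColimits (F ⋙ G)]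
    {n : ℕ} {X Y : A} (x : Ext.{w} X Y n) :
    (x.mapExactFunctor F).mapExactFunctor G = x.mapExactFunctor (F ⋙ G) := by
  induction n generalizing X with
  | zero =>
    obtain ⟨f, rfl⟩ := (Ext.mk₀_bijective X Y).2 x
    rw [Ext.mapExactFunctor_mk₀, Ext.mapExactFunctor_mk₀, Ext.mapExactFunctor_mk₀]
    rfl
  | succ n ih =>
    obtain ⟨L, p, hp, hpx⟩ := Groth.L00.ExtEfface.exists_epi (Nat.le_add_left 1 n) x
    have hS : (ShortComplex.mk (kernel.ι p) p (kernel.condition p)).ShortExact :=
      { exact := ShortComplex.exact_kernel p }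
    obtain ⟨z, rfl⟩ := Ext.contravariant_sequence_exact₃ hS Y x hpx (by omega : 1 + n = n + 1)
    rw [Ext.mapExactFunctor_comp, Ext.mapExactFunctor_extClass]
    erw [Ext.mapExactFunctor_comp, Ext.mapExactFunctor_extClass]
    rw [ih, Ext.mapExactFunctor_comp, Ext.mapExactFunctor_extClass]
    rfl

end Groth.L18.ExtFunNat
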