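import Groth.Agent.L18.ClosedSub
import Groth.Agent.L18.Frame
import Groth.Agent.L16.QCohSections
import Mathlib.Algebra.Module.GradedModule

/-!
`Γ_*` of a quasi-coherent module on `Proj` with finitely many degree-one generators, modelled by
families of sections on the charts `D₊(t)`.
-/

set_option autoImplicit false
universe u

open CategoryTheory AlgebraicGeometry TopologicalSpace Opposite DirectSum

noncomputable section

namespace Groth.L18.GammaStar

open Groth.L18.Frame (rs ro rs_rs ro_ro rs_smul ro_mul)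
open Groth.L18.ClosedSub (sec sec_mul sec_zero sec_add sec_val sec_pow)

variable {R A : Type u} [CommRing R] [CommRing A] [Algebra R A] {𝒜 : ℕ → Submodule R A} [GradedAlgebra 𝒜]

lemma sec_congr {t : A} (ht : t ∈ 𝒜 1) {d d' : ℕ} {F F' : A} (hF : F ∈ 𝒜 d) (hF' : F' ∈ 𝒜 d')
    (hd : d = d') (h : F = F') : sec 𝒜 ht F hF = sec 𝒜 ht F' hF' := by
  subst hd h; rfl

lemma sec_one {t : A} (ht : t ∈ 𝒜 1) : sec 𝒜 ht (1 : A) SetLike.GradedOne.one_mem = 1 := by
  rw [sec, ← map_one (Proj.awayToSection 𝒜 t).hom]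
  congr 1
  apply HomogeneousLocalization.val_injective
  rw [HomogeneousLocalization.Away.val_mk, HomogeneousLocalization.val_one, ← Localization.mk_one]
  congr 1
  exact Subtype.ext (pow_zero t)

lemma sec_self {t : A} (ht : t ∈ 𝒜 1) : sec 𝒜 ht t ht = 1 := by
  rw [sec, ← map_one (Proj.awayToSection 𝒜 t).hom]
  congr 1
  apply HomogeneousLocalization.val_injective
  rw [HomogeneousLocalization.Away.val_mk, HomogeneousLocalization.val_one, ← Localization.mk_one,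
    Localization.mk_eq_mk_iff, Localization.r_iff_exists]
  exact ⟨1, by simp⟩

theorem fromSpec_basicOpen {t : A} (ht : t ∈ 𝒜 1) :
    (Proj.isAffineOpen_basicOpen 𝒜 t ht one_pos).fromSpec =
      Spec.map (Proj.awayToSection 𝒜 t) ≫ Proj.awayι 𝒜 t ht one_pos := by
  set hD := Proj.isAffineOpen_basicOpen 𝒜 t ht one_pos
  have h1 : (Proj.basicOpenIsoSpec 𝒜 t ht one_pos).hom =
      hD.isoSpec.hom ≫ Spec.map (Proj.awayToSection 𝒜 t) := by
    rw [Proj.basicOpenIsoSpec_hom]; rfl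
  rw [← Proj.basicOpenIsoSpec_inv_ι, ← hD.isoSpec_inv_ι]
  rw [← cancel_epi hD.isoSpec.hom, ← Category.assoc hD.isoSpec.hom,
    ← Category.assoc hD.isoSpec.hom (Spec.map _), ← h1, Iso.hom_inv_id, Category.id_comp,
    Iso.hom_inv_id_assoc]

/-- The locus where `h / t^e` is invertible on `D₊(t)`. -/
theorem basicOpen_sec {t : A} (ht : t ∈ 𝒜 1) {e : ℕ} {h : A} (hh : h ∈ 𝒜 e) :
    (Proj 𝒜).basicOpen (sec 𝒜 ht h hh) = Proj.basicOpen 𝒜 t ⊓ Proj.basicOpen 𝒜 h := by
  have hht : h * t ∈ 𝒜 (e + 1) := SetLike.mul_mem_graded hh ht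
  rw [← mul_one (sec 𝒜 ht h hh), ← sec_self ht, ← sec_mul ht hh ht rfl hht]
  have hle : Proj.basicOpen 𝒜 t ⊓ Proj.basicOpen 𝒜 h = Proj.basicOpen 𝒜 t ⊓ Proj.basicOpen 𝒜 (h * t) := by
    rw [Proj.basicOpen_mul, ← inf_assoc, inf_eq_left.2 inf_le_left]
  rw [hle]
  set hD := Proj.isAffineOpen_basicOpen 𝒜 t ht one_pos
  have key : ∀ q, hD.fromSpec q ∈ (Proj 𝒜).basicOpen (sec 𝒜 ht (h * t) hht) ↔
      hD.fromSpec q ∈ Proj.basicOpen 𝒜 (h * t) := fun q => by
    show q ∈ hD.fromSpec ⁻¹ᵁ (Proj 𝒜).basicOpen _ ↔ q ∈ hD.fromSpec ⁻¹ᵁ Proj.basicOpen 𝒜 (h * t)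
    rw [hD.fromSpec_preimage_basicOpen, fromSpec_basicOpen ht, Scheme.Hom.comp_preimage,
      Proj.awayι_preimage_basicOpen _ ht one_pos hht (Nat.succ_pos e)]
    have : HomogeneousLocalization.Away.isLocalizationElem ht hht =
        HomogeneousLocalization.Away.mk 𝒜 ht (e + 1) (h * t) (by simpa using hht) := by
      apply HomogeneousLocalization.val_injective
      rw [HomogeneousLocalization.Away.isLocalizationElem, HomogeneousLocalization.Away.val_mk,
        HomogeneousLocalization.Away.val_mk]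
      simp
    rw [this]
    exact Iff.rfl
  ext y
  constructor
  · intro hy
    obtain ⟨q, rfl⟩ : y ∈ Set.range hD.fromSpec := by
      rw [hD.range_fromSpec]; exact (Proj 𝒜).basicOpen_le _ hy
    exact ⟨(Proj 𝒜).basicOpen_le _ hy, (key q).1 hy⟩
  · rintro ⟨hy₁, hy₂⟩
    obtain ⟨q, rfl⟩ : y ∈ Set.range hD.fromSpec := by rw [hD.range_fromSpec]; exact hy₁
    exact (key q).2 hy₂

theorem isUnit_ro_sec {t : A} (ht : t ∈ 𝒜 1) {e : ℕ} {h : A} (hh : h ∈ 𝒜 e) {W : (Proj 𝒜).Opens}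
    (hW : W ≤ Proj.basicOpen 𝒜 t) (hW' : W ≤ Proj.basicOpen 𝒜 h) : IsUnit (ro hW (sec 𝒜 ht h hh)) := by
  have hle : W ≤ (Proj 𝒜).basicOpen (sec 𝒜 ht h hh) := (le_inf hW hW').trans_eq (basicOpen_sec ht hh).symm
  have hu : IsUnit (ro ((Proj 𝒜).basicOpen_le _) (sec 𝒜 ht h hh)) :=
    RingedSpace.isUnit_res_basicOpen (Proj 𝒜).toRingedSpace (sec 𝒜 ht h hh)
  rw [← ro_ro ((Proj 𝒜).basicOpen_le _) hle]
  exact hu.map ((Proj 𝒜).presheaf.map (homOfLE hle).op).hom

theorem ro_sec_change {t' : A} (ht' : t' ∈ 𝒜 1) {t : A} (ht : t ∈ 𝒜 1) {m : ℕ} {c : A} (hc : c ∈ 𝒜 m)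
    {W : (Proj 𝒜).Opens} (h' : W ≤ Proj.basicOpen 𝒜 t') (h : W ≤ Proj.basicOpen 𝒜 t) :
    ro h' (sec 𝒜 ht' c hc) = ro h' (sec 𝒜 ht' t ht) ^ m * ro h (sec 𝒜 ht c hc) :=
  Groth.L18.ClosedSub.res_sec ht' ht hc h' h

lemma sec_pow' {t : A} (ht : t ∈ 𝒜 1) {e : ℕ} {a : A} (ha : a ∈ 𝒜 e) (N : ℕ) (h : a ^ N ∈ 𝒜 (N * e)) :
    sec 𝒜 ht (a ^ N) h = sec 𝒜 ht a ha ^ N := by
  rw [sec, sec, ← map_pow]
  congr 1
  apply HomogeneousLocalization.val_injective
  rw [HomogeneousLocalization.Away.val_mk, HomogeneousLocalization.val_pow,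
    HomogeneousLocalization.Away.val_mk, Localization.mk_pow]
  congr 1
  refine Subtype.ext ?_
  show t ^ (N * e) = (t ^ e) ^ N
  rw [← pow_mul, mul_comm]

lemma ro_pow {X : Scheme.{u}} {U V : X.Opens} (h : V ≤ U) (a : Γ(X, U)) (N : ℕ) :
    ro h (a ^ N) = ro h a ^ N := map_pow _ _ _

lemma rs_sub {X : Scheme.{u}} (M : X.Modules) {U V : X.Opens} (h : V ≤ U) (a b : Γ(M, U)) :
    rs M h (a - b) = rs M h a - rs M h b := map_sub _ _ _

variable (F : (Proj 𝒜).Modules) (s : Finset A) (hs1 : ∀ f ∈ s, f ∈ 𝒜 1)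

/-- The chart of `t ∈ s`. -/
abbrev D (t : s) : (Proj 𝒜).Opens := Proj.basicOpen 𝒜 t.1

/-- Families of sections on the charts. -/
abbrev E0 : Type u := ∀ t : s, Γ(F, D s t)

/-- `x` is the family of chart coordinates of a section of `F(d)`. -/
def Compat (d : ℕ) (x : E0 F s) : Prop :=
  ∀ t t' : s, rs F (inf_le_right : D s t ⊓ D s t' ≤ D s t') (x t') =
    ro (inf_le_right : D s t ⊓ D s t' ≤ D s t') (sec 𝒜 (hs1 t'.1 t'.2) t.1 (hs1 t.1 t.2)) ^ d •
      rs F (inf_le_left : D s t ⊓ D s t' ≤ D s t) (x t)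

variable {F s hs1}

theorem Compat.rel {d : ℕ} {x : E0 F s} (h : Compat F s hs1 d x) (t t' : s) {W : (Proj 𝒜).Opens}
    (hW : W ≤ D s t) (hW' : W ≤ D s t') :
    rs F hW' (x t') = ro hW' (sec 𝒜 (hs1 t'.1 t'.2) t.1 (hs1 t.1 t.2)) ^ d • rs F hW (x t) := by
  have := congrArg (rs F (le_inf hW hW')) (h t t')
  rw [rs_smul, rs_rs, rs_rs] at this
  rw [this]
  congr 1

variable (hs1) in
/-- Multiplication by a homogeneous element. -/
def act {i : ℕ} (a : A) (ha : a ∈ 𝒜 i) : E0 F s →+ E0 F s where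
  toFun x t := sec 𝒜 (hs1 t.1 t.2) a ha • x t
  map_zero' := funext fun _ => smul_zero _
  map_add' x y := funext fun _ => smul_add _ _ _

lemma act_apply {i : ℕ} (a : A) (ha : a ∈ 𝒜 i) (x : E0 F s) (t : s) :
    act hs1 a ha x t = sec 𝒜 (hs1 t.1 t.2) a ha • x t := rfl

theorem Compat.act {i d : ℕ} {x : E0 F s} (h : Compat F s hs1 d x) (a : A) (ha : a ∈ 𝒜 i) :
    Compat F s hs1 (i + d) (GammaStar.act hs1 a ha x) := by
  intro t t'
  simp only [act_apply, rs_smul]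
  rw [h t t', ro_sec_change (hs1 t'.1 t'.2) (hs1 t.1 t.2) ha (inf_le_right : D s t ⊓ D s t' ≤ _) inf_le_left,
    smul_smul, smul_smul, pow_add]
  congr 1
  ring

theorem compat_zero (d : ℕ) : Compat F s hs1 d (0 : E0 F s) := fun t t' => by
  simp only [Pi.zero_apply]
  rw [show rs F (inf_le_right : D s t ⊓ D s t' ≤ _) (0 : Γ(F, D s t')) = 0 from map_zero _,
    show rs F (inf_le_left : D s t ⊓ D s t' ≤ _) (0 : Γ(F, D s t)) = 0 from map_zero _, smul_zero]

theorem Compat.add {d : ℕ} {x y : E0 F s} (h : Compat F s hs1 d x) (h' : Compat F s hs1 d y) :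
    Compat F s hs1 d (x + y) := fun t t' => by
  simp only [Pi.add_apply]
  rw [show rs F (inf_le_right : D s t ⊓ D s t' ≤ _) (x t' + y t') = _ + _ from map_add _ _ _,
    show rs F (inf_le_left : D s t ⊓ D s t' ≤ _) (x t + y t) = _ + _ from map_add _ _ _, smul_add]
  exact congrArg₂ (· + ·) (h t t') (h' t t')

theorem Compat.neg {d : ℕ} {x : E0 F s} (h : Compat F s hs1 d x) : Compat F s hs1 d (-x) := fun t t' => by
  simp only [Pi.neg_apply]
  rw [show rs F (inf_le_right : D s t ⊓ D s t' ≤ _) (-x t') = _ from map_neg _ _,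
    show rs F (inf_le_left : D s t ⊓ D s t' ≤ _) (-x t) = _ from map_neg _ _, smul_neg]
  exact congrArg Neg.neg (h t t')

section QCoh

variable [Coh.IsQCoh F]

/-- Powers with a uniform exponent. -/
lemma exists_uniform {ι : Type*} [Fintype ι] (P : ι → ℕ → Prop) (hmono : ∀ i n m, n ≤ m → P i n → P i m)
    (h : ∀ i, ∃ n, P i n) : ∃ N, ∀ i, P i N := by
  choose n hn using h
  exact ⟨Finset.univ.sup n, fun i => hmono i _ _ (Finset.le_sup (Finset.mem_univ i)) (hn i)⟩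

/-- A coordinate vanishing on one chart is killed by a power of that coordinate. -/
theorem Compat.exists_kill {d : ℕ} {x : E0 F s} (h : Compat F s hs1 d x) (t : s) (h0 : x t = 0) :
    ∃ N : ℕ, ∀ hN : t.1 ^ N ∈ 𝒜 N, GammaStar.act hs1 (t.1 ^ N) hN x = 0 := by
  have key : ∀ t' : s, ∃ N, sec 𝒜 (hs1 t'.1 t'.2) t.1 (hs1 t.1 t.2) ^ N • x t' = 0 := fun t' => by
    refine Groth.L16.QCohSect.exists_pow_smul_eq_zero
      (Proj.isAffineOpen_basicOpen 𝒜 t'.1 (hs1 t'.1 t'.2) one_pos) F _ _ ?_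
    rw [h.rel t t' ((basicOpen_sec _ _).trans_le inf_le_right) ((Proj 𝒜).basicOpen_le _), h0,
      show rs F _ (0 : Γ(F, D s t)) = 0 from map_zero _, smul_zero]
  obtain ⟨N, hN⟩ := exists_uniform
    (fun (t' : s) N => sec 𝒜 (hs1 t'.1 t'.2) t.1 (hs1 t.1 t.2) ^ N • x t' = 0)
    (fun t' n m hnm hn => by rw [← Nat.sub_add_cancel hnm, pow_add, mul_smul, hn, smul_zero]) key
  refine ⟨N, fun hmem => funext fun t' => ?_⟩
  rw [act_apply, sec_pow (hs1 t'.1 t'.2) (hs1 t.1 t.2)]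
  exact hN t'

/-- Sections on a chart are coordinates of sections of some `F(d)`. -/
theorem exists_compat (t : s) (y : Γ(F, D s t)) : ∃ (d : ℕ) (x : E0 F s), Compat F s hs1 d x ∧ x t = y := by
  let a : ∀ t' : s, Γ(Proj 𝒜, D s t') := fun t' => sec 𝒜 (hs1 t'.1 t'.2) t.1 (hs1 t.1 t.2)
  have hle : ∀ t' : s, (Proj 𝒜).basicOpen (a t') ≤ D s t := fun t' => (basicOpen_sec _ _).trans_le inf_le_right
  have hle2 : ∀ t' : s, D s t ⊓ D s t' ≤ (Proj 𝒜).basicOpen (a t') := fun t' =>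
    (le_inf inf_le_right inf_le_left).trans_eq (basicOpen_sec _ _).symm
  have key : ∀ t' : s, ∃ N, ∃ z : Γ(F, D s t'), rs F inf_le_right z =
      ro (inf_le_right : D s t ⊓ D s t' ≤ D s t') (a t') ^ N • rs F inf_le_left y := fun t' => by
    obtain ⟨N, z, hz⟩ := Groth.L16.QCohSect.exists_pow_smul_eq_res
      (Proj.isAffineOpen_basicOpen 𝒜 t'.1 (hs1 t'.1 t'.2) one_pos) F (a t') (rs F (hle t') y)
    refine ⟨N, z, ?_⟩
    have := congrArg (rs F (hle2 t')) hz
    rw [rs_smul, rs_rs, rs_rs, ro_ro] at this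
    rw [this]
    congr 1
  obtain ⟨N, hN⟩ := exists_uniform _ (fun t' n m hnm ⟨z, hz⟩ => by
    refine ⟨a t' ^ (m - n) • z, ?_⟩
    rw [rs_smul, hz, smul_smul]
    congr 1
    show ((Proj 𝒜).presheaf.map _).hom (_ ^ (m - n)) * _ = _
    rw [map_pow, ← pow_add, Nat.sub_add_cancel hnm]) key
  choose z hz using hN
  have key2 : ∀ p : s × s, ∃ P, ro (inf_le_right : D s p.1 ⊓ D s p.2 ≤ D s p.2) (a p.2) ^ P •
      (rs F (inf_le_right : D s p.1 ⊓ D s p.2 ≤ D s p.2) (z p.2) -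
        ro (inf_le_right : D s p.1 ⊓ D s p.2 ≤ D s p.2) (sec 𝒜 (hs1 p.2.1 p.2.2) p.1.1 (hs1 p.1.1 p.1.2)) ^ N •
          rs F (inf_le_left : D s p.1 ⊓ D s p.2 ≤ D s p.1) (z p.1)) = 0 := by
    rintro ⟨t', t''⟩
    refine Groth.L16.QCohSect.exists_pow_smul_eq_zero (U := D s t' ⊓ D s t'') ?_ F _ _ ?_
    · rw [← Proj.basicOpen_mul]
      exact Proj.isAffineOpen_basicOpen 𝒜 _ (SetLike.mul_mem_graded (hs1 t'.1 t'.2) (hs1 t''.1 t''.2))
        (by norm_num)
    · have hW : (Proj 𝒜).basicOpen (ro (inf_le_right : D s t' ⊓ D s t'' ≤ D s t'') (a t'')) ≤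
          (D s t ⊓ D s t') ⊓ (D s t ⊓ D s t'') := by
        rw [show (Proj 𝒜).basicOpen (ro (inf_le_right : D s t' ⊓ D s t'' ≤ D s t'') (a t'')) =
          (D s t' ⊓ D s t'') ⊓ (Proj 𝒜).basicOpen (a t'') from Scheme.basicOpen_res _ _ _]
        exact le_inf (le_inf (inf_le_right.trans (hle t'')) (inf_le_left.trans inf_le_left))
          (le_inf (inf_le_right.trans (hle t'')) (inf_le_left.trans inf_le_right))
      have h1 := congrArg (rs F (hW.trans inf_le_left)) (hz t')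
      have h2 := congrArg (rs F (hW.trans inf_le_right)) (hz t'')
      rw [rs_smul, rs_rs, rs_rs] at h1 h2
      rw [rs_sub, rs_smul, rs_rs, rs_rs, h1, h2, sub_eq_zero, smul_smul]
      congr 1
      have h12 : (Proj 𝒜).basicOpen (ro (inf_le_right : D s t' ⊓ D s t'' ≤ D s t'') (a t'')) ≤ D s t' :=
        (hW.trans inf_le_left).trans inf_le_right
      have h13 : (Proj 𝒜).basicOpen (ro (inf_le_right : D s t' ⊓ D s t'' ≤ D s t'') (a t'')) ≤ D s t'' :=
        (hW.trans inf_le_right).trans inf_le_right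
      simp only [ro_pow, ro_ro]
      simp only [a]
      rw [ro_sec_change (hs1 t''.1 t''.2) (hs1 t'.1 t'.2) (hs1 t.1 t.2) h13 h12, pow_one, mul_pow]
  obtain ⟨P, hP⟩ := exists_uniform _ (fun p n m hnm hn => by
    rw [← Nat.sub_add_cancel hnm, pow_add, mul_smul, hn, smul_zero]) key2
  refine ⟨P + N, fun t' => a t' ^ P • z t', fun t' t'' => ?_, ?_⟩
  · show rs F _ (a t'' ^ P • z t'') = _ • rs F _ (a t' ^ P • z t')
    have h := hP (t', t'')
    rw [smul_sub, sub_eq_zero] at h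
    rw [rs_smul, rs_smul, smul_smul]
    have e1 : ∀ (V W : (Proj 𝒜).Opens) (hVW : V ≤ W) (c : Γ(Proj 𝒜, W)), ro hVW (c ^ P) = ro hVW c ^ P :=
      fun _ _ _ _ => map_pow _ _ _
    rw [e1, e1, h, smul_smul]
    congr 1
    simp only [a]
    rw [ro_sec_change (hs1 t''.1 t''.2) (hs1 t'.1 t'.2) (hs1 t.1 t.2) (inf_le_right : D s t' ⊓ D s t'' ≤ D s t'')
      inf_le_left, pow_one, mul_pow, pow_add]
    ring
  · show a t ^ P • z t = y
    have ha : a t = 1 := sec_self _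
    have h := congrArg (rs F (le_inf le_rfl le_rfl : D s t ≤ D s t ⊓ D s t)) (hz t)
    rw [rs_smul, rs_rs, rs_rs, Groth.L18.Frame.rs_self, Groth.L18.Frame.rs_self] at h
    rw [ha, one_pow, one_smul, h, ha,
      show ro (inf_le_right : D s t ⊓ D s t ≤ D s t) (1 : Γ(Proj 𝒜, D s t)) = 1 from map_one _, one_pow,
      show ro (le_inf le_rfl le_rfl : D s t ≤ D s t ⊓ D s t) (1 : Γ(Proj 𝒜, D s t ⊓ D s t)) = 1 from map_one _,
      one_smul]

end QCoh

variable (F s hs1) in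
/-- A family of compatible coordinates, closed under multiplication and generating every chart. -/
structure Fam where
  /-- The degree `d` part. -/
  carrier : ℕ → AddSubgroup (E0 F s)
  compat : ∀ d, ∀ x ∈ carrier d, Compat F s hs1 d x
  act_mem : ∀ (i d : ℕ) (a : A) (ha : a ∈ 𝒜 i), ∀ x ∈ carrier d, act hs1 a ha x ∈ carrier (i + d)
  surj : ∀ (t : s) (y : Γ(F, D s t)), ∃ d, ∃ x ∈ carrier d, x t = y

variable (F s hs1) in
/-- All compatible families. -/
def full [Coh.IsQCoh F] : Fam F s hs1 where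
  carrier d :=
    { carrier := {x | Compat F s hs1 d x}
      zero_mem' := compat_zero (hs1 := hs1) d
      add_mem' := fun h h' => Compat.add (hs1 := hs1) h h'
      neg_mem' := fun h => Compat.neg (hs1 := hs1) h }
  compat _ _ h := h
  act_mem _ _ a ha _ h := Compat.act h a ha
  surj t y := exists_compat (hs1 := hs1) t y

variable (S : Fam F s hs1)

/-- The underlying graded group. -/
abbrev Mod : Type u := ⨁ d : ℕ, (S.carrier d)

instance gmodule : DirectSum.Gmodule (fun i => 𝒜 i) (fun d => S.carrier d) where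
  smul {i j} a x := ⟨act hs1 a.1 a.2 x.1, S.act_mem i j a.1 a.2 x.1 x.2⟩
  one_smul := fun ⟨j, x⟩ => Sigma.subtype_ext (zero_add j) (funext fun t => by
    show sec 𝒜 (hs1 t.1 t.2) (1 : A) (SetLike.GradedOne.one_mem) • x.1 t = x.1 t
    rw [sec_one, one_smul])
  mul_smul := fun ⟨i, a⟩ ⟨j, b⟩ ⟨k, x⟩ => Sigma.subtype_ext (add_assoc i j k) (funext fun t => by
    show sec 𝒜 (hs1 t.1 t.2) (a.1 * b.1) (SetLike.mul_mem_graded a.2 b.2) • x.1 t =
      sec 𝒜 (hs1 t.1 t.2) a.1 a.2 • (sec 𝒜 (hs1 t.1 t.2) b.1 b.2 • x.1 t)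
    rw [sec_mul _ a.2 b.2 rfl, mul_smul])
  smul_add a x y := Subtype.ext ((act hs1 a.1 a.2).map_add x.1 y.1)
  smul_zero a := Subtype.ext ((act hs1 a.1 a.2).map_zero)
  add_smul a a' x := Subtype.ext (funext fun t => by
    show sec 𝒜 (hs1 t.1 t.2) (a.1 + a'.1) (add_mem a.2 a'.2) • x.1 t =
      sec 𝒜 (hs1 t.1 t.2) a.1 a.2 • x.1 t + sec 𝒜 (hs1 t.1 t.2) a'.1 a'.2 • x.1 t
    rw [sec_add _ a.2 a'.2, add_smul])
  zero_smul x := Subtype.ext (funext fun t => by
    show sec 𝒜 (hs1 t.1 t.2) (0 : A) (zero_mem _) • x.1 t = 0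
    rw [sec_zero, zero_smul])

instance moduleA : Module A (Mod S) :=
  Module.compHom _ (DirectSum.decomposeRingEquiv 𝒜).toRingHom

instance moduleR : Module R (Mod S) := Module.compHom _ (algebraMap R A)

instance tower : IsScalarTower R A (Mod S) :=
  ⟨fun r a m => by
    show (r • a) • m = algebraMap R A r • a • m
    rw [Algebra.smul_def, mul_smul]⟩

theorem smul_of {i j : ℕ} (a : A) (ha : a ∈ 𝒜 i) (x : S.carrier j) :
    a • (DirectSum.of (fun d => S.carrier d) j x : Mod S) =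
      DirectSum.of (fun d => S.carrier d) (i + j) ⟨act hs1 a ha x.1, S.act_mem i j a ha x.1 x.2⟩ := by
  show DirectSum.decompose 𝒜 a • (DirectSum.of (fun d => S.carrier d) j x : ⨁ d, S.carrier d) = _
  rw [DirectSum.decompose_of_mem 𝒜 ha, DirectSum.Gmodule.of_smul_of]
  rfl

theorem act_eq {i j k : ℕ} (a : A) (ha : a ∈ 𝒜 i) (x : S.carrier j) (hk : k = i + j) :
    ((a • (DirectSum.of (fun d => S.carrier d) j x : Mod S)) k).1 = act hs1 a ha x.1 := by
  subst hk
  rw [smul_of, DirectSum.of_eq_same]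

/-- The grading. -/
def grading (d : ℕ) : Submodule R (Mod S) where
  carrier := Set.range (DirectSum.of (fun d => S.carrier d) d)
  zero_mem' := ⟨0, map_zero _⟩
  add_mem' := by rintro _ _ ⟨x, rfl⟩ ⟨y, rfl⟩; exact ⟨x + y, map_add _ _ _⟩
  smul_mem' r := by
    rintro _ ⟨x, rfl⟩
    show algebraMap R A r • (DirectSum.of (fun d => S.carrier d) d x : Mod S) ∈ Set.range _
    rw [smul_of S (algebraMap R A r) (SetLike.algebraMap_mem_graded 𝒜 r) x]
    exact ⟨⟨act hs1 _ (SetLike.algebraMap_mem_graded 𝒜 r) x.1, by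
      simpa using S.act_mem 0 d _ (SetLike.algebraMap_mem_graded 𝒜 r) x.1 x.2⟩,
      DirectSum.of_eq_of_gradedMonoid_eq (Sigma.subtype_ext (zero_add d).symm rfl)⟩

theorem of_mem {d : ℕ} (x : S.carrier d) :
    (DirectSum.of (fun d => S.carrier d) d x : Mod S) ∈ grading S d := ⟨x, rfl⟩

theorem eq_of {d : ℕ} (m : grading S d) : m.1 = DirectSum.of (fun d => S.carrier d) d (m.1 d) := by
  obtain ⟨x, hx⟩ := m.2
  rw [← hx, DirectSum.of_eq_same]

instance gradedSMul : SetLike.GradedSMul 𝒜 (grading S) where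
  smul_mem := by
    rintro i j a m ha ⟨x, rfl⟩
    rw [smul_of S a ha x]
    exact of_mem S _

/-- Components. -/
def toGrading : Mod S →+ ⨁ d, grading S d :=
  DirectSum.toAddMonoid fun d => (DirectSum.of (fun d => grading S d) d).comp
    { toFun := fun x => ⟨DirectSum.of (fun d => S.carrier d) d x, of_mem S x⟩
      map_zero' := Subtype.ext (map_zero _)
      map_add' := fun _ _ => Subtype.ext (map_add _ _ _) }

instance decomposition : DirectSum.Decomposition (grading S) :=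
  DirectSum.Decomposition.ofAddHom _ (toGrading S)
    (DirectSum.addHom_ext fun d x => by simp [toGrading])
    (DirectSum.addHom_ext fun d m => by
      simp only [AddMonoidHom.comp_apply, DirectSum.coeAddMonoidHom_of, AddMonoidHom.id_apply]
      conv_lhs => rw [eq_of S m]
      simp only [toGrading, DirectSum.toAddMonoid_of, AddMonoidHom.comp_apply, AddMonoidHom.coe_mk, ZeroHom.coe_mk]
      congr 1
      exact Subtype.ext (eq_of S m).symm)

/-- The coordinate of a homogeneous element. -/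
def ev {j : ℕ} (m : grading S j) (t : s) : Γ(F, D s t) := ((m.1) j).1 t

theorem ev_compat {j : ℕ} (m : grading S j) : Compat F s hs1 j (ev S m) := S.compat j _ (m.1 j).2

theorem ev_add {j : ℕ} (m m' : grading S j) (t : s) : ev S (m + m') t = ev S m t + ev S m' t := rfl

theorem ev_zero {j : ℕ} (t : s) : ev S (0 : grading S j) t = 0 := rfl

theorem ev_congr {j k : ℕ} {m : grading S j} {m' : grading S k} (hjk : j = k) (h : m.1 = m'.1) (t : s) :
    ev S m t = ev S m' t := by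
  subst hjk; rw [Subtype.ext h]

theorem ev_smul {i j k : ℕ} {a : A} (ha : a ∈ 𝒜 i) (m : grading S j) (hk : k = i + j)
    (h : a • m.1 ∈ grading S k) (t : s) :
    ev S ⟨a • m.1, h⟩ t = sec 𝒜 (hs1 t.1 t.2) a ha • ev S m t := by
  show (((a • m.1 : Mod S)) k).1 t = _
  conv_lhs => rw [eq_of S m]
  rw [act_eq S a ha _ hk]
  rfl

theorem exists_ev (t : s) (y : Γ(F, D s t)) : ∃ (j : ℕ) (m : grading S j), ev S m t = y := by
  obtain ⟨d, x, hx, rfl⟩ := S.surj t y
  exact ⟨d, ⟨_, of_mem S ⟨x, hx⟩⟩, by rw [ev, DirectSum.of_eq_same]⟩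

theorem kill [Coh.IsQCoh F] {j : ℕ} (m : grading S j) (t : s) (h : ev S m t = 0) :
    ∃ N : ℕ, t.1 ^ N • m.1 = 0 := by
  obtain ⟨N, hN⟩ := (S.compat j _ (m.1 j).2).exists_kill t h
  have hmem : t.1 ^ N ∈ 𝒜 N := by simpa using SetLike.pow_mem_graded N (hs1 t.1 t.2)
  refine ⟨N, ?_⟩
  rw [eq_of S m, smul_of S _ hmem]
  refine (congrArg (DirectSum.of (fun d => S.carrier d) (N + j)) (Subtype.ext ?_)).trans (map_zero _)
  exact hN hmem

end Groth.L18.GammaStar
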