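import Groth.Agent.L18.ProjSpaceUP
import Groth.Agent.L18.ClosedSubPn
import Groth.Agent.L18.GammaStar
import Groth.Agent.L18.AmplePull
import Groth.Agent.L22.LinProj
import Groth.Agent.L02.Quot.Fam

/-!
# Finite surjective linear projections, keeping track of `O(1)`
-/

set_option autoImplicit false
set_option linter.style.haveILetI false
set_option backward.isDefEq.respectTransparency false
set_option backward.isDefEq.respectTransparency.types false

universe u

open CategoryTheory CategoryTheory.Limits AlgebraicGeometry TopologicalSpace Opposite MvPolynomial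

noncomputable section

namespace Groth.L18.FiniteProjection

open Groth.L18.PUP Groth.L18.Frame Groth.L18.PS
open Groth.L18.ClosedSub (sec sec_val)
open Groth.L22.HypCover (Dh)
open Groth.L22.Reg (Form)

variable {k : Type u} [Field k] {n : ℕ}

/-- The global section of `O(1)` given by a linear form. -/
abbrev G (f : Form n k) : Γ(O1 n k, ⊤) := Twist.globalOf (CohB1.polyGrading n k) f

theorem G_frame (f : Form n k) : IsFrame (O1 n k) (Dh f.1) (rs (O1 n k) le_top (G f)) := by
  intro V h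
  rw [rs_rs]
  let one' : CohB1.polyGrading n k 0 := ⟨1, SetLike.GradedOne.one_mem⟩
  have hN : (((1 : ℕ) : ℤ)) = ((0 : ℕ) : ℤ) + (1 : ℤ) := by norm_num
  have ha : ∀ x : (V : Opens (ProjectiveSpectrum.top (CohB1.polyGrading n k))), f.1 ∉ x.1.asHomogeneousIdeal :=
    fun x => (Proj.mem_basicOpen _ _ _).1 (h x.2)
  have hb : ∀ x : (V : Opens (ProjectiveSpectrum.top (CohB1.polyGrading n k))), one'.1 ∉ x.1.asHomogeneousIdeal :=
    fun x hx => x.1.isPrime.ne_top ((Ideal.eq_top_iff_one _).mpr hx)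
  exact ⟨Groth.L16.ProjTwist.smul_gen_injective f one' hN V hb ha,
    Groth.L16.ProjTwist.smul_gen_surjective f one' hN V ha hb⟩

theorem sec_smul_T (f : Form n k) (i : Fin (n + 1)) :
    sec (CohB1.polyGrading n k) (Groth.L18.PS.X_mem n i) f.1 f.2 • rs (O1 n k) (le_top : D i ≤ ⊤) (T i) =
      rs (O1 n k) le_top (G f) := by
  refine Subtype.ext (funext fun x => Subtype.ext ?_)
  erw [Twist.coe_smul_val]
  show HomogeneousLocalization.val ((sec (CohB1.polyGrading n k) (Groth.L18.PS.X_mem n i) f.1 f.2).1 x) *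
    Localization.mk _ _ = Localization.mk _ _
  rw [sec_val _ f.2 x.1 x.2, Localization.mk_mul, Localization.mk_eq_mk_iff,
    Localization.r_iff_exists]
  refine ⟨1, ?_⟩
  simp only [OneMemClass.coe_one, one_mul, Submonoid.coe_mul, mul_one, pow_one]
  exact mul_comm _ _

variable {Y : Scheme.{u}} (ι : Y ⟶ P n k)

/-- The pulled back section. -/
abbrev s (f : Form n k) : Γ((Scheme.Modules.pullback ι).obj (O1 n k), ⊤) := ProjUP.pullSec ι (O1 n k) (G f)

theorem s_frame (f : Form n k) :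
    IsFrame ((Scheme.Modules.pullback ι).obj (O1 n k)) (ι ⁻¹ᵁ Dh f.1) (rs _ le_top (s ι f)) := by
  have h : rs ((Scheme.Modules.pullback ι).obj (O1 n k)) (le_top : ι ⁻¹ᵁ Dh f.1 ≤ ⊤) (s ι f) =
      pull ι (O1 n k) (Dh f.1) (rs (O1 n k) le_top (G f)) := pull_rs ι (O1 n k) (le_top : Dh f.1 ≤ ⊤) (G f)
  rw [h]
  exact IsFrame.pullback ι (O1 n k) (G_frame f)

theorem le_of_frame (f : Form n k) {W : Y.Opens}
    (h : IsFrame ((Scheme.Modules.pullback ι).obj (O1 n k)) W (rs _ le_top (s ι f))) : W ≤ ι ⁻¹ᵁ Dh f.1 := by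
  intro y hy
  obtain ⟨i, hi⟩ := Opens.mem_iSup.mp ((iSup_chart (n := n) (R := k)).ge (trivial : ι.base y ∈ ⊤))
  let W' : Y.Opens := W ⊓ ι ⁻¹ᵁ D i
  have hW' : W' ≤ ι ⁻¹ᵁ D i := inf_le_right
  have h1 := h.mono (inf_le_left : W' ≤ W)
  rw [rs_rs] at h1
  have hc : ι.appLE (D i) W' hW' (sec (CohB1.polyGrading n k) (Groth.L18.PS.X_mem n i) f.1 f.2) •
      rs ((Scheme.Modules.pullback ι).obj (O1 n k)) (le_top : W' ≤ ⊤) (rT ι i) =
      rs _ le_top (s ι f) := by
    have h2 := congrArg (pull ι (O1 n k) (D i)) (sec_smul_T f i)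
    rw [pull_smul] at h2
    have h3 := congrArg (rs ((Scheme.Modules.pullback ι).obj (O1 n k)) hW') h2
    rw [rs_smul] at h3
    have eT : rs ((Scheme.Modules.pullback ι).obj (O1 n k)) hW' (pull ι (O1 n k) (D i) (rs (O1 n k) le_top (T i))) =
        rs _ le_top (rT ι i) := by rw [← rs_rT, rs_rs]
    have eG : rs ((Scheme.Modules.pullback ι).obj (O1 n k)) hW' (pull ι (O1 n k) (D i) (rs (O1 n k) le_top (G f))) =
        rs _ le_top (s ι f) := by
      rw [show pull ι (O1 n k) (D i) (rs (O1 n k) le_top (G f)) = rs ((Scheme.Modules.pullback ι).obj (O1 n k))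
        (le_top : ι ⁻¹ᵁ D i ≤ ⊤) (s ι f) from (pull_rs ι (O1 n k) (le_top : D i ≤ ⊤) (G f)).symm, rs_rs]
    rw [eT, eG] at h3
    exact h3
  rw [← hc] at h1
  have hu := isUnit_of_isFrame (rT_frame_le ι hW') h1
  have h2 := Y.basicOpen_of_isUnit hu
  rw [Scheme.basicOpen_appLE] at h2
  have h3 := (h2.ge (x := y) ⟨hy, hi⟩).2
  rw [Groth.L18.GammaStar.basicOpen_sec] at h3
  exact h3.2

/-- The linear projection, with `π^* O(1) ≅ ι^* O(1)`. -/
theorem exists_proj [IsClosedImmersion ι] {d : ℕ} (f : Fin (d + 1) → Form n k)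
    (hf : ∀ y : Y, ∃ j, ι y ∈ Dh (f j).1) :
    ∃ π : Y ⟶ P d k, π ≫ pr d k = ι ≫ pr n k ∧ IsAffineHom π ∧
      Nonempty ((Scheme.Modules.pullback π).obj (O1 d k) ≅ (Scheme.Modules.pullback ι).obj (O1 n k)) := by
  let L := (Scheme.Modules.pullback ι).obj (O1 n k)
  have hL : PicF.IsInvertible L :=
    Groth.L18.Ample.isInvertible_pullback ι (Groth.L16.ProjTwist.isInvertible_twistProjSpace n k 1)
  have hgen : ProjUP.GeneratedBy L fun j => s ι (f j) := fun y => by
    obtain ⟨j, hj⟩ := hf y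
    refine Submodule.eq_top_iff'.2 fun z => ?_
    obtain ⟨c, rfl⟩ := Groth.L02.Quot.span_germ_frame (s_frame ι (f j)) y hj z
    refine Submodule.smul_mem _ c (Submodule.subset_span ⟨j, ?_⟩)
    exact (TopCat.Presheaf.germ_res_apply L.presheaf (homOfLE (le_top : ι ⁻¹ᵁ Dh (f j).1 ≤ ⊤)) y hj _).symm
  obtain ⟨π, hπ, τ, hτ⟩ := Groth.L18.PUP.exists_hom (n := d) (ι ≫ pr n k) L hL (fun j => s ι (f j)) hgen
  have hmap : ∀ (W : Y.Opens) (i : Fin (d + 1)), τ.hom.app W (rs _ le_top (rT π i)) = rs _ le_top (s ι (f i)) :=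
    fun W i => by
      rw [← hτ i]
      exact congr($(τ.hom.mapPresheaf.naturality (homOfLE (le_top : W ≤ ⊤)).op) (rT π i))
  have hframe : ∀ (W : Y.Opens) (i : Fin (d + 1)),
      IsFrame ((Scheme.Modules.pullback π).obj (O1 d k)) W (rs _ le_top (rT π i)) ↔
        IsFrame L W (rs _ le_top (s ι (f i))) := fun W i => by
    refine forall_congr' fun V => forall_congr' fun hV => ?_
    have e : (fun b : Γ(Y, V) => b • rs L hV (rs _ le_top (s ι (f i)))) =
        τ.hom.app V ∘ fun b => b • rs ((Scheme.Modules.pullback π).obj (O1 d k)) hV (rs _ le_top (rT π i)) := by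
      funext b
      simp only [rs_rs, Function.comp_apply, Scheme.Modules.Hom.app_smul, hmap]
      rfl
    rw [e]
    exact ⟨(ConcreteCategory.bijective_of_isIso (τ.hom.app V)).comp,
      fun h => (Function.Bijective.of_comp_iff' (ConcreteCategory.bijective_of_isIso (τ.hom.app V)) _).1 h⟩
  have hpre : ∀ i : Fin (d + 1), π ⁻¹ᵁ D i = ι ⁻¹ᵁ Dh (f i).1 := fun i =>
    le_antisymm (le_of_frame ι (f i) ((hframe _ i).1 (rT_frame π i)))
      (le_preimage_of_frame π ((hframe _ i).2 (s_frame ι (f i))))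
  refine ⟨π, hπ, isAffineHom_of_forall_exists_isAffineOpen π fun x => ?_, ⟨τ⟩⟩
  obtain ⟨i, hi⟩ := Opens.mem_iSup.mp ((iSup_chart (n := d) (R := k)).ge (trivial : x ∈ ⊤))
  refine ⟨D i, hi, Proj.isAffineOpen_basicOpen _ _ (Groth.L18.PS.X_mem d i) one_pos, ?_⟩
  rw [hpre i]
  exact (Proj.isAffineOpen_basicOpen _ _ (f i).2 one_pos).preimage ι

/-- A finite surjective projection pulling `O(1)` back to `O(1)`. -/
theorem exists_finite_surjective [Infinite k] [IsClosedImmersion ι] (d : ℕ)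
    (hd : topologicalKrullDim Y = d) :
    ∃ π : Y ⟶ P d k, π ≫ pr d k = ι ≫ pr n k ∧ IsFinite π ∧ Surjective π ∧
      Nonempty ((Scheme.Modules.pullback π).obj (O1 d k) ≅ (Scheme.Modules.pullback ι).obj (O1 n k)) := by
  have hZ : IsClosed (Set.range ι.base) := ι.isClosedEmbedding.isClosed_range
  obtain ⟨f, hf⟩ := Groth.L22.LinProj.exists_forms (n := n) (k := k) (d + 1) _ hZ fun x hx => by
    have h1 : (d : WithBot ℕ∞) < ((d + 1 : ℕ) : WithBot ℕ∞) := by exact_mod_cast Nat.lt_succ_self d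
    refine lt_of_le_of_lt ((Topology.IsEmbedding.inclusion
      (closure_minimal (Set.singleton_subset_iff.2 hx) hZ)).isInducing.topologicalKrullDim_le.trans (le_of_eq ?_)) h1
    rw [← hd]
    exact (IsHomeomorph.topologicalKrullDim_eq _ ι.isClosedEmbedding.isEmbedding.toHomeomorph.isHomeomorph).symm
  obtain ⟨π, hπ, hpa, hiso⟩ := exists_proj ι f fun y => by
    obtain ⟨j, hj⟩ := Set.mem_iUnion.1 (hf (Set.mem_range_self y))
    exact ⟨j, hj⟩
  haveI := Groth.L22.PDual.proper n k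
  haveI := Groth.L22.PDual.proper d k
  haveI : IsProper (CohB1.ProjSpace.toSpec n k) := Groth.L22.PDual.proper n k
  haveI : IsProper (CohB1.ProjSpace.toSpec d k) := Groth.L22.PDual.proper d k
  haveI : IsProper (π ≫ CohB1.ProjSpace.toSpec d k) := by
    show IsProper (π ≫ pr d k)
    rw [hπ]
    exact (inferInstance : IsProper (ι ≫ CohB1.ProjSpace.toSpec n k))
  haveI : IsProper π := IsProper.of_comp π (CohB1.ProjSpace.toSpec d k)
  haveI hfin : IsFinite π := IsFinite.iff_isProper_and_isAffineHom.2 ⟨inferInstance, hpa⟩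
  refine ⟨π, hπ, hfin, ⟨?_⟩, hiso⟩
  letI : Y.Over (Spec (CommRingCat.of k)) := ⟨ι ≫ CohB1.ProjSpace.toSpec n k⟩
  haveI : LocallyOfFiniteType (CohB1.ProjSpace d k ↘ Spec (CommRingCat.of k)) :=
    (inferInstance : LocallyOfFiniteType (CohB1.ProjSpace.toSpec d k))
  obtain ⟨x, hx⟩ := Groth.L22.FibreDim.exists_le_dim_closure (T := Y) (r := d) hd.ge
  obtain ⟨a, b, ha, hb, hab⟩ :=
    Groth.L22.FibreDim.exists_dim_closure_add k (Y := CohB1.ProjSpace d k) π hπ x
  have hb0 : b = 0 := by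
    haveI : DiscreteTopology (π ⁻¹' {π x} : Set Y) := (π.isDiscrete_preimage_singleton (π x)).to_subtype
    haveI : DiscreteTopology (closure ({x} : Set Y) ∩ π ⁻¹' {π x} : Set Y) :=
      DiscreteTopology.of_subset inferInstance Set.inter_subset_right
    exact Nat.le_zero.1 (by exact_mod_cast hb.symm.le.trans (topologicalKrullDim_zero_of_discreteTopology _))
  rw [hb0, add_zero] at hab
  have hle : (d : WithBot ℕ∞) ≤ topologicalKrullDim (closure ({π x} : Set (CohB1.ProjSpace d k))) :=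
    ha ▸ hab ▸ hx
  change (d : WithBot ℕ∞) ≤ _ at hle
  have ha' : topologicalKrullDim (closure ({π x} : Set (CohB1.ProjSpace d k))) = (a : WithBot ℕ∞) := ha
  have huniv : closure ({π x} : Set (CohB1.ProjSpace d k)) = Set.univ := by
    by_contra hne
    haveI : IrreducibleSpace (CohB1.ProjSpace d k) := inferInstance
    have h1 := Groth.L03.Euler.topologicalKrullDim_add_one_le isClosed_closure
      (IrreducibleSpace.isIrreducible_univ _) (Set.subset_univ _) hne
    rw [IsHomeomorph.topologicalKrullDim_eq _ (Homeomorph.Set.univ (CohB1.ProjSpace d k)).isHomeomorph,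
      Groth.L16.ProjSpace.topologicalKrullDim_eq_of_field] at h1
    erw [ha'] at h1
    erw [ha'] at hle
    have h2 : a + 1 ≤ d := by
      have h : (a : ℕ∞) + 1 ≤ (d : ℕ∞) := WithBot.coe_le_coe.1 h1
      exact_mod_cast h
    have h3 : d ≤ a := by exact_mod_cast WithBot.coe_le_coe.1 hle
    omega
  intro y
  have hcl : IsClosed (Set.range π.base) := π.isClosedMap.isClosed_range
  exact closure_minimal (Set.singleton_subset_iff.2 (Set.mem_range_self x)) hcl (huniv ▸ Set.mem_univ y)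

end Groth.L18.FiniteProjection
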