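import Groth.Agent.L18.FormalLevels
import Groth.Agent.L28.LefPow.Depth
import Groth.Agent.L07.RegularQuotient
import Groth.Agent.S6039
import Groth.Agent.L22.WeakAssPoints
import Groth.Agent.L04.Depth
import Groth.Prelude.Def_RegImm

/-!
# Extension of functions on the thickenings of a regularly embedded normal subscheme

If `V(I)` is normal and regularly embedded, the thickening `V(I^(n+1))` has depth at least two at the points where the
ambient scheme is not regular, so congruences modulo `I^(n+1)` extend over such points.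
-/

set_option autoImplicit false
set_option linter.style.haveILetI false
set_option backward.isDefEq.respectTransparency false
set_option backward.isDefEq.respectTransparency.types false
universe u

open CategoryTheory CategoryTheory.Limits AlgebraicGeometry Opposite TopologicalSpace IsLocalRing

noncomputable section

namespace Groth.L18.FormalLevels

open Groth.L18.Frame (rs ro)

variable {X : Scheme.{u}}

theorem nonempty_stalk_quotient_equiv (J : X.IdealSheafData) {V : X.Opens} (hV : IsAffineOpen V) (z : J.subscheme)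
    (hz : J.subschemeι z ∈ V) :
    Nonempty (X.presheaf.stalk (J.subschemeι z) ⧸
      (J.ideal ⟨V, hV⟩).map (X.presheaf.germ V (J.subschemeι z) hz).hom ≃+* J.subscheme.presheaf.stalk z) := by
  let σ := (J.subschemeι.stalkMap z).hom
  have hk : RingHom.ker σ = (J.ideal ⟨V, hV⟩).map (X.presheaf.germ V (J.subschemeι z) hz).hom := by
    refine le_antisymm (fun r hr => Groth.L17.IdealMulSec.mem_map_of_stalkMap_eq_zero J hV z hz r hr)
      (Ideal.map_le_iff_le_comap.2 fun a ha => ?_)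
    rw [← J.ker_subschemeι_app ⟨V, hV⟩, RingHom.mem_ker] at ha
    rw [Ideal.mem_comap, RingHom.mem_ker]
    exact (Scheme.Hom.germ_stalkMap_apply J.subschemeι V z hz a).trans ((congrArg _ ha).trans (map_zero _))
  exact ⟨(Ideal.quotEquivOfEq hk.symm).trans
    (RingHom.quotientKerEquivOfSurjective (SurjectiveOnStalks.stalkMap_surjective J.subschemeι z))⟩

/-- The thickenings have depth at least two at the non-regular points. -/
theorem two_le_depth_thickening [IsLocallyNoetherian X] (I : X.IdealSheafData)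
    (hreg : RegImm.IsRegularIdeal RegImm.Kind.regular I) (hYn : Pi1.IsNormalScheme I.subscheme) (n : ℕ)
    (z : (I ^ (n + 1)).subscheme) (hz : ¬ IsRegularLocalRing (X.presheaf.stalk ((I ^ (n + 1)).subschemeι z))) :
    (2 : ℕ∞) ≤ LocCoh.depth ((I ^ (n + 1)).subscheme.presheaf.stalk z)
      ((I ^ (n + 1)).subscheme.presheaf.stalk z) := by
  set x := (I ^ (n + 1)).subschemeι z with hx
  have hxs : x ∈ I.support := by
    have h : x ∈ ((I ^ (n + 1)).support : Set X) := by
      rw [← Scheme.IdealSheafData.range_subschemeι]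
      exact ⟨z, rfl⟩
    rwa [Scheme.IdealSheafData.support_pow _ _ n.succ_ne_zero] at h
  obtain ⟨⟨V, hV⟩, hxV, l, hl, hgen⟩ := hreg x hxs
  obtain ⟨y, hy⟩ : x ∈ Set.range I.subschemeι := by
    rw [Scheme.IdealSheafData.range_subschemeι]
    exact hxs
  have hyV : I.subschemeι y ∈ V := hy.symm ▸ hxV
  obtain ⟨eY⟩ := nonempty_stalk_quotient_equiv I hV y hyV
  obtain ⟨eZ⟩ := nonempty_stalk_quotient_equiv (I ^ (n + 1)) hV z hxV
  have key : ∀ (x' : X) (hx' : x' ∈ V), x' = x →
      Nonempty (X.presheaf.stalk x' ⧸ (I.ideal ⟨V, hV⟩).map (X.presheaf.germ V x' hx').hom ≃+*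
        I.subscheme.presheaf.stalk y) →
      Nonempty (X.presheaf.stalk x ⧸ (I.ideal ⟨V, hV⟩).map (X.presheaf.germ V x hxV).hom ≃+*
        I.subscheme.presheaf.stalk y) := by
    rintro _ _ rfl h
    exact h
  obtain ⟨e⟩ := key _ hyV hy ⟨eY⟩
  set φ := (X.presheaf.germ V x hxV).hom with hφ
  haveI : IsNoetherianRing Γ(X, V) := IsLocallyNoetherian.component_noetherian ⟨V, hV⟩
  letI := X.presheaf.algebra_section_stalk (⟨x, hxV⟩ : V)
  haveI := hV.isLocalization_stalk ⟨x, hxV⟩
  haveI : IsNoetherianRing (X.presheaf.stalk x) :=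
    IsLocalization.isNoetherianRing (hV.primeIdealOf ⟨x, hxV⟩).asIdeal.primeCompl _ inferInstance
  haveI hflat : Module.Flat Γ(X, V) (X.presheaf.stalk x) :=
    IsLocalization.flat (X.presheaf.stalk x) (hV.primeIdealOf ⟨x, hxV⟩).asIdeal.primeCompl
  haveI := e.symm.isLocalRing
  haveI hD := (hYn y).1
  haveI := (hYn y).2
  haveI : IsNoetherianRing (I.subscheme.presheaf.stalk y) := isNoetherianRing_of_ringEquiv _ e
  have hIx : (I.ideal ⟨V, hV⟩).map φ = Ideal.ofList (l.map φ) := by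
    rw [hgen, Ideal.map_ofList]
  -- the ambient ring is regular as soon as the small stalk is
  have hdim : ¬ ringKrullDim (I.subscheme.presheaf.stalk y) ≤ 1 := fun h => hz (by
    haveI := Groth.L06.NormalAscent.regular_of_normal_dim_le_one h
    haveI : IsRegularLocalRing (X.presheaf.stalk x ⧸ (I.ideal ⟨V, hV⟩).map φ) :=
      IsRegularLocalRing.of_ringEquiv e.symm
    refine Groth.L07.RegQuot.isRegularLocalRing_of_quotient (J := (I.ideal ⟨V, hV⟩).map φ) ⟨l.map φ, ⟨?_, ?_⟩, hIx.symm⟩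
    · have := RingTheory.Sequence.IsWeaklyRegular.of_flat (S := X.presheaf.stalk x) hl.toIsWeaklyRegular
      exact this
    · rw [smul_eq_mul, Ideal.mul_top, ← hIx]
      exact fun h' => (not_subsingleton (X.presheaf.stalk x ⧸ (I.ideal ⟨V, hV⟩).map φ))
        (Ideal.Quotient.subsingleton_iff.2 h'.symm))
  have h2 : 2 ≤ LocCoh.depth (X.presheaf.stalk x ⧸ (I.ideal ⟨V, hV⟩).map φ)
      (X.presheaf.stalk x ⧸ (I.ideal ⟨V, hV⟩).map φ) := by
    rw [Groth.L06.FlatFibre.depth_eq_of_ringEquiv e.symm]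
    exact Groth.L06.NormalAscent.two_le_depth_of_normal hdim
  have hqr : CAlgX.IsQuasiRegular (φ ∘ l.get) := by
    refine Groth.L03.RegImmFlat.isQuasiRegular_map φ (RingHom.flat_algebraMap_iff.mpr hflat)
      (Groth.L07.QReg.isQuasiRegular_of_isWeaklyRegular ?_)
    rw [List.ofFn_get]
    exact hl.toIsWeaklyRegular
  have hmap : ((I ^ (n + 1)).ideal ⟨V, hV⟩).map φ = ((I.ideal ⟨V, hV⟩).map φ) ^ (n + 1) := by
    rw [Scheme.IdealSheafData.ideal_pow, Pi.pow_apply, Ideal.map_pow]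
  let e' := (Ideal.quotEquivOfEq hmap).symm.trans eZ
  haveI := e'.symm.isLocalRing
  haveI := isNoetherianRing_of_ringEquiv _ e'
  rw [Groth.L06.FlatFibre.depth_eq_of_ringEquiv e']
  exact Groth.L28.LefPow.two_le_depth_quotient_pow hqr _ (by
    rw [Set.range_comp, ← Ideal.map_span, hgen, Ideal.ofList, Set.range_list_get]) h2 (n + 1)

/-- Congruences modulo an ideal whose subscheme has depth two outside `U` extend over an affine open. -/
theorem hartogs [IsLocallyNoetherian X] (J : X.IdealSheafData) (U : X.Opens)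
    (hd : ∀ z : J.subscheme, J.subschemeι z ∉ U →
      (2 : ℕ∞) ≤ LocCoh.depth (J.subscheme.presheaf.stalk z) (J.subscheme.presheaf.stalk z))
    {W : X.Opens} (hW : IsAffineOpen W) :
    (∀ a : Γ(X, W), (∀ (V : X.Opens) (hV : IsAffineOpen V) (h : V ≤ W), V ≤ U → ro h a ∈ J.ideal ⟨V, hV⟩) →
      a ∈ J.ideal ⟨W, hW⟩) ∧
    (∀ r : ∀ (V : X.Opens), IsAffineOpen V → V ≤ W → V ≤ U → Γ(X, V),
      (∀ (V₁ V₂ V : X.Opens) (h₁ : IsAffineOpen V₁) (w₁ : V₁ ≤ W) (u₁ : V₁ ≤ U) (h₂ : IsAffineOpen V₂) (w₂ : V₂ ≤ W)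
        (u₂ : V₂ ≤ U) (hV : IsAffineOpen V) (i₁ : V ≤ V₁) (i₂ : V ≤ V₂),
          ro i₁ (r V₁ h₁ w₁ u₁) - ro i₂ (r V₂ h₂ w₂ u₂) ∈ J.ideal ⟨V, hV⟩) →
      ∃ a : Γ(X, W), ∀ (V : X.Opens) (hV : IsAffineOpen V) (h : V ≤ W) (u : V ≤ U),
        ro h a - r V hV h u ∈ J.ideal ⟨V, hV⟩) := by
  classical
  let S := J.subscheme
  haveI : IsLocallyNoetherian S := LocallyOfFiniteType.isLocallyNoetherian J.subschemeι
  have hmem : ∀ {V : X.Opens} (hV : IsAffineOpen V) (a : Γ(X, V)), a ∈ J.ideal ⟨V, hV⟩ ↔ J.subschemeι.app V a = 0 := by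
    intro V hV a
    rw [← J.ker_subschemeι_app ⟨V, hV⟩, RingHom.mem_ker]
  have hnat : ∀ {V V' : X.Opens} (h : V' ≤ V) (a : Γ(X, V)), J.subschemeι.app V' (ro h a) =
      ro (Scheme.Hom.preimage_mono J.subschemeι h) (J.subschemeι.app V a) := fun h a =>
    congr($(J.subschemeι.naturality (homOfLE h).op) a)
  have key : Function.Bijective (rs (Coh.structureModule S)
      (inf_le_left : J.subschemeι ⁻¹ᵁ W ⊓ J.subschemeι ⁻¹ᵁ U ≤ J.subschemeι ⁻¹ᵁ W)) := by
    refine (Groth.Agent.S6039.result S (J.subschemeι ⁻¹ᵁ U) (Coh.structureModule S)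
      Groth.L16.CohClosedPush.isCoh_structure).1 (fun z hz => ?_) (J.subschemeι ⁻¹ᵁ W)
    let e : S.presheaf.stalk z ≃ₗ[S.presheaf.stalk z] (Coh.structureModule S).presheaf.stalk z :=
      LinearEquiv.ofBijective (LinearMap.toSpanSingleton (S.presheaf.stalk z) _ (Groth.L22.oneGerm z))
        ⟨(injective_iff_map_eq_zero _).2 fun a ha => Groth.L22.eq_zero_of_smul_oneGerm ha,
          Groth.L22.stalk_smul_oneGerm_surjective z⟩
    exact le_of_le_of_eq (hd z hz) (Groth.L04.idealDepth_congr e)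
  obtain ⟨ι, V, hsup, hV⟩ : ∃ (ι : Type u) (V : ι → X.Opens), iSup V = W ⊓ U ∧ ∀ i, IsAffineOpen (V i) := by
    refine ⟨{V : X.Opens // IsAffineOpen V ∧ V ≤ W ⊓ U}, fun V => V.1, le_antisymm (iSup_le fun V => V.2.2) ?_,
      fun V => V.2.1⟩
    intro x hx
    obtain ⟨V, hV, hxV, hle⟩ := exists_isAffineOpen_mem_and_subset (x := x) (U := W ⊓ U) hx
    exact Opens.mem_iSup.2 ⟨⟨V, hV, hle⟩, hxV⟩
  have hVle : ∀ i, V i ≤ W ⊓ U := fun i => hsup ▸ le_iSup V i
  let P := J.subschemeι ⁻¹ᵁ W ⊓ J.subschemeι ⁻¹ᵁ U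
  let hP : ∀ i, J.subschemeι ⁻¹ᵁ V i ≤ P := fun i =>
    le_inf (Scheme.Hom.preimage_mono _ ((hVle i).trans inf_le_left)) (Scheme.Hom.preimage_mono _ ((hVle i).trans inf_le_right))
  have hcov : P ≤ ⨆ i, J.subschemeι ⁻¹ᵁ V i := fun z hz => by
    have : J.subschemeι z ∈ iSup V := hsup ▸ hz
    obtain ⟨i, hi⟩ := Opens.mem_iSup.1 this
    exact Opens.mem_iSup.2 ⟨i, hi⟩
  let O : TopCat.Sheaf Ab.{u} S.toTopCat := ⟨(Coh.structureModule S).presheaf, (Coh.structureModule S).isSheaf⟩
  refine ⟨fun a ha => ?_, fun r hr => ?_⟩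
  · rw [hmem hW]
    refine key.1 (Eq.trans ?_ (map_zero _).symm)
    refine O.eq_of_locally_eq' _ P (fun i => homOfLE (hP i)) hcov _ _ fun i => ?_
    refine Eq.trans ?_ (map_zero _).symm
    refine (Groth.L18.Frame.rs_rs (Coh.structureModule S) _ _ _).trans ?_
    refine (hnat ((hVle i).trans inf_le_left) a).symm.trans ?_
    exact (hmem (hV i) _).1 (ha (V i) (hV i) _ ((hVle i).trans inf_le_right))
  · let sf : ∀ i, Γ(Coh.structureModule S, J.subschemeι ⁻¹ᵁ V i) := fun i =>
      J.subschemeι.app (V i) (r (V i) (hV i) ((hVle i).trans inf_le_left) ((hVle i).trans inf_le_right))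
    have hsf : TopCat.Presheaf.IsCompatible O.obj (fun i => J.subschemeι ⁻¹ᵁ V i) sf := by
      intro i j
      refine TopCat.Presheaf.section_ext O _ _ _ fun z hz => ?_
      obtain ⟨V', hV', hzV', hle⟩ := exists_isAffineOpen_mem_and_subset (x := J.subschemeι z) (U := V i ⊓ V j) hz
      have e := hr (V i) (V j) V' (hV i) ((hVle i).trans inf_le_left) ((hVle i).trans inf_le_right) (hV j)
        ((hVle j).trans inf_le_left) ((hVle j).trans inf_le_right) hV' (hle.trans inf_le_left) (hle.trans inf_le_right)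
      rw [hmem hV', map_sub, sub_eq_zero, hnat, hnat] at e
      have e' := congrArg ((Coh.structureModule S).presheaf.germ (J.subschemeι ⁻¹ᵁ V') z hzV') e
      refine (Groth.L20.ModStalk.germ_rs (Coh.structureModule S) (inf_le_left : J.subschemeι ⁻¹ᵁ V i ⊓ J.subschemeι ⁻¹ᵁ V j ≤ _) hz _).trans ?_
      refine Eq.trans ?_ (Groth.L20.ModStalk.germ_rs (Coh.structureModule S) (inf_le_right : J.subschemeι ⁻¹ᵁ V i ⊓ J.subschemeι ⁻¹ᵁ V j ≤ _) hz _).symm
      refine (Groth.L20.ModStalk.germ_rs (Coh.structureModule S) (Scheme.Hom.preimage_mono J.subschemeι (hle.trans inf_le_left)) hzV' _).symm.trans ?_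
      exact e'.trans (Groth.L20.ModStalk.germ_rs (Coh.structureModule S) (Scheme.Hom.preimage_mono J.subschemeι (hle.trans inf_le_right)) hzV' _)
    obtain ⟨s, hs, -⟩ := O.existsUnique_gluing' _ P (fun i => homOfLE (hP i)) hcov sf hsf
    obtain ⟨t, ht⟩ := key.2 s
    obtain ⟨a, ha⟩ := J.subschemeι.app_surjective W hW t
    refine ⟨a, fun V₀ hV₀ h u => (hmem hV₀ _).2 ?_⟩
    rw [map_sub, sub_eq_zero, hnat h a, ha]
    refine TopCat.Presheaf.section_ext O _ _ _ fun z hz => ?_
    have hzP : z ∈ P := ⟨h hz, u hz⟩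
    obtain ⟨i, hi⟩ := Opens.mem_iSup.1 (hcov hzP)
    obtain ⟨V', hV', hzV', hle⟩ := exists_isAffineOpen_mem_and_subset (x := J.subschemeι z) (U := V i ⊓ V₀) ⟨hi, hz⟩
    have e := hr (V i) V₀ V' (hV i) ((hVle i).trans inf_le_left) ((hVle i).trans inf_le_right) hV₀ h u hV'
      (hle.trans inf_le_left) (hle.trans inf_le_right)
    rw [hmem hV', map_sub, sub_eq_zero, hnat, hnat] at e
    have e' := congrArg ((Coh.structureModule S).presheaf.germ (J.subschemeι ⁻¹ᵁ V') z hzV') e
    have e'' := (Groth.L20.ModStalk.germ_rs (Coh.structureModule S) (Scheme.Hom.preimage_mono J.subschemeι (hle.trans inf_le_left)) hzV' _).symm.trans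
      (e'.trans (Groth.L20.ModStalk.germ_rs (Coh.structureModule S) (Scheme.Hom.preimage_mono J.subschemeι (hle.trans inf_le_right)) hzV' _))
    have h1 := (Groth.L20.ModStalk.germ_rs (Coh.structureModule S) (hP i) hi s).symm.trans
      (congrArg ((Coh.structureModule S).presheaf.germ (J.subschemeι ⁻¹ᵁ V i) z hi) (hs i))
    have h2 := (Groth.L20.ModStalk.germ_rs (Coh.structureModule S) (inf_le_left : P ≤ J.subschemeι ⁻¹ᵁ W) hzP t).symm.trans
      (congrArg ((Coh.structureModule S).presheaf.germ P z hzP) ht)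
    refine (Groth.L20.ModStalk.germ_rs (Coh.structureModule S) (Scheme.Hom.preimage_mono J.subschemeι h) hz _).trans ?_
    exact h2.trans (h1.trans e'')

end Groth.L18.FormalLevels
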