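import Groth.Agent.L17.IdealMulSec
import Groth.Agent.L16.CohClosedPush
import Groth.Agent.L22.Reg.ClosedQuot
import Groth.Agent.L15.Ref.Reflexive
import Groth.Agent.L07.RefExtend.Basic
import Groth.Prelude.Def_FSch2

/-!
# Levels of the completion of a coherent module on affine opens, and functionals on a reflexive module

On an affine open the level `n` is `E(V)/I^(n+1)E(V)`; a reflexive coherent module embeds into a free one by
finitely many functionals, with image the common kernel of their relations.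
-/

set_option autoImplicit false
set_option linter.style.haveILetI false
set_option backward.isDefEq.respectTransparency false
set_option backward.isDefEq.respectTransparency.types false
universe u

open CategoryTheory CategoryTheory.Limits AlgebraicGeometry Opposite TopologicalSpace

noncomputable section

namespace Groth.L18.FormalLevels

open Groth.L18.Frame (rs)

variable {X : Scheme.{u}}

section Unit

variable (I : X.IdealSheafData) (E : X.Modules) [Coh.IsQCoh E]

theorem η_surjective {V : X.Opens} (hV : IsAffineOpen V) :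
    Function.Surjective ((Groth.L17.IdealMulSec.η I E).app V) := by
  haveI := Groth.L16.AffineBC.isQCoh_pullback I.subschemeι E
  haveI : Coh.IsQCoh ((Scheme.Modules.pullback I.subschemeι ⋙ Scheme.Modules.pushforward I.subschemeι).obj E) :=
    Groth.L16.QcqsPush.isQCoh_push _ I.subschemeι
  haveI : Coh.IsQCoh ((𝟭 X.Modules).obj E) := ‹Coh.IsQCoh E›
  haveI : Epi (Groth.L17.IdealMulSec.η I E) := Groth.L22.Reg.epi_unit I.subschemeι E
  exact Groth.L16.AffineBC.surjective_app_of_epi _ hV

theorem η_eq_iff {V : X.Opens} (hV : IsAffineOpen V) (a b : Γ(E, V)) :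
    (Groth.L17.IdealMulSec.η I E).app V a = (Groth.L17.IdealMulSec.η I E).app V b ↔
      a - b ∈ I.ideal ⟨V, hV⟩ • (⊤ : Submodule Γ(X, V) Γ(E, V)) := by
  rw [← Groth.L17.IdealMulSec.η_app_eq_zero_iff I E hV, map_sub, sub_eq_zero]

end Unit

theorem rs_smul_mem (I : X.IdealSheafData) (E : X.Modules) {V V' : X.Opens} (hV : IsAffineOpen V) (hV' : IsAffineOpen V')
    (h : V' ≤ V) {m : Γ(E, V)} (hm : m ∈ I.ideal ⟨V, hV⟩ • (⊤ : Submodule Γ(X, V) Γ(E, V))) :
    rs E h m ∈ I.ideal ⟨V', hV'⟩ • (⊤ : Submodule Γ(X, V') Γ(E, V')) := by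
  induction hm using Submodule.smul_induction_on' with
  | smul r hr e _ =>
    rw [Groth.L18.Frame.rs_smul]
    refine Submodule.smul_mem_smul ?_ Submodule.mem_top
    exact I.map_ideal (U := ⟨V', hV'⟩) (V := ⟨V, hV⟩) h ▸ Ideal.mem_map_of_mem _ hr
  | add a _ b _ ha hb =>
    have e : rs E h (a + b) = rs E h a + rs E h b := map_add _ a b
    rw [e]
    exact add_mem ha hb

theorem ro_mem (I : X.IdealSheafData) {V V' : X.Opens} (hV : IsAffineOpen V) (hV' : IsAffineOpen V') (h : V' ≤ V)
    {a : Γ(X, V)} (ha : a ∈ I.ideal ⟨V, hV⟩) : Groth.L18.Frame.ro h a ∈ I.ideal ⟨V', hV'⟩ :=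
  I.map_ideal (U := ⟨V', hV'⟩) (V := ⟨V, hV⟩) h ▸ Ideal.mem_map_of_mem _ ha

section Functional

variable (E : X.Modules) {W : X.Opens}

/-- The value of a section of the dual on a section, as a function. -/
def L (l : Γ(RefHull.dual E, W)) {V : X.Opens} (h : V ≤ W) (m : Γ(E, V)) : Γ(X, V) :=
  Groth.L15.Ref.secOf (M := E) (N := Coh.structureModule X) l h m

theorem germ_L (l : Γ(RefHull.dual E, W)) {V : X.Opens} (h : V ≤ W) (m : Γ(E, V)) (y : X) (hy : y ∈ V) :
    (Coh.structureModule X).presheaf.germ V y hy (L E l h m) = l.1 ⟨y, h hy⟩ (E.presheaf.germ V y hy m) :=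
  Groth.L15.Ref.germ_secOf l h m y hy

theorem L_rs (l : Γ(RefHull.dual E, W)) {V V' : X.Opens} (h : V ≤ W) (h' : V' ≤ V) (m : Γ(E, V)) :
    L E l (h'.trans h) (rs E h' m) = Groth.L18.Frame.ro h' (L E l h m) :=
  Groth.L15.Ref.sec_ext (N := Coh.structureModule X) fun y hy => by
    rw [germ_L, Groth.L20.ModStalk.germ_rs, ← germ_L E l h m y (h' hy)]
    exact (Groth.L20.ModStalk.germ_rs (Coh.structureModule X) h' hy (L E l h m)).symm

/-- A section of the dual as a linear map. -/
def Lₗ (l : Γ(RefHull.dual E, W)) {V : X.Opens} (h : V ≤ W) : Γ(E, V) →ₗ[Γ(X, V)] Γ(X, V) where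
  toFun := L E l h
  map_add' a b := map_add (Groth.L16.HomSh.ev (Groth.L15.Ref.toSec W l) h) a b
  map_smul' r a := Groth.L16.HomSh.ev_smul (Groth.L15.Ref.toSec W l) h r a

theorem L_mem (I : X.IdealSheafData) (l : Γ(RefHull.dual E, W)) {V : X.Opens} (hV : IsAffineOpen V) (h : V ≤ W)
    {m : Γ(E, V)} (hm : m ∈ I.ideal ⟨V, hV⟩ • (⊤ : Submodule Γ(X, V) Γ(E, V))) :
    L E l h m ∈ I.ideal ⟨V, hV⟩ := by
  have h1 : L E l h m ∈ (I.ideal ⟨V, hV⟩ • (⊤ : Submodule Γ(X, V) Γ(E, V))).map (Lₗ E l h) :=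
    ⟨m, hm, rfl⟩
  rw [Submodule.map_smul''] at h1
  have h2 := Submodule.smul_mono (le_refl (I.ideal ⟨V, hV⟩))
    (le_top : (⊤ : Submodule Γ(X, V) Γ(E, V)).map (Lₗ E l h) ≤ ⊤) h1
  rwa [smul_eq_mul, Ideal.mul_top] at h2

theorem L_add (l l' : Γ(RefHull.dual E, W)) {V : X.Opens} (h : V ≤ W) (m : Γ(E, V)) :
    L E (l + l') h m = L E l h m + L E l' h m :=
  congrArg (fun φ : Groth.L16.HomSh.Sec E (Coh.structureModule X) W => Groth.L16.HomSh.ev φ h m)
    (map_add (Groth.L15.Ref.toSec W) l l')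

theorem L_zero {V : X.Opens} (h : V ≤ W) (m : Γ(E, V)) : L E (0 : Γ(RefHull.dual E, W)) h m = 0 :=
  congrArg (fun φ : Groth.L16.HomSh.Sec E (Coh.structureModule X) W => Groth.L16.HomSh.ev φ h m)
    (map_zero (Groth.L15.Ref.toSec W))

theorem L_smul (c : Γ(X, W)) (l : Γ(RefHull.dual E, W)) {V : X.Opens} (h : V ≤ W) (m : Γ(E, V)) :
    L E (c • l) h m = Groth.L18.Frame.ro h c * L E l h m := by
  refine Groth.L15.Ref.sec_ext (N := Coh.structureModule X) fun y hy => ?_
  rw [germ_L]
  refine Eq.trans ?_ (Groth.L20.ModStalk.germ_smul (Coh.structureModule X) hy (Groth.L18.Frame.ro h c) (L E l h m)).symm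
  rw [germ_L, TopCat.Presheaf.germ_res_apply]
  rfl

theorem L_sum {a : ℕ} (c : Fin a → Γ(X, W)) (l : Fin a → Γ(RefHull.dual E, W)) {V : X.Opens} (h : V ≤ W)
    (m : Γ(E, V)) : L E (∑ i, c i • l i) h m = ∑ i, Groth.L18.Frame.ro h (c i) * L E (l i) h m := by
  classical
  suffices ∀ s : Finset (Fin a), L E (∑ i ∈ s, c i • l i) h m = ∑ i ∈ s, Groth.L18.Frame.ro h (c i) * L E (l i) h m from
    this _
  intro s
  induction s using Finset.induction_on with
  | empty => rw [Finset.sum_empty, Finset.sum_empty, L_zero]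
  | insert i s his ih => rw [Finset.sum_insert his, Finset.sum_insert his, L_add, L_smul, ih]

variable [IsLocallyNoetherian X]

/-- Finitely many functionals cut out a reflexive coherent module inside a free one. -/
theorem exists_functionals (hE : Coh.IsCoh E) (hr : ∀ x : X, RefHull.IsReflexiveAt E x) (hW : IsAffineOpen W) :
    ∃ (a b : ℕ) (l : Fin a → Γ(RefHull.dual E, W)) (R : Fin b → Fin a → Γ(X, W)),
      (∀ (j : Fin b), ∑ i, R j i • l i = 0) ∧
      (∀ (V : X.Opens) (h : V ≤ W) (m : Γ(E, V)), (∀ i, L E (l i) h m = 0) → m = 0) ∧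
      (∀ w : Fin a → Γ(X, W), (∀ j, ∑ i, R j i * w i = 0) → ∃ e : Γ(E, W), ∀ i, L E (l i) le_rfl e = w i) := by
  classical
  haveI : IsNoetherianRing Γ(X, W) := IsLocallyNoetherian.component_noetherian ⟨W, hW⟩
  have hD : Coh.IsCoh (RefHull.dual E) := Groth.L15.Ref.isCoh_dual hE
  haveI : Coh.IsQCoh (RefHull.dual E) := hD.1
  haveI := Groth.L20.ModStalk.finite_sections (RefHull.dual E) hD hW
  obtain ⟨a, p, hp⟩ := Module.Finite.exists_fin' Γ(X, W) Γ(RefHull.dual E, W)
  obtain ⟨b, R, hR⟩ := Submodule.fg_iff_exists_fin_generating_family.1 (IsNoetherian.noetherian (LinearMap.ker p))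
  let l : Fin a → Γ(RefHull.dual E, W) := fun i => p (Pi.single i 1)
  have hpl : ∀ c : Fin a → Γ(X, W), p c = ∑ i, c i • l i := fun c => by
    conv_lhs => rw [pi_eq_sum_univ c]
    simp only [map_sum, map_smul, l]
    congr 1
    ext i
    congr 2
    ext j
    simp [Pi.single_apply, eq_comm]
  refine ⟨a, b, l, R, fun j => ?_, fun V h m hm => ?_, fun w hw => ?_⟩
  · rw [← hpl]
    exact LinearMap.mem_ker.1 (hR ▸ Submodule.subset_span ⟨j, rfl⟩)
  · refine Groth.L15.Ref.sec_ext fun y hy => ?_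
    rw [map_zero]
    haveI := hr y
    haveI : Module.IsReflexive (X.presheaf.stalk y) (E.presheaf.stalk y) := hr y
    refine (Module.bijective_dual_eval (X.presheaf.stalk y) (E.presheaf.stalk y)).1 ?_
    rw [map_zero]
    refine LinearMap.ext fun f => ?_
    obtain ⟨θ, rfl⟩ := (Groth.L15.Ref.dualE E y).surjective f
    haveI : Coh.IsQCoh (Coh.structureModule X) := Groth.L15.Ref.isQCoh_structureModule
    obtain ⟨d, hd⟩ := (Groth.L15.Ref.evalStalk_bijective E (Coh.structureModule X) hE y).2 θ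
    have h0 : θ (E.presheaf.germ V y hy m) = 0 := by
      rw [← hd]
      letI := Groth.L20.ModStalk.stalkModule (RefHull.dual E) (h hy)
      haveI := Groth.L20.ModStalk.isLocalizedModule_germ (RefHull.dual E) hW (h hy)
      obtain ⟨⟨g, t⟩, hgt⟩ := IsLocalizedModule.surj (hW.primeIdealOf ⟨y, h hy⟩).asIdeal.primeCompl
        (Groth.L20.ModStalk.germₗ (RefHull.dual E) (h hy)) d
      letI := X.presheaf.algebra_section_stalk (⟨y, h hy⟩ : W)
      haveI := hW.isLocalization_stalk ⟨y, h hy⟩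
      have hu : IsUnit (X.presheaf.germ W y (h hy) (t : Γ(X, W))) :=
        IsLocalization.map_units (X.presheaf.stalk y) t
      have hgt' : X.presheaf.germ W y (h hy) (t : Γ(X, W)) • d = (RefHull.dual E).presheaf.germ W y (h hy) g := hgt
      refine hu.smul_eq_zero.1 ?_
      rw [← LinearMap.smul_apply, ← map_smul, hgt', RefHull.evalStalk_germ]
      obtain ⟨c, rfl⟩ := hp g
      rw [hpl, ← germ_L E _ h m y hy, L_sum, Finset.sum_eq_zero fun i _ => by rw [hm i, mul_zero], map_zero]
    have h1 := congrArg (Groth.L15.Ref.strE y).symm h0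
    rw [map_zero] at h1
    show (Groth.L15.Ref.dualE E y θ) (E.presheaf.germ V y hy m) = 0
    exact h1
  · haveI : Coh.IsQCoh (Coh.structureModule X) := Groth.L15.Ref.isQCoh_structureModule
    have hle : LinearMap.ker p ≤ LinearMap.ker (Fintype.linearCombination Γ(X, W) w) := by
      rw [← hR, Submodule.span_le]
      rintro _ ⟨j, rfl⟩
      exact hw j
    let ψ : Γ(RefHull.dual E, W) →ₗ[Γ(X, W)] Γ(X, W) :=
      ((LinearMap.ker p).liftQ _ hle).comp (p.quotKerEquivOfSurjective hp).symm.toLinearMap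
    have hψ : ∀ i, ψ (l i) = w i := fun i => by
      show ((LinearMap.ker p).liftQ _ hle) ((p.quotKerEquivOfSurjective hp).symm (p (Pi.single i 1))) = w i
      rw [show (p.quotKerEquivOfSurjective hp).symm (p (Pi.single i 1)) = Submodule.Quotient.mk (Pi.single i 1) from
        (LinearEquiv.symm_apply_eq _).2 rfl, Submodule.liftQ_apply, Fintype.linearCombination_apply_single, one_smul]
    obtain ⟨g, hg⟩ := Groth.L15.Ref.exists_sec_of_linear (RefHull.dual E) (Coh.structureModule X) hW ψ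
    obtain ⟨e, he⟩ := (Groth.L07.RefExtend.bidualMap_app_bijective hE (fun x (_ : x ∈ W) => hr x)).2 g
    refine ⟨e, fun i => Groth.L15.Ref.sec_ext (N := Coh.structureModule X) fun y hy => ?_⟩
    rw [germ_L, ← hψ i]
    refine Eq.trans ?_ (hg y hy (l i))
    rw [← he]
    exact (LinearMap.congr_fun (RefHull.evalStalk_germ E (Coh.structureModule X) y hy (l i)) _).symm

end Functional

end Groth.L18.FormalLevels
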