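import Groth.Agent.L18.FormalReflexive
import Groth.Agent.L18.OffAffineCoh
import Groth.Agent.L07.RefExtend.Coh
import Groth.Agent.L16.QcqsPush
import Groth.Agent.L29.DCoh.RHomCoh
import Groth.Agent.L26.AbDual.ThetaReduced
import Groth.Agent.L26.PicSm.Dimension
import Groth.Agent.L22.Ideal
import Groth.Agent.L04.Depth2

/-!
# Formal sections of reflexive modules on big opens of normal proper schemes

The thickenings of an ample normal divisor see all sections of a reflexive module defined on an open subscheme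
containing the regular points of the divisor and having complement of codimension two.
-/

set_option autoImplicit false
set_option linter.style.haveILetI false
set_option linter.unusedSectionVars false
set_option backward.isDefEq.respectTransparency false
set_option backward.isDefEq.respectTransparency.types false
universe u

open CategoryTheory CategoryTheory.Limits AlgebraicGeometry Opposite TopologicalSpace IsLocalRing

noncomputable section

namespace Groth.L18.FormalLevels

open Groth.L18.Frame (rs)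

variable {X : Scheme.{u}}

section Transfer

variable {F P P' : X.Modules} (u : F ⟶ P) (u' : F ⟶ P') (U : X.Opens)

/-- A quotient of `F` over `U` has all sections of a finer quotient. -/
theorem exists_transfer (hu : ∀ V : X.Opens, IsAffineOpen V → V ≤ U → Function.Surjective (u.app V))
    (hle : ∀ V : X.Opens, IsAffineOpen V → V ≤ U → ∀ a b, u.app V a = u.app V b → u'.app V a = u'.app V b)
    (y : Γ(P, U)) :
    ∃ z : Γ(P', U), ∀ (V : X.Opens) (_ : IsAffineOpen V) (h : V ≤ U) (a : Γ(F, V)),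
      u.app V a = rs P h y → rs P' h z = u'.app V a := by
  have hcov : ∀ x : U, ∃ W : X.Opens, IsAffineOpen W ∧ x.1 ∈ W ∧ W ≤ U := fun x =>
    let ⟨W, hW, hx, hle⟩ := exists_isAffineOpen_mem_and_subset (x := x.1) (U := U) x.2
    ⟨W, hW, hx, hle⟩
  obtain ⟨W, hWP⟩ : ∃ W : U → X.Opens, ∀ x : U, IsAffineOpen (W x) ∧ x.1 ∈ W x ∧ W x ≤ U :=
    Classical.axiomOfChoice hcov
  obtain ⟨a, ha⟩ : ∃ a : ∀ x : U, Γ(F, W x), ∀ x, u.app (W x) (a x) = rs P (hWP x).2.2 y :=
    Classical.axiomOfChoice fun x => hu (W x) (hWP x).1 (hWP x).2.2 (rs P (hWP x).2.2 y)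
  have hsame : ∀ (V : X.Opens) (_ : IsAffineOpen V) (h : V ≤ U) (m : Γ(F, V)) (x : U) (hx : V ≤ W x),
      u.app V m = rs P h y → u'.app V m = rs P' hx (u'.app (W x) (a x)) := by
    intro V hV h m x hx hm
    rw [← Groth.L19.ProjBdl.app_rs]
    refine hle V hV h _ _ ?_
    rw [hm, Groth.L19.ProjBdl.app_rs, ha, Groth.L18.Frame.rs_rs]
  obtain ⟨t, ht⟩ : ∃ t : ∀ x, Γ(P', W x), ∀ x, t x = u'.app (W x) (a x) := ⟨_, fun _ => rfl⟩
  obtain ⟨z, hz⟩ := Groth.L16.HomSh.exists_glue P' W (fun x => (hWP x).2.2)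
    (fun x hx => Opens.mem_iSup.2 ⟨⟨x, hx⟩, (hWP ⟨x, hx⟩).2.1⟩) t fun b c => by
      refine Groth.L15.Ref.sec_ext fun x hx => ?_
      obtain ⟨V, hV, hxV, hVW⟩ := exists_isAffineOpen_mem_and_subset (x := x) (U := W b ⊓ W c) hx
      have h1 := hsame V hV ((hVW.trans inf_le_left).trans (hWP b).2.2) (rs F (hVW.trans inf_le_left) (a b))
      have h2 := h1 c (hVW.trans inf_le_right) (by rw [Groth.L19.ProjBdl.app_rs, ha, Groth.L18.Frame.rs_rs])
      rw [Groth.L19.ProjBdl.app_rs, ← ht, ← ht] at h2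
      rw [← Groth.L20.ModStalk.germ_rs P' hVW hxV, Groth.L18.Frame.rs_rs,
        ← Groth.L20.ModStalk.germ_rs P' hVW hxV (rs P' _ (t c)), Groth.L18.Frame.rs_rs]
      exact congrArg _ h2
  refine ⟨z, fun V hV h m hm => Groth.L15.Ref.sec_ext fun x hx => ?_⟩
  obtain ⟨V', hV', hxV', hle'⟩ :=
    exists_isAffineOpen_mem_and_subset (x := x) (U := W ⟨x, h hx⟩ ⊓ V) ⟨(hWP ⟨x, h hx⟩).2.1, hx⟩
  have h1 := hsame V' hV' ((hle'.trans inf_le_right).trans h) (rs F (hle'.trans inf_le_right) m) ⟨x, h hx⟩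
    (hle'.trans inf_le_left) (by rw [Groth.L19.ProjBdl.app_rs, hm, Groth.L18.Frame.rs_rs])
  rw [← ht, ← hz, Groth.L18.Frame.rs_rs, Groth.L19.ProjBdl.app_rs] at h1
  rw [← Groth.L20.ModStalk.germ_rs P' (hle'.trans inf_le_right) hxV',
    ← Groth.L20.ModStalk.germ_rs P' (hle'.trans inf_le_right) hxV' (u'.app V m), Groth.L18.Frame.rs_rs]
  exact congrArg _ h1.symm

end Transfer

section Abstract

variable [IsLocallyNoetherian X] (I : X.IdealSheafData) (F : X.Modules) (hF : Coh.IsCoh F) (U : X.Opens)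
  (P : ℕ → X.Modules) (v : ∀ n, F ⟶ P n) (T : ∀ n, P (n + 1) ⟶ P n)
include hF

/-- A tower agreeing over `U` with the levels and with sections determined over `U` has the same formal sections. -/
theorem transfer_bijective (hT : ∀ n, v (n + 1) ≫ T n = v n)
    (hv : ∀ n (V : X.Opens), IsAffineOpen V → V ≤ U → Function.Surjective ((v n).app V) ∧
      ∀ a b, ((v n).app V a = (v n).app V b ↔ (unitQ I F n).app V a = (unitQ I F n).app V b))
    (hfull : ∀ n, Function.Injective (rs (P n) (le_top : U ≤ ⊤)))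
    (hglob1 : ∀ σ : Γ(F, ⊤), (∀ n, (unitQ I F n).app ⊤ σ = 0) → σ = 0)
    (hglob2 : ∀ y : ∀ n, Γ(Q I F n, ⊤), (∀ n, (transU I F n).app ⊤ (y (n + 1)) = y n) →
      ∃ σ, ∀ n, (unitQ I F n).app ⊤ σ = y n)
    (hform : (∀ y : ∀ n, Γ(Q I F n, ⊤), (∀ n, (transU I F n).app ⊤ (y (n + 1)) = y n) →
      (∀ n, rs (Q I F n) (le_top : U ≤ ⊤) (y n) = 0) → ∀ n, y n = 0) ∧
    (∀ z : ∀ n, Γ(Q I F n, U), (∀ n, (transU I F n).app U (z (n + 1)) = z n) →
      ∃ y : ∀ n, Γ(Q I F n, ⊤), (∀ n, (transU I F n).app ⊤ (y (n + 1)) = y n) ∧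
        ∀ n, rs (Q I F n) (le_top : U ≤ ⊤) (y n) = z n)) :
    (∀ σ : Γ(F, ⊤), (∀ n, (v n).app ⊤ σ = 0) → σ = 0) ∧
    (∀ y : ∀ n, Γ(P n, ⊤), (∀ n, (T n).app ⊤ (y (n + 1)) = y n) →
      ∃ σ : Γ(F, ⊤), ∀ n, (v n).app ⊤ σ = y n) := by
  refine ⟨fun σ hσ => hglob1 σ fun n => ?_, fun y hy => ?_⟩
  · obtain ⟨w, hw⟩ : ∃ w : ∀ k, Γ(Q I F k, ⊤), ∀ k, w k = (unitQ I F k).app ⊤ σ := ⟨_, fun _ => rfl⟩
    rw [← hw]
    refine hform.1 w (fun k => ?_) (fun k => ?_) n
    · rw [hw, hw, trans_π]
    · rw [hw, ← Groth.L19.ProjBdl.app_rs]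
      refine Groth.L15.Ref.sec_ext fun x hx => ?_
      obtain ⟨V, hV, hxV, hle'⟩ := exists_isAffineOpen_mem_and_subset (x := x) (U := U) hx
      have hle : V ≤ U := hle'
      rw [← Groth.L20.ModStalk.germ_rs _ hle hxV, ← Groth.L19.ProjBdl.app_rs, Groth.L18.Frame.rs_rs, map_zero]
      have h1 : (v k).app V (rs F (hle.trans le_top) σ) = (v k).app V 0 := by
        rw [Groth.L19.ProjBdl.app_rs, hσ k, map_zero]
        exact map_zero _
      rw [((hv k V hV hle).2 _ _).1 h1, map_zero, map_zero]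
  · obtain ⟨z, hz⟩ : ∃ z : ∀ n, Γ(Q I F n, U), ∀ n (V : X.Opens) (_ : IsAffineOpen V) (h : V ≤ U) (a : Γ(F, V)),
        (v n).app V a = rs (P n) h (rs _ le_top (y n)) → rs (Q I F n) h (z n) = (unitQ I F n).app V a :=
      Classical.axiomOfChoice fun n => exists_transfer (v n) (unitQ I F n) U (fun V hV h => (hv n V hV h).1)
        (fun V hV h a b => ((hv n V hV h).2 a b).1) (rs _ le_top (y n))
    have hzc : ∀ n, (transU I F n).app U (z (n + 1)) = z n := fun n => by
      refine trans_eq_of_locally I F hF n _ _ fun x hx => ?_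
      obtain ⟨V, hV, hxV, hle'⟩ := exists_isAffineOpen_mem_and_subset (x := x) (U := U) hx
      have hle : V ≤ U := hle'
      obtain ⟨a, ha⟩ := (hv (n + 1) V hV hle).1 (rs (P (n + 1)) hle (rs _ le_top (y (n + 1))))
      refine ⟨V, hle, hxV, ?_⟩
      rw [hz (n + 1) V hV hle a ha, trans_π, hz n V hV hle a]
      rw [← app_comp _ _ _ (hT n) V a, ha, Groth.L19.ProjBdl.app_rs, Groth.L19.ProjBdl.app_rs, hy n]
    obtain ⟨w, hwc, hwz⟩ := hform.2 z hzc
    obtain ⟨σ, hσ⟩ := hglob2 w hwc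
    refine ⟨σ, fun n => hfull n (Groth.L15.Ref.sec_ext fun x hx => ?_)⟩
    obtain ⟨V, hV, hxV, hle'⟩ := exists_isAffineOpen_mem_and_subset (x := x) (U := U) hx
    have hle : V ≤ U := hle'
    rw [← Groth.L20.ModStalk.germ_rs _ hle hxV, ← Groth.L20.ModStalk.germ_rs _ hle hxV (rs _ le_top (y n))]
    refine congrArg _ ?_
    obtain ⟨a, ha⟩ := (hv n V hV hle).1 (rs (P n) hle (rs _ le_top (y n)))
    rw [← ha, Groth.L18.Frame.rs_rs, ← Groth.L19.ProjBdl.app_rs, (hv n V hV hle).2,
      ← hz n V hV hle a ha, ← hwz, ← hσ, Groth.L18.Frame.rs_rs, Groth.L19.ProjBdl.app_rs]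

end Abstract

/-- Membership in `J M` along a surjection of rings. -/
theorem mem_smul_top_iff {A B : Type u} [CommRing A] [CommRing B] (φ : A →+* B) (hφ : Function.Surjective φ)
    {M N : Type u} [AddCommGroup M] [Module A M] [AddCommGroup N] [Module B N] (e : M ≃+ N)
    (he : ∀ r m, e (r • m) = φ r • e m) (J : Ideal A) (m : M) :
    m ∈ J • (⊤ : Submodule A M) ↔ e m ∈ J.map φ • (⊤ : Submodule B N) := by
  refine ⟨fun h => ?_, fun h => ?_⟩
  · induction h using Submodule.smul_induction_on' with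
    | smul r hr x _ =>
      rw [he]
      exact Submodule.smul_mem_smul (Ideal.mem_map_of_mem φ hr) Submodule.mem_top
    | add a _ b _ ha hb => rw [map_add]; exact add_mem ha hb
  · suffices ∀ n ∈ J.map φ • (⊤ : Submodule B N), e.symm n ∈ J • (⊤ : Submodule A M) by
      simpa using this (e m) h
    intro n hn
    induction hn using Submodule.smul_induction_on' with
    | smul r hr x _ =>
      obtain ⟨r', hr', rfl⟩ := (Ideal.mem_map_iff_of_surjective φ hφ).1 hr
      have : e.symm (φ r' • x) = r' • e.symm x := e.injective (by rw [he, e.apply_symm_apply, e.apply_symm_apply])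
      rw [this]
      exact Submodule.smul_mem_smul hr' Submodule.mem_top
    | add a _ b _ ha hb => rw [map_add]; exact add_mem ha hb

section Push

variable {U : Scheme.{u}} (j : U ⟶ X) [IsOpenImmersion j]

theorem supportedOn_push (E : U.Modules) :
    Groth.L21.Extend.SupportedOn ((Scheme.Modules.pushforward j).obj E) j.opensRange := by
  intro V
  have h : j ⁻¹ᵁ V = j ⁻¹ᵁ (V ⊓ j.opensRange) :=
    Opens.ext (Set.ext fun z => ⟨fun hz => ⟨hz, ⟨z, rfl⟩⟩, fun hz => hz.1⟩)
  haveI : IsIso ((Opens.map j.base).op.map (homOfLE (inf_le_left : V ⊓ j.opensRange ≤ V)).op) :=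
    ⟨(eqToHom h).op, Subsingleton.elim _ _, Subsingleton.elim _ _⟩
  exact ConcreteCategory.bijective_of_isIso
    (E.presheaf.map ((Opens.map j.base).op.map (homOfLE (inf_le_left : V ⊓ j.opensRange ≤ V)).op))

theorem depth_stalk_of_normal [IsLocallyNoetherian X] (hXn : Pi1.IsNormalScheme X) (x : X)
    (hx : (2 : WithBot ℕ∞) ≤ ringKrullDim (X.presheaf.stalk x)) :
    (2 : ℕ∞) ≤ LocCoh.depth (X.presheaf.stalk x) (X.presheaf.stalk x) := by
  haveI := (hXn x).1
  haveI := (hXn x).2
  exact Groth.L06.NormalAscent.two_le_depth_of_normal fun h => absurd (hx.trans h) (by decide)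

theorem isReflexiveAt_push (E : U.Modules) (z : U) (h : RefHull.IsReflexiveAt E z) :
    RefHull.IsReflexiveAt ((Scheme.Modules.pushforward j).obj E) (j z) :=
  (Groth.L07.RefExtend.isReflexiveAt_restrict_iff j _ z).1
    ((Groth.L07.RefExtend.isReflexiveAt_congr ((Scheme.Modules.restrictFunctorAdjCounitIso j).app E).hom z
      (Groth.L07.RefExtend.stalkMapₗ_bijective_of_isIso _ _)).2 h)

/-- Coherent reflexive modules extend across codimension two. -/
theorem isCoh_reflexive_push [IsIntegral X] [IsNoetherian X] (hXn : Pi1.IsNormalScheme X)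
    (hcodim : ∀ x : X, x ∉ j.opensRange → (2 : WithBot ℕ∞) ≤ ringKrullDim (X.presheaf.stalk x))
    (E : U.Modules) (hE : Coh.IsCoh E) (hEr : ∀ z : U, RefHull.IsReflexiveAt E z) :
    Coh.IsCoh ((Scheme.Modules.pushforward j).obj E) ∧
      ∀ x : X, RefHull.IsReflexiveAt ((Scheme.Modules.pushforward j).obj E) x := by
  have hU : ∀ x : X, x ∉ j.opensRange → (2 : ℕ∞) ≤ LocCoh.depth (X.presheaf.stalk x) (X.presheaf.stalk x) :=
    fun x hx => depth_stalk_of_normal hXn x (hcodim x hx)
  have hO := Groth.L07.RefExtend.supportedOn_structureModule hU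
  have hMs := supportedOn_push j E
  haveI := hE.1
  haveI : Coh.IsQCoh ((Scheme.Modules.pushforward j).obj E) := Groth.L16.QcqsPush.isQCoh_push E j
  have href : ∀ x ∈ j.opensRange, RefHull.IsReflexiveAt ((Scheme.Modules.pushforward j).obj E) x := by
    rintro _ ⟨z, rfl⟩
    exact isReflexiveAt_push j E z (hEr z)
  have hres : Coh.IsCoh (((Scheme.Modules.pushforward j).obj E).restrict j.opensRange.ι) := by
    refine Groth.L16.CohSupport.isCoh_of_iso (Iso.symm ?_)
      (Groth.L29.DC.RHomC.isCoh_restrict j.isoOpensRange.inv hE)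
    exact (Scheme.Modules.restrictFunctorCongr (show j.opensRange.ι = j.isoOpensRange.inv ≫ j by
        rw [← cancel_epi j.isoOpensRange.hom, Iso.hom_inv_id_assoc, j.isoOpensRange_hom_ι])).app _ ≪≫
      (Scheme.Modules.restrictFunctorComp j.isoOpensRange.inv j).app _ ≪≫
      (Scheme.Modules.restrictFunctor j.isoOpensRange.inv).mapIso ((Scheme.Modules.restrictFunctorAdjCounitIso j).app E)
  generalize (Scheme.Modules.pushforward j).obj E = M at *
  have hM : Coh.IsCoh M := Groth.L07.RefExtend.isCoh_push j.opensRange M hMs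
    (fun V _ => Groth.L07.RefExtend.supportedOn_structureModule fun y hy =>
      (hU (V.ι y) hy).trans (Groth.L06.FlatFibre.depth_eq_of_ringEquiv (Groth.L07.RefExtend.stalkEquiv V.ι y)).ge)
    hres href
  refine ⟨hM, fun x => ?_⟩
  haveI : IsIso (RefHull.bidualMap M) := Groth.L07.RefExtend.isIso_of_supportedOn hMs
    (Groth.L07.RefExtend.supportedOn_ddual hO M) _
    fun W hW => Groth.L07.RefExtend.bidualMap_app_bijective hM fun x hx => href x (hW hx)
  exact (Groth.L15.Ref.isReflexive_iff_stalks hM).1 ‹_› x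

variable [IsLocallyNoetherian X] [IsLocallyNoetherian U] (I : X.IdealSheafData) (E : U.Modules)

theorem comap_ideal_pow (n : ℕ) {V : X.Opens} (hV : IsAffineOpen V) (hW : IsAffineOpen (j ⁻¹ᵁ V)) :
    ((I.comap j) ^ n).ideal ⟨j ⁻¹ᵁ V, hW⟩ = ((I ^ n).ideal ⟨V, hV⟩).map (j.app V).hom := by
  rw [ideal_pow_eq, ideal_pow_eq, Ideal.map_pow,
    Groth.L22.Ideals.comap_ideal j I ⟨V, hV⟩ ⟨j ⁻¹ᵁ V, hW⟩ le_rfl, Scheme.Hom.app_eq_appLE]

theorem isAffineOpen_preimage {V : X.Opens} (hV : IsAffineOpen V) (h : V ≤ j.opensRange) :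
    IsAffineOpen (j ⁻¹ᵁ V) :=
  hV.preimage_of_isOpenImmersion j (h)

theorem bijective_app {V : X.Opens} (h : V ≤ j.opensRange) : Function.Bijective (j.app V) :=
  haveI := j.isIso_app V h
  ConcreteCategory.bijective_of_isIso _

variable (hE : Coh.IsCoh E)
include hE

/-- The kernel of the units of `U` on affine opens of the image. -/
theorem push_unit_facts (hF : Coh.IsCoh ((Scheme.Modules.pushforward j).obj E)) (n : ℕ) {V : X.Opens}
    (hV : IsAffineOpen V) (h : V ≤ j.opensRange) :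
    Function.Surjective (((Scheme.Modules.pushforward j).map (unitQ (I.comap j) E n)).app V) ∧
    ∀ a b, (((Scheme.Modules.pushforward j).map (unitQ (I.comap j) E n)).app V a =
        ((Scheme.Modules.pushforward j).map (unitQ (I.comap j) E n)).app V b ↔
      (unitQ I ((Scheme.Modules.pushforward j).obj E) n).app V a =
        (unitQ I ((Scheme.Modules.pushforward j).obj E) n).app V b) := by
  have hW := isAffineOpen_preimage j hV h
  haveI := hE.1
  haveI := hF.1
  refine ⟨(unitFacts (I.comap j) E n _ hW).1, fun a b => ?_⟩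
  refine ((unitFacts (I.comap j) E n _ hW).2 a b).trans (Iff.trans ?_
    ((unitFacts I ((Scheme.Modules.pushforward j).obj E) n _ hV).2 a b).symm)
  rw [comap_ideal_pow j I (n + 1) hV hW]
  exact (mem_smul_top_iff (j.app V).hom (bijective_app j h).2
    (M := Γ((Scheme.Modules.pushforward j).obj E, V)) (N := Γ(E, j ⁻¹ᵁ V))
    (AddEquiv.refl _) (fun r m => rfl) _ (a - b)).symm

omit hE in
theorem push_unit_trans (n : ℕ) :
    (Scheme.Modules.pushforward j).map (unitQ (I.comap j) E (n + 1)) ≫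
      (Scheme.Modules.pushforward j).map (transU (I.comap j) E n) =
      (Scheme.Modules.pushforward j).map (unitQ (I.comap j) E n) := by
  rw [← Functor.map_comp, unit_transU]

omit hE in
theorem push_injective (n : ℕ) :
    Function.Injective (rs ((Scheme.Modules.pushforward j).obj (Q (I.comap j) E n)) (le_top : j.opensRange ≤ ⊤)) := by
  intro a b h
  refine Groth.L15.Ref.sec_ext (N := Q (I.comap j) E n) fun x hx => ?_
  have h' := congrArg ((Q (I.comap j) E n).presheaf.germ (j ⁻¹ᵁ j.opensRange) x ⟨x, rfl⟩) h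
  exact (Groth.L20.ModStalk.germ_rs (Q (I.comap j) E n) _ _ a).symm.trans
    (h'.trans (Groth.L20.ModStalk.germ_rs (Q (I.comap j) E n) _ _ b))

omit hE in
/-- Reading a statement about direct images on the source. -/
theorem push_bridge (G : ℕ → U.Modules) (v : ∀ n, E ⟶ G n) (T : ∀ n, G (n + 1) ⟶ G n)
    (h : (∀ σ : Γ((Scheme.Modules.pushforward j).obj E, ⊤),
        (∀ n, ((Scheme.Modules.pushforward j).map (v n)).app ⊤ σ = 0) → σ = 0) ∧
      (∀ y : ∀ n, Γ((Scheme.Modules.pushforward j).obj (G n), ⊤),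
        (∀ n, ((Scheme.Modules.pushforward j).map (T n)).app ⊤ (y (n + 1)) = y n) →
        ∃ σ : Γ((Scheme.Modules.pushforward j).obj E, ⊤), ∀ n, ((Scheme.Modules.pushforward j).map (v n)).app ⊤ σ = y n)) :
    (∀ σ : Γ(E, ⊤), (∀ n, (v n).app ⊤ σ = 0) → σ = 0) ∧
    (∀ y : ∀ n, Γ(G n, ⊤), (∀ n, (T n).app ⊤ (y (n + 1)) = y n) →
      ∃ σ : Γ(E, ⊤), ∀ n, (v n).app ⊤ σ = y n) :=
  h

/-- Sections on `U` against the formal sections along a closed subscheme, from those on `X`. -/
theorem push_bijective (hF : Coh.IsCoh ((Scheme.Modules.pushforward j).obj E))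
    (hglob1 : ∀ σ : Γ((Scheme.Modules.pushforward j).obj E, ⊤),
      (∀ n, (unitQ I ((Scheme.Modules.pushforward j).obj E) n).app ⊤ σ = 0) → σ = 0)
    (hglob2 : ∀ y : ∀ n, Γ(Q I ((Scheme.Modules.pushforward j).obj E) n, ⊤),
      (∀ n, (transU I ((Scheme.Modules.pushforward j).obj E) n).app ⊤ (y (n + 1)) = y n) →
      ∃ σ, ∀ n, (unitQ I ((Scheme.Modules.pushforward j).obj E) n).app ⊤ σ = y n)
    (hform : (∀ y : ∀ n, Γ(Q I ((Scheme.Modules.pushforward j).obj E) n, ⊤),
      (∀ n, (transU I ((Scheme.Modules.pushforward j).obj E) n).app ⊤ (y (n + 1)) = y n) →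
      (∀ n, rs (Q I ((Scheme.Modules.pushforward j).obj E) n) (le_top : j.opensRange ≤ ⊤) (y n) = 0) → ∀ n, y n = 0) ∧
    (∀ z : ∀ n, Γ(Q I ((Scheme.Modules.pushforward j).obj E) n, j.opensRange),
      (∀ n, (transU I ((Scheme.Modules.pushforward j).obj E) n).app j.opensRange (z (n + 1)) = z n) →
      ∃ y : ∀ n, Γ(Q I ((Scheme.Modules.pushforward j).obj E) n, ⊤),
        (∀ n, (transU I ((Scheme.Modules.pushforward j).obj E) n).app ⊤ (y (n + 1)) = y n) ∧
        ∀ n, rs (Q I ((Scheme.Modules.pushforward j).obj E) n) (le_top : j.opensRange ≤ ⊤) (y n) = z n))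
    :
    (∀ σ : Γ(E, ⊤), (∀ n, (unitQ (I.comap j) E n).app ⊤ σ = 0) → σ = 0) ∧
    (∀ y : ∀ n, Γ(Q (I.comap j) E n, ⊤),
      (∀ n, (transU (I.comap j) E n).app ⊤ (y (n + 1)) = y n) →
        ∃ σ : Γ(E, ⊤), ∀ n, (unitQ (I.comap j) E n).app ⊤ σ = y n) := by
  refine push_bridge j E (Q (I.comap j) E) (unitQ (I.comap j) E) (transU (I.comap j) E) ?_
  exact transfer_bijective I _ hF j.opensRange
    (fun n => (Scheme.Modules.pushforward j).obj (Q (I.comap j) E n))
    (fun n => (Scheme.Modules.pushforward j).map (unitQ (I.comap j) E n))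
    (fun n => (Scheme.Modules.pushforward j).map (transU (I.comap j) E n))
    (fun n => push_unit_trans j I E n)
    (fun n V hV h => push_unit_facts j I E hE hF n hV h)
    (fun n => push_injective j I E n) hglob1 hglob2 hform

end Push

section Proper

variable {k : Type u} [Field k] (f : X ⟶ Spec (CommRingCat.of k)) [IsProper f]

include f in
/-- Global formal sections of a coherent module of depth two at the closed points off an ample divisor. -/
theorem proper_bijective [IsLocallyNoetherian X] {L : X.Modules} (hL : CohB1.IsAmple L)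
    (s : Coh.structureModule X ⟶ L) (F : X.Modules) (hF : Coh.IsCoh F)
    (hd : ∀ x : X, IsClosed ({x} : Set X) → x ∉ (PicF2.zeroScheme L s).support →
      ((1 + 1 : ℕ) : ℕ∞) ≤ LocCoh.depth (X.presheaf.stalk x) (F.presheaf.stalk x)) :
    (∀ σ : Γ(F, ⊤), (∀ n, (unitQ (PicF2.zeroScheme L s) F n).app ⊤ σ = 0) → σ = 0) ∧
    (∀ y : ∀ n, Γ(Q (PicF2.zeroScheme L s) F n, ⊤),
      (∀ n, (transU (PicF2.zeroScheme L s) F n).app ⊤ (y (n + 1)) = y n) →
      ∃ σ, ∀ n, (unitQ (PicF2.zeroScheme L s) F n).app ⊤ σ = y n) := by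
  classical
  haveI := hF.1
  generalize hI : PicF2.zeroScheme L s = I at *
  have hle : ∀ {a b : ℕ}, a ≤ b → ∃ l : (Dual3.idealMul (I ^ (b + 1))).obj F ⟶ (Dual3.idealMul (I ^ (a + 1))).obj F,
      l ≫ Dual3.idealMulι (I ^ (a + 1)) F = Dual3.idealMulι (I ^ (b + 1)) F := fun {a b} h =>
    Groth.L17.IdealMulSec.exists_le (I ^ (b + 1)) F
      (Groth.L17.IdealMulExtend.pow_le_pow I (Nat.add_le_add_right h 1))
  choose κ hκ using @hle
  exact Groth.L18.OffAffine.sections_bijective (fun m => (Dual3.idealMul (I ^ (m + 1))).obj F) (Q I F)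
    (fun m => Dual3.idealMulι (I ^ (m + 1)) F) (fun m => unitQ I F m)
    (fun m => kernel.condition _) (fun m => Groth.L18.OffAffine.shortExact_idealMul (I ^ (m + 1)) F)
    (transU I F) (fun m => unit_transU I F m)
    @κ @hκ (fun q hq a => by
      subst hI
      obtain ⟨d, hd'⟩ := Groth.L18.OffAffine.exists_hmap_eq_zero_coh f hL s hF 1 hd q hq (a + 1)
      exact ⟨a + d, Nat.le_add_right a d, hd' (a + d + 1) (by omega) _ (hκ _)⟩)

include f in
theorem two_le_depth_closed [IsIntegral X] [IsLocallyNoetherian X] (hXn : Pi1.IsNormalScheme X) {d : ℕ}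
    (hd : topologicalKrullDim X = d) (h2 : 2 ≤ d) {F : X.Modules} (hF : Coh.IsCoh F) {x : X}
    (hr : RefHull.IsReflexiveAt F x) (hx : IsClosed ({x} : Set X)) :
    (2 : ℕ∞) ≤ LocCoh.depth (X.presheaf.stalk x) (F.presheaf.stalk x) := by
  letI : X.Over (Spec (CommRingCat.of k)) := ⟨f⟩
  haveI : LocallyOfFiniteType (X ↘ Spec (CommRingCat.of k)) := inferInstanceAs (LocallyOfFiniteType f)
  have hdim := Groth.Agent.L26.PicSm.stalk_closed_dim k hd hx
  have h := depth_stalk_of_normal hXn x (by rw [hdim]; exact_mod_cast h2)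
  haveI : Module.IsReflexive (X.presheaf.stalk x) (F.presheaf.stalk x) := hr
  haveI : Module.Finite (X.presheaf.stalk x) (F.presheaf.stalk x) :=
    Groth.L15.Ref.finite_stalk hF x
  rw [LocCoh.depth] at h ⊢
  rw [Groth.L04.idealDepth_congr (Module.evalEquiv (X.presheaf.stalk x) (F.presheaf.stalk x))]
  exact (Groth.L04.idealDepth_dual _ _).2 h

include f in
/-- The divisor of a section of an ample module which is not everything is regular. -/
theorem isRegularIdeal_zeroScheme [IsIntegral X] [IsLocallyNoetherian X] {L : X.Modules} (hL : PicF.IsInvertible L)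
    {s : Coh.structureModule X ⟶ L} (hs : s ≠ 0) :
    RegImm.IsRegularIdeal RegImm.Kind.regular (PicF2.zeroScheme L s) := by
  intro x hx
  obtain ⟨V, hxV, c, hc, hspan⟩ := Groth.Agent.ThetaRed.isEffCartier_zeroScheme hL hs x
  refine ⟨V, hxV, [c], ?_, by rw [hspan, Ideal.ofList_singleton]⟩
  refine ⟨?_, fun htop => ?_⟩
  · rw [RingTheory.Sequence.isWeaklyRegular_cons_iff]
    exact ⟨isSMulRegular_iff_right_eq_zero_of_smul.2 fun a ha => (mem_nonZeroDivisors_iff.1 hc).1 a ha,
      RingTheory.Sequence.IsWeaklyRegular.nil _ _⟩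
  · rw [smul_eq_mul, Ideal.mul_top, Ideal.ofList_singleton, ← hspan] at htop
    have h := Scheme.IdealSheafData.coe_support_inter (PicF2.zeroScheme L s) V
    rw [← htop] at h
    have hx' : x ∈ ((PicF2.zeroScheme L s).support : Set X) ∩ (V : Set X) := ⟨hx, hxV⟩
    rw [h, Submodule.top_coe, Scheme.zeroLocus_univ] at hx'
    exact hx'.1 hx'.2

theorem ne_zero_of_dim [IsIntegral X] {L : X.Modules} (hL : PicF.IsInvertible L) {s : Coh.structureModule X ⟶ L}
    {d : ℕ} (hd : topologicalKrullDim X = d) (h1 : 1 ≤ d)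
    (hY : topologicalKrullDim (PicF2.zeroScheme L s).subscheme = (d - 1 : ℕ)) : s ≠ 0 := by
  intro hs
  have hsupp := Groth.L22.ZeroScheme.support_zeroScheme hL s
  have hall : ∀ x : X, x ∈ ((PicF2.zeroScheme L s).support : Set X) := fun x => by
    refine hsupp.ge fun hx => ?_
    obtain ⟨W, e, hxW, he⟩ := Groth.L18.Frame.exists_frame hL x
    have h0 : rs L (le_top : W ≤ ⊤) (Groth.L18.GenLoc.secOf s) = (0 : Γ(X, W)) • e := by
      rw [zero_smul, hs]
      simp [Groth.L18.GenLoc.secOf]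
    have h := Groth.L18.GenLoc.genLocus_inf_eq s he h0.symm
    rw [Scheme.basicOpen_zero] at h
    exact (h.le ⟨hx, hxW⟩ : x ∈ (⊥ : X.Opens))
  have hrange : Set.range (PicF2.zeroScheme L s).subschemeι = Set.univ := by
    rw [Scheme.IdealSheafData.range_subschemeι]
    exact Set.eq_univ_of_forall hall
  have hhom : IsHomeomorph (PicF2.zeroScheme L s).subschemeι :=
    isHomeomorph_iff_isEmbedding_surjective.2
      ⟨(PicF2.zeroScheme L s).subschemeι.isClosedEmbedding.isEmbedding, Set.range_eq_univ.1 hrange⟩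
  rw [hhom.topologicalKrullDim_eq, hd] at hY
  have : d = d - 1 := by exact_mod_cast hY
  omega

include f in
/-- Sections of a reflexive module on a big open are formal sections along an ample normal divisor. -/
theorem big_open_bijective [IsIntegral X] (hXn : Pi1.IsNormalScheme X)
    {d : ℕ} (hd : topologicalKrullDim X = d) (h2 : 2 ≤ d) {L : X.Modules} (hL : CohB1.IsAmple L)
    (s : Coh.structureModule X ⟶ L)
    (hYn : Pi1.IsNormalScheme (PicF2.zeroScheme L s).subscheme)
    (hYdim : topologicalKrullDim (PicF2.zeroScheme L s).subscheme = (d - 1 : ℕ))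
    {U' : Scheme.{u}} (j : U' ⟶ X) [IsOpenImmersion j]
    (hUY : ∀ x : X, x ∈ ((PicF2.zeroScheme L s).support : Set X) → IsRegularLocalRing (X.presheaf.stalk x) →
      x ∈ Set.range j.base)
    (hUcodim : ∀ x : X, x ∉ Set.range j.base → (2 : WithBot ℕ∞) ≤ ringKrullDim (X.presheaf.stalk x))
    (E : U'.Modules) (hE : Coh.IsCoh E) (hEr : ∀ z : U', RefHull.IsReflexiveAt E z)
    :
    (∀ σ : Γ(E, ⊤), (∀ n, (unitQ ((PicF2.zeroScheme L s).comap j) E n).app ⊤ σ = 0) → σ = 0) ∧
    (∀ y : ∀ n, Γ(Q ((PicF2.zeroScheme L s).comap j) E n, ⊤),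
      (∀ n, (transU ((PicF2.zeroScheme L s).comap j) E n).app ⊤ (y (n + 1)) = y n) →
        ∃ σ : Γ(E, ⊤), ∀ n, (unitQ ((PicF2.zeroScheme L s).comap j) E n).app ⊤ σ = y n) := by
  haveI : IsLocallyNoetherian X := LocallyOfFiniteType.isLocallyNoetherian f
  haveI : CompactSpace X := QuasiCompact.compactSpace_of_compactSpace f
  haveI : IsNoetherian X := { }
  haveI : IsLocallyNoetherian U' := LocallyOfFiniteType.isLocallyNoetherian j
  obtain ⟨hF, hFr⟩ := isCoh_reflexive_push j hXn hUcodim E hE hEr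
  have hreg := isRegularIdeal_zeroScheme f hL.1 (ne_zero_of_dim hL.1 hd (one_le_two.trans h2) hYdim)
  have hglob := proper_bijective f hL s _ hF fun x hx _ => two_le_depth_closed f hXn hd h2 hF (hFr x) hx
  have hform := formal_bijective (PicF2.zeroScheme L s) _ hF hFr j.opensRange
    (fun n z hz => two_le_depth_thickening _ hreg hYn n z fun h => hz (hUY _ (by
      rw [← Scheme.IdealSheafData.support_pow (PicF2.zeroScheme L s) _ n.succ_ne_zero,
        ← Scheme.IdealSheafData.range_subschemeι]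
      exact ⟨z, rfl⟩) h)) (A := ⊤) le_top
  have key := push_bijective j (PicF2.zeroScheme L s) E hE hF hglob.1 hglob.2 hform
  exact key

end Proper

end Groth.L18.FormalLevels
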