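import Groth.Agent.L18.FormalHartogs
import Groth.Agent.L18.CompletionTrans
import Mathlib.RingTheory.Filtration

/-!
# Formal sections of a reflexive module extend over points of depth two of the thickenings

`E` reflexive coherent, the thickenings of `V(I)` of depth at least two outside `U`: compatible systems of sections of
`E / I^(n+1) E` over `U` extend uniquely.
-/

set_option autoImplicit false
set_option linter.style.haveILetI false
set_option linter.unusedSectionVars false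
set_option backward.isDefEq.respectTransparency false
set_option backward.isDefEq.respectTransparency.types false
universe u

open CategoryTheory CategoryTheory.Limits AlgebraicGeometry Opposite TopologicalSpace

noncomputable section

namespace Groth.L18.FormalLevels

open Groth.L18.Frame (rs ro)

section AR

variable {A : Type u} [CommRing A] [IsNoetherianRing A] (I : Ideal A)

theorem mem_smul_top_pi {a : ℕ} (x : Fin a → A) :
    x ∈ I • (⊤ : Submodule A (Fin a → A)) ↔ ∀ i, x i ∈ I := by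
  constructor
  · intro hx i
    induction hx using Submodule.smul_induction_on' with
    | smul r hr e _ => exact I.mul_mem_right _ hr
    | add p _ q _ hp hq => exact add_mem hp hq
  · intro hx
    classical
    rw [pi_eq_sum_univ x]
    exact sum_mem fun i _ => Submodule.smul_mem_smul (hx i) Submodule.mem_top

/-- Artin-Rees for a linear map. -/
theorem exists_artinRees {M N : Type u} [AddCommGroup M] [Module A M] [AddCommGroup N] [Module A N] [Module.Finite A N]
    (f : M →ₗ[A] N) :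
    ∃ c : ℕ, ∀ (n : ℕ) (x : M), f x ∈ I ^ (n + c) • (⊤ : Submodule A N) →
      ∃ x' : M, f x' = f x ∧ x' ∈ I ^ n • (⊤ : Submodule A M) := by
  obtain ⟨c, hc⟩ := Ideal.exists_pow_inf_eq_pow_smul I (LinearMap.range f)
  refine ⟨c, fun n x hx => ?_⟩
  have h1 : f x ∈ I ^ n • LinearMap.range f := by
    have h : f x ∈ I ^ (n + c) • (⊤ : Submodule A N) ⊓ LinearMap.range f := ⟨hx, x, rfl⟩
    rw [hc (n + c) (Nat.le_add_left c n), Nat.add_sub_cancel] at h
    exact Submodule.smul_mono le_rfl inf_le_right h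
  rw [LinearMap.range_eq_map, ← Submodule.map_smul''] at h1
  obtain ⟨x', hx', e⟩ := h1
  exact ⟨x', e, hx'⟩

end AR

variable {X : Scheme.{u}} [IsLocallyNoetherian X] (I : X.IdealSheafData) (E : X.Modules)

/-- On affine opens `u` is surjective with kernel given by `J`. -/
def UnitFacts {P : X.Modules} {E : X.Modules} (u : E ⟶ P) (J : X.IdealSheafData) : Prop :=
  ∀ (V : X.Opens) (hV : IsAffineOpen V),
    Function.Surjective (u.app V) ∧
      ∀ a b : Γ(E, V), u.app V a = u.app V b ↔ a - b ∈ J.ideal ⟨V, hV⟩ • (⊤ : Submodule Γ(X, V) Γ(E, V))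

theorem unitFacts_subscheme (J : X.IdealSheafData) (E : X.Modules) [Coh.IsQCoh E] :
    UnitFacts (E := E) (Groth.L17.IdealMulSec.η J E) J :=
  fun _ hV => ⟨η_surjective J E hV, η_eq_iff J E hV⟩

/-- The level `n` of the completion, on `X`. -/
def Q (n : ℕ) : X.Modules :=
  (Scheme.Modules.pullback (FSch.completionToX X I n) ⋙ Scheme.Modules.pushforward (FSch.completionToX X I n)).obj E

/-- The projection to the level `n`. -/
def unitQ (n : ℕ) : E ⟶ Q I E n :=
  (Scheme.Modules.pullbackPushforwardAdjunction (FSch.completionToX X I n)).unit.app E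

/-- The transition between the units. -/
def transU (n : ℕ) : Q I E (n + 1) ⟶ Q I E n := ComplTrans.trans I E n

theorem unit_transU (n : ℕ) : unitQ I E (n + 1) ≫ transU I E n = unitQ I E n :=
  ComplTrans.trans_unit I E n

theorem rs_π (n : ℕ) {V V' : X.Opens} (h : V' ≤ V) (m : Γ(E, V)) : rs (Q I E n) h ((unitQ I E n).app V m) = (unitQ I E n).app V' (rs E h m) :=
  (Groth.L19.ProjBdl.app_rs (unitQ I E n) h m).symm

theorem app_comp {A B C : X.Modules} (f : A ⟶ B) (g : B ⟶ C) (h : A ⟶ C) (e : f ≫ g = h) (V : X.Opens) (m : Γ(A, V)) :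
    g.app V (f.app V m) = h.app V m := by
  subst e
  rfl

theorem trans_π (n : ℕ) {V : X.Opens} (m : Γ(E, V)) :
    (transU I E n).app V ((unitQ I E (n + 1)).app V m) = (unitQ I E n).app V m :=
  app_comp _ _ _ (unit_transU I E n) V m

theorem unitFacts (n : ℕ) [Coh.IsQCoh E] : UnitFacts (unitQ I E n) (I ^ (n + 1)) :=
  unitFacts_subscheme (I ^ (n + 1)) E

theorem ideal_pow_eq (n : ℕ) {V : X.Opens} (hV : IsAffineOpen V) :
    (I ^ n).ideal ⟨V, hV⟩ = (I.ideal ⟨V, hV⟩) ^ n := by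
  rw [Scheme.IdealSheafData.ideal_pow, Pi.pow_apply]

variable (hE : Coh.IsCoh E)
include hE

theorem π_surjective (n : ℕ) {V : X.Opens} (hV : IsAffineOpen V) : Function.Surjective ((unitQ I E n).app V) :=
  haveI := hE.1
  (unitFacts I E n V hV).1

theorem π_eq_iff (n : ℕ) {V : X.Opens} (hV : IsAffineOpen V) (a b : Γ(E, V)) :
    (unitQ I E n).app V a = (unitQ I E n).app V b ↔ a - b ∈ (I.ideal ⟨V, hV⟩) ^ (n + 1) • (⊤ : Submodule Γ(X, V) Γ(E, V)) := by
  haveI := hE.1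
  rw [← ideal_pow_eq I (n + 1) hV]
  exact (unitFacts I E n V hV).2 a b

/-- Lifts of a compatible system are congruent. -/
theorem lift_sub_mem {V : X.Opens} (hV : IsAffineOpen V) (y : ∀ n, Γ(Q I E n, V))
    (hy : ∀ n, (transU I E n).app V (y (n + 1)) = y n) (e : ℕ → Γ(E, V)) (he : ∀ n, (unitQ I E n).app _ (e n) = y n)
    {n m : ℕ} (h : n ≤ m) : e m - e n ∈ (I.ideal ⟨V, hV⟩) ^ (n + 1) • (⊤ : Submodule Γ(X, V) Γ(E, V)) := by
  induction m, h using Nat.le_induction with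
  | base => rw [sub_self]; exact zero_mem _
  | succ m hm ih =>
    have h1 : (unitQ I E m).app _ (e (m + 1)) = (unitQ I E m).app _ (e m) := by rw [← trans_π, he, hy, he]
    have h2 := (π_eq_iff I E hE m hV _ _).1 h1
    have h3 := add_mem (Submodule.smul_mono_left (Ideal.pow_le_pow_right (Nat.add_le_add_right hm 1)) h2) ih
    rwa [sub_add_sub_cancel] at h3

/-- Lifts on a smaller affine open of a compatible system are congruent. -/
theorem lift_sub_mem' {U V : X.Opens} (hV : IsAffineOpen V) (u : V ≤ U) (z : ∀ n, Γ(Q I E n, U))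
    (hz : ∀ n, (transU I E n).app U (z (n + 1)) = z n) (e : ℕ → Γ(E, V))
    (he : ∀ n, (unitQ I E n).app V (e n) = rs (Q I E n) u (z n)) {n m : ℕ} (h : n ≤ m) :
    e m - e n ∈ (I.ideal ⟨V, hV⟩) ^ (n + 1) • (⊤ : Submodule Γ(X, V) Γ(E, V)) := by
  induction m, h using Nat.le_induction with
  | base => rw [sub_self]; exact zero_mem _
  | succ m hm ih =>
    have h1 : (unitQ I E m).app V (e (m + 1)) = (unitQ I E m).app V (e m) := by
      rw [← trans_π, he, Groth.L19.ProjBdl.app_rs, hz, he]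
    have h2 := (π_eq_iff I E hE m hV _ _).1 h1
    have h3 := add_mem (Submodule.smul_mono_left (Ideal.pow_le_pow_right (Nat.add_le_add_right hm 1)) h2) ih
    rwa [sub_add_sub_cancel] at h3

/-- The lifts of compatible systems over opens restrict compatibly. -/
theorem rs_lift_sub_mem {V V' : X.Opens} (hV' : IsAffineOpen V') (n : ℕ) (h : V' ≤ V) (y : Γ(Q I E n, V))
    {a : Γ(E, V)} (ha : (unitQ I E n).app _ a = y) {b : Γ(E, V')} (hb : (unitQ I E n).app _ b = rs (Q I E n) h y) :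
    rs E h a - b ∈ (I.ideal ⟨V', hV'⟩) ^ (n + 1) • (⊤ : Submodule Γ(X, V') Γ(E, V')) :=
  (π_eq_iff I E hE n hV' _ _).1 (by rw [← rs_π, ha, hb])

theorem restrict_compat {A V : X.Opens} (hVA : V ≤ A) (y : ∀ n, Γ(Q I E n, A))
    (hy : ∀ n, (transU I E n).app A (y (n + 1)) = y n) :
    ∃ yV : ∀ n, Γ(Q I E n, V), (∀ n, yV n = rs (Q I E n) hVA (y n)) ∧
      ∀ n, (transU I E n).app V (yV (n + 1)) = yV n := by
  obtain ⟨yV, hyV⟩ : ∃ yV : ∀ n, Γ(Q I E n, V), ∀ n, yV n = rs (Q I E n) hVA (y n) := ⟨_, fun _ => rfl⟩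
  refine ⟨yV, hyV, fun n => ?_⟩
  rw [hyV, hyV, Groth.L19.ProjBdl.app_rs, hy n]

theorem trans_eq_of_restrict {A V : X.Opens} (hVA : V ≤ A) (n : ℕ) (y₁ : Γ(Q I E (n + 1), A)) (y₀ : Γ(Q I E n, A))
    (a : Γ(Q I E (n + 1), V)) (b : Γ(Q I E n, V)) (ha : rs (Q I E (n + 1)) hVA y₁ = a) (hb : rs (Q I E n) hVA y₀ = b)
    (ht : (transU I E n).app V a = b) (x : X) (hx : x ∈ V) :
    (Q I E n).presheaf.germ A x (hVA hx) ((transU I E n).app A y₁) = (Q I E n).presheaf.germ A x (hVA hx) y₀ := by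
  subst ha hb
  rw [Groth.L19.ProjBdl.app_rs] at ht
  have h2 := congrArg ((Q I E n).presheaf.germ V x hx) ht
  rw [Groth.L20.ModStalk.germ_rs, Groth.L20.ModStalk.germ_rs] at h2
  exact h2

theorem trans_eq_of_locally {A : X.Opens} (n : ℕ) (y₁ : Γ(Q I E (n + 1), A)) (y₀ : Γ(Q I E n, A))
    (h : ∀ x ∈ A, ∃ (V : X.Opens) (hVA : V ≤ A), x ∈ V ∧
      (transU I E n).app V (rs (Q I E (n + 1)) hVA y₁) = rs (Q I E n) hVA y₀) :
    (transU I E n).app A y₁ = y₀ := by
  refine Groth.L15.Ref.sec_ext fun x hx => ?_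
  obtain ⟨V, hVA, hxV, e⟩ := h x hx
  exact trans_eq_of_restrict I E hE hVA n y₁ y₀ _ _ rfl rfl e x hxV

variable (hr : ∀ x : X, RefHull.IsReflexiveAt E x) (U : X.Opens)
  (hd : ∀ (n : ℕ) (z : (I ^ (n + 1)).subscheme), (I ^ (n + 1)).subschemeι z ∉ U →
    (2 : ℕ∞) ≤ LocCoh.depth ((I ^ (n + 1)).subscheme.presheaf.stalk z) ((I ^ (n + 1)).subscheme.presheaf.stalk z))
include hr hd

/-- Uniqueness over an affine open. -/
theorem local_ext {W : X.Opens} (hW : IsAffineOpen W) (y y' : ∀ n, Γ(Q I E n, W))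
    (hy : ∀ n, (transU I E n).app W (y (n + 1)) = y n)
    (hy' : ∀ n, (transU I E n).app W (y' (n + 1)) = y' n)
    (h : ∀ (V : X.Opens), IsAffineOpen V → ∀ (w : V ≤ W), V ≤ U → ∀ n, rs (Q I E n) w (y n) = rs (Q I E n) w (y' n)) :
    y = y' := by
  classical
  haveI : IsNoetherianRing Γ(X, W) := IsLocallyNoetherian.component_noetherian ⟨W, hW⟩
  obtain ⟨a, b, l, R, -, hinj, -⟩ := exists_functionals E (W := W) hE hr hW
  let φ : Γ(E, W) →ₗ[Γ(X, W)] (Fin a → Γ(X, W)) := LinearMap.pi fun i => Lₗ E (l i) le_rfl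
  obtain ⟨c, hc⟩ := exists_artinRees (I.ideal ⟨W, hW⟩) φ
  choose e he using fun n => π_surjective I E hE n hW (y n)
  choose e' he' using fun n => π_surjective I E hE n hW (y' n)
  funext n
  rw [← he, ← he', π_eq_iff I E hE n hW]
  have hk : ∀ m, φ (e m - e' m) ∈ (I.ideal ⟨W, hW⟩) ^ (m + 1) • (⊤ : Submodule Γ(X, W) (Fin a → Γ(X, W))) := fun m => by
    rw [mem_smul_top_pi]
    intro i
    rw [← ideal_pow_eq I (m + 1) hW]
    refine (hartogs (I ^ (m + 1)) U (hd m) hW).1 _ fun V hV w u => ?_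
    show ro w (L E (l i) le_rfl (e m - e' m)) ∈ _
    rw [← L_rs]
    refine L_mem E (I ^ (m + 1)) (l i) hV _ ?_
    rw [ideal_pow_eq I (m + 1) hV]
    have : rs E w (e m - e' m) = rs E w (e m) - rs E w (e' m) := map_sub _ _ _
    rw [this, ← π_eq_iff I E hE m hV, ← rs_π, ← rs_π, he, he', h V hV w u m]
  obtain ⟨x, hx, hxm⟩ := hc (n + 1) (e (n + c) - e' (n + c)) (by
    rw [show n + 1 + c = n + c + 1 by omega]; exact hk _)
  have hx' : x = e (n + c) - e' (n + c) := sub_eq_zero.1 (hinj W le_rfl _ fun i => by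
    have := congrFun (sub_eq_zero.2 hx) i
    rw [← map_sub] at this
    exact this)
  rw [hx'] at hxm
  have h1 := lift_sub_mem I E hE hW y hy e he (Nat.le_add_right n c)
  have h2 := lift_sub_mem I E hE hW y' hy' e' he' (Nat.le_add_right n c)
  have h3 := add_mem (sub_mem hxm h1) h2
  rwa [show e (n + c) - e' (n + c) - (e (n + c) - e n) + (e' (n + c) - e' n) = e n - e' n by abel] at h3

/-- Existence over an affine open. -/
theorem local_extend {W : X.Opens} (hW : IsAffineOpen W) (z : ∀ n, Γ(Q I E n, U))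
    (hz : ∀ n, (transU I E n).app U (z (n + 1)) = z n) :
    ∃ y : ∀ n, Γ(Q I E n, W), (∀ n, (transU I E n).app W (y (n + 1)) = y n) ∧
      ∀ (V : X.Opens), IsAffineOpen V → ∀ (w : V ≤ W) (u : V ≤ U) (n : ℕ),
        rs (Q I E n) w (y n) = rs (Q I E n) u (z n) := by
  classical
  haveI : IsNoetherianRing Γ(X, W) := IsLocallyNoetherian.component_noetherian ⟨W, hW⟩
  haveI := hE.1
  haveI := Groth.L20.ModStalk.finite_sections E hE hW
  obtain ⟨a, b, l, R, hR, hinj, hex⟩ := exists_functionals E (W := W) hE hr hW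
  let φ : Γ(E, W) →ₗ[Γ(X, W)] (Fin a → Γ(X, W)) := LinearMap.pi fun i => Lₗ E (l i) le_rfl
  let ψ : (Fin a → Γ(X, W)) →ₗ[Γ(X, W)] (Fin b → Γ(X, W)) := LinearMap.pi fun j => Fintype.linearCombination Γ(X, W) (R j)
  have hψ : ∀ w j, ψ w j = ∑ i, w i * R j i := fun w j => by
    simp [ψ, Fintype.linearCombination_apply]
  choose t ht using fun (n : ℕ) (V : X.Opens) (hV : IsAffineOpen V) (u : V ≤ U) =>
    π_surjective I E hE n hV (rs (Q I E n) u (z n))
  -- congruences for the coordinates (`tV`: the chosen lifts on one small open)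
  choose v hv using fun (n : ℕ) (i : Fin a) =>
    (hartogs (I ^ (n + 1)) U (hd n) hW).2 (fun V hV w u => L E (l i) w (t n V hV u))
      (fun V₁ V₂ V h₁ w₁ u₁ h₂ w₂ u₂ hV i₁ i₂ => by
        rw [← L_rs, ← L_rs]
        show Lₗ E (l i) (i₁.trans w₁) (rs E i₁ (t n V₁ h₁ u₁)) - Lₗ E (l i) (i₁.trans w₁) (rs E i₂ (t n V₂ h₂ u₂)) ∈ _
        rw [← map_sub]
        refine L_mem E (I ^ (n + 1)) (l i) hV _ ?_
        rw [ideal_pow_eq I (n + 1) hV, ← π_eq_iff I E hE n hV, ← rs_π, ← rs_π, ht, ht,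
          Groth.L18.Frame.rs_rs, Groth.L18.Frame.rs_rs])
  have hv0 : ∀ n, ψ (v n) ∈ (I.ideal ⟨W, hW⟩) ^ (n + 1) • (⊤ : Submodule Γ(X, W) (Fin b → Γ(X, W))) := fun n => by
    rw [mem_smul_top_pi]
    intro j
    rw [← ideal_pow_eq I (n + 1) hW, hψ]
    refine (hartogs (I ^ (n + 1)) U (hd n) hW).1 _ fun V hV w u => ?_
    have h0 : ∑ i, ro w (R j i) * L E (l i) w (t n V hV u) = 0 := by
      rw [← L_sum E (R j) l w, hR, L_zero]
    have h1 : ro w (∑ i, v n i * R j i) =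
        ∑ i, ro w (R j i) * (ro w (v n i) - L E (l i) w (t n V hV u)) := by
      simp only [mul_sub, Finset.sum_sub_distrib, h0, sub_zero]
      refine (map_sum _ _ _).trans (Finset.sum_congr rfl fun i _ => ?_)
      rw [map_mul, mul_comm]
    rw [h1]
    exact sum_mem fun i _ => Ideal.mul_mem_left _ _ (hv n i V hV w u)
  obtain ⟨c, hc⟩ := exists_artinRees (I.ideal ⟨W, hW⟩) ψ
  -- lifts of the congruences
  have hlift : ∀ n, ∃ e : Γ(E, W), φ e - v (n + c) ∈ (I.ideal ⟨W, hW⟩) ^ (n + 1) • (⊤ : Submodule Γ(X, W) (Fin a → Γ(X, W))) := by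
    intro n
    obtain ⟨x, hx, hxm⟩ := hc (n + 1) (v (n + c)) (by rw [show n + 1 + c = n + c + 1 by omega]; exact hv0 _)
    obtain ⟨e, he⟩ := hex (v (n + c) - x) fun j => by
      have h := congrFun (sub_eq_zero.2 hx.symm) j
      rw [← map_sub, hψ] at h
      exact (Finset.sum_congr rfl fun i _ => mul_comm _ _).trans h
    refine ⟨e, ?_⟩
    have h : φ e = v (n + c) - x := funext he
    rw [h, sub_sub_cancel_left]
    exact neg_mem hxm
  choose e he using hlift
  obtain ⟨c', hc'⟩ := exists_artinRees (I.ideal ⟨W, hW⟩) φ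
  have hinjW : ∀ x x', φ x = φ x' → x = x' := fun x x' hxx => sub_eq_zero.1 (hinj W le_rfl _ fun i => by
    have := congrFun (sub_eq_zero.2 hxx) i
    rw [← map_sub] at this
    exact this)
  -- coordinates of the lifts on the small opens
  have hcoord : ∀ (n : ℕ) (V : X.Opens) (hV : IsAffineOpen V) (w : V ≤ W) (u : V ≤ U) (i : Fin a),
      L E (l i) w (rs E w (e n) - t (n + c) V hV u) ∈ (I.ideal ⟨V, hV⟩) ^ (n + 1) := by
    intro n V hV w u i
    show Lₗ E (l i) w (rs E w (e n) - t (n + c) V hV u) ∈ _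
    rw [map_sub]
    show L E (l i) w (rs E w (e n)) - L E (l i) w (t (n + c) V hV u) ∈ _
    rw [L_rs E (l i) le_rfl w (e n)]
    have h1 : φ (e n) i - v (n + c) i ∈ (I.ideal ⟨W, hW⟩) ^ (n + 1) := (mem_smul_top_pi _ _).1 (he n) i
    rw [← ideal_pow_eq I (n + 1) hW] at h1
    have h2 := ro_mem (I ^ (n + 1)) hW hV w h1
    have h3 := hv (n + c) i V hV w u
    rw [ideal_pow_eq I _ hV] at h2 h3
    have h4 := add_mem h2 (Ideal.pow_le_pow_right (by omega : n + 1 ≤ n + c + 1) h3)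
    have h5 : ro w (φ (e n) i - v (n + c) i) = ro w (φ (e n) i) - ro w (v (n + c) i) := map_sub _ _ _
    rw [h5, sub_add_sub_cancel] at h4
    exact h4
  have hstep : ∀ n m, n ≤ m → e (m + c') - e (n + c') ∈ (I.ideal ⟨W, hW⟩) ^ (n + 1) • (⊤ : Submodule Γ(X, W) Γ(E, W)) := by
    intro n m hnm
    obtain ⟨x, hx, hxm⟩ := hc' (n + 1) (e (m + c') - e (n + c')) (by
      rw [mem_smul_top_pi]
      intro i
      rw [show n + 1 + c' = n + c' + 1 by omega, ← ideal_pow_eq I _ hW]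
      refine (hartogs (I ^ (n + c' + 1)) U (hd (n + c')) hW).1 _ fun V hV w u => ?_
      show ro w (L E (l i) le_rfl (e (m + c') - e (n + c'))) ∈ _
      rw [← L_rs]
      show Lₗ E (l i) w (rs E w (e (m + c') - e (n + c'))) ∈ _
      have h1 : rs E w (e (m + c') - e (n + c')) = (rs E w (e (m + c')) - t (m + c' + c) V hV u) -
          (rs E w (e (n + c')) - t (n + c' + c) V hV u) + (t (m + c' + c) V hV u - t (n + c' + c) V hV u) := by
        rw [show rs E w (e (m + c') - e (n + c')) = rs E w (e (m + c')) - rs E w (e (n + c')) from map_sub _ _ _]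
        abel
      rw [h1, map_add, map_sub, ideal_pow_eq I _ hV]
      refine add_mem (sub_mem (Ideal.pow_le_pow_right (by omega) (hcoord _ V hV w u i)) (hcoord _ V hV w u i)) ?_
      rw [← ideal_pow_eq I _ hV]
      refine L_mem E _ (l i) hV _ ?_
      rw [ideal_pow_eq I _ hV]
      have hle : n + c' + c ≤ m + c' + c := by omega
      obtain ⟨tV, htV⟩ : ∃ tV : ℕ → Γ(E, V), ∀ k, t k V hV u = tV k := ⟨_, fun _ => rfl⟩
      rw [htV, htV]
      have h4 := lift_sub_mem' I E hE hV u z hz tV (fun k => (htV k) ▸ ht k V hV u) hle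
      have hp : (I.ideal ⟨V, hV⟩) ^ (n + c' + c + 1) ≤ (I.ideal ⟨V, hV⟩) ^ (n + c' + 1) :=
        Ideal.pow_le_pow_right (by omega)
      exact Submodule.smul_mono_left hp h4)
    rwa [hinjW x _ hx] at hxm
  obtain ⟨y, hy⟩ : ∃ y : ∀ n, Γ(Q I E n, W), ∀ n, y n = (unitQ I E n).app W (e (n + c')) := ⟨_, fun _ => rfl⟩
  refine ⟨y, fun n => ?_, fun V hV w u n => ?_⟩
  · rw [hy, hy, trans_π, π_eq_iff I E hE n hW]
    exact hstep n (n + 1) n.le_succ
  · haveI : IsNoetherianRing Γ(X, V) := IsLocallyNoetherian.component_noetherian ⟨V, hV⟩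
    let φV : Γ(E, V) →ₗ[Γ(X, V)] (Fin a → Γ(X, V)) := LinearMap.pi fun i => Lₗ E (l i) w
    obtain ⟨cV, hcV⟩ := exists_artinRees (I.ideal ⟨V, hV⟩) φV
    let m := n + cV
    obtain ⟨x, hx, hxm⟩ := hcV (n + 1) (rs E w (e (m + c')) - t (m + c' + c) V hV u) (by
      rw [mem_smul_top_pi]
      exact fun i => Ideal.pow_le_pow_right (by omega) (hcoord (m + c') V hV w u i))
    have hx' : x = rs E w (e (m + c')) - t (m + c' + c) V hV u := sub_eq_zero.1 (hinj V w _ fun i => by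
      have := congrFun (sub_eq_zero.2 hx) i
      rw [← map_sub] at this
      exact this)
    rw [hx'] at hxm
    have h1 : rs E w (e (m + c') - e (n + c')) ∈ (I.ideal ⟨V, hV⟩) ^ (n + 1) • (⊤ : Submodule Γ(X, V) Γ(E, V)) := by
      rw [← ideal_pow_eq I _ hV]
      refine rs_smul_mem (I ^ (n + 1)) E hW hV w ?_
      rw [ideal_pow_eq I _ hW]
      exact hstep n m (Nat.le_add_right n cV)
    obtain ⟨tV, htV⟩ : ∃ tV : ℕ → Γ(E, V), ∀ k, t k V hV u = tV k := ⟨_, fun _ => rfl⟩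
    have hle : n ≤ m + c' + c := by omega
    have h2 := lift_sub_mem' I E hE hV u z hz tV (fun k => (htV k) ▸ ht k V hV u) hle
    rw [← htV, ← htV] at h2
    rw [hy, rs_π, ← ht n V hV u, π_eq_iff I E hE n hV]
    have h3 := add_mem (sub_mem hxm h1) h2
    rw [show rs E w (e (m + c') - e (n + c')) = rs E w (e (m + c')) - rs E w (e (n + c')) from map_sub _ _ _] at h3
    rwa [show rs E w (e (m + c')) - t (m + c' + c) V hV u - (rs E w (e (m + c')) - rs E w (e (n + c'))) +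
      (t (m + c' + c) V hV u - t n V hV u) = rs E w (e (n + c')) - t n V hV u by abel] at h3

/-- Formal sections over `U` extend uniquely. -/
theorem formal_bijective {A : X.Opens} (hUA : U ≤ A) :
    (∀ y : ∀ n, Γ(Q I E n, A), (∀ n, (transU I E n).app A (y (n + 1)) = y n) →
      (∀ n, rs (Q I E n) hUA (y n) = 0) → ∀ n, y n = 0) ∧
    (∀ z : ∀ n, Γ(Q I E n, U), (∀ n, (transU I E n).app U (z (n + 1)) = z n) →
      ∃ y : ∀ n, Γ(Q I E n, A), (∀ n, (transU I E n).app A (y (n + 1)) = y n) ∧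
        ∀ n, rs (Q I E n) hUA (y n) = z n) := by
  have hcov : ∀ x : A, ∃ W : X.Opens, IsAffineOpen W ∧ x.1 ∈ W ∧ W ≤ A := fun x =>
    let ⟨W, hW, hx, hle⟩ := exists_isAffineOpen_mem_and_subset (x := x.1) (U := A) x.2
    ⟨W, hW, hx, hle⟩
  obtain ⟨W, hWP⟩ : ∃ W : A → X.Opens, ∀ x : A, IsAffineOpen (W x) ∧ x.1 ∈ W x ∧ W x ≤ A :=
    Classical.axiomOfChoice hcov
  have hW := fun x => (hWP x).1
  have hxW := fun x => (hWP x).2.1
  have hWA := fun x => (hWP x).2.2
  refine ⟨fun y hy h0 n => ?_, fun z hz => ?_⟩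
  · refine Groth.L15.Ref.sec_ext fun x hxA => ?_
    obtain ⟨yV, hyV, hyc⟩ := restrict_compat I E hE (hWA ⟨x, hxA⟩) y hy
    obtain ⟨zV, hzV⟩ : ∃ zV : ∀ k, Γ(Q I E k, W ⟨x, hxA⟩), ∀ k, zV k = 0 := ⟨_, fun _ => rfl⟩
    have h := local_ext I E hE hr U hd (hW ⟨x, hxA⟩) yV zV hyc (fun k => by rw [hzV, hzV, map_zero]) fun V hV w u k => by
      rw [hyV, hzV, Groth.L18.Frame.rs_rs, ← Groth.L18.Frame.rs_rs (Q I E k) hUA u, h0 k]
      exact (map_zero _).trans (map_zero _).symm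
    rw [← Groth.L20.ModStalk.germ_rs (Q I E n) (hWA ⟨x, hxA⟩) (hxW ⟨x, hxA⟩) (y n), ← hyV, congrFun h n, hzV, map_zero, map_zero]
  · have hloc : ∀ x : A, ∃ y : ∀ n, Γ(Q I E n, W x), (∀ n, (transU I E n).app (W x) (y (n + 1)) = y n) ∧
        ∀ (V : X.Opens), IsAffineOpen V → ∀ (w : V ≤ W x) (u : V ≤ U) (n : ℕ),
          rs (Q I E n) w (y n) = rs (Q I E n) u (z n) := fun x => local_extend I E hE hr U hd (hW x) z hz
    obtain ⟨yW, hP⟩ : ∃ yW : ∀ (x : A) (n : ℕ), Γ(Q I E n, W x),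
        ∀ x : A, (∀ n, (transU I E n).app (W x) (yW x (n + 1)) = yW x n) ∧
          ∀ (V : X.Opens), IsAffineOpen V → ∀ (w : V ≤ W x) (u : V ≤ U) (n : ℕ),
            rs (Q I E n) w (yW x n) = rs (Q I E n) u (z n) := Classical.axiomOfChoice hloc
    have hyW := fun x => (hP x).1
    have hyz := fun x => (hP x).2
    have hagree : ∀ a b : A, ∀ n, rs (Q I E n) (inf_le_left : W a ⊓ W b ≤ W a) (yW a n) =
        rs (Q I E n) (inf_le_right : W a ⊓ W b ≤ W b) (yW b n) := by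
      intro a b n
      refine Groth.L15.Ref.sec_ext fun x hx => ?_
      obtain ⟨V, hV, hxV, hle⟩ := exists_isAffineOpen_mem_and_subset (x := x) (U := W a ⊓ W b) hx
      obtain ⟨ya, hya, hyac⟩ := restrict_compat I E hE (hle.trans inf_le_left) (yW a) (hyW a)
      obtain ⟨yb, hyb, hybc⟩ := restrict_compat I E hE (hle.trans inf_le_right) (yW b) (hyW b)
      have h := local_ext I E hE hr U hd hV ya yb hyac hybc fun V' hV' w u k => by
        rw [hya, hyb, Groth.L18.Frame.rs_rs, Groth.L18.Frame.rs_rs, hyz a V' hV' _ u, hyz b V' hV' _ u]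
      have h' := congrArg ((Q I E n).presheaf.germ V x hxV) (congrFun h n)
      rw [hya, hyb, Groth.L20.ModStalk.germ_rs, Groth.L20.ModStalk.germ_rs] at h'
      rw [Groth.L20.ModStalk.germ_rs, Groth.L20.ModStalk.germ_rs]
      exact h'
    have hglue : ∀ n, ∃ y : Γ(Q I E n, A), ∀ x, rs (Q I E n) (hWA x) y = yW x n := fun n => by
      obtain ⟨t, ht⟩ : ∃ t : ∀ x, Γ(Q I E n, W x), ∀ x, t x = yW x n := ⟨_, fun _ => rfl⟩
      obtain ⟨y, hy⟩ := Groth.L16.HomSh.exists_glue (Q I E n) W hWA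
        (fun x hx => Opens.mem_iSup.2 ⟨⟨x, hx⟩, hxW ⟨x, hx⟩⟩) t fun a b => by rw [ht, ht]; exact hagree a b n
      exact ⟨y, fun x => (hy x).trans (ht x)⟩
    obtain ⟨y, hy⟩ : ∃ y : ∀ n, Γ(Q I E n, A), ∀ (n : ℕ) (x : A), rs (Q I E n) (hWA x) (y n) = yW x n :=
      Classical.axiomOfChoice hglue
    refine ⟨y, fun n => trans_eq_of_locally I E hE n (y (n + 1)) (y n) fun x hx =>
      ⟨W ⟨x, hx⟩, hWA ⟨x, hx⟩, hxW ⟨x, hx⟩, by rw [hy (n + 1) ⟨x, hx⟩, hy n ⟨x, hx⟩, hyW ⟨x, hx⟩ n]⟩, fun n => Groth.L15.Ref.sec_ext fun x hx => ?_⟩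
    obtain ⟨V, hV, hxV, hle⟩ := exists_isAffineOpen_mem_and_subset (x := x) (U := W ⟨x, hUA hx⟩ ⊓ U) ⟨hxW ⟨x, hUA hx⟩, hx⟩
    rw [← Groth.L20.ModStalk.germ_rs (Q I E n) (hle.trans inf_le_right) hxV,
        ← Groth.L20.ModStalk.germ_rs (Q I E n) (hle.trans inf_le_right) hxV (z n),
        ← hyz ⟨x, hUA hx⟩ V hV (hle.trans inf_le_left) (hle.trans inf_le_right) n, ← hy n ⟨x, hUA hx⟩, Groth.L18.Frame.rs_rs,
        Groth.L18.Frame.rs_rs]

/-- `formal_bijective` for any tower isomorphic to that of the levels. -/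
theorem formal_bijective' (P : ℕ → X.Modules) (T : ∀ n, P (n + 1) ⟶ P n) (e : ∀ n, Q I E n ≅ P n)
    (heT : ∀ n, transU I E n ≫ (e n).hom = (e (n + 1)).hom ≫ T n) {A : X.Opens} (hUA : U ≤ A) :
    (∀ y : ∀ n, (P n).presheaf.obj (op A), (∀ n, (T n).app A (y (n + 1)) = y n) →
      (∀ n, (P n).presheaf.map (homOfLE hUA).op (y n) = 0) → ∀ n, y n = 0) ∧
    (∀ z : ∀ n, (P n).presheaf.obj (op U), (∀ n, (T n).app U (z (n + 1)) = z n) →
      ∃ y : ∀ n, (P n).presheaf.obj (op A), (∀ n, (T n).app A (y (n + 1)) = y n) ∧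
        ∀ n, (P n).presheaf.map (homOfLE hUA).op (y n) = z n) := by
  have hinv : ∀ n, T n ≫ (e n).inv = (e (n + 1)).inv ≫ transU I E n := fun n => by
    rw [Iso.comp_inv_eq, Category.assoc, heT, Iso.inv_hom_id_assoc]
  have hrt : ∀ (n : ℕ) (V : X.Opens) (v : Γ(P n, V)), (e n).hom.app V ((e n).inv.app V v) = v := fun n V v => by
    rw [app_comp (e n).inv (e n).hom (𝟙 _) (e n).inv_hom_id V v]
    rfl
  have main := formal_bijective I E hE hr U hd hUA
  refine ⟨fun y hy h0 n => ?_, fun z hz => ?_⟩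
  · obtain ⟨y', hy'⟩ : ∃ y' : ∀ k, Γ(Q I E k, A), ∀ k, y' k = (e k).inv.app A (y k) := ⟨_, fun _ => rfl⟩
    have h := main.1 y' (fun k => by
      rw [hy', hy', app_comp (e (k + 1)).inv (transU I E k) _ (hinv k).symm A (y (k + 1)),
        ← app_comp (T k) (e k).inv _ rfl A (y (k + 1)), hy k]) (fun k => by
      rw [hy', ← Groth.L19.ProjBdl.app_rs (e k).inv hUA (y k)]
      show (e k).inv.app U ((P k).presheaf.map (homOfLE hUA).op (y k)) = 0
      rw [h0 k]
      exact map_zero _) n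
    rw [hy'] at h
    rw [← hrt n A (y n), h]
    exact map_zero _
  · obtain ⟨z', hz'⟩ : ∃ z' : ∀ k, Γ(Q I E k, U), ∀ k, z' k = (e k).inv.app U (z k) := ⟨_, fun _ => rfl⟩
    obtain ⟨y', hy'c, hy'r⟩ := main.2 z' fun k => by
      rw [hz', hz', app_comp (e (k + 1)).inv (transU I E k) _ (hinv k).symm U (z (k + 1)),
        ← app_comp (T k) (e k).inv _ rfl U (z (k + 1)), hz k]
    obtain ⟨y, hy⟩ : ∃ y : ∀ k, (P k).presheaf.obj (op A), ∀ k, y k = (e k).hom.app A (y' k) := ⟨_, fun _ => rfl⟩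
    refine ⟨y, fun k => ?_, fun k => ?_⟩
    · rw [hy, hy, app_comp (e (k + 1)).hom (T k) _ (heT k).symm A (y' (k + 1)),
        ← app_comp (transU I E k) (e k).hom _ rfl A (y' (k + 1)), hy'c k]
    · rw [hy]
      show rs (P k) hUA ((e k).hom.app A (y' k)) = z k
      rw [← Groth.L19.ProjBdl.app_rs, hy'r, hz', hrt]

/-- `formal_bijective'` for a tower of direct images. -/
theorem formal_bijective'' {Y : ℕ → Scheme.{u}} (g : ∀ n, Y n ⟶ X) (G : ∀ n, (Y n).Modules)
    (T : ∀ n, (Scheme.Modules.pushforward (g (n + 1))).obj ((𝟭 _).obj (G (n + 1))) ⟶ (Scheme.Modules.pushforward (g n)).obj (G n))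
    (e : ∀ n, Q I E n ≅ (Scheme.Modules.pushforward (g n)).obj (G n))
    (heT : ∀ n, transU I E n ≫ (e n).hom = (e (n + 1)).hom ≫ T n) {A : X.Opens} (hUA : U ≤ A) :
    (∀ y : ∀ n, (Scheme.Modules.presheaf ((Scheme.Modules.pushforward (g n)).obj (G n))).obj (op A),
      (∀ n, Scheme.Modules.Hom.app (T n) A (y (n + 1)) = y n) →
      (∀ n, (Scheme.Modules.presheaf ((Scheme.Modules.pushforward (g n)).obj (G n))).map (homOfLE hUA).op (y n) = 0) →
        ∀ n, y n = 0) ∧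
    (∀ z : ∀ n, (Scheme.Modules.presheaf ((Scheme.Modules.pushforward (g n)).obj (G n))).obj (op U),
      (∀ n, Scheme.Modules.Hom.app (T n) U (z (n + 1)) = z n) →
      ∃ y : ∀ n, (Scheme.Modules.presheaf ((Scheme.Modules.pushforward (g n)).obj (G n))).obj (op A),
        (∀ n, Scheme.Modules.Hom.app (T n) A (y (n + 1)) = y n) ∧
        ∀ n, (Scheme.Modules.presheaf ((Scheme.Modules.pushforward (g n)).obj (G n))).map (homOfLE hUA).op (y n) = z n) :=
  formal_bijective' I E hE hr U hd (fun n => (Scheme.Modules.pushforward (g n)).obj (G n)) T e heT hUA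

/-- `formal_bijective''` from the whole scheme. -/
theorem formal_bijective_top {Y : ℕ → Scheme.{u}} (g : ∀ n, Y n ⟶ X) (G : ∀ n, (Y n).Modules)
    (T : ∀ n, (Scheme.Modules.pushforward (g (n + 1))).obj ((𝟭 _).obj (G (n + 1))) ⟶ (Scheme.Modules.pushforward (g n)).obj (G n))
    (e : ∀ n, Q I E n ≅ (Scheme.Modules.pushforward (g n)).obj (G n))
    (heT : ∀ n, transU I E n ≫ (e n).hom = (e (n + 1)).hom ≫ T n) :
    (∀ y : (∀ n : ℕ, (Scheme.Modules.presheaf ((Scheme.Modules.pushforward (g n)).obj (G n))).obj (Opposite.op ⊤)),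
      (∀ n : ℕ, Scheme.Modules.Hom.app (T n) ⊤ (y (n + 1)) = y n) →
      (∀ n : ℕ, (Scheme.Modules.presheaf ((Scheme.Modules.pushforward (g n)).obj (G n))).map (homOfLE (le_top : U ≤ ⊤)).op (y n) = 0) →
        ∀ n : ℕ, y n = 0) ∧
    (∀ z : (∀ n : ℕ, (Scheme.Modules.presheaf ((Scheme.Modules.pushforward (g n)).obj (G n))).obj (Opposite.op U)),
      (∀ n : ℕ, Scheme.Modules.Hom.app (T n) U (z (n + 1)) = z n) →
        ∃ y : (∀ n : ℕ, (Scheme.Modules.presheaf ((Scheme.Modules.pushforward (g n)).obj (G n))).obj (Opposite.op ⊤)),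
          (∀ n : ℕ, Scheme.Modules.Hom.app (T n) ⊤ (y (n + 1)) = y n) ∧
          (∀ n : ℕ, (Scheme.Modules.presheaf ((Scheme.Modules.pushforward (g n)).obj (G n))).map (homOfLE (le_top : U ≤ ⊤)).op (y n) = z n)) :=
  formal_bijective'' I E hE hr U hd g G T e heT (le_top : U ≤ ⊤)

end Groth.L18.FormalLevels
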