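import Groth.Agent.L18.GrFreePic
import Groth.Agent.L18.AlgebraizeH2
import Groth.Agent.L17.ThickBasic
import Groth.Agent.L18.LefConnected
import Groth.Agent.L29.Formal.DepthExtend
import Groth.Agent.L29.Formal.NormFlatDepth

/-!
# Functions on an open of an affine scheme as compatible systems on the thickenings
-/

set_option autoImplicit false
set_option linter.style.haveILetI false
set_option linter.unusedSectionVars false
set_option backward.isDefEq.respectTransparency.types false
set_option backward.isDefEq.respectTransparency false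
universe u

open CategoryTheory CategoryTheory.Limits AlgebraicGeometry Opposite TopologicalSpace
open Groth.L18.GenLoc (secOf homOfSection_secOf secOf_homOfSection)

noncomputable section

namespace Groth.L18.FormalStr

variable {A : Type u} [CommRing A]

/-- Hartogs on an open of an affine Noetherian scheme. -/
theorem bijective_open [IsNoetherianRing A] (V : (Spec (CommRingCat.of A)).Opens)
    (hd : ∀ r : PrimeSpectrum A, r ∉ V →
      (2 : ℕ∞) ≤ LocCoh.depth (Localization.AtPrime r.asIdeal) (LocalizedModule r.asIdeal.primeCompl A)) :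
    Function.Bijective fun a : A => V.ι.appTop ((Scheme.ΓSpecIso (CommRingCat.of A)).inv a) := by
  have h1 : Function.Bijective ((Spec (CommRingCat.of A)).presheaf.map (homOfLE (le_top : V ≤ ⊤)).op) :=
    Groth.L29.DepthExtend.bijective_res (le_top : V ≤ ⊤) A fun r _ hr => hd r hr
  have h2 : Function.Bijective ((Spec (CommRingCat.of A)).presheaf.map
      (homOfLE (le_top : V.ι ''ᵁ V.ι ⁻¹ᵁ (⊤ : (Spec (CommRingCat.of A)).Opens) ≤ ⊤)).op) := by
    have : ∀ {b : (Spec (CommRingCat.of A)).Opens}, V = b → ∀ h : b ≤ ⊤,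
        Function.Bijective ((Spec (CommRingCat.of A)).presheaf.map (homOfLE h).op) := by
      intro b hb h
      subst hb
      exact h1
    exact this (by rw [Scheme.Hom.preimage_top, V.ι_image_top]) _
  show Function.Bijective fun a : A => V.ι.app ⊤ ((Scheme.ΓSpecIso (CommRingCat.of A)).inv a)
  rw [Scheme.Opens.ι_app]
  exact h2.comp (ConcreteCategory.bijective_of_isIso (Scheme.ΓSpecIso (CommRingCat.of A)).inv)

theorem bijective_punctured [IsNoetherianRing A] (𝔟 : Ideal A)
    (h : ((2 : ℕ) : ℕ∞) ≤ LocCoh.idealDepth 𝔟 A) :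
    Function.Bijective fun a : A =>
      (LocCoh.puncturedOpen A 𝔟).ι.appTop ((Scheme.ΓSpecIso (CommRingCat.of A)).inv a) := by
  refine bijective_open _ fun r hr => ?_
  rw [Groth.L04.idealDepth_eq_iInf_depth] at h
  exact h.trans (iInf₂_le r (fun a ha => by
    by_contra har
    exact hr fun hz => har (hz ha)))

variable [IsNoetherianRing A] (J 𝔟 : Ideal A) (U : (Spec (CommRingCat.of A)).Opens)

/-- The ideal of the special locus on the open. -/
abbrev Jc : (↑U : Scheme.{u}).IdealSheafData :=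
  (Spec.map (CommRingCat.ofHom (Ideal.Quotient.mk J))).ker.comap U.ι

/-- The functions on the thickenings of the special locus. -/
def rho (n : ℕ) : A →+* Γ((Jc J U ^ (n + 1)).subscheme, ⊤) :=
  ((Jc J U ^ (n + 1)).subschemeι ≫ U.ι).appTop.hom.comp (Scheme.ΓSpecIso (CommRingCat.of A)).inv.hom

theorem rho_spec (hU : U = LocCoh.puncturedOpen A 𝔟) (n : ℕ)
    (hdK : ((2 : ℕ) : ℕ∞) ≤ LocCoh.idealDepth 𝔟 (A ⧸ (J ^ (n + 1) : Ideal A))) :
    Function.Surjective (rho J U n) ∧ RingHom.ker (rho J U n) = J ^ (n + 1) := by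
  let K : Ideal A := J ^ (n + 1)
  let gK := Spec.map (CommRingCat.ofHom (Ideal.Quotient.mk K))
  have hcomap : gK.ker.comap U.ι = Jc J U ^ (n + 1) := by
    rw [← Groth.L17.Thick.comap_pow]
    exact congrArg (fun I : Scheme.IdealSheafData _ => I.comap U.ι) (Groth.L18.AlgebraizeH2.ker_specQuot J n)
  obtain ⟨ℓ, hℓ⟩ := Groth.L18.GrFreePic.exists_iso_subscheme K U
  have h1 : Function.Surjective (fun a : A => ((gK ⁻¹ᵁ U).ι ≫ gK).appTop ((Scheme.ΓSpecIso (CommRingCat.of A)).inv a)) ∧
      ∀ a : A, ((gK ⁻¹ᵁ U).ι ≫ gK).appTop ((Scheme.ΓSpecIso (CommRingCat.of A)).inv a) = 0 ↔ a ∈ K := by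
    have hnat : ∀ a : A, gK.appTop ((Scheme.ΓSpecIso (CommRingCat.of A)).inv a) =
        (Scheme.ΓSpecIso (CommRingCat.of (A ⧸ K))).inv (Ideal.Quotient.mk K a) := fun a =>
      (ConcreteCategory.congr_hom (Scheme.ΓSpecIso_inv_naturality (CommRingCat.ofHom (Ideal.Quotient.mk K))) a).symm
    have hb : Function.Bijective fun b : A ⧸ K =>
        (gK ⁻¹ᵁ U).ι.appTop ((Scheme.ΓSpecIso (CommRingCat.of (A ⧸ K))).inv b) := by
      refine bijective_open _ fun r hr => ?_
      have h := hdK
      rw [Groth.L04.idealDepth_eq_idealDepth_map_of_finite (B := A ⧸ K) 𝔟, Groth.L04.idealDepth_eq_iInf_depth] at h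
      refine h.trans (iInf₂_le r ?_)
      refine Ideal.map_le_iff_le_comap.2 fun a ha => ?_
      by_contra har
      refine hr ?_
      show gK r ∈ U
      rw [hU]
      exact fun hz => har (hz ha)
    have he : ∀ a : A, ((gK ⁻¹ᵁ U).ι ≫ gK).appTop ((Scheme.ΓSpecIso (CommRingCat.of A)).inv a) =
        (gK ⁻¹ᵁ U).ι.appTop ((Scheme.ΓSpecIso (CommRingCat.of (A ⧸ K))).inv (Ideal.Quotient.mk K a)) := fun a => by
      rw [Scheme.Hom.comp_appTop, ConcreteCategory.comp_apply, hnat]
    refine ⟨fun y => ?_, fun a => ?_⟩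
    · obtain ⟨b, hb'⟩ := hb.2 y
      obtain ⟨a, rfl⟩ := Ideal.Quotient.mk_surjective b
      exact ⟨a, (he a).trans hb'⟩
    · rw [he, ← Ideal.Quotient.eq_zero_iff_mem]
      exact ⟨fun h => hb.1 (h.trans (by simp [map_zero])), fun h => by rw [h]; simp [map_zero]⟩
  suffices H : ∀ I : (↑U : Scheme.{u}).IdealSheafData, I = gK.ker.comap U.ι →
      Function.Surjective (fun a : A => (I.subschemeι ≫ U.ι).appTop ((Scheme.ΓSpecIso (CommRingCat.of A)).inv a)) ∧
        ∀ a : A, (I.subschemeι ≫ U.ι).appTop ((Scheme.ΓSpecIso (CommRingCat.of A)).inv a) = 0 ↔ a ∈ K by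
    obtain ⟨h2, h3⟩ := H _ hcomap.symm
    exact ⟨h2, Ideal.ext fun a => h3 a⟩
  rintro I rfl
  have hcomp : (gK ⁻¹ᵁ U).ι ≫ gK = ℓ.hom ≫ (gK.ker.comap U.ι).subschemeι ≫ U.ι := by
    rw [← Category.assoc, hℓ, morphismRestrict_ι]
  rw [hcomp, Scheme.Hom.comp_appTop] at h1
  have hbij : Function.Bijective ℓ.hom.appTop := ConcreteCategory.bijective_of_isIso _
  refine ⟨fun y => ?_, fun a => ?_⟩
  · obtain ⟨a, ha⟩ := h1.1 (ℓ.hom.appTop y)
    exact ⟨a, hbij.1 ha⟩
  · rw [← h1.2 a]
    exact ⟨fun h => (congrArg ℓ.hom.appTop h).trans (map_zero _), fun h => hbij.1 (h.trans (map_zero _).symm)⟩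

/-- Functions on the open are the compatible systems of functions on the thickenings. -/
theorem homToFormalBijective [IsAdicComplete J A] (hU : U = LocCoh.puncturedOpen A 𝔟)
    (hA : ((2 : ℕ) : ℕ∞) ≤ LocCoh.idealDepth 𝔟 A)
    (hK : ∀ n : ℕ, ((2 : ℕ) : ℕ∞) ≤ LocCoh.idealDepth 𝔟 (A ⧸ (J ^ (n + 1) : Ideal A))) :
    Lef.HomToFormalBijective (Jc J U) (Coh.structureModule (↑U : Scheme.{u})) := by
  let X : Scheme.{u} := U
  let θ : A → Γ(X, ⊤) := fun a => U.ι.appTop ((Scheme.ΓSpecIso (CommRingCat.of A)).inv a)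
  have hθ : Function.Bijective θ := by
    have h := bijective_punctured 𝔟 hA
    subst hU
    exact h
  have hrs := fun n => rho_spec J 𝔟 U hU n (hK n)
  have hrho : ∀ n a, (Jc J U ^ (n + 1)).subschemeι.appTop (θ a) = rho J U n a := fun n a => by
    show _ = ((Jc J U ^ (n + 1)).subschemeι ≫ U.ι).appTop _
    rw [Scheme.Hom.comp_appTop]
    rfl
  have hsec : ∀ (n : ℕ) (φ : Coh.structureModule X ⟶ Coh.structureModule X),
      secOf (φ ≫ ClSub.toSubscheme (Jc J U ^ (n + 1))) = (Jc J U ^ (n + 1)).subschemeι.appTop (secOf φ) :=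
    fun n φ => rfl
  refine ⟨fun φ ψ h => ?_, fun y hy => ?_⟩
  · refine Groth.L18.LefConnected.hom_ext_secOf ?_
    obtain ⟨a, ha⟩ := hθ.2 (secOf φ)
    obtain ⟨b, hb⟩ := hθ.2 (secOf ψ)
    rw [← ha, ← hb]
    refine congrArg θ (sub_eq_zero.1 (IsHausdorff.haus (I := J) inferInstance (a - b) fun n => ?_))
    rw [SModEq.zero, smul_eq_mul, Ideal.mul_top]
    rcases n with - | n
    · simp
    · rw [← (hrs n).2, RingHom.mem_ker, map_sub, sub_eq_zero, ← hrho, ← hrho, ha, hb, ← hsec, ← hsec, h]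
  · choose a ha using fun n => (hrs n).1
      (show Γ((Jc J U ^ (n + 1)).subscheme, ⊤) from secOf (y n))
    have hcompat : ∀ n, a (n + 1) - a n ∈ J ^ (n + 1) := by
      intro n
      rw [← (hrs n).2, RingHom.mem_ker, map_sub, sub_eq_zero, ha]
      have h1 : rho J U n (a (n + 1)) = secOf ((Groth.L16.homOfSection (Coh.structureModule X) (θ (a (n + 1))) ≫
          ClSub.toSubscheme (Jc J U ^ (n + 1 + 1))) ≫ Lef.quotMap (Lef.pow_succ_le (Jc J U) n)) := by
        rw [Category.assoc, Groth.L18.LefConnected.toSubscheme_quotMap, hsec, secOf_homOfSection, hrho]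
      have h2 : Groth.L16.homOfSection (Coh.structureModule X) (θ (a (n + 1))) ≫
          ClSub.toSubscheme (Jc J U ^ (n + 1 + 1)) = y (n + 1) := by
        refine Groth.L18.LefConnected.hom_ext_secOf ?_
        rw [hsec, secOf_homOfSection, hrho, ha]
      rw [h1, h2, hy n]
    obtain ⟨L, hL⟩ := IsPrecomplete.prec (I := J) (M := A) inferInstance (f := fun n => a n) (by
      intro m n hmn
      rw [SModEq.sub_mem, smul_eq_mul, Ideal.mul_top]
      induction n, hmn using Nat.le_induction with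
      | base => simp
      | succ n hn ih =>
        rw [show a m - a (n + 1) = (a m - a n) - (a (n + 1) - a n) by ring]
        exact sub_mem ih (Ideal.pow_le_pow_right (by omega) (hcompat n)))
    refine ⟨Groth.L16.homOfSection (Coh.structureModule X) (θ L), fun n => Groth.L18.LefConnected.hom_ext_secOf ?_⟩
    rw [hsec, secOf_homOfSection, hrho]
    refine Eq.trans ?_ (ha n)
    show rho J U n L = rho J U n (a n)
    rw [← sub_eq_zero, ← map_sub, ← RingHom.mem_ker, (hrs n).2]
    have h1 := SModEq.sub_mem.1 (hL (n + 1))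
    rw [smul_eq_mul, Ideal.mul_top] at h1
    rw [show L - a n = (a (n + 1) - a n) - (a (n + 1) - L) by ring]
    exact sub_mem (hcompat n) h1

end Groth.L18.FormalStr
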