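import Groth.Agent.L18.GammaStarIso
import Groth.Agent.L20.ModStalk

/-!
A finitely generated graded module inducing a given finite type quasi-coherent module.
-/

set_option autoImplicit false
universe u

open CategoryTheory AlgebraicGeometry TopologicalSpace Opposite DirectSum

noncomputable section

namespace Groth.L18.GammaStar

open Groth.L18.Frame (rs ro)
open Groth.L18.ClosedSub (sec sec_mul sec_zero sec_add sec_pow)

variable {R A : Type u} [CommRing R] [CommRing A] [Algebra R A] {𝒜 : ℕ → Submodule R A} [GradedAlgebra 𝒜]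
variable {F : (Proj 𝒜).Modules} {s : Finset A} {hs1 : ∀ f ∈ s, f ∈ 𝒜 1}
variable {K : Type u} (deg : K → ℕ) (x : K → E0 F s) (hx : ∀ k, Compat F s hs1 (deg k) (x k))

variable (hs1) in
/-- Multiples of the generators. -/
def multiples (d : ℕ) : Set (E0 F s) :=
  {z | ∃ (k : K) (i : ℕ) (a : A) (ha : a ∈ 𝒜 i), i + deg k = d ∧ z = act hs1 a ha (x k)}

variable (hs1) in
/-- The family generated by finitely many elements. -/
def genFam (hsurj : ∀ (t : s) (y : Γ(F, D s t)), ∃ d, ∃ z ∈ AddSubgroup.closure (multiples hs1 deg x d), z t = y)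
    (hx : ∀ k, Compat F s hs1 (deg k) (x k)) :
    Fam F s hs1 where
  carrier d := AddSubgroup.closure (multiples hs1 deg x d)
  compat d z hz := by
    induction hz using AddSubgroup.closure_induction with
    | mem z hz =>
      obtain ⟨k, i, a, ha, rfl, rfl⟩ := hz
      exact Compat.act (hx k) a ha
    | zero => exact compat_zero d
    | add _ _ _ _ h h' => exact Compat.add h h'
    | neg _ _ h => exact Compat.neg h
  act_mem i d a ha z hz := by
    induction hz using AddSubgroup.closure_induction with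
    | mem z hz =>
      obtain ⟨k, i', a', ha', rfl, rfl⟩ := hz
      refine AddSubgroup.subset_closure ⟨k, i + i', a * a', SetLike.mul_mem_graded ha ha', add_assoc _ _ _, ?_⟩
      funext t
      simp only [act_apply]
      rw [sec_mul _ ha ha' rfl, mul_smul]
    | zero => rw [map_zero]; exact zero_mem _
    | add _ _ _ _ h h' => rw [map_add]; exact add_mem h h'
    | neg _ _ h => rw [map_neg]; exact neg_mem h
  surj := hsurj

theorem finite_genFam [Finite K]
    (hsurj : ∀ (t : s) (y : Γ(F, D s t)), ∃ d, ∃ z ∈ AddSubgroup.closure (multiples hs1 deg x d), z t = y) :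
    Module.Finite A (Mod (genFam hs1 deg x hsurj hx)) := by
  classical
  haveI := Fintype.ofFinite K
  let S := genFam hs1 deg x hsurj hx
  have hone : (1 : A) ∈ 𝒜 0 := SetLike.GradedOne.one_mem
  have hxk : ∀ k, x k ∈ S.carrier (deg k) := fun k =>
    AddSubgroup.subset_closure ⟨k, 0, 1, hone, zero_add _, funext fun t => by
      rw [act_apply, sec_one, one_smul]⟩
  let G : K → Mod S := fun k => DirectSum.of (fun d => S.carrier d) (deg k) ⟨x k, hxk k⟩
  refine ⟨⟨Finset.univ.image G, top_le_iff.1 fun m hm => ?_⟩⟩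
  clear hm
  rw [Finset.coe_image, Finset.coe_univ, Set.image_univ]
  induction m using DirectSum.induction_on with
  | zero => exact zero_mem _
  | add a b ha hb => exact add_mem ha hb
  | of d z =>
    obtain ⟨z, hz⟩ := z
    induction hz using AddSubgroup.closure_induction with
    | mem z hz =>
      obtain ⟨k, i, a, ha, rfl, rfl⟩ := hz
      have e : a • G k = DirectSum.of (fun d => S.carrier d) (i + deg k)
          ⟨act hs1 a ha (x k), S.act_mem i (deg k) a ha (x k) (hxk k)⟩ := smul_of S a ha ⟨x k, hxk k⟩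
      rw [← e]
      exact Submodule.smul_mem _ _ (Submodule.subset_span ⟨k, rfl⟩)
    | zero =>
      rw [show (DirectSum.of (fun d => S.carrier d) d ⟨0, zero_mem _⟩ : Mod S) = 0 from map_zero _]
      exact zero_mem _
    | add a b ha hb h h' =>
      rw [show (DirectSum.of (fun d => S.carrier d) d ⟨a + b, add_mem ha hb⟩ : Mod S) =
        DirectSum.of (fun d => S.carrier d) d ⟨a, ha⟩ + DirectSum.of (fun d => S.carrier d) d ⟨b, hb⟩ from
        map_add (DirectSum.of (fun d => S.carrier d) d) ⟨a, ha⟩ ⟨b, hb⟩]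
      exact add_mem h h'
    | neg a ha h =>
      rw [show (DirectSum.of (fun d => S.carrier d) d ⟨-a, neg_mem ha⟩ : Mod S) =
        -DirectSum.of (fun d => S.carrier d) d ⟨a, ha⟩ from map_neg (DirectSum.of (fun d => S.carrier d) d) ⟨a, ha⟩]
      exact neg_mem h

variable (F s hs1) in
theorem exists_finite_fam [Coh.IsQCoh F] (hFT : CohB1.IsFT F) :
    ∃ S : Fam F s hs1, Module.Finite A (Mod S) := by
  classical
  have hfin : ∀ t : s, Module.Finite Γ(Proj 𝒜, D s t) Γ(F, D s t) := fun t =>
    Groth.L20.ModStalk.finite_sections F ⟨inferInstance, hFT⟩ (Proj.isAffineOpen_basicOpen 𝒜 t.1 (hs1 t.1 t.2) one_pos)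
  choose G hG using fun t => (hfin t).fg_top
  choose dg xg hxg hxt using fun p : Σ t : s, {y // y ∈ G t} => exists_compat (hs1 := hs1) p.1 p.2.1
  refine ⟨genFam hs1 dg xg (fun t y => ?_) hxg, finite_genFam dg xg hxg _⟩
  have hy : y ∈ Submodule.span Γ(Proj 𝒜, D s t) (G t : Set Γ(F, D s t)) := by rw [hG]; trivial
  have hraise : ∀ {d : ℕ} {z : E0 F s}, z ∈ AddSubgroup.closure (multiples hs1 dg xg d) → ∀ (i : ℕ) (a : A) (ha : a ∈ 𝒜 i),
      act hs1 a ha z ∈ AddSubgroup.closure (multiples hs1 dg xg (i + d)) := fun {d z} hz i a ha => by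
    induction hz using AddSubgroup.closure_induction with
    | mem z hz =>
      obtain ⟨k, i', a', ha', rfl, rfl⟩ := hz
      refine AddSubgroup.subset_closure ⟨k, i + i', a * a', SetLike.mul_mem_graded ha ha', add_assoc _ _ _, ?_⟩
      funext t
      simp only [act_apply]
      rw [sec_mul _ ha ha' rfl, mul_smul]
    | zero => rw [map_zero]; exact zero_mem _
    | add _ _ _ _ h h' => rw [map_add]; exact add_mem h h'
    | neg _ _ h => rw [map_neg]; exact neg_mem h
  induction hy using Submodule.span_induction with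
  | mem y hy =>
    refine ⟨dg ⟨t, y, hy⟩, xg ⟨t, y, hy⟩, AddSubgroup.subset_closure
      ⟨⟨t, y, hy⟩, 0, 1, SetLike.GradedOne.one_mem, zero_add _, funext fun t' => ?_⟩, hxt ⟨t, y, hy⟩⟩
    rw [act_apply, sec_one, one_smul]
  | zero => exact ⟨0, 0, zero_mem _, rfl⟩
  | add y y' _ _ h h' =>
    obtain ⟨d, z, hz, rfl⟩ := h
    obtain ⟨d', z', hz', rfl⟩ := h'
    have hp : ∀ k, t.1 ^ k ∈ 𝒜 k := fun k => by simpa using SetLike.pow_mem_graded k (hs1 t.1 t.2)
    refine ⟨d' + d, act hs1 (t.1 ^ d') (hp d') z + act hs1 (t.1 ^ d) (hp d) z',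
      add_mem (hraise hz _ _ _) ((add_comm d d') ▸ hraise hz' _ _ _), ?_⟩
    rw [Pi.add_apply, act_apply, act_apply, sec_pow _ (hs1 t.1 t.2), sec_pow _ (hs1 t.1 t.2), sec_self, one_pow,
      one_pow, one_smul, one_smul]
  | smul c y _ h =>
    obtain ⟨d, z, hz, rfl⟩ := h
    obtain ⟨q, rfl⟩ := ((ConcreteCategory.isIso_iff_bijective (Proj.awayToSection 𝒜 t.1)).mp
      (Proj.basicOpenIsoAway 𝒜 t.1 (hs1 t.1 t.2) one_pos).isIso_hom).2 c
    obtain ⟨e, r, hr, rfl⟩ := HomogeneousLocalization.Away.mk_surjective 𝒜 (hs1 t.1 t.2) q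
    exact ⟨e + d, act hs1 r (by simpa using hr) z, hraise hz _ _ _, rfl⟩

end Groth.L18.GammaStar
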