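import Groth.Agent.L18.GrTildeQCoh
import Groth.Agent.L18.IsoCover
import Groth.Agent.L16.ProjSpace.TwistMul

/-!
Multiplication `M(m)~ ⊗ O(n) ⟶ M(m + n)~` on `Proj`.
-/

set_option autoImplicit false
universe u

open CategoryTheory MonoidalCategory AlgebraicGeometry TopologicalSpace Opposite TensorProduct
open Groth.L00

noncomputable section

namespace Groth.L18.GrT

open Groth.L16.ProjTwist (toS)

variable {R A : Type u} [CommRing R] [CommRing A] [Algebra R A] {𝒜 : ℕ → Submodule R A} [GradedAlgebra 𝒜]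
variable {M : Type u} [AddCommGroup M] [Module R M] [Module A M] [IsScalarTower R A M]
  {ℳ : ℕ → Submodule R M} [DirectSum.Decomposition ℳ] [SetLike.GradedSMul 𝒜 ℳ] {m n k : ℤ}

omit [IsScalarTower R A M] [DirectSum.Decomposition ℳ] in
lemma smul_mem_tildeAt (hk : k = m + n) {x : ProjectiveSpectrum 𝒜} {c : Twist.Loc 𝒜 x}
    (hc : c ∈ Twist.twistAt 𝒜 n x) {q : GrTilde.LocMod 𝒜 (M := M) x} (hq : q ∈ GrTilde.tildeAt 𝒜 ℳ m x) :
    c • q ∈ GrTilde.tildeAt 𝒜 ℳ k x := by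
  induction hc using Submodule.span_induction with
  | mem c hc =>
    induction hq using Submodule.span_induction with
    | mem q hq =>
      obtain ⟨i, j, a, s, hs, hd, rfl⟩ := hc
      obtain ⟨i', j', a', s', hs', hd', rfl⟩ := hq
      refine Submodule.subset_span ⟨i + i', j + j', ⟨a.1 • a'.1, SetLike.GradedSMul.smul_mem a.2 a'.2⟩,
        ⟨s.1 * s'.1, SetLike.mul_mem_graded s.2 s'.2⟩,
        fun h => (x.isPrime.mem_or_mem h).elim hs hs', by push_cast; omega, ?_⟩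
      rw [LocalizedModule.mk_smul_mk]; rfl
    | zero => rw [smul_zero]; exact zero_mem _
    | add _ _ _ _ h h' => rw [smul_add]; exact add_mem h h'
    | smul r q _ h => rw [GrTilde.a0_smul_def, smul_comm]; exact Submodule.smul_mem _ r h
  | zero => rw [zero_smul]; exact zero_mem _
  | add _ _ _ _ h h' => rw [add_smul]; exact add_mem h h'
  | smul r c _ h =>
    rw [Algebra.smul_def, HomogeneousLocalization.algebraMap_apply, mul_smul]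
    exact Submodule.smul_mem _ r h

omit [IsScalarTower R A M] [DirectSum.Decomposition ℳ] in
/-- Product of a section of `M(m)~` and one of `O(n)`. -/
def mulT (hk : k = m + n) {U : (Opens (ProjectiveSpectrum.top 𝒜))ᵒᵖ} (f : GrTilde.sect 𝒜 ℳ m U)
    (g : Twist.sectN (𝒜 := 𝒜) n U) : GrTilde.sect 𝒜 ℳ k U :=
  ⟨fun x => ⟨(g.1 x).1 • (f.1 x).1, smul_mem_tildeAt hk (g.1 x).2 (f.1 x).2⟩, fun x => by
    obtain ⟨Va, ma, ia, i, j, a, s, nina, ca, wa⟩ := f.2 x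
    obtain ⟨Vb, mb, ib, i', j', a', s', ninb, cb, wb⟩ := g.2 x
    refine ⟨Va ⊓ Vb, ⟨ma, mb⟩, Opens.infLELeft _ _ ≫ ia, i' + i, j' + j,
      ⟨a'.1 • a.1, SetLike.GradedSMul.smul_mem a'.2 a.2⟩, ⟨s'.1 * s.1, SetLike.mul_mem_graded s'.2 s.2⟩,
      fun y h => (y.1.isPrime.mem_or_mem h).elim (ninb ⟨y.1, y.2.2⟩) (nina ⟨y.1, y.2.1⟩), ?_, fun y => ?_⟩
    · rcases ca with ha | ha
      · rcases cb with hb | hb
        · exact Or.inl (by push_cast; omega)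
        · exact Or.inr (show a'.1 • a.1 = 0 by rw [hb, zero_smul])
      · exact Or.inr (show a'.1 • a.1 = 0 by rw [ha, smul_zero])
    · have e1 := wa ⟨y.1, y.2.1⟩
      have e2 := wb ⟨y.1, y.2.2⟩
      dsimp only at e1 e2 ⊢
      erw [e1, e2, LocalizedModule.mk_smul_mk]
      rfl⟩

section Lemmas

variable (hk : k = m + n) {U : (Opens (ProjectiveSpectrum.top 𝒜))ᵒᵖ}

lemma mulT_apply (f : GrTilde.sect 𝒜 ℳ m U) (g : Twist.sectN (𝒜 := 𝒜) n U) (x : U.unop) :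
    ((mulT hk f g).1 x).1 = (g.1 x).1 • (f.1 x).1 := rfl

lemma mulT_add₁ (f f' : GrTilde.sect 𝒜 ℳ m U) (g : Twist.sectN (𝒜 := 𝒜) n U) :
    mulT hk (f + f') g = mulT hk f g + mulT hk f' g :=
  sect_ext fun x => smul_add (g.1 x).1 (f.1 x).1 (f'.1 x).1

lemma mulT_add₂ (f : GrTilde.sect 𝒜 ℳ m U) (g g' : Twist.sectN (𝒜 := 𝒜) n U) :
    mulT hk f (g + g') = mulT hk f g + mulT hk f g' :=
  sect_ext fun x => add_smul (g.1 x).1 (g'.1 x).1 (f.1 x).1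

lemma mulT_smul₁ (c : Twist.O U) (f : GrTilde.sect 𝒜 ℳ m U) (g : Twist.sectN (𝒜 := 𝒜) n U) :
    mulT hk (c • f) g = c • mulT hk f g :=
  sect_ext fun x => (congrArg ((g.1 x).1 • ·) (GrTilde.coe_smul_val m x.1 (c.1 x) (f.1 x))).trans
    ((smul_comm (g.1 x).1 (c.1 x).val (f.1 x).1).trans (GrTilde.coe_smul_val k x.1 (c.1 x) ((mulT hk f g).1 x)).symm)

lemma mulT_smul₂ (c : Twist.O U) (f : GrTilde.sect 𝒜 ℳ m U) (g : Twist.sectN (𝒜 := 𝒜) n U) :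
    mulT hk f (c • g) = c • mulT hk f g :=
  sect_ext fun x => (congrArg (· • (f.1 x).1) (Groth.L16.ProjTwist.smul_apply_val c g x)).trans
    ((mul_smul (c.1 x).val (g.1 x).1 (f.1 x).1).trans (GrTilde.coe_smul_val k x.1 (c.1 x) ((mulT hk f g).1 x)).symm)

end Lemmas

variable (𝒜 ℳ)

/-- The underlying presheaf of modules of `M(k)~`. -/
abbrev PT (k : ℤ) : Tensor.PX (Proj 𝒜) := Tensor.pre (GrTilde.tilde 𝒜 ℳ k)

variable {𝒜 ℳ}

/-- A section of `PT`, typed as a function. -/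
def toT {k : ℤ} {U : (Proj 𝒜).Opensᵒᵖ} (f : (PT 𝒜 ℳ k).obj U) : GrTilde.sect 𝒜 ℳ k U := f

variable (𝒜 ℳ)

/-- The multiplication map of presheaves. -/
def mulTPre (hk : k = m + n) : PT 𝒜 ℳ m ⊗ Groth.L16.ProjTwist.P 𝒜 n ⟶ PT 𝒜 ℳ k where
  app U := ModuleCat.ofHom (Y := (PT 𝒜 ℳ k).obj U)
    (TensorProduct.lift (LinearMap.mk₂ ((Proj 𝒜).sheaf.obj.obj U)
      (fun (f : (PT 𝒜 ℳ m).obj U) (g : (Groth.L16.ProjTwist.P 𝒜 n).obj U) => mulT hk (toT f) (toS g))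
      (fun f f' g => mulT_add₁ hk (toT f) (toT f') (toS g))
      (fun c f g => mulT_smul₁ hk c (toT f) (toS g))
      (fun f g g' => mulT_add₂ hk (toT f) (toS g) (toS g'))
      (fun c f g => mulT_smul₂ hk c (toT f) (toS g))))
  naturality _ := ModuleCat.MonoidalCategory.tensor_ext fun _ _ => rfl

variable {𝒜 ℳ}

lemma mulTPre_tmul (hk : k = m + n) (U : (Proj 𝒜).Opensᵒᵖ) (f : (PT 𝒜 ℳ m).obj U)
    (g : (Groth.L16.ProjTwist.P 𝒜 n).obj U) :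
    (mulTPre 𝒜 ℳ hk).app U (f ⊗ₜ[(Proj 𝒜).sheaf.obj.obj U] g) = mulT hk (toT f) (toS g) := rfl

/-- Where `O(n)` has a monomial generator the multiplication map is bijective. -/
theorem mulTPre_bijective (hk : k = m + n) {i j : ℕ} (a : 𝒜 i) (b : 𝒜 j) (hn : (i : ℤ) = j + n)
    (W : (Proj 𝒜).Opens) (ha : ∀ x ∈ W, a.1 ∉ (x : ProjectiveSpectrum 𝒜).asHomogeneousIdeal)
    (hb : ∀ x ∈ W, b.1 ∉ (x : ProjectiveSpectrum 𝒜).asHomogeneousIdeal) :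
    Function.Bijective ((mulTPre 𝒜 ℳ hk).app (op W)) := by
  let G₀ : Twist.sectN (𝒜 := 𝒜) n (op W) :=
    Groth.L16.ProjTwist.gen a b hn W (fun x => hb x.1 x.2)
  let H₀ : Twist.sectN (𝒜 := 𝒜) (-n) (op W) :=
    Groth.L16.ProjTwist.gen b a (by omega) W (fun x => ha x.1 x.2)
  let G : (Groth.L16.ProjTwist.P 𝒜 n).obj (op W) := G₀
  have key : ∀ z : (PT 𝒜 ℳ m ⊗ Groth.L16.ProjTwist.P 𝒜 n).obj (op W),
      ∃ f : (PT 𝒜 ℳ m).obj (op W), z = f ⊗ₜ[(Proj 𝒜).sheaf.obj.obj (op W)] G := by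
    intro z
    induction z using TensorProduct.induction_on with
    | zero => exact ⟨0, (TensorProduct.zero_tmul _ G).symm⟩
    | tmul f g =>
      obtain ⟨c, hc⟩ := Groth.L16.ProjTwist.smul_gen_surjective a b hn W (fun x => ha x.1 x.2)
        (fun x => hb x.1 x.2) g
      let c' : (Proj 𝒜).sheaf.obj.obj (op W) := c
      refine ⟨c' • f, ?_⟩
      rw [show g = c' • G from hc.symm]
      have h1 := TensorProduct.smul_tmul_smul (1 : (Proj 𝒜).sheaf.obj.obj (op W)) c' f G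
      have h2 := TensorProduct.smul_tmul_smul c' (1 : (Proj 𝒜).sheaf.obj.obj (op W)) f G
      rw [one_mul] at h1
      rw [mul_one] at h2
      erw [one_smul] at h1 h2
      exact h1.trans h2.symm
    | add z z' hz hz' =>
      obtain ⟨f, rfl⟩ := hz
      obtain ⟨f', rfl⟩ := hz'
      exact ⟨f + f', (TensorProduct.add_tmul f f' G).symm⟩
  refine ⟨fun z z' e => ?_, fun y => ?_⟩
  · obtain ⟨f, rfl⟩ := key z
    obtain ⟨f', rfl⟩ := key z'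
    rw [mulTPre_tmul, mulTPre_tmul] at e
    have : toT f = toT f' := sect_ext fun x => by
      have h1 : (H₀.1 x).1 • ((G₀.1 x).1 • ((toT f).1 x).1) = (H₀.1 x).1 • ((G₀.1 x).1 • ((toT f').1 x).1) :=
        congrArg ((H₀.1 x).1 • ·) (congrArg (fun t : GrTilde.sect 𝒜 ℳ k (op W) => (t.1 x).1) e)
      rwa [smul_smul, smul_smul, show (H₀.1 x).1 * (G₀.1 x).1 = 1 from
        Groth.L16.ProjTwist.mk_mul_mk_swap a b x.1 (ha x.1 x.2) (hb x.1 x.2), one_smul, one_smul] at h1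
    exact congrArg (fun f : (PT 𝒜 ℳ m).obj (op W) => f ⊗ₜ[(Proj 𝒜).sheaf.obj.obj (op W)] G) this
  · let f : (PT 𝒜 ℳ m).obj (op W) := mulT (show m = k + -n by omega) (toT y) H₀
    refine ⟨f ⊗ₜ[(Proj 𝒜).sheaf.obj.obj (op W)] G, ?_⟩
    rw [mulTPre_tmul]
    refine sect_ext (t := toT y) fun x => ?_
    show (G₀.1 x).1 • ((H₀.1 x).1 • ((toT y).1 x).1) = ((toT y).1 x).1
    rw [smul_smul, show (G₀.1 x).1 * (H₀.1 x).1 = 1 from
      Groth.L16.ProjTwist.mk_mul_mk_swap b a x.1 (hb x.1 x.2) (ha x.1 x.2), one_smul]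

variable (𝒜 ℳ) in
/-- `M(m)~ ⊗ O(n) ⟶ M(k)~`. -/
def mulTHom (hk : k = m + n) :
    CohB1.tensorMod (GrTilde.tilde 𝒜 ℳ m) (Twist.twist 𝒜 n) ⟶ GrTilde.tilde 𝒜 ℳ k :=
  IsoCover.adjunct (mulTPre 𝒜 ℳ hk)

/-- On opens inside `D₊(f)`, `deg f = d`, the map `M(m)~ ⊗ O(qd) ⟶ M(m+qd)~` is bijective. -/
theorem mulTHom_bijective {d : ℕ} {q : ℤ} (hk : k = m + q * d) {i j : ℕ} (a : 𝒜 i) (b : 𝒜 j) (hij : i = j + d)
    (V : (Proj 𝒜).Opens) (ha : ∀ x ∈ V, a.1 ∉ (x : ProjectiveSpectrum 𝒜).asHomogeneousIdeal)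
    (hb : ∀ x ∈ V, b.1 ∉ (x : ProjectiveSpectrum 𝒜).asHomogeneousIdeal) :
    Function.Bijective ((mulTHom 𝒜 ℳ hk).app V) := by
  refine IsoCover.adjunct_bijective _ V fun V' hV' => ?_
  obtain ⟨p, rfl | rfl⟩ := q.eq_nat_or_neg
  · exact mulTPre_bijective hk (i := p * i) (j := p * j)
      ⟨a.1 ^ p, by simpa using SetLike.pow_mem_graded p a.2⟩ ⟨b.1 ^ p, by simpa using SetLike.pow_mem_graded p b.2⟩
      (by subst hij; push_cast; ring) V' (fun x hx => Groth.L16.ProjTwist.notMem_pow 𝒜 (ha x (hV' hx)) p)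
      (fun x hx => Groth.L16.ProjTwist.notMem_pow 𝒜 (hb x (hV' hx)) p)
  · exact mulTPre_bijective hk (i := p * j) (j := p * i)
      ⟨b.1 ^ p, by simpa using SetLike.pow_mem_graded p b.2⟩ ⟨a.1 ^ p, by simpa using SetLike.pow_mem_graded p a.2⟩
      (by subst hij; push_cast; ring) V' (fun x hx => Groth.L16.ProjTwist.notMem_pow 𝒜 (hb x (hV' hx)) p)
      (fun x hx => Groth.L16.ProjTwist.notMem_pow 𝒜 (ha x (hV' hx)) p)

variable (𝒜 ℳ) in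
/-- `M(n)~ ≅ M~ ⊗ O(n)` when the `D₊(f)`, `deg f = 1`, cover. -/
theorem nonempty_iso_twistBy (h : ∀ x : Proj 𝒜, ∃ f : 𝒜 1, x ∈ Proj.basicOpen 𝒜 f.1) (n : ℤ) :
    Nonempty (GrTilde.tilde 𝒜 ℳ n ≅ Twist.twistBy 𝒜 (GrTilde.tilde 𝒜 ℳ 0) n) := by
  have hk : n = (0 : ℤ) + n * ((1 : ℕ) : ℤ) := by simp
  have := IsoCover.isIso_of_bijective (mulTHom 𝒜 ℳ hk) (fun f : 𝒜 1 => Proj.basicOpen 𝒜 f.1) h
    fun f V hV => mulTHom_bijective hk f (⟨1, SetLike.GradedOne.one_mem⟩ : 𝒜 0) (Nat.zero_add _).symm V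
      (fun x hx => (Proj.mem_basicOpen _ _ _).1 (hV hx)) (fun x _ => Groth.L16.ProjTwist.one_notMem 𝒜 x)
  exact ⟨(asIso (mulTHom 𝒜 ℳ hk)).symm ≪≫ eqToIso (by rw [Twist.twistBy, Nat.cast_one, mul_one])⟩

variable (𝒜 ℳ) in
/-- `M(nd)~ ≅ M~ ⊗ O(nd)` over an open covered by `D₊(ab)`, `deg a = deg b + d`. -/
theorem nonempty_restrict_iso_twistBy (d : ℕ) (n : ℤ) (U : (Proj 𝒜).Opens)
    (hU : ∀ x ∈ U, ∃ (j : ℕ) (a : 𝒜 (j + d)) (b : 𝒜 j), x ∈ Proj.basicOpen 𝒜 (a.1 * b.1)) :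
    Nonempty ((Twist.twistBy 𝒜 (GrTilde.tilde 𝒜 ℳ 0) (n * d)).restrict U.ι ≅
      (GrTilde.tilde 𝒜 ℳ (n * d)).restrict U.ι) := by
  have hk : n * (d : ℤ) = (0 : ℤ) + n * (d : ℤ) := (zero_add _).symm
  let φ := (Scheme.Modules.restrictFunctor U.ι).map (mulTHom 𝒜 ℳ hk)
  have : IsIso φ := by
    refine IsoCover.isIso_of_bijective φ
      (fun p : Σ j : ℕ, 𝒜 (j + d) × 𝒜 j => U.ι ⁻¹ᵁ Proj.basicOpen 𝒜 (p.2.1.1 * p.2.2.1)) (fun x => ?_) fun p V hV => ?_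
    · obtain ⟨j, a, b, hx⟩ := hU x.1 x.2
      exact ⟨⟨j, a, b⟩, hx⟩
    · have hle : U.ι ''ᵁ V ≤ Proj.basicOpen 𝒜 (p.2.1.1 * p.2.2.1) :=
        (U.ι.image_mono hV).trans (U.ι.image_preimage_le _)
      exact mulTHom_bijective hk p.2.1 p.2.2 rfl (U.ι ''ᵁ V)
        (fun x hx h => (Proj.mem_basicOpen _ _ _).1 (hle hx) (x.asHomogeneousIdeal.toIdeal.mul_mem_right _ h))
        (fun x hx h => (Proj.mem_basicOpen _ _ _).1 (hle hx) (x.asHomogeneousIdeal.toIdeal.mul_mem_left _ h))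
  exact ⟨@asIso _ _ _ _ φ this⟩

end Groth.L18.GrT
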