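import Groth.Agent.L18.GammaStar
import Groth.Agent.L18.GrTildeTwist

/-!
`Γ_*(F)~ ≅ F`.
-/

set_option autoImplicit false
universe u

open CategoryTheory AlgebraicGeometry TopologicalSpace Opposite DirectSum

noncomputable section

namespace Groth.L18.GammaStar

open Groth.L18.Frame (rs ro rs_rs ro_ro rs_smul ro_mul)
open Groth.L18.ClosedSub (sec sec_mul sec_zero sec_add sec_val sec_pow)
open Groth.L16.ProjTwist (notMem_pow notMem_mul one_notMem)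

variable {R A : Type u} [CommRing R] [CommRing A] [Algebra R A] {𝒜 : ℕ → Submodule R A} [GradedAlgebra 𝒜]

lemma rs_zero {X : Scheme.{u}} (M : X.Modules) {U V : X.Opens} (h : V ≤ U) :
    rs M h (0 : Γ(M, U)) = 0 := map_zero _

lemma rs_add {X : Scheme.{u}} (M : X.Modules) {U V : X.Opens} (h : V ≤ U) (a b : Γ(M, U)) :
    rs M h (a + b) = rs M h a + rs M h b := map_add _ _ _

/-- Small homogeneous basic opens inside a chart. -/
theorem exists_hom_nhds {t : A} (ht : t ∈ 𝒜 1) {W : (Proj 𝒜).Opens} {x : Proj 𝒜} (hxW : x ∈ W)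
    (hW : W ≤ Proj.basicOpen 𝒜 t) :
    ∃ (e : ℕ) (h : A) (hh : h ∈ 𝒜 e), h ∉ (x : ProjectiveSpectrum 𝒜).asHomogeneousIdeal ∧
      (Proj 𝒜).basicOpen (sec 𝒜 ht h hh) ≤ W := by
  obtain ⟨_, ⟨f, rfl⟩, hxf, hfW⟩ :=
    (ProjectiveSpectrum.isTopologicalBasis_basic_opens 𝒜).exists_subset_of_mem_open hxW W.2
  obtain ⟨e, he⟩ := Groth.L18.GrT.exists_hom_notMem ((ProjectiveSpectrum.mem_basicOpen 𝒜 _ _).1 hxf)
  refine ⟨e, _, proj_mem 𝒜 f e, he, fun y hy => hfW ?_⟩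
  have hy' : y ∈ Proj.basicOpen 𝒜 (GradedRing.proj 𝒜 e f) := ((basicOpen_sec ht _).trans_le inf_le_right) hy
  exact (Proj.basicOpen_eq_iSup_proj 𝒜 f).ge (Opens.mem_iSup.mpr ⟨e, hy'⟩)

variable {F : (Proj 𝒜).Modules} {s : Finset A} {hs1 : ∀ f ∈ s, f ∈ 𝒜 1} (S : Fam F s hs1)

/-- `m / b` is `g` on all charts inside `V`. -/
def Good {j : ℕ} (m : grading S j) (b : 𝒜 j) (V : (Proj 𝒜).Opens) (g : Γ(F, V)) : Prop :=
  ∀ t : s, ro (inf_le_right : V ⊓ D s t ≤ D s t) (sec 𝒜 (hs1 t.1 t.2) b.1 b.2) •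
      rs F (inf_le_left : V ⊓ D s t ≤ V) g = rs F (inf_le_right : V ⊓ D s t ≤ D s t) (ev S m t)

variable {S}

theorem Good.rel {j : ℕ} {m : grading S j} {b : 𝒜 j} {V : (Proj 𝒜).Opens} {g : Γ(F, V)}
    (h : Good S m b V g) (t : s) {W : (Proj 𝒜).Opens} (hW : W ≤ V) (hW' : W ≤ D s t) :
    ro hW' (sec 𝒜 (hs1 t.1 t.2) b.1 b.2) • rs F hW g = rs F hW' (ev S m t) := by
  have := congrArg (rs F (le_inf hW hW')) (h t)
  rwa [rs_smul, rs_rs, rs_rs, ro_ro] at this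

theorem Good.mono {j : ℕ} {m : grading S j} {b : 𝒜 j} {V : (Proj 𝒜).Opens} {g : Γ(F, V)}
    (h : Good S m b V g) {W : (Proj 𝒜).Opens} (hW : W ≤ V) : Good S m b W (rs F hW g) := fun t => by
  rw [rs_rs]
  exact h.rel t (inf_le_left.trans hW) inf_le_right

theorem good_of_single {j : ℕ} (m : grading S j) (b : 𝒜 j) {V : (Proj 𝒜).Opens} (g : Γ(F, V)) (t : s)
    (hVt : V ≤ D s t) (h : ro hVt (sec 𝒜 (hs1 t.1 t.2) b.1 b.2) • g = rs F hVt (ev S m t)) :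
    Good S m b V g := fun t' => by
  rw [(ev_compat S m).rel t t' (inf_le_left.trans hVt) inf_le_right,
    ro_sec_change (hs1 t'.1 t'.2) (hs1 t.1 t.2) b.2 (inf_le_right : V ⊓ D s t' ≤ D s t')
      (inf_le_left.trans hVt), mul_smul]
  have := congrArg (rs F (inf_le_left : V ⊓ D s t' ≤ V)) h
  rw [rs_smul, rs_rs, ro_ro] at this
  rw [this]

variable (S)

/-- The section type. -/
abbrev Sect (U : (Proj 𝒜).Opens) : Type u :=
  GrTilde.sect 𝒜 (grading S) 0 (op (U : Opens (ProjectiveSpectrum.top 𝒜)))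

/-- Restriction of a section. -/
def resS {U V : (Proj 𝒜).Opens} (h : V ≤ U) (f : Sect S U) : Sect S V :=
  GrTilde.res 𝒜 (grading S) 0 (homOfLE h).op f

/-- Multiplication of a section by a function. -/
def smulS {U : (Proj 𝒜).Opens} (c : Γ(Proj 𝒜, U)) (f : Sect S U) : Sect S U :=
  ⟨fun x => c.1 x • f.1 x,
    GrTilde.smul_mem' (𝒜 := 𝒜) (ℳ := grading S) 0 (op (U : Opens (ProjectiveSpectrum.top 𝒜))) c f.1 f.2⟩

/-- `m / b` represents `f` on `V`. -/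
def IsRep {U : (Proj 𝒜).Opens} (f : Sect S U) {V : (Proj 𝒜).Opens} (hV : V ≤ U) {j : ℕ}
    (m : grading S j) (b : 𝒜 j) : Prop :=
  ∃ hb : ∀ y ∈ V, b.1 ∉ (y : ProjectiveSpectrum 𝒜).asHomogeneousIdeal,
    ∀ (y : Proj 𝒜) (hy : y ∈ V), (f.1 ⟨y, hV hy⟩).1 = LocalizedModule.mk m.1 ⟨b.1, hb y hy⟩

/-- `g` is the image of `f`. -/
def Rel {U : (Proj 𝒜).Opens} (f : Sect S U) (g : Γ(F, U)) : Prop :=
  ∀ x ∈ U, ∃ (V : (Proj 𝒜).Opens) (hV : V ≤ U) (j : ℕ) (m : grading S j) (b : 𝒜 j),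
    x ∈ V ∧ IsRep S f hV m b ∧ Good S m b V (rs F hV g)

variable {S}

theorem IsRep.mono {U : (Proj 𝒜).Opens} {f : Sect S U} {V : (Proj 𝒜).Opens} {hV : V ≤ U} {j : ℕ}
    {m : grading S j} {b : 𝒜 j} (h : IsRep S f hV m b) {W : (Proj 𝒜).Opens} (hW : W ≤ V) :
    IsRep S f (hW.trans hV) m b :=
  ⟨fun y hy => h.1 y (hW hy), fun y hy => h.2 y (hW hy)⟩

theorem exists_rep {U : (Proj 𝒜).Opens} (f : Sect S U) {x : Proj 𝒜} (hx : x ∈ U) :
    ∃ (V : (Proj 𝒜).Opens) (hV : V ≤ U) (j : ℕ) (m : grading S j) (b : 𝒜 j), x ∈ V ∧ IsRep S f hV m b := by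
  obtain ⟨V, hxV, iV, i, j, a, b, nin, hd, hw⟩ := f.2 ⟨x, hx⟩
  have hmem : a.1 ∈ grading S j := by
    rcases hd with hd | hd
    · exact (show i = j by omega) ▸ a.2
    · rw [hd]; exact zero_mem _
  exact ⟨V, iV.le, j, ⟨a.1, hmem⟩, b, hxV, fun y hy => nin ⟨y, hy⟩, fun y hy => hw ⟨y, hy⟩⟩

/-- Independence of the representing fraction. -/
theorem exists_good_transfer {U : (Proj 𝒜).Opens} {f : Sect S U} {V V' : (Proj 𝒜).Opens} {hV : V ≤ U}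
    {hV' : V' ≤ U} {j j' : ℕ} {m : grading S j} {m' : grading S j'} {b : 𝒜 j} {b' : 𝒜 j'}
    (h : IsRep S f hV m b) (h' : IsRep S f hV' m' b') {x : Proj 𝒜} (hx : x ∈ V) (hx' : x ∈ V') :
    ∃ W : (Proj 𝒜).Opens, x ∈ W ∧ W ≤ V ∧ W ≤ V' ∧ ∀ g : Γ(F, W), Good S m b W g → Good S m' b' W g := by
  have e := (h.2 x hx).symm.trans (h'.2 x hx')
  obtain ⟨u, hu⟩ := LocalizedModule.mk_eq.1 e
  simp only [Submonoid.smul_def] at hu
  obtain ⟨k, hk⟩ := Groth.L18.GrT.exists_hom_notMem (show u.1 ∉ (x : ProjectiveSpectrum 𝒜).asHomogeneousIdeal from u.2)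
  let c := GradedRing.proj 𝒜 k u.1
  have hc : c ∈ 𝒜 k := proj_mem 𝒜 _ k
  have hz : b'.1 • m.1 ∈ grading S (j' + j) := SetLike.GradedSMul.smul_mem b'.2 m.2
  have hz' : b.1 • m'.1 ∈ grading S (j' + j) := by
    rw [add_comm]; exact SetLike.GradedSMul.smul_mem b.2 m'.2
  have hcu : c • (b'.1 • m.1) = c • (b.1 • m'.1) := by
    have hu' := congrArg (fun z : Mod S => ((DirectSum.decompose (grading S) z (k + (j' + j))) : Mod S)) hu
    simp only [Groth.L18.decompose_smul_of_mem 𝒜 (grading S) hz, Groth.L18.decompose_smul_of_mem 𝒜 (grading S) hz',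
      if_pos (Nat.le_add_left (j' + j) k), Nat.add_sub_cancel] at hu'
    exact hu'
  refine ⟨V ⊓ V' ⊓ Proj.basicOpen 𝒜 c, ⟨⟨hx, hx'⟩, (Proj.mem_basicOpen _ _ _).2 hk⟩,
    inf_le_left.trans inf_le_left, inf_le_left.trans inf_le_right, fun g hg t => ?_⟩
  let W := V ⊓ V' ⊓ Proj.basicOpen 𝒜 c
  let T := hs1 t.1 t.2
  have hWt : W ⊓ D s t ≤ D s t := inf_le_right
  have h1 : ev S (⟨c • (b'.1 • m.1), SetLike.GradedSMul.smul_mem hc hz⟩ : grading S (k + (j' + j))) t =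
      sec 𝒜 T c hc • (sec 𝒜 T b'.1 b'.2 • ev S m t) := by
    rw [ev_smul S hc ⟨b'.1 • m.1, hz⟩ rfl, ev_smul S b'.2 m rfl]
  have h2 : ev S (⟨c • (b'.1 • m.1), SetLike.GradedSMul.smul_mem hc hz⟩ : grading S (k + (j' + j))) t =
      sec 𝒜 T c hc • (sec 𝒜 T b.1 b.2 • ev S m' t) := by
    rw [ev_congr S rfl (m' := (⟨c • (b.1 • m'.1), SetLike.GradedSMul.smul_mem hc hz'⟩ :
      grading S (k + (j' + j)))) hcu t]
    rw [ev_smul S hc ⟨b.1 • m'.1, hz'⟩ rfl, ev_smul S b.2 m' (add_comm _ _)]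
  have h3 := congrArg (rs F hWt) (h1.symm.trans h2)
  rw [rs_smul, rs_smul, rs_smul, rs_smul, ← hg.rel t inf_le_left hWt] at h3
  have hcu' : IsUnit (ro hWt (sec 𝒜 T c hc)) := isUnit_ro_sec T hc hWt (inf_le_left.trans inf_le_right)
  have hbu : IsUnit (ro hWt (sec 𝒜 T b.1 b.2)) :=
    isUnit_ro_sec T b.2 hWt fun y hy => (Proj.mem_basicOpen _ _ _).2 (h.1 y hy.1.1.1)
  have h4 := (IsUnit.smul_left_cancel hcu').1 h3
  rw [smul_comm] at h4
  exact (IsUnit.smul_left_cancel hbu).1 h4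

theorem Rel.res {U : (Proj 𝒜).Opens} {f : Sect S U} {g : Γ(F, U)} (h : Rel S f g) {U' : (Proj 𝒜).Opens}
    (hU : U' ≤ U) : Rel S (resS S hU f) (rs F hU g) := fun x hx => by
  obtain ⟨V, hV, j, m, b, hxV, hrep, hgood⟩ := h x (hU hx)
  refine ⟨V ⊓ U', inf_le_right, j, m, b, ⟨hxV, hx⟩,
    ⟨fun y hy => hrep.1 y hy.1, fun y hy => hrep.2 y hy.1⟩, ?_⟩
  have := hgood.mono (inf_le_left : V ⊓ U' ≤ V)
  rw [rs_rs] at this
  rw [rs_rs]
  exact this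

section Cover

variable (hcov : ∀ x : Proj 𝒜, ∃ t : s, x ∈ D s t)
include hcov

theorem Rel.unique {U : (Proj 𝒜).Opens} {f : Sect S U} {g g' : Γ(F, U)} (h : Rel S f g) (h' : Rel S f g') :
    g = g' := by
  let OM : TopCat.Sheaf Ab.{u} (Proj 𝒜).toTopCat := ⟨F.presheaf, F.isSheaf⟩
  have key : ∀ x : U, ∃ (W : (Proj 𝒜).Opens) (hW : W ≤ U), x.1 ∈ W ∧ rs F hW g = rs F hW g' := by
    rintro ⟨x, hx⟩
    obtain ⟨V, hV, j, m, b, hxV, hrep, hgood⟩ := h x hx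
    obtain ⟨V', hV', j', m', b', hxV', hrep', hgood'⟩ := h' x hx
    obtain ⟨W, hxW, hWV, hWV', htr⟩ := exists_good_transfer hrep hrep' hxV hxV'
    obtain ⟨t, hxt⟩ := hcov x
    refine ⟨W ⊓ D s t, inf_le_left.trans (hWV.trans hV), ⟨hxW, hxt⟩, ?_⟩
    have e1 := (htr _ (hgood.mono hWV)).rel t (inf_le_left : W ⊓ D s t ≤ W) inf_le_right
    have e2 := hgood'.rel t ((inf_le_left : W ⊓ D s t ≤ W).trans hWV') inf_le_right
    rw [rs_rs, rs_rs] at e1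
    rw [rs_rs] at e2
    exact (IsUnit.smul_left_cancel (isUnit_ro_sec (hs1 t.1 t.2) b'.2 inf_le_right
      fun y hy => (Proj.mem_basicOpen _ _ _).2 (hrep'.1 y (hWV' hy.1)))).1 (e1.trans e2.symm)
  choose W hW hxW hWe using key
  exact OM.eq_of_locally_eq' W U (fun x => homOfLE (hW x))
    (fun x hx => Opens.mem_iSup.mpr ⟨⟨x, hx⟩, hxW _⟩) g g' hWe

theorem exists_rel {U : (Proj 𝒜).Opens} (f : Sect S U) : ∃ g, Rel S f g := by
  let OM : TopCat.Sheaf Ab.{u} (Proj 𝒜).toTopCat := ⟨F.presheaf, F.isSheaf⟩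
  have key : ∀ x : U, ∃ (W : (Proj 𝒜).Opens) (hW : W ≤ U) (g : Γ(F, W)), x.1 ∈ W ∧ Rel S (resS S hW f) g := by
    rintro ⟨x, hx⟩
    obtain ⟨V, hV, j, m, b, hxV, hrep⟩ := exists_rep f hx
    obtain ⟨t, hxt⟩ := hcov x
    have hu : IsUnit (ro (inf_le_right : V ⊓ D s t ≤ D s t) (sec 𝒜 (hs1 t.1 t.2) b.1 b.2)) :=
      isUnit_ro_sec _ _ _ fun y hy => (Proj.mem_basicOpen _ _ _).2 (hrep.1 y hy.1)
    let g : Γ(F, V ⊓ D s t) := (↑hu.unit⁻¹ : Γ(Proj 𝒜, V ⊓ D s t)) • rs F inf_le_right (ev S m t)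
    refine ⟨V ⊓ D s t, inf_le_left.trans hV, g, ⟨hxV, hxt⟩, fun y hy => ?_⟩
    refine ⟨V ⊓ D s t, le_rfl, j, m, b, hy, ⟨fun z hz => hrep.1 z hz.1, fun z hz => hrep.2 z hz.1⟩, ?_⟩
    rw [Frame.rs_self]
    refine good_of_single m b g t inf_le_right ?_
    rw [smul_smul, IsUnit.mul_val_inv, one_smul]
  choose W hW g hxW hg using key
  obtain ⟨g₀, hg₀, -⟩ := OM.existsUnique_gluing' W U (fun x => homOfLE (hW x))
    (fun x hx => Opens.mem_iSup.mpr ⟨⟨x, hx⟩, hxW _⟩) g fun k l => by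
      show rs F inf_le_left (g k) = rs F inf_le_right (g l)
      have h1 := (hg k).res (inf_le_left : W k ⊓ W l ≤ W k)
      have h2 := (hg l).res (inf_le_right : W k ⊓ W l ≤ W l)
      exact Rel.unique hcov h1 h2
  refine ⟨g₀, fun x hx => ?_⟩
  obtain ⟨V, hV, j, m, b, hxV, hrep, hgood⟩ := hg ⟨x, hx⟩ x (hxW ⟨x, hx⟩)
  refine ⟨V, hV.trans (hW ⟨x, hx⟩), j, m, b, hxV, ⟨hrep.1, hrep.2⟩, ?_⟩
  rw [← rs_rs F (hW ⟨x, hx⟩) hV, show rs F (hW ⟨x, hx⟩) g₀ = g ⟨x, hx⟩ from hg₀ ⟨x, hx⟩]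
  exact hgood

set_option maxHeartbeats 1000000 in
omit hcov in
theorem Rel.add {U : (Proj 𝒜).Opens} {f f' : Sect S U} {g g' : Γ(F, U)} (h : Rel S f g) (h' : Rel S f' g') :
    Rel S (f + f') (g + g') := fun x hx => by
  obtain ⟨V, hV, j, m, b, hxV, hrep, hgood⟩ := h x hx
  obtain ⟨V', hV', j', m', b', hxV', hrep', hgood'⟩ := h' x hx
  have hz : b'.1 • m.1 ∈ grading S (j' + j) := SetLike.GradedSMul.smul_mem b'.2 m.2
  have hz' : b.1 • m'.1 ∈ grading S (j' + j) := by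
    rw [add_comm]; exact SetLike.GradedSMul.smul_mem b.2 m'.2
  refine ⟨V ⊓ V', inf_le_left.trans hV, j' + j, ⟨b'.1 • m.1 + b.1 • m'.1, add_mem hz hz'⟩,
    ⟨b'.1 * b.1, SetLike.mul_mem_graded b'.2 b.2⟩, ⟨hxV, hxV'⟩,
    ⟨fun y hy => notMem_mul 𝒜 (hrep'.1 y hy.2) (hrep.1 y hy.1), fun y hy => ?_⟩, fun t => ?_⟩
  · show (f.1 ⟨y, _⟩).1 + (f'.1 ⟨y, _⟩).1 = _
    rw [hrep.2 y hy.1, hrep'.2 y hy.2, LocalizedModule.mk_add_mk]
    congr 1
    exact Subtype.ext (mul_comm _ _)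
  · have e1 := hgood.rel t ((inf_le_left : V ⊓ V' ⊓ D s t ≤ V ⊓ V').trans inf_le_left) inf_le_right
    have e2 := hgood'.rel t ((inf_le_left : V ⊓ V' ⊓ D s t ≤ V ⊓ V').trans inf_le_right) inf_le_right
    rw [rs_rs] at e1 e2
    rw [rs_add, rs_add, rs_rs, rs_rs,
      show ev S (⟨b'.1 • m.1 + b.1 • m'.1, add_mem hz hz'⟩ : grading S (j' + j)) t =
        ev S ⟨b'.1 • m.1, hz⟩ t + ev S ⟨b.1 • m'.1, hz'⟩ t from
          ev_add S (⟨b'.1 • m.1, hz⟩ : grading S (j' + j)) ⟨b.1 • m'.1, hz'⟩ t,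
      ev_smul S b'.2 m rfl, ev_smul S b.2 m' (add_comm _ _), rs_add, rs_smul, rs_smul, ← e1, ← e2,
      sec_mul (hs1 t.1 t.2) b'.2 b.2 rfl, ro_mul, smul_add, smul_smul, smul_smul]
    congr 2
    exact mul_comm _ _

set_option maxHeartbeats 1000000 in
set_option synthInstance.maxHeartbeats 100000 in
omit hcov in
theorem Rel.smul {U : (Proj 𝒜).Opens} {f : Sect S U} {g : Γ(F, U)} (h : Rel S f g) (c : Γ(Proj 𝒜, U)) :
    Rel S (smulS S c f) (c • g) := fun x hx => by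
  obtain ⟨V, hV, j, m, b, hxV, hrep, hgood⟩ := h x hx
  obtain ⟨V', hxV', iV', k, r, q, nin, hw⟩ := c.2 ⟨x, hx⟩
  refine ⟨V ⊓ V', inf_le_left.trans hV, k + j, ⟨r.1 • m.1, SetLike.GradedSMul.smul_mem r.2 m.2⟩,
    ⟨q.1 * b.1, SetLike.mul_mem_graded q.2 b.2⟩, ⟨hxV, hxV'⟩,
    ⟨fun y hy => notMem_mul 𝒜 (nin ⟨y, hy.2⟩) (hrep.1 y hy.1), fun y hy => ?_⟩, fun t => ?_⟩
  · refine (GrTilde.coe_smul_val (0 : ℤ) y (c.1 ⟨y, hV hy.1⟩) (f.1 ⟨y, hV hy.1⟩)).trans ?_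
    rw [show c.1 ⟨y, hV hy.1⟩ = _ from hw ⟨y, hy.2⟩, hrep.2 y hy.1, HomogeneousLocalization.val_mk,
      LocalizedModule.mk_smul_mk]
    rfl
  · have e1 := hgood.rel t ((inf_le_left : V ⊓ V' ⊓ D s t ≤ V ⊓ V').trans inf_le_left) inf_le_right
    rw [rs_rs] at e1
    rw [rs_rs, rs_smul, ev_smul S r.2 m rfl, rs_smul, ← e1, sec_mul (hs1 t.1 t.2) q.2 b.2 rfl, ro_mul,
      smul_smul, smul_smul]
    congr 1
    have hqc : ∀ (hW : V ⊓ V' ⊓ D s t ≤ U),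
        ro (inf_le_right : V ⊓ V' ⊓ D s t ≤ D s t) (sec 𝒜 (hs1 t.1 t.2) q.1 q.2) * ro hW c =
          ro inf_le_right (sec 𝒜 (hs1 t.1 t.2) r.1 r.2) := fun hW => by
      refine Subtype.ext (funext fun y => HomogeneousLocalization.val_injective _ ?_)
      show HomogeneousLocalization.val
          ((sec 𝒜 (hs1 t.1 t.2) q.1 q.2).1 ⟨y.1, y.2.2⟩ * c.1 ⟨y.1, hW y.2⟩) =
        HomogeneousLocalization.val ((sec 𝒜 (hs1 t.1 t.2) r.1 r.2).1 ⟨y.1, y.2.2⟩)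
      rw [HomogeneousLocalization.val_mul, sec_val, sec_val,
        show c.1 ⟨y.1, hW y.2⟩ = _ from hw ⟨y.1, y.2.1.2⟩, HomogeneousLocalization.val_mk, Localization.mk_mul,
        Localization.mk_eq_mk_iff, Localization.r_iff_exists]
      refine ⟨1, ?_⟩
      simp only [OneMemClass.coe_one, one_mul, Submonoid.coe_mul]
      ring
    rw [← hqc (inf_le_left.trans (inf_le_left.trans hV))]
    ring

set_option maxHeartbeats 1000000 in
set_option synthInstance.maxHeartbeats 100000 in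
theorem exists_hom : ∃ φ : GrTilde.tilde 𝒜 (grading S) 0 ⟶ F,
    ∀ (U : (Proj 𝒜).Opens) (f : Sect S U), Rel S f (φ.app U f) := by
  choose φ0 hφ0 using fun (U : (Proj 𝒜).Opens) (f : Sect S U) => exists_rel hcov f
  have hadd : ∀ U (f f' : Sect S U), φ0 U (f + f') = φ0 U f + φ0 U f' := fun U f f' =>
    Rel.unique hcov (hφ0 U _) ((hφ0 U f).add (hφ0 U f'))
  have hzero : ∀ U, φ0 U 0 = 0 := fun U => by
    have := hadd U 0 0
    rw [add_zero] at this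
    exact left_eq_add.mp this
  have hnat : ∀ (U V : (Proj 𝒜).Opens) (h : V ≤ U) (f : Sect S U), φ0 V (resS S h f) = rs F h (φ0 U f) :=
    fun U V h f => Rel.unique hcov (hφ0 V _) ((hφ0 U f).res h)
  have hsmul : ∀ (U : (Proj 𝒜).Opens) (c : Γ(Proj 𝒜, U)) (f : Sect S U),
      φ0 U (smulS S c f) = c • φ0 U f :=
    fun U c f => Rel.unique hcov (hφ0 U _) ((hφ0 U f).smul c)
  refine ⟨⟨PresheafOfModules.homMk
    { app := fun U => AddCommGrpCat.ofHom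
        { toFun := fun (f : Sect S U.unop) => (φ0 U.unop f : Γ(F, U.unop))
          map_zero' := hzero _
          map_add' := hadd _ }
      naturality := fun {U V} i => by
        ext f
        exact hnat U.unop V.unop i.unop.le f }
    (fun U c f => hsmul U.unop c f)⟩, fun U f => hφ0 U f⟩

variable [Coh.IsQCoh F]

set_option maxHeartbeats 1000000 in
theorem eq_zero_of_rel_zero {U : (Proj 𝒜).Opens} {f : Sect S U} (h : Rel S f (0 : Γ(F, U))) : f = 0 := by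
  refine Groth.L18.GrT.sect_ext fun x => ?_
  obtain ⟨x, hx⟩ := x
  obtain ⟨V, hV, j, m, b, hxV, hrep, hgood⟩ := h x hx
  obtain ⟨t, hxt⟩ := hcov x
  obtain ⟨e, a, ha, hax, haW⟩ := exists_hom_nhds (hs1 t.1 t.2) (W := V ⊓ D s t) ⟨hxV, hxt⟩ inf_le_right
  obtain ⟨N, hN⟩ := Groth.L16.QCohSect.exists_pow_smul_eq_zero
    (Proj.isAffineOpen_basicOpen 𝒜 t.1 (hs1 t.1 t.2) one_pos) F (sec 𝒜 (hs1 t.1 t.2) a ha) (ev S m t) (by
      have := hgood.rel t (haW.trans inf_le_left) (haW.trans inf_le_right)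
      rw [rs_rs, rs_zero, smul_zero] at this
      exact this.symm)
  have haN : a ^ N ∈ 𝒜 (N * e) := by simpa using SetLike.pow_mem_graded N ha
  have hsN : sec 𝒜 (hs1 t.1 t.2) (a ^ N) haN = sec 𝒜 (hs1 t.1 t.2) a ha ^ N := sec_pow' _ ha N haN
  have hmem : a ^ N • m.1 ∈ grading S (N * e + j) := SetLike.GradedSMul.smul_mem haN m.2
  obtain ⟨P, hP⟩ := kill S ⟨a ^ N • m.1, hmem⟩ t (by rw [ev_smul S haN m rfl, hsN, hN])
  refine (hrep.2 x hxV).trans ((Groth.L18.GrT.mk_eq_zero_iff _).2 ⟨t.1 ^ P * a ^ N, ?_, ?_⟩)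
  · exact notMem_mul 𝒜 (notMem_pow 𝒜 ((Proj.mem_basicOpen _ _ _).1 hxt) P) (notMem_pow 𝒜 hax N)
  · rw [mul_smul]; exact hP

theorem exists_local_preimage {U : (Proj 𝒜).Opens} (g : Γ(F, U)) {x : Proj 𝒜} (hx : x ∈ U) :
    ∃ (W : (Proj 𝒜).Opens) (hW : W ≤ U) (f : Sect S W), x ∈ W ∧ Rel S f (rs F hW g) := by
  obtain ⟨t, hxt⟩ := hcov x
  let T := hs1 t.1 t.2
  obtain ⟨e, a, ha, hax, haW⟩ := exists_hom_nhds T (W := U ⊓ D s t) ⟨hx, hxt⟩ inf_le_right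
  obtain ⟨N, y, hy⟩ := Groth.L16.QCohSect.exists_pow_smul_eq_res
    (Proj.isAffineOpen_basicOpen 𝒜 t.1 T one_pos) F (sec 𝒜 T a ha) (rs F (haW.trans inf_le_left) g)
  obtain ⟨j, m, hm⟩ := exists_ev S t y
  have haN : a ^ N ∈ 𝒜 (N * e) := by simpa using SetLike.pow_mem_graded N ha
  have htN : t.1 ^ (N * e) ∈ 𝒜 (N * e) := by simpa using SetLike.pow_mem_graded (N * e) T
  have htj : t.1 ^ j ∈ 𝒜 j := by simpa using SetLike.pow_mem_graded j T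
  let m' : grading S (N * e + j) := ⟨t.1 ^ (N * e) • m.1, SetLike.GradedSMul.smul_mem htN m.2⟩
  let b : 𝒜 (N * e + j) := ⟨a ^ N * t.1 ^ j, SetLike.mul_mem_graded haN htj⟩
  let W := (Proj 𝒜).basicOpen (sec 𝒜 T a ha)
  have hWt : W ≤ D s t := (Proj 𝒜).basicOpen_le _
  have hWa : W ≤ Proj.basicOpen 𝒜 a := (basicOpen_sec T ha).trans_le inf_le_right
  have hb : ∀ z : (W : Opens (ProjectiveSpectrum.top 𝒜)), b.1 ∉ z.1.asHomogeneousIdeal := fun z =>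
    notMem_mul 𝒜 (notMem_pow 𝒜 ((Proj.mem_basicOpen _ _ _).1 (hWa z.2)) N)
      (notMem_pow 𝒜 ((Proj.mem_basicOpen _ _ _).1 (hWt z.2)) j)
  let f : Sect S W := Groth.L18.GrT.gen (n := 0) m' b (by simp) W hb
  refine ⟨W, haW.trans inf_le_left, f, ?_, fun z hz => ⟨W, le_rfl, _, m', b, hz,
    ⟨fun w hw => hb ⟨w, hw⟩, fun w hw => rfl⟩, ?_⟩⟩
  · exact (basicOpen_sec T ha).ge ⟨hxt, (Proj.mem_basicOpen _ _ _).2 hax⟩
  · rw [Frame.rs_self]
    refine good_of_single m' b _ t hWt ?_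
    have hsN : sec 𝒜 T (a ^ N) haN = sec 𝒜 T a ha ^ N := sec_pow' _ ha N haN
    rw [ev_smul S htN m rfl, sec_pow T T, sec_self, one_pow, one_smul, hm, sec_mul T haN htj rfl, sec_pow T T,
      sec_self, one_pow, mul_one, hsN]
    exact hy.symm

theorem nonempty_iso : Nonempty (GrTilde.tilde 𝒜 (grading S) 0 ≅ F) := by
  obtain ⟨φ, hφ⟩ := exists_hom (S := S) hcov
  have hinj : ∀ U : (Proj 𝒜).Opens, Function.Injective (φ.app U) := fun U =>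
    (injective_iff_map_eq_zero _).2 fun f hf => eq_zero_of_rel_zero hcov (by rw [← hf]; exact hφ U f)
  have : IsIso φ := Scheme.Modules.Hom.isIso_iff_isIso_app.2 fun U =>
    (ConcreteCategory.isIso_iff_bijective _).2 ⟨hinj U, fun g => by
      choose W hW f hxW hf using fun x : U => exists_local_preimage (S := S) hcov g x.2
      let OT : TopCat.Sheaf Ab.{u} (Proj 𝒜).toTopCat :=
        ⟨(GrTilde.tilde 𝒜 (grading S) 0).presheaf, (GrTilde.tilde 𝒜 (grading S) 0).isSheaf⟩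
      have happ : ∀ k, φ.app (W k) (f k) = rs F (hW k) g := fun k => Rel.unique hcov (hφ _ _) (hf k)
      have hc : U ≤ iSup W := fun x hx => Opens.mem_iSup.mpr ⟨⟨x, hx⟩, hxW _⟩
      obtain ⟨f₀, hf₀, -⟩ := OT.existsUnique_gluing' W U (fun x => homOfLE (hW x)) hc f fun k l => by
        refine hinj _ ?_
        show φ.app _ (rs (GrTilde.tilde 𝒜 (grading S) 0) inf_le_left (f k)) =
          φ.app _ (rs (GrTilde.tilde 𝒜 (grading S) 0) inf_le_right (f l))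
        refine (IsoCover.app_rs' φ (inf_le_left : W k ⊓ W l ≤ W k) (f k)).trans (Eq.trans ?_
          (IsoCover.app_rs' φ (inf_le_right : W k ⊓ W l ≤ W l) (f l)).symm)
        refine (congrArg (rs F _) (happ k)).trans (Eq.trans ?_ (congrArg (rs F _) (happ l)).symm)
        rw [rs_rs, rs_rs]
      let OM : TopCat.Sheaf Ab.{u} (Proj 𝒜).toTopCat := ⟨F.presheaf, F.isSheaf⟩
      refine ⟨f₀, OM.eq_of_locally_eq' W U (fun x => homOfLE (hW x)) hc _ g fun k => ?_⟩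
      show rs F (hW k) (φ.app U f₀) = rs F (hW k) g
      refine (IsoCover.app_rs' φ (hW k) f₀).symm.trans ?_
      exact (congrArg (φ.app (W k)) (hf₀ k)).trans (happ k)⟩
  exact ⟨@asIso _ _ _ _ φ this⟩

end Cover

end Groth.L18.GammaStar
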