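import Groth.Agent.L18.GrFreePic

/-!
# Regular sequences along an ideal with flat graded pieces
-/

set_option autoImplicit false
set_option linter.style.haveILetI false
set_option linter.unusedSectionVars false
set_option backward.isDefEq.respectTransparency.types false
set_option backward.isDefEq.respectTransparency false
universe u

open RingTheory.Sequence

noncomputable section

namespace Groth.L18.GrFlatReg

variable {A : Type u} [CommRing A] [IsNoetherianRing A]

theorem isWeaklyRegular_self (J : Ideal A) (hJ : J ≤ Ideal.jacobson ⊥)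
    (hgr : ∀ n : ℕ, Module.Flat (A ⧸ J) (↥(J ^ n) ⧸ (J • (⊤ : Submodule A ↥(J ^ n)))))
    (rs : List A) (hrs : IsWeaklyRegular (A ⧸ J) rs) : IsWeaklyRegular A rs := by
  have hall : ∀ n : ℕ, IsWeaklyRegular (A ⧸ (J ^ n : Ideal A)) rs := by
    intro n
    induction n with
    | zero =>
      haveI : Subsingleton (A ⧸ (J ^ 0 : Ideal A)) :=
        Ideal.Quotient.subsingleton_iff.2 (by rw [pow_zero, Ideal.one_eq_top])
      exact (isWeaklyRegular_iff_Fin _ _).2 fun i => by
        haveI : Subsingleton ((A ⧸ (J ^ 0 : Ideal A)) ⧸ (Ideal.ofList (rs.take i) • ⊤ : Submodule A (A ⧸ (J ^ 0 : Ideal A)))) :=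
          (Submodule.Quotient.mk_surjective _).subsingleton
        exact fun a b _ => Subsingleton.elim a b
    | succ n ih =>
      let P := ↥(J ^ n)
      let G := P ⧸ (J • (⊤ : Submodule A P))
      haveI : Module.Flat (A ⧸ J) G := hgr n
      haveI : IsScalarTower A (A ⧸ J) G := IsScalarTower.of_algebraMap_smul fun _ _ => rfl
      have hG : IsWeaklyRegular G rs := by
        rw [← isWeaklyRegular_map_algebraMap_iff (S := A ⧸ J)]
        have h1 : IsWeaklyRegular (A ⧸ J) (rs.map (algebraMap A (A ⧸ J))) :=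
          (isWeaklyRegular_map_algebraMap_iff _ _ _).2 hrs
        exact ((TensorProduct.rid (A ⧸ J) G).isWeaklyRegular_congr _).1 (h1.isWeaklyRegular_lTensor (M₂ := G))
      have hle : J ^ (n + 1) ≤ J ^ n := Ideal.pow_le_pow_right (Nat.le_succ n)
      have hmem : ∀ w : P, w ∈ J • (⊤ : Submodule A P) ↔ (w : A) ∈ J ^ (n + 1) := by
        intro w
        have h : (J • (⊤ : Submodule A P)).map (J ^ n : Submodule A A).subtype = J ^ (n + 1) := by
          rw [Submodule.map_smul'', Submodule.map_top, Submodule.range_subtype, pow_succ' J n]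
          rfl
        rw [← h]
        exact ⟨fun hw => ⟨w, hw, rfl⟩, fun ⟨w', hw', he⟩ => Subtype.ext he ▸ hw'⟩
      let f : G →ₗ[A] A ⧸ (J ^ (n + 1) : Ideal A) :=
        Submodule.mapQ _ (J ^ (n + 1) : Ideal A) (J ^ n : Submodule A A).subtype fun w hw => (hmem w).1 hw
      refine Groth.L06.RegularPow.isWeaklyRegular_of_exact rs f (Submodule.factor hle) ?_ ?_
        (Submodule.factor_surjective hle) hG ih
      · refine (injective_iff_map_eq_zero f).2 fun z hz => ?_
        obtain ⟨z, rfl⟩ := Submodule.Quotient.mk_surjective _ z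
        exact (Submodule.Quotient.mk_eq_zero _).2 ((hmem z).2 ((Submodule.Quotient.mk_eq_zero _).1 hz))
      · intro z
        obtain ⟨b, rfl⟩ := Submodule.Quotient.mk_surjective _ z
        constructor
        · intro hz
          exact ⟨Submodule.Quotient.mk ⟨b, (Submodule.Quotient.mk_eq_zero _).1 hz⟩, rfl⟩
        · rintro ⟨w, hw⟩
          obtain ⟨w, rfl⟩ := Submodule.Quotient.mk_surjective _ w
          rw [← hw]
          exact (Submodule.Quotient.mk_eq_zero _).2 w.2
  refine (isWeaklyRegular_iff _ _).2 fun i hi x y hxy => ?_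
  let I : Ideal A := Ideal.ofList (rs.take i)
  obtain ⟨x, rfl⟩ := Submodule.Quotient.mk_surjective _ x
  obtain ⟨y, rfl⟩ := Submodule.Quotient.mk_surjective _ y
  rw [Submodule.Quotient.eq, smul_eq_mul, Ideal.mul_top]
  have hxy' : rs[i] * (x - y) ∈ I := by
    have h := (Submodule.Quotient.eq _).1 hxy
    rw [smul_eq_mul, Ideal.mul_top, ← smul_sub] at h
    exact h
  -- so the difference is in `I + Jⁿ` for all `n`
  have hn : ∀ n, x - y ∈ I ⊔ J ^ n := by
    intro n
    have h := (isWeaklyRegular_iff _ _).1 (hall n) i hi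
    have h2 : Submodule.Quotient.mk (p := (I • ⊤ : Submodule A (A ⧸ (J ^ n : Ideal A))))
        (Ideal.Quotient.mk (J ^ n) (x - y)) = 0 := by
      refine h.right_eq_zero_of_smul ?_
      rw [← Submodule.Quotient.mk_smul, Submodule.Quotient.mk_eq_zero]
      have : rs[i] • Ideal.Quotient.mk (J ^ n) (x - y) = (rs[i] * (x - y)) • (1 : A ⧸ (J ^ n : Ideal A)) := by
        rw [mul_smul, Algebra.smul_def, Algebra.smul_def, Algebra.smul_def]
        simp
      rw [this]
      exact Submodule.smul_mem_smul hxy' trivial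
    rw [Submodule.Quotient.mk_eq_zero] at h2
    have h3 : (I • ⊤ : Submodule A (A ⧸ (J ^ n : Ideal A))) ≤ Submodule.map (Submodule.mkQ (J ^ n : Submodule A A)) I := by
      refine Submodule.smul_le.2 fun a ha m _ => ?_
      obtain ⟨m, rfl⟩ := Submodule.mkQ_surjective _ m
      exact ⟨a * m, Ideal.mul_mem_right _ _ ha, rfl⟩
    obtain ⟨v, hv, hvx⟩ := h3 h2
    have h4 : v - (x - y) ∈ J ^ n := (Submodule.Quotient.eq _).1 hvx
    rw [show x - y = v + -(v - (x - y)) by ring]
    exact Submodule.add_mem_sup hv (neg_mem h4)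
  have h0 : Ideal.Quotient.mk I (x - y) ∈ ⨅ n : ℕ, J ^ n • (⊤ : Submodule A (A ⧸ I)) := by
    refine (Submodule.mem_iInf _).2 fun n => ?_
    obtain ⟨v, hv, w, hw, hvw⟩ := Submodule.mem_sup.1 (hn n)
    rw [← hvw, map_add, Ideal.Quotient.eq_zero_iff_mem.2 hv, zero_add,
      show Ideal.Quotient.mk I w = w • (1 : A ⧸ I) by rw [Algebra.smul_def, mul_one]; rfl]
    exact Submodule.smul_mem_smul hw trivial
  rw [Ideal.iInf_pow_smul_eq_bot_of_le_jacobson _ (hJ.trans (Ideal.jacobson_mono bot_le)),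
    Submodule.mem_bot, Ideal.Quotient.eq_zero_iff_mem] at h0
  exact h0

/-- The depth passes from the reduction to the ring. -/
theorem le_idealDepth_self (J : Ideal A) [IsAdicComplete J A] (I : Ideal A) (n : ℕ)
    (hgr : ∀ n : ℕ, Module.Flat (A ⧸ J) (↥(J ^ n) ⧸ (J • (⊤ : Submodule A ↥(J ^ n)))))
    (hd : (n : ℕ∞) ≤ LocCoh.idealDepth I (A ⧸ J)) : (n : ℕ∞) ≤ LocCoh.idealDepth I A := by
  by_cases hI : I • (⊤ : Submodule A (A ⧸ J)) = ⊤
  · have h1 : I ⊔ J = ⊤ := by
      rw [Ideal.eq_top_iff_one]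
      have h2 : Ideal.Quotient.mk J 1 ∈ I • (⊤ : Submodule A (A ⧸ J)) := by rw [hI]; trivial
      have h3 : (I • (⊤ : Submodule A (A ⧸ J))) ≤ Submodule.map (Submodule.mkQ (J : Submodule A A)) I := by
        refine Submodule.smul_le.2 fun a ha m _ => ?_
        obtain ⟨m, rfl⟩ := Submodule.mkQ_surjective _ m
        exact ⟨a * m, Ideal.mul_mem_right _ _ ha, rfl⟩
      obtain ⟨v, hv, hvx⟩ := h3 h2
      have h4 : v - 1 ∈ J := (Submodule.Quotient.eq _).1 hvx
      rw [show (1 : A) = v + -(v - 1) by ring]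
      exact Submodule.add_mem_sup hv (neg_mem h4)
    have hI' : I = ⊤ := by
      by_contra hne
      obtain ⟨M, hM, hIM⟩ := Ideal.exists_le_maximal I hne
      have hJM : J ≤ M := (IsAdicComplete.le_jacobson_bot J).trans (sInf_le ⟨bot_le, hM⟩)
      exact hM.ne_top (top_le_iff.1 (h1 ▸ sup_le hIM hJM))
    rw [hI', Groth.L04.idealDepth_eq_top (by rw [Submodule.top_smul])]
    exact le_top
  · obtain ⟨rs, hlen, hrs, hmem⟩ := Groth.L04.exists_of_le_idealDepth hI hd
    rw [← hlen]
    exact Groth.L04.length_le_idealDepth (isWeaklyRegular_self J (IsAdicComplete.le_jacobson_bot J) hgr rs hrs) hmem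

end Groth.L18.GrFlatReg
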