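import Groth.Agent.L18.ProjSpace
import Mathlib.AlgebraicGeometry.PullbackCarrier
import Mathlib.AlgebraicGeometry.Morphisms.ClosedImmersion

/-!
# The Segre embedding
-/

set_option autoImplicit false
universe u

open CategoryTheory CategoryTheory.Limits AlgebraicGeometry
open scoped TensorProduct

namespace Groth.L18.PS

open CohB1 HomogeneousLocalization MvPolynomial

section

variable (n : ℕ) (R : Type u) [CommRing R]

/-- The chart ring. -/
abbrev ChartRing (i : Fin (n + 1)) : Type u :=
  Away (polyGrading n R) (X i : MvPolynomial (Fin (n + 1)) R)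

noncomputable instance (i : Fin (n + 1)) : Algebra R (ChartRing n R i) :=
  (chartScalar n R i).toAlgebra

lemma chart_algebraMap (i : Fin (n + 1)) :
    algebraMap R (ChartRing n R i) = chartScalar n R i := rfl

end

variable (n m : ℕ) (R : Type u) [CommRing R]

/-- The ring of a product of two charts. -/
abbrev PairRing (p : Fin (n + 1) × Fin (m + 1)) : Type u :=
  ChartRing n R p.1 ⊗[R] ChartRing m R p.2

/-- The product of two charts. -/
noncomputable def pairChart (p : Fin (n + 1) × Fin (m + 1)) :
    Spec (.of (PairRing n m R p)) ⟶ pullback (ProjSpace.toSpec n R) (ProjSpace.toSpec m R) :=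
  (pullbackSpecIso R (ChartRing n R p.1) (ChartRing m R p.2)).inv ≫
    pullback.map _ _ _ _ (chart n R p.1) (chart m R p.2) (𝟙 _)
      (by rw [Category.comp_id, chart_toSpec, chart_algebraMap]) (by rw [Category.comp_id, chart_toSpec, chart_algebraMap])

instance (p : Fin (n + 1) × Fin (m + 1)) : IsOpenImmersion (pairChart n m R p) := by
  unfold pairChart; infer_instance

lemma pairChart_fst (p : Fin (n + 1) × Fin (m + 1)) :
    pairChart n m R p ≫ pullback.fst _ _ =
      Spec.map (CommRingCat.ofHom (Algebra.TensorProduct.includeLeftRingHom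
        (R := R) (A := ChartRing n R p.1) (B := ChartRing m R p.2))) ≫ chart n R p.1 := by
  rw [pairChart, Category.assoc, pullback.lift_fst, ← Category.assoc, pullbackSpecIso_inv_fst]

lemma pairChart_snd (p : Fin (n + 1) × Fin (m + 1)) :
    pairChart n m R p ≫ pullback.snd _ _ =
      Spec.map (CommRingCat.ofHom (Algebra.TensorProduct.includeRight
        (R := R) (A := ChartRing n R p.1) (B := ChartRing m R p.2)).toRingHom) ≫ chart m R p.2 := by
  rw [pairChart, Category.assoc, pullback.lift_snd, ← Category.assoc]
  erw [pullbackSpecIso_inv_snd]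
  rfl

lemma range_pairChart (p : Fin (n + 1) × Fin (m + 1)) :
    (pairChart n m R p).opensRange =
      pullback.fst (ProjSpace.toSpec n R) (ProjSpace.toSpec m R) ⁻¹ᵁ Proj.basicOpen (polyGrading n R) (X p.1) ⊓
      pullback.snd (ProjSpace.toSpec n R) (ProjSpace.toSpec m R) ⁻¹ᵁ Proj.basicOpen (polyGrading m R) (X p.2) := by
  unfold pairChart
  rw [Scheme.Hom.opensRange_comp_of_isIso, ← range_chart, ← range_chart]
  apply TopologicalSpace.Opens.ext
  exact Scheme.Pullback.range_map _ _ _ _ _ _ _ _ _

lemma iSup_pairChart : ⨆ p, (pairChart n m R p).opensRange = ⊤ := by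
  refine eq_top_iff.mpr fun z _ => ?_
  obtain ⟨i, hi⟩ := TopologicalSpace.Opens.mem_iSup.mp
    ((iSup_chart (n := n) (R := R)).ge (x := pullback.fst (ProjSpace.toSpec n R) (ProjSpace.toSpec m R) z) trivial)
  obtain ⟨j, hj⟩ := TopologicalSpace.Opens.mem_iSup.mp
    ((iSup_chart (n := m) (R := R)).ge (x := pullback.snd (ProjSpace.toSpec n R) (ProjSpace.toSpec m R) z) trivial)
  refine TopologicalSpace.Opens.mem_iSup.mpr ⟨(i, j), ?_⟩
  rw [range_pairChart]
  exact ⟨hi, hj⟩

/-- The cover of a product of two projective spaces by products of charts. -/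
noncomputable def pairCover :
    (pullback (ProjSpace.toSpec n R) (ProjSpace.toSpec m R)).AffineOpenCover where
  I₀ := Fin (n + 1) × Fin (m + 1)
  X p := .of (PairRing n m R p)
  f := pairChart n m R
  idx z := (TopologicalSpace.Opens.mem_iSup.mp ((iSup_pairChart n m R).ge (x := z) trivial)).choose
  covers z := (TopologicalSpace.Opens.mem_iSup.mp ((iSup_pairChart n m R).ge (x := z) trivial)).choose_spec

/-- The first system of coordinates on a product chart. -/
noncomputable def uC (p : Fin (n + 1) × Fin (m + 1)) (k : Fin (n + 1)) : PairRing n m R p :=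
  coord p.1 k ⊗ₜ 1

/-- The second system of coordinates on a product chart. -/
noncomputable def vC (p : Fin (n + 1) × Fin (m + 1)) (k : Fin (m + 1)) : PairRing n m R p :=
  1 ⊗ₜ coord p.2 k

lemma uC_self (p : Fin (n + 1) × Fin (m + 1)) : uC n m R p p.1 = 1 := by
  rw [uC, coord_self]; rfl

lemma vC_self (p : Fin (n + 1) × Fin (m + 1)) : vC n m R p p.2 = 1 := by
  rw [vC, coord_self]; rfl

lemma isUnit_uC (p : Fin (n + 1) × Fin (m + 1)) : IsUnit (uC n m R p p.1) := by
  rw [uC_self]; exact isUnit_one

lemma isUnit_vC (p : Fin (n + 1) × Fin (m + 1)) : IsUnit (vC n m R p p.2) := by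
  rw [vC_self]; exact isUnit_one

lemma pairChart_fst_eq (p : Fin (n + 1) × Fin (m + 1)) :
    pairChart n m R p ≫ pullback.fst _ _ =
      tuplePt (B := .of (PairRing n m R p)) (algebraMap R (PairRing n m R p)) (uC n m R p) p.1
        (isUnit_uC n m R p) := by
  rw [pairChart_fst, tuplePt]
  congr 2
  ext : 1
  simp only [CommRingCat.hom_ofHom]
  exact (chartHom_universal (C := .of (PairRing n m R p)) p.1
    (Algebra.TensorProduct.includeLeftRingHom (R := R) (A := ChartRing n R p.1) (B := ChartRing m R p.2))
    (by rw [coord_self, map_one]; exact isUnit_one)).symm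

lemma pairChart_snd_eq (p : Fin (n + 1) × Fin (m + 1)) :
    pairChart n m R p ≫ pullback.snd _ _ =
      tuplePt (B := .of (PairRing n m R p)) (algebraMap R (PairRing n m R p)) (vC n m R p) p.2
        (isUnit_vC n m R p) := by
  have hs : (Algebra.TensorProduct.includeRight
      (R := R) (A := ChartRing n R p.1) (B := ChartRing m R p.2)).toRingHom.comp (chartScalar m R p.2) =
      algebraMap R (PairRing n m R p) :=
    RingHom.ext fun r => (Algebra.TensorProduct.includeRight
      (R := R) (A := ChartRing n R p.1) (B := ChartRing m R p.2)).commutes r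
  rw [pairChart_snd, tuplePt]
  congr 2
  ext : 1
  simp only [CommRingCat.hom_ofHom]
  simp only [← hs]
  exact (chartHom_universal (C := .of (PairRing n m R p)) p.2
    (Algebra.TensorProduct.includeRight
      (R := R) (A := ChartRing n R p.1) (B := ChartRing m R p.2)).toRingHom
    (by rw [coord_self, map_one]; exact isUnit_one)).symm

/-- Coordinates of two compatible points of product charts are proportional. -/
lemma proportional (p q : Fin (n + 1) × Fin (m + 1)) (C : CommRingCat.{u})
    (f : CommRingCat.of (PairRing n m R p) ⟶ C) (g : CommRingCat.of (PairRing n m R q) ⟶ C)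
    (e : Spec.map f ≫ pairChart n m R p = Spec.map g ≫ pairChart n m R q) :
    f.hom.comp (algebraMap R (PairRing n m R p)) = g.hom.comp (algebraMap R (PairRing n m R q)) ∧
      ∃ c d : C, (∀ k, g.hom (uC n m R q k) = c * f.hom (uC n m R p k)) ∧
        (∀ k, g.hom (vC n m R q k) = d * f.hom (vC n m R p k)) := by
  have e1 := congrArg (fun t => t ≫ pullback.fst _ _) e
  have e2 := congrArg (fun t => t ≫ pullback.snd _ _) e
  simp only [Category.assoc, pairChart_fst_eq, pairChart_snd_eq, SpecMap_tuplePt] at e1 e2
  refine ⟨?_, ?_⟩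
  · have h := congrArg (fun t => t ≫ ProjSpace.toSpec n R) e1
    simp only [tuplePt_toSpec] at h
    exact congrArg CommRingCat.Hom.hom (Spec.map_injective h)
  · obtain ⟨c, hc⟩ := exists_smul_of_tuplePt_eq _ _ p.1 q.1 _ _ e1
    obtain ⟨d, hd⟩ := exists_smul_of_tuplePt_eq _ _ p.2 q.2 _ _ e2
    exact ⟨c, d, hc, hd⟩

variable {n m}
variable {N : ℕ} (e : Fin (n + 1) × Fin (m + 1) ≃ Fin (N + 1))

/-- The coordinates of the Segre map on a product chart. -/
noncomputable def segreC (p : Fin (n + 1) × Fin (m + 1)) (k : Fin (N + 1)) : PairRing n m R p :=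
  uC n m R p (e.symm k).1 * vC n m R p (e.symm k).2

lemma isUnit_segreC (p : Fin (n + 1) × Fin (m + 1)) : IsUnit (segreC R e p (e p)) := by
  rw [segreC, Equiv.symm_apply_apply, uC_self, vC_self, one_mul]; exact isUnit_one

lemma exists_segre :
    ∃ φ : pullback (ProjSpace.toSpec n R) (ProjSpace.toSpec m R) ⟶ ProjSpace N R,
      ∀ p, pairChart n m R p ≫ φ = tuplePt (B := .of (PairRing n m R p))
        (algebraMap R (PairRing n m R p)) (segreC R e p) (e p) (isUnit_segreC R e p) :=
  exists_hom_of_tuples (pairCover n m R) (fun p => algebraMap R (PairRing n m R p))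
    (fun p => segreC R e p) e (fun p => isUnit_segreC R e p) (fun p q C f g h => by
      obtain ⟨hs, c, d, hc, hd⟩ := proportional n m R p q C f g h
      refine ⟨hs, c * d, fun k => ?_⟩
      change g.hom (uC n m R q (e.symm k).1 * vC n m R q (e.symm k).2) =
        c * d * f.hom (uC n m R p (e.symm k).1 * vC n m R p (e.symm k).2)
      erw [map_mul g.hom, map_mul f.hom, hc, hd]
      exact mul_mul_mul_comm _ _ _ _)

/-- The Segre map. -/
noncomputable def segre : pullback (ProjSpace.toSpec n R) (ProjSpace.toSpec m R) ⟶ ProjSpace N R :=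
  (exists_segre R e).choose

lemma pairChart_segre (p : Fin (n + 1) × Fin (m + 1)) :
    pairChart n m R p ≫ segre R e = tuplePt (B := .of (PairRing n m R p))
      (algebraMap R (PairRing n m R p)) (segreC R e p) (e p) (isUnit_segreC R e p) :=
  (exists_segre R e).choose_spec p

lemma segre_toSpec :
    segre R e ≫ ProjSpace.toSpec N R = pullback.fst _ _ ≫ ProjSpace.toSpec n R := by
  refine (pairCover n m R).openCover.hom_ext _ _ fun p => ?_
  show pairChart n m R p ≫ _ = pairChart n m R p ≫ _
  rw [← Category.assoc, pairChart_segre, tuplePt_toSpec, ← Category.assoc, pairChart_fst_eq,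
    tuplePt_toSpec]

lemma segre_preimage (p : Fin (n + 1) × Fin (m + 1)) :
    segre R e ⁻¹ᵁ Proj.basicOpen (polyGrading N R) (X (e p)) = (pairChart n m R p).opensRange := by
  apply TopologicalSpace.Opens.ext
  ext z
  obtain ⟨q, w, rfl⟩ := (pairCover n m R).openCover.exists_eq z
  show w ∈ pairChart n m R q ⁻¹ᵁ (segre R e ⁻¹ᵁ Proj.basicOpen _ _) ↔
    w ∈ pairChart n m R q ⁻¹ᵁ (pairChart n m R p).opensRange
  rw [← Scheme.Hom.comp_preimage, pairChart_segre, tuplePt_preimage_X, range_pairChart,
    Scheme.Hom.preimage_inf, ← Scheme.Hom.comp_preimage, ← Scheme.Hom.comp_preimage,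
    pairChart_fst_eq, pairChart_snd_eq, tuplePt_preimage_X, tuplePt_preimage_X, segreC,
    Equiv.symm_apply_apply, PrimeSpectrum.basicOpen_mul]
  rfl

lemma segre_chartHom_surjective (p : Fin (n + 1) × Fin (m + 1)) :
    Function.Surjective (chartHom (algebraMap R (PairRing n m R p)) (segreC R e p) (e p)
      (isUnit_segreC R e p)) := by
  set ψ := chartHom (algebraMap R (PairRing n m R p)) (segreC R e p) (e p) (isUnit_segreC R e p)
  have hscal : ∀ r, algebraMap R (PairRing n m R p) r ∈ ψ.range := fun r =>
    ⟨_, chartHom_algebraMap _ _ _ _ r⟩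
  have hseg : ∀ k, segreC R e p k ∈ ψ.range := fun k => ⟨coord (e p) k, by
    have := chartHom_coord (algebraMap R (PairRing n m R p)) (segreC R e p) (e p)
      (isUnit_segreC R e p) k
    have h1 : segreC R e p (e p) = 1 := by
      rw [segreC, Equiv.symm_apply_apply, uC_self, vC_self, one_mul]
    rw [h1, mul_one] at this
    exact this⟩
  have hu : ∀ k, uC n m R p k ∈ ψ.range := fun k => by
    have := hseg (e (k, p.2))
    rwa [segreC, Equiv.symm_apply_apply, vC_self, mul_one] at this
  have hv : ∀ k, vC n m R p k ∈ ψ.range := fun k => by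
    have := hseg (e (p.1, k))
    rwa [segreC, Equiv.symm_apply_apply, uC_self, one_mul] at this
  have hA : ∀ x : ChartRing n R p.1, (x ⊗ₜ 1 : PairRing n m R p) ∈ ψ.range := fun x => by
    obtain ⟨P, rfl⟩ := exists_eq_eval_coord p.1 x
    induction P using MvPolynomial.induction_on with
    | C r => rw [eval₂Hom_C]; exact hscal r
    | add a b ha hb => rw [map_add, TensorProduct.add_tmul]; exact add_mem ha hb
    | mul_X a k ha =>
      rw [map_mul, eval₂Hom_X']
      have := mul_mem ha (hu k)
      rwa [uC, Algebra.TensorProduct.tmul_mul_tmul, one_mul] at this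
  have hB : ∀ x : ChartRing m R p.2, (1 ⊗ₜ x : PairRing n m R p) ∈ ψ.range := fun x => by
    obtain ⟨P, rfl⟩ := exists_eq_eval_coord p.2 x
    induction P using MvPolynomial.induction_on with
    | C r =>
      rw [eval₂Hom_C]
      show (1 ⊗ₜ algebraMap R (ChartRing m R p.2) r : PairRing n m R p) ∈ ψ.range
      have := hscal r
      rwa [← (Algebra.TensorProduct.includeRight (R := R) (A := ChartRing n R p.1)
        (B := ChartRing m R p.2)).commutes r] at this
    | add a b ha hb => rw [map_add, TensorProduct.tmul_add]; exact add_mem ha hb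
    | mul_X a k ha =>
      rw [map_mul, eval₂Hom_X']
      have := mul_mem ha (hv k)
      rwa [vC, Algebra.TensorProduct.tmul_mul_tmul, one_mul] at this
  intro z
  show z ∈ ψ.range
  induction z using TensorProduct.induction_on with
  | zero => exact zero_mem _
  | tmul x y =>
    have := mul_mem (hA x) (hB y)
    rwa [Algebra.TensorProduct.tmul_mul_tmul, one_mul, mul_one] at this
  | add a b ha hb => exact add_mem ha hb

/-- The charts of the target as an open cover. -/
noncomputable def chartCover (N : ℕ) : (ProjSpace N R).AffineOpenCover where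
  I₀ := Fin (N + 1)
  X i := .of (ChartRing N R i)
  f i := chart N R i
  idx z := (TopologicalSpace.Opens.mem_iSup.mp ((iSup_chart (n := N) (R := R)).ge (x := z) trivial)).choose
  covers z := by
    have h := (TopologicalSpace.Opens.mem_iSup.mp ((iSup_chart (n := N) (R := R)).ge (x := z) trivial)).choose_spec
    rw [← range_chart] at h
    exact h

theorem isClosedImmersion_segre : IsClosedImmersion (segre R e) := by
  refine IsZariskiLocalAtTarget.of_openCover (P := @IsClosedImmersion) (chartCover R N).openCover fun k => ?_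
  obtain ⟨p, rfl⟩ := e.surjective k
  set ψ := CommRingCat.ofHom (chartHom (algebraMap R (PairRing n m R p)) (segreC R e p) (e p)
    (isUnit_segreC R e p))
  haveI : IsClosedImmersion (Spec.map ψ) :=
    IsClosedImmersion.spec_of_surjective _ (segre_chartHom_surjective R e p)
  have hpb : IsPullback (Spec.map ψ) (pairChart n m R p) (chart N R (e p)) (segre R e) := by
    refine IsOpenImmersion.isPullback _ _ _ _ (pairChart_segre R e p) ?_
    rw [← segre_preimage R e p, range_chart]
  have hpb' := IsPullback.of_hasPullback (segre R e) (chart N R (e p))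
  have key : (hpb.flip.isoPullback).inv ≫ Spec.map ψ = pullback.snd (segre R e) (chart N R (e p)) :=
    hpb.flip.isoPullback_inv_snd
  show IsClosedImmersion (pullback.snd (segre R e) (chart N R (e p)))
  rw [← key]
  infer_instance

end Groth.L18.PS
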