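import Groth.Agent.L15.HilbGrowth
import Groth.Agent.L12.GrCI.Hilbert
import Mathlib.Algebra.Polynomial.Taylor

/-!
# Hilbert functions of hypersurface sections; finite differences of polynomials
-/

set_option autoImplicit false

universe u

open Polynomial

namespace Groth.L18.HilbDiff

/-- The difference `P(X) - P(X - c)`. -/
theorem diff_natDegree_leadingCoeff {K : Type*} [Field K] [CharZero K] (P : K[X]) (c : K) (hc : c ≠ 0)
    (hP : 1 ≤ P.natDegree) :
    (P - taylor (-c) P).natDegree + 1 = P.natDegree ∧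
      (P - taylor (-c) P).leadingCoeff = c * P.natDegree * P.leadingCoeff := by
  obtain ⟨n, hn⟩ : ∃ n, P.natDegree = n + 1 := ⟨P.natDegree - 1, by omega⟩
  have ha : P.leadingCoeff ≠ 0 := leadingCoeff_ne_zero.2 fun h => by simp [h] at hn
  have htop : ∀ j, n + 1 ≤ j → (P - taylor (-c) P).coeff j = 0 := by
    intro j hj
    rw [coeff_sub]
    rcases hj.eq_or_lt with rfl | hlt
    · rw [← hn, coeff_taylor_natDegree, leadingCoeff, sub_self]
    · rw [coeff_eq_zero_of_natDegree_lt (by omega),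
        coeff_eq_zero_of_natDegree_lt (by rw [natDegree_taylor]; omega), sub_self]
  have hcoeff : (P - taylor (-c) P).coeff n = c * P.natDegree * P.leadingCoeff := by
    have hdeg : (hasseDeriv n P).natDegree < 2 := by
      have := natDegree_hasseDeriv_le P n
      omega
    rw [coeff_sub, taylor_coeff, eval_eq_sum_range' hdeg, Finset.sum_range_succ, Finset.sum_range_one,
      hasseDeriv_coeff, hasseDeriv_coeff, leadingCoeff, hn]
    simp only [Nat.zero_add, Nat.choose_self, pow_zero, pow_one, Nat.cast_one, one_mul, mul_one,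
      Nat.add_comm 1 n, Nat.choose_succ_self_right]
    push_cast
    ring
  have hne : (P - taylor (-c) P).coeff n ≠ 0 := by
    rw [hcoeff]
    exact mul_ne_zero (mul_ne_zero hc (by rw [hn]; exact_mod_cast n.succ_ne_zero)) ha
  have hd : (P - taylor (-c) P).natDegree = n :=
    le_antisymm (natDegree_le_iff_coeff_eq_zero.2 fun j hj => htop j hj) (le_natDegree_of_ne_zero hne)
  exact ⟨by omega, by rw [leadingCoeff, hd]; exact hcoeff⟩

variable {k : Type u} [Field k] {n : ℕ}

open Groth.L15.HilbGrowth (hf hf_add_finrank)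

/-- The Hilbert function of a section by a homogeneous non-zero-divisor. -/
theorem hf_sup_span {I : Ideal (MvPolynomial (Fin (n + 1)) k)}
    (hI : I.IsHomogeneous (CohB1.polyGrading n k)) {f : MvPolynomial (Fin (n + 1)) k} {d : ℕ}
    (hf' : f.IsHomogeneous d) (hreg : ∀ y, f * y ∈ I → y ∈ I) (m : ℕ) :
    hf (I ⊔ Ideal.span {f}) (m + d) + hf I m = hf I (m + d) := by
  have hJ : Groth.L12.GrCI.Homog (1 : Fin (n + 1) → ℕ) I := fun j hj u => by
    have h := hI u hj
    simp only [CohB1.polyGrading] at h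
    erw [MvPolynomial.decomposition.decompose'_apply] at h
    exact h
  have h := Groth.L12.GrCI.finrank_piece_step (w := (1 : Fin (n + 1) → ℕ)) (fun _ => Nat.one_pos) hJ
    (J' := I ⊔ Ideal.span {f}) (e := d) (g := f) hf' rfl hreg (m + d)
  rw [if_pos (Nat.le_add_left d m), Nat.add_sub_cancel] at h
  change (hf (I ⊔ Ideal.span {f}) (m + d) : ℤ) = (hf I (m + d) : ℤ) - (hf I m : ℤ) at h
  omega

/-- A polynomial giving the Hilbert function, as a function of `hf`. -/
theorem eval_eq_hf {I : Ideal (MvPolynomial (Fin (n + 1)) k)} {P : ℚ[X]} {m : ℕ}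
    (h : P.eval (m : ℚ) = (Module.finrank k ↥(CohB1.polyGrading n k m) : ℚ) -
      Module.finrank k ↥(Submodule.restrictScalars k I ⊓ CohB1.polyGrading n k m)) :
    P.eval (m : ℚ) = hf I m := by
  rw [h, ← hf_add_finrank I m, Nat.cast_add, add_sub_cancel_right]

/-- The Hilbert polynomial of a section by a homogeneous non-zero-divisor. -/
theorem poly_eq {I : Ideal (MvPolynomial (Fin (n + 1)) k)}
    (hI : I.IsHomogeneous (CohB1.polyGrading n k)) {f : MvPolynomial (Fin (n + 1)) k} {d : ℕ}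
    (hf' : f.IsHomogeneous d) (hreg : ∀ y, f * y ∈ I → y ∈ I) (P Q : ℚ[X])
    (hP : ∃ m₀ : ℕ, ∀ m, m₀ ≤ m → P.eval (m : ℚ) = hf I m)
    (hQ : ∃ m₀ : ℕ, ∀ m, m₀ ≤ m → Q.eval (m : ℚ) = hf (I ⊔ Ideal.span {f}) m) :
    Q = P - taylor (-(d : ℚ)) P := by
  obtain ⟨a, ha⟩ := hP
  obtain ⟨b, hb⟩ := hQ
  refine eq_of_infinite_eval_eq _ _ (Set.Infinite.mono ?_
    ((Set.Ici_infinite (max a b + d)).image (Nat.cast_injective (R := ℚ)).injOn))
  rintro _ ⟨m, hm, rfl⟩
  obtain ⟨m, rfl⟩ : ∃ j, m = j + d := ⟨m - d, by have : max a b + d ≤ m := hm; omega⟩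
  have hm' : max a b ≤ m := by have : max a b + d ≤ m + d := hm; omega
  show Q.eval _ = (P - taylor _ P).eval _
  rw [eval_sub, taylor_eval, hb _ (by omega), ha _ (by omega), ← hf_sup_span hI hf' hreg m]
  push_cast
  rw [show (m : ℚ) + d + -(d : ℚ) = m by ring, ha m (by omega)]
  ring

end Groth.L18.HilbDiff
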