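import Groth.Agent.L18.FormalRefProper
import Groth.Agent.L18.LefConnected
import Groth.Agent.L16.HomSh.FreeFrames
import Groth.Agent.L23.RelGen.LocFreeDesc
import Groth.Prelude.Def_Lef

/-!
# Homomorphisms to the completion of the structure sheaf and formal sections of the dual

For finite locally free `D`, `Hom(D, O) → lim Hom(D, O / I^(n+1))` is bijective as soon as the global sections of
`Hom(D, O)` are its formal sections.
-/

set_option autoImplicit false
set_option linter.style.haveILetI false
set_option linter.unusedSectionVars false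
set_option backward.isDefEq.respectTransparency false
set_option backward.isDefEq.respectTransparency.types false
universe u

open CategoryTheory CategoryTheory.Limits AlgebraicGeometry Opposite TopologicalSpace
open Groth.L16.HomSh

noncomputable section

namespace Groth.L18.HomFormal

open Groth.L18.Frame (rs)
open Groth.L18.FormalLevels (Q unitQ transU)

variable {X : Scheme.{u}}

section Abstract

variable [IsLocallyNoetherian X] (I : X.IdealSheafData) (F : X.Modules) (hF : Coh.IsCoh F)
include hF

/-- A tower with the quotients of the levels on affine opens has the same formal sections. -/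
theorem tower_bijective (P : ℕ → X.Modules) (v : ∀ n, F ⟶ P n) (T : ∀ n, P (n + 1) ⟶ P n)
    (hT : ∀ n, v (n + 1) ≫ T n = v n)
    (hv : ∀ n (V : X.Opens), IsAffineOpen V → Function.Surjective ((v n).app V) ∧
      ∀ a b, ((v n).app V a = (v n).app V b ↔ (unitQ I F n).app V a = (unitQ I F n).app V b))
    (h : (∀ σ : Γ(F, ⊤), (∀ n, (unitQ I F n).app ⊤ σ = 0) → σ = 0) ∧
      (∀ y : ∀ n, Γ(Q I F n, ⊤), (∀ n, (transU I F n).app ⊤ (y (n + 1)) = y n) →
        ∃ σ, ∀ n, (unitQ I F n).app ⊤ σ = y n)) :
    (∀ σ : Γ(F, ⊤), (∀ n, (v n).app ⊤ σ = 0) → σ = 0) ∧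
    (∀ y : ∀ n, Γ(P n, ⊤), (∀ n, (T n).app ⊤ (y (n + 1)) = y n) →
      ∃ σ : Γ(F, ⊤), ∀ n, (v n).app ⊤ σ = y n) :=
  Groth.L18.FormalLevels.transfer_bijective I F hF ⊤ P v T hT (fun n V hV _ => hv n V hV)
    (fun n a b hab => by rwa [Groth.L18.Frame.rs_self, Groth.L18.Frame.rs_self] at hab) h.1 h.2
    ⟨fun y _ h0 n => by simpa only [Groth.L18.Frame.rs_self] using h0 n,
      fun z hz => ⟨z, hz, fun n => Groth.L18.Frame.rs_self _ _ _⟩⟩

end Abstract

section Hom

variable (D : X.Modules) (hD : FlatMod.IsFinLocFree D) (J : X.IdealSheafData)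

/-- On an affine open the homomorphisms to `O / J` are the homomorphisms to `O` modulo `J`. -/
theorem post_facts (hD : FlatMod.IsFinLocFree D) {V : X.Opens} (hV : IsAffineOpen V) :
    Function.Surjective ((post D (ClSub.toSubscheme J)).app V) ∧
    ∀ a b, ((post D (ClSub.toSubscheme J)).app V a = (post D (ClSub.toSubscheme J)).app V b ↔
      a - b ∈ J.ideal ⟨V, hV⟩ • (⊤ : Submodule Γ(X, V) Γ(homMod D (Coh.structureModule X), V))) := by
  classical
  haveI : Coh.IsQCoh D := Groth.L04.FinLocFreeHom.isQCoh_of_finLocFree hD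
  obtain ⟨hfp, hproj⟩ := Groth.L23.RelGen.sections_of_isFinLocFree hD hV
  haveI := hfp
  haveI := hproj
  obtain ⟨e, he⟩ := exists_linearEquiv (M := D) (N := Coh.structureModule X) hV
  obtain ⟨e', he'⟩ := exists_linearEquiv (M := D) (N := ClSub.quotMod J) hV
  let π : Γ(Coh.structureModule X, V) →ₗ[Γ(X, V)] Γ(ClSub.quotMod J, V) :=
    { toFun := fun a => (ClSub.toSubscheme J).app V a
      map_add' := fun a b => map_add _ a b
      map_smul' := fun r a => (ClSub.toSubscheme J).app_smul r a }
  have hπ : Function.Surjective π := J.subschemeι_app_surjective ⟨V, hV⟩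
  have hker : ∀ a : Γ(Coh.structureModule X, V), π a = 0 → (show Γ(X, V) from a) ∈ J.ideal ⟨V, hV⟩ := fun a ha => by
    rw [← J.ker_subschemeι_app ⟨V, hV⟩]
    exact RingHom.mem_ker.2 ha
  have hev : ∀ a, e' ((post D (ClSub.toSubscheme J)).app V a) = π.comp (e a) := fun a => LinearMap.ext fun x => by
    rw [he', LinearMap.comp_apply, he]
    exact ev_post _ V a le_rfl x
  refine ⟨fun t => ?_, fun a b => ?_⟩
  · obtain ⟨l, hl⟩ := Module.projective_lifting_property π (e' t) hπ
    exact ⟨e.symm l, e'.injective (by rw [hev, LinearEquiv.apply_symm_apply, hl])⟩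
  · rw [← sub_eq_zero, ← map_sub, ← e'.map_eq_zero_iff, hev]
    refine ⟨fun h => ?_, fun h => ?_⟩
    · obtain ⟨n, p, s, hp⟩ : ∃ (n : ℕ) (p : (Fin n → Γ(X, V)) →ₗ[Γ(X, V)] Γ(D, V))
          (s : Γ(D, V) →ₗ[Γ(X, V)] (Fin n → Γ(X, V))), p.comp s = LinearMap.id := by
        obtain ⟨n, p, hp⟩ := Module.Finite.exists_fin' Γ(X, V) Γ(D, V)
        obtain ⟨s, hs⟩ := Module.projective_lifting_property p LinearMap.id hp
        exact ⟨n, p, s, hs⟩
      have hsum : a - b = ∑ i, (show Γ(X, V) from e (a - b) (p (Pi.single i 1))) •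
          e.symm ((LinearMap.proj i).comp s) := by
        refine e.injective (LinearMap.ext fun x => ?_)
        simp only [map_sum, map_smul, LinearEquiv.apply_symm_apply, LinearMap.sum_apply]
        have hx : x = ∑ i, s x i • p (Pi.single i 1) := by
          conv_lhs => rw [show x = p (s x) from (LinearMap.congr_fun hp x).symm, pi_eq_sum_univ (s x)]
          simp only [map_sum, map_smul]
          congr 1
          ext i
          congr 2
          ext k
          simp [Pi.single_apply, eq_comm]
        conv_lhs => rw [hx, map_sum]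
        refine Finset.sum_congr rfl fun i _ => ?_
        rw [map_smul]
        exact mul_comm (show Γ(X, V) from _) _
      rw [hsum]
      exact sum_mem fun i _ => Submodule.smul_mem_smul (hker _ (LinearMap.congr_fun h _)) Submodule.mem_top
    · refine LinearMap.ext fun x => ?_
      suffices key : ∀ c ∈ J.ideal ⟨V, hV⟩ • (⊤ : Submodule Γ(X, V) Γ(homMod D (Coh.structureModule X), V)),
          π (e c x) = 0 from key _ h
      intro c hc
      induction hc using Submodule.smul_induction_on' with
      | smul r hr m _ =>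
        rw [map_smul, LinearMap.smul_apply]
        rw [← J.ker_subschemeι_app ⟨V, hV⟩, RingHom.mem_ker] at hr
        show (J.subschemeι.app V) (r * (show Γ(X, V) from e m x)) = 0
        rw [map_mul, hr, zero_mul]
      | add p _ q _ hp hq => rw [map_add, LinearMap.add_apply, map_add, hp, hq, add_zero]

/-- The homomorphisms to the formal completion from the formal sections of the dual. -/
theorem homToFormal_bijective [IsLocallyNoetherian X] (hD : FlatMod.IsFinLocFree D) (I : X.IdealSheafData)
    (h : (∀ σ : Γ(homMod D (Coh.structureModule X), ⊤),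
        (∀ n, (unitQ I (homMod D (Coh.structureModule X)) n).app ⊤ σ = 0) → σ = 0) ∧
      (∀ y : ∀ n, Γ(Q I (homMod D (Coh.structureModule X)) n, ⊤),
        (∀ n, (transU I (homMod D (Coh.structureModule X)) n).app ⊤ (y (n + 1)) = y n) →
        ∃ σ, ∀ n, (unitQ I (homMod D (Coh.structureModule X)) n).app ⊤ σ = y n)) :
    Lef.HomToFormalBijective I D := by
  have hE : Coh.IsCoh (homMod D (Coh.structureModule X)) :=
    Groth.L16.NegPow.isCoh_of_isFinLocFree (isFinLocFree_homMod hD
      (Groth.L16.Existence.isFinLocFree_of_isInvertible (Groth.L18.Ample.isInvertible_structureModule X)))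
  haveI := hE.1
  have main := tower_bijective I _ hE (fun n => homMod D (ClSub.quotMod (I ^ (n + 1))))
    (fun n => post D (ClSub.toSubscheme (I ^ (n + 1)))) (fun n => post D (Lef.quotMap (Lef.pow_succ_le I n)))
    (fun n => by
      rw [← post_comp]
      exact congrArg (post D) (Groth.L18.LefConnected.toSubscheme_quotMap (Lef.pow_succ_le I n)))
    (fun n V hV => ⟨(post_facts D (I ^ (n + 1)) hD hV).1, fun a b =>
      ((post_facts D (I ^ (n + 1)) hD hV).2 a b).trans
        ((Groth.L18.FormalLevels.unitFacts I _ n V hV).2 a b).symm⟩) h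
  refine ⟨fun φ ψ hφ => ?_, fun y hy => ?_⟩
  · refine (globalEquiv D (Coh.structureModule X)).injective (sub_eq_zero.1 (main.1 _ fun n => ?_))
    rw [map_sub, sub_eq_zero]
    exact (globalEquiv_comp D _ φ _).symm.trans ((congrArg (globalEquiv D _) (hφ n)).trans (globalEquiv_comp D _ ψ _))
  · obtain ⟨σ, hσ⟩ := main.2 (fun n => globalEquiv D (ClSub.quotMod (I ^ (n + 1))) (y n)) fun n =>
      (globalEquiv_comp D _ (y (n + 1)) _).symm.trans (congrArg (globalEquiv D _) (hy n))
    refine ⟨(globalEquiv D (Coh.structureModule X)).symm σ, fun n => (globalEquiv D _).injective ?_⟩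
    rw [globalEquiv_comp, AddEquiv.apply_symm_apply]
    exact hσ n

end Hom

end Groth.L18.HomFormal
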