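import Groth.Agent.L10.SiteRightDerived
import Mathlib.CategoryTheory.Preadditive.Yoneda.Limits
import Mathlib.CategoryTheory.Limits.FunctorCategory.Basic

/-! Right derived functors of `F ↦ (U ↦ Hom(P U, F))` are `U ↦ Ext(P U, F)`. -/

universe w v u v₁ u₁

open CategoryTheory CategoryTheory.Limits CategoryTheory.Abelian Opposite

set_option backward.defeqAttrib.useBackward true
set_option backward.isDefEq.respectTransparency false
set_option backward.isDefEq.respectTransparency.types false

namespace Groth.L18.HomPDerived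

variable {C : Type u₁} [Category.{v₁} C] {A : Type u} [Category.{w} A] [Abelian A]
  (P : C ⥤ A)

/-- `F ↦ (U ↦ Hom(P U, F))`. -/
noncomputable abbrev homP : A ⥤ (Cᵒᵖ ⥤ AddCommGrpCat.{w}) := (P.op ⋙ preadditiveCoyoneda).flip

instance additive_homP : (homP P).Additive where
  map_add {X Y f g} := by
    ext U x
    exact Preadditive.comp_add _ _ _ x f g

theorem preservesFiniteLimits_homP : PreservesFiniteLimits (homP P) :=
  ⟨fun J _ _ => preservesLimitsOfShape_of_evaluation _ J fun U =>
    inferInstanceAs (PreservesLimitsOfShape J (preadditiveCoyoneda.obj (op (P.obj U.unop))))⟩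

variable [HasExt.{w} A]

/-- `U ↦ Ext(P U, F)`. -/
noncomputable def extPre (F : A) (n : ℕ) : Cᵒᵖ ⥤ AddCommGrpCat.{w} where
  obj U := AddCommGrpCat.of (Ext.{w} (P.obj U.unop) F n)
  map f := AddCommGrpCat.ofHom ((Ext.mk₀ (P.map f.unop)).precomp F (zero_add n))
  map_id U := by
    ext x
    exact (congrArg (fun t => (Ext.mk₀ t).comp x (zero_add n)) (P.map_id U.unop)).trans (Ext.mk₀_id_comp x)
  map_comp {U V W} f g := by
    ext x
    exact (congrArg (fun t => (Ext.mk₀ t).comp x (zero_add n)) (P.map_comp g.unop f.unop)).trans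
      (Ext.mk₀_comp_mk₀_assoc _ _ x).symm

variable {F : A} (R : InjectiveResolution F)

noncomputable abbrev pcx : CochainComplex (Cᵒᵖ ⥤ AddCommGrpCat.{w}) ℕ :=
  ((homP P).mapHomologicalComplex _).obj R.cocomplex

theorem cyc_comp_d {n : ℕ} (U : Cᵒᵖ) (x : ((pcx P R).cycles n).obj U) :
    (((pcx P R).iCycles n).app U x : P.obj U.unop ⟶ R.cocomplex.X n) ≫ R.cocomplex.d n (n+1) = 0 :=
  congr($(congr_app ((pcx P R).iCycles_d n (n+1)) U) x)

theorem extMk_congr {X : A} (n : ℕ) {a b : X ⟶ R.cocomplex.X n}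
    {ha : a ≫ R.cocomplex.d n (n+1) = 0} (h : a = b) :
    R.extMk a (n+1) rfl ha = R.extMk b (n+1) rfl (h ▸ ha) := by
  subst h; rfl

noncomputable def toExt (n : ℕ) : (pcx P R).cycles n ⟶ extPre P F n where
  app U := AddCommGrpCat.ofHom
    { toFun := fun x => R.extMk (((pcx P R).iCycles n).app U x : P.obj U.unop ⟶ R.cocomplex.X n) (n+1) rfl
        (cyc_comp_d P R U x)
      map_zero' := (extMk_congr R n (map_zero _)).trans (R.extMk_zero (n+1) rfl)
      map_add' := fun x y => (extMk_congr R n (map_add _ x y)).trans (R.add_extMk _ _ _ _ _ _).symm }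
  naturality {U V} f := by
    ext x
    have hs : (((pcx P R).iCycles n).app V (((pcx P R).cycles n).map f x) : P.obj V.unop ⟶ R.cocomplex.X n) =
        P.map f.unop ≫ ((pcx P R).iCycles n).app U x :=
      congr($(((pcx P R).iCycles n).naturality f) x)
    refine Eq.trans ?_ (R.mk₀_comp_extMk _ (n+1) rfl (cyc_comp_d P R U x) (P.map f.unop)).symm
    exact extMk_congr R n (ha := cyc_comp_d P R V _) hs

theorem nonempty_homology_iso (n : ℕ) :
    Nonempty ((pcx P R).homology (n+1) ≅ extPre P F (n+1)) := by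
  let φ := toExt P R (n+1)
  have hz : (pcx P R).toCycles n (n+1) ≫ φ = 0 := by
    ext U : 2
    refine AddCommGrpCat.hom_ext (AddMonoidHom.ext fun y => ?_)
    refine (R.extMk_eq_zero_iff _ (n+2) rfl (cyc_comp_d P R U _) n rfl).2 ⟨y, ?_⟩
    exact congr($(congr_app ((pcx P R).toCycles_i n (n+1)).symm U) y)
  have hepi : Epi φ := by
    have : ∀ U, Epi (φ.app U) := fun U => by
      rw [AddCommGrpCat.epi_iff_surjective]
      intro ξ
      obtain ⟨f, hf, rfl⟩ := R.extMk_surjective ξ (n+2) rfl
      have hk : ((ShortComplex.mk _ _ ((pcx P R).iCycles_d (n+1) (n+2))).map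
          ((evaluation _ _).obj U)).Exact :=
        (ShortComplex.exact_of_f_is_kernel _ ((pcx P R).cyclesIsKernel (n+1) (n+2) (by simp))).map _
      rw [ShortComplex.ab_exact_iff] at hk
      obtain ⟨x, hx⟩ := hk f hf
      exact ⟨x, extMk_congr R _ (ha := cyc_comp_d P R U x) hx⟩
    exact NatTrans.epi_of_epi_app _
  have hex : (ShortComplex.mk _ _ hz).Exact := by
    rw [ShortComplex.exact_iff_isZero_homology]
    refine Functor.isZero _ fun U => ?_
    refine IsZero.of_iso ?_ ((ShortComplex.mk _ _ hz).mapHomologyIso ((evaluation _ _).obj U)).symm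
    rw [← ShortComplex.exact_iff_isZero_homology, ShortComplex.ab_exact_iff]
    intro x hx
    obtain ⟨g, hg⟩ := (R.extMk_eq_zero_iff _ (n+2) rfl (cyc_comp_d P R U x) n rfl).1 hx
    refine ⟨g, ?_⟩
    have : Mono (((pcx P R).iCycles (n+1)).app U) := inferInstance
    apply (AddCommGrpCat.mono_iff_injective _).1 this
    exact (congr($(congr_app ((pcx P R).toCycles_i n (n+1)) U) g)).trans hg
  exact ⟨((pcx P R).homologyIsCokernel n (n+1) (by simp)).coconePointUniqueUpToIso hex.gIsCokernel⟩

theorem nonempty_rightDerived_iso [HasInjectiveResolutions A] (F : A) (n : ℕ) :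
    Nonempty (((homP P).rightDerived n).obj F ≅ extPre P F n) := by
  cases n with
  | zero =>
    haveI := preservesFiniteLimits_homP P
    refine ⟨(homP P).rightDerivedZeroIsoSelf.app F ≪≫
      NatIso.ofComponents (fun U => AddEquiv.toAddCommGrpIso (Ext.addEquiv₀ (X := P.obj U.unop) (Y := F)).symm)
        (fun {U V} f => ?_)⟩
    ext x
    exact (Ext.mk₀_comp_mk₀ (P.map f.unop) x).symm
  | succ n =>
    obtain ⟨e⟩ := nonempty_homology_iso P (injectiveResolution F) n
    exact ⟨(injectiveResolution F).isoRightDerivedObj _ (n+1) ≪≫ e⟩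

end Groth.L18.HomPDerived
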