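import Groth.Agent.L18.AmpleAvoid
import Groth.Agent.L18.AmpleOps
import Groth.Agent.L20.ResAmple

/-!
# Affine non-vanishing loci through integral points over a field

If `L` is ample on `X` and `g : Y ⟶ X` is a morphism from an affine scheme whose ring of functions is
integral over a field, then the image of `g` is contained in affine loci `X_s` inside any given open
containing it.
-/

set_option autoImplicit false
set_option backward.isDefEq.respectTransparency false
universe u

open CategoryTheory AlgebraicGeometry TopologicalSpace Opposite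

noncomputable section

namespace Groth.L18.IntPoints

open Groth.L18.Frame (rs ro rs_rs rs_self rs_smul ro_ro IsFrame)
open Groth.L18.GenLoc Groth.L18.SecTwistExt Groth.L18.Ample

/-! ### Algebra -/

theorem isIntegral_inv {k R : Type*} [Field k] [CommRing R] [Algebra k R] {u v : R}
    (hu : IsIntegral k u) (huv : u * v = 1) : IsIntegral k v := by
  let B := Algebra.adjoin k {u}
  let b : B := ⟨u, Algebra.self_mem_adjoin_singleton k u⟩
  haveI : Module.Finite k B := Algebra.finite_adjoin_simple_of_isIntegral hu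
  haveI : IsArtinianRing B := isArtinian_of_tower k inferInstance
  have hb : b ∈ nonZeroDivisors B :=
    comap_nonZeroDivisors_le_of_injective (f := B.subtype) Subtype.val_injective
      (IsUnit.of_mul_eq_one v huv).mem_nonZeroDivisors
  obtain ⟨w, hw⟩ := isUnit_iff_exists_inv.1 (IsArtinianRing.isUnit_of_mem_nonZeroDivisors hb)
  have h1 : u * (w : R) = 1 := congrArg Subtype.val hw
  have h2 : (w : R) = v := by
    calc (w : R) = (w : R) * (u * v) := by rw [huv, mul_one]
      _ = (u * w) * v := by ring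
      _ = v := by rw [h1, one_mul]
  exact h2 ▸ (Algebra.IsIntegral.isIntegral (R := k) w).map B.val

theorem isIntegral_away {k A R : Type*} [Field k] [CommRing A] [CommRing R] [Algebra k A] [Algebra A R]
    [Algebra k R] [IsScalarTower k A R] [Algebra.IsIntegral k A] (a : A) [IsLocalization.Away a R] :
    Algebra.IsIntegral k R := by
  refine ⟨fun x => ?_⟩
  obtain ⟨m, b, hb⟩ := IsLocalization.Away.surj a x
  obtain ⟨v, hv⟩ := isUnit_iff_exists_inv.1 (IsLocalization.Away.algebraMap_isUnit (S := R) a)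
  have hi : ∀ c : A, IsIntegral k (algebraMap A R c) := fun c =>
    (Algebra.IsIntegral.isIntegral (R := k) c).map (IsScalarTower.toAlgHom k A R)
  have hx : x = algebraMap A R b * v ^ m := by
    rw [← hb, mul_assoc, ← mul_pow, hv, one_pow, mul_one]
  rw [hx]
  exact (hi b).mul ((isIntegral_inv (hi a) hv).pow m)

/-- `x^N = 1` or `x` is no root of unity at all. -/
def Rt {K : Type*} [Monoid K] (N : ℕ) (x : K) : Prop := x ^ N = 1 ∨ ∀ M, 0 < M → x ^ M ≠ 1

theorem Rt.of_dvd {K : Type*} [Monoid K] {N N' : ℕ} {x : K} (h : Rt N x) (hd : N ∣ N') : Rt N' x := by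
  refine h.imp (fun h1 => ?_) id
  obtain ⟨c, rfl⟩ := hd
  rw [pow_mul, h1, one_pow]

/-- An element integral over a field has, in fields, only finitely many orders. -/
theorem exists_rt {k R : Type u} [Field k] [CommRing R] [Algebra k R] [Algebra.IsIntegral k R] (q : R) :
    ∃ N, 0 < N ∧ ∀ (K : Type u) [Field K] (φ : R →+* K), Rt N (φ q) := by
  classical
  let B := Algebra.adjoin k {q}
  let b : B := ⟨q, Algebra.self_mem_adjoin_singleton k q⟩
  haveI : Module.Finite k B :=
    Algebra.finite_adjoin_simple_of_isIntegral (Algebra.IsIntegral.isIntegral q)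
  haveI : IsArtinianRing B := isArtinian_of_tower k inferInstance
  haveI : Fintype (PrimeSpectrum B) := Fintype.ofFinite _
  let o : PrimeSpectrum B → ℕ := fun P =>
    if orderOf (Ideal.Quotient.mk P.asIdeal b) = 0 then 1 else orderOf (Ideal.Quotient.mk P.asIdeal b)
  refine ⟨∏ P, o P, Finset.prod_pos fun P _ => ?_, fun K _ φ => ?_⟩
  · show 0 < ite _ _ _
    split_ifs with h
    · exact Nat.one_pos
    · exact Nat.pos_of_ne_zero h
  let ψ : B →+* K := φ.comp B.val.toRingHom
  let P : PrimeSpectrum B := ⟨RingHom.ker ψ, RingHom.ker_isPrime ψ⟩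
  have hinj : Function.Injective (RingHom.kerLift ψ) := RingHom.kerLift_injective ψ
  have hord : orderOf (φ q) = orderOf (Ideal.Quotient.mk P.asIdeal b) :=
    orderOf_injective (RingHom.kerLift ψ).toMonoidHom hinj (Ideal.Quotient.mk P.asIdeal b)
  by_cases h : orderOf (φ q) = 0
  · exact Or.inr fun M hM he => absurd ((orderOf_eq_zero_iff'.1 h) M hM) (not_not.2 he)
  · refine Or.inl (orderOf_dvd_iff_pow_eq_one.1 (dvd_trans ?_ (Finset.dvd_prod_of_mem o (Finset.mem_univ P))))
    show _ ∣ ite _ _ _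
    rw [if_neg (hord ▸ h), hord]

theorem add_ne_zero_of_rt {K : Type*} [Field K] (h2 : (2 : K) ≠ 0) {N : ℕ} (hN : 0 < N) {q A : K}
    (hA : A ≠ 0) (h : Rt N q) : A ^ N + (A * q) ^ N ≠ 0 := by
  rw [mul_pow, show A ^ N + A ^ N * q ^ N = A ^ N * (1 + q ^ N) by ring]
  refine mul_ne_zero (pow_ne_zero _ hA) fun h0 => ?_
  rcases h with h1 | h1
  · exact h2 (by rw [← h0, h1]; norm_num)
  · exact h1 (2 * N) (by positivity) (by linear_combination (q ^ N - 1) * h0)

theorem add_add_ne_zero_of_rt {K : Type*} [Field K] (h3 : (3 : K) ≠ 0) {N : ℕ} (hN : 0 < N) {q A : K}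
    (hA : A ≠ 0) (h : Rt N q) :
    A ^ N * A ^ N + A ^ N * (A * q) ^ N + (A * q) ^ N * (A * q) ^ N ≠ 0 := by
  rw [mul_pow, show A ^ N * A ^ N + A ^ N * (A ^ N * q ^ N) + A ^ N * q ^ N * (A ^ N * q ^ N) =
    (A ^ N * A ^ N) * (1 + q ^ N + q ^ N * q ^ N) by ring]
  refine mul_ne_zero (mul_ne_zero (pow_ne_zero _ hA) (pow_ne_zero _ hA)) fun h0 => ?_
  rcases h with h1 | h1
  · exact h3 (by rw [← h0, h1]; norm_num)
  · exact h1 (3 * N) (by positivity) (by linear_combination (q ^ N - 1) * h0)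

/-! ### Geometry -/

variable {X Y : Scheme.{u}} (g : Y ⟶ X)

/-- The value at `y` of a function near `g y`. -/
def ev (y : Y) (W : X.Opens) (hy : g y ∈ W) : Γ(X, W) →+* IsLocalRing.ResidueField (Y.presheaf.stalk y) :=
  (IsLocalRing.residue _).comp ((g.stalkMap y).hom.comp (X.presheaf.germ W (g y) hy).hom)

theorem isUnit_germ_iff (y : Y) (W : X.Opens) (hy : g y ∈ W) (a : Γ(X, W)) :
    IsUnit (X.presheaf.germ W (g y) hy a) ↔ ev g y W hy a ≠ 0 := by
  show _ ↔ IsLocalRing.residue _ ((g.stalkMap y).hom (X.presheaf.germ W (g y) hy a)) ≠ 0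
  rw [IsLocalRing.residue_ne_zero_iff_isUnit]
  exact (isUnit_map_iff (g.stalkMap y).hom _).symm

theorem ev_ro (y : Y) {W V : X.Opens} (h : V ≤ W) (hy : g y ∈ V) (a : Γ(X, W)) :
    ev g y V hy (ro h a) = ev g y W (h hy) a := by
  show IsLocalRing.residue _ ((g.stalkMap y).hom _) = IsLocalRing.residue _ ((g.stalkMap y).hom _)
  exact congrArg (fun z => IsLocalRing.residue _ ((g.stalkMap y).hom z))
    (TopCat.Presheaf.germ_res_apply X.presheaf (homOfLE h) (g y) hy a)

variable (k : Type u) [Field k]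

theorem exists_rt_ev [IsAffine Y] [Algebra k Γ(Y, ⊤)] [Algebra.IsIntegral k Γ(Y, ⊤)] {V : X.Opens}
    (hV : IsCompact (g ⁻¹ᵁ V : Set Y)) (q : Γ(X, V)) :
    ∃ N, 0 < N ∧ ∀ (y : Y) (hy : g y ∈ V), Rt N (ev g y V hy q) := by
  classical
  have hnb : ∀ y : (g ⁻¹ᵁ V : Y.Opens), ∃ f : Γ(Y, ⊤), y.1 ∈ Y.basicOpen f ∧ Y.basicOpen f ≤ g ⁻¹ᵁ V := fun y => by
    obtain ⟨f, hf, hyf⟩ := (isAffineOpen_top Y).exists_basicOpen_le y (trivial : y.1 ∈ (⊤ : Y.Opens))
    exact ⟨f, hyf, hf⟩
  choose F hF hFle using hnb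
  obtain ⟨s₀, hs₀⟩ := hV.elim_finite_subcover (fun y => (Y.basicOpen (F y) : Set Y)) (fun y => (Y.basicOpen (F y)).2)
    fun y hy => Set.mem_iUnion.2 ⟨⟨y, hy⟩, hF _⟩
  let s := s₀.image F
  have hs : ∀ f ∈ s, Y.basicOpen f ≤ g ⁻¹ᵁ V := fun f hf => by
    obtain ⟨y, -, rfl⟩ := Finset.mem_image.1 hf
    exact hFle y
  have key : ∀ f : Γ(Y, ⊤), Y.basicOpen f ≤ g ⁻¹ᵁ V → ∃ N, 0 < N ∧ ∀ (y : Y) (hy : g y ∈ V),
      y ∈ Y.basicOpen f → Rt N (ev g y V hy q) := by
    intro f hf
    haveI := (isAffineOpen_top Y).isLocalization_basicOpen f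
    letI : Algebra k Γ(Y, Y.basicOpen f) :=
      ((algebraMap Γ(Y, ⊤) Γ(Y, Y.basicOpen f)).comp (algebraMap k Γ(Y, ⊤))).toAlgebra
    haveI : IsScalarTower k Γ(Y, ⊤) Γ(Y, Y.basicOpen f) := IsScalarTower.of_algebraMap_eq fun _ => rfl
    haveI : Algebra.IsIntegral k Γ(Y, Y.basicOpen f) := isIntegral_away f
    obtain ⟨N, hN, h⟩ := exists_rt (k := k) (g.appLE V (Y.basicOpen f) hf q)
    refine ⟨N, hN, fun y hy hyf => ?_⟩
    have := h _ ((IsLocalRing.residue _).comp (Y.presheaf.germ (Y.basicOpen f) y hyf).hom)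
    convert this using 1
    show IsLocalRing.residue _ ((g.stalkMap y).hom _) = IsLocalRing.residue _ _
    refine congrArg (IsLocalRing.residue _) ?_
    refine (Scheme.Hom.germ_stalkMap_apply g V y hy q).trans ?_
    exact (TopCat.Presheaf.germ_res_apply Y.presheaf (homOfLE hf) y hyf (g.app V q)).symm
  choose N hN h using key
  refine ⟨∏ f : s, if hf : Y.basicOpen f.1 ≤ g ⁻¹ᵁ V then N f.1 hf else 1,
    Finset.prod_pos fun f _ => ?_, fun y hy => ?_⟩
  · split_ifs with hf
    · exact hN _ hf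
    · exact Nat.one_pos
  · obtain ⟨y', hy', hyf⟩ := Set.mem_iUnion₂.1 (hs₀ (show y ∈ (g ⁻¹ᵁ V : Set Y) from hy))
    have hfs : F y' ∈ s := Finset.mem_image_of_mem F hy'
    refine (h _ (hs _ hfs) y hy hyf).of_dvd ?_
    have := Finset.dvd_prod_of_mem (fun f : s => if hf : Y.basicOpen f.1 ≤ g ⁻¹ᵁ V then N f.1 hf else 1)
      (Finset.mem_univ (⟨F y', hfs⟩ : s))
    simpa [dif_pos (hs _ hfs)] using this

variable {k}

theorem two_or_three (k : Type u) [Field k] : (2 : k) ≠ 0 ∨ (3 : k) ≠ 0 := by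
  by_contra! h
  exact one_ne_zero (show (1 : k) = 0 by rw [show (1 : k) = 3 - 2 by norm_num, h.1, h.2, sub_zero])

theorem secOf_pw {L : X.Modules} (s : Coh.structureModule X ⟶ L) :
    ∀ n, secOf (pw s n) = epow (secOf s) n
  | 0 => rfl
  | n + 1 => by
    show secOf (tensHom (pw s n) s) = tens _ L ⊤ (epow (secOf s) n) (secOf s)
    rw [tensHom, secOf_homOfSection, secOf_pw s n]

theorem coeff_pw {L : X.Modules} (s : Coh.structureModule X ⟶ L) {W : X.Opens} {e : Γ(L, W)} {a : Γ(X, W)}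
    (ha : a • e = rs L le_top (secOf s)) (n : ℕ) :
    a ^ n • epow e n = rs (CohB1.tensorPow L n) le_top (secOf (pw s n)) := by
  rw [secOf_pw, epow_rs, ← ha, epow_smul]

theorem coeff_sumSec {L : X.Modules} {ι : Type*} [Fintype ι] (t : ι → (Coh.structureModule X ⟶ L))
    {W : X.Opens} {e : Γ(L, W)} {a : ι → Γ(X, W)} (ha : ∀ i, a i • e = rs L le_top (secOf (t i))) :
    (∑ i, a i) • e = rs L le_top (secOf (sumSec t)) := by
  rw [sumSec, secOf_homOfSection, Finset.sum_smul]
  simp only [ha]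
  exact (map_sum (L.presheaf.map (homOfLE (le_top : W ≤ ⊤)).op).hom _ _).symm

theorem coeff_tensHom {L M : X.Modules} (s : Coh.structureModule X ⟶ L) (t : Coh.structureModule X ⟶ M)
    {W : X.Opens} {e : Γ(L, W)} {e' : Γ(M, W)} {a b : Γ(X, W)} (ha : a • e = rs L le_top (secOf s))
    (hb : b • e' = rs M le_top (secOf t)) :
    (a * b) • tens L M W e e' = rs (CohB1.tensorMod L M) le_top (secOf (tensHom s t)) := by
  rw [tensHom, secOf_homOfSection, tens_rs, ← ha, ← hb, tens_smul_left, tens_smul_right, mul_smul]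

/-- Two sections are merged into one. -/
theorem exists_merge [X.IsSeparated] [IsAffine Y] [Algebra k Γ(Y, ⊤)] [Algebra.IsIntegral k Γ(Y, ⊤)]
    {L : X.Modules} (hL : PicF.IsInvertible L) (s t : Coh.structureModule X ⟶ L)
    (hs : IsAffineOpen (CohB1.genLocus L s)) (ht : IsAffineOpen (CohB1.genLocus L t)) :
    ∃ (m : ℕ) (_ : 0 < m) (u : Coh.structureModule X ⟶ CohB1.tensorPow L m),
      IsAffineOpen (CohB1.genLocus _ u) ∧ CohB1.genLocus _ u ≤ CohB1.genLocus L s ⊔ CohB1.genLocus L t ∧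
      ∀ y : Y, g y ∈ CohB1.genLocus L s ⊔ CohB1.genLocus L t → g y ∈ CohB1.genLocus _ u := by
  classical
  have hF := isFrame_genLocus s
  obtain ⟨f, hf⟩ := hF.exists_coeff le_rfl (rs L le_top (secOf t))
  rw [rs_self] at hf
  haveI : IsAffineHom (g ≫ Limits.terminal.from X) := inferInstance
  haveI : IsAffineHom g := IsAffineHom.of_comp g (Limits.terminal.from X)
  have hcpt : IsCompact (g ⁻¹ᵁ CohB1.genLocus L s : Set Y) := (hs.preimage g).isCompact
  obtain ⟨N, hN, hrt⟩ := exists_rt_ev g k hcpt f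
  obtain ⟨N', rfl⟩ := Nat.exists_eq_add_one.mpr hN
  -- values at a point
  have hval : ∀ (y : Y) (W : X.Opens) (hy : g y ∈ W) (e : Γ(L, W)) (a b : Γ(X, W)), IsFrame L W e →
      a • e = rs L le_top (secOf s) → b • e = rs L le_top (secOf t) →
      (g y ∈ CohB1.genLocus L s ↔ ev g y W hy a ≠ 0) ∧ (g y ∈ CohB1.genLocus L t ↔ ev g y W hy b ≠ 0) ∧
      (ev g y W hy a ≠ 0 → ∃ q, Rt (N' + 1) q ∧ ev g y W hy b = ev g y W hy a * q) := by
    intro y W hy e a b he ha hb
    refine ⟨(mem_genLocus_iff s he ha hy).trans (isUnit_germ_iff g y W hy a),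
      (mem_genLocus_iff t he hb hy).trans (isUnit_germ_iff g y W hy b), fun hne => ?_⟩
    have hys : g y ∈ CohB1.genLocus L s :=
      (mem_genLocus_iff s he ha hy).2 ((isUnit_germ_iff g y W hy a).2 hne)
    refine ⟨_, hrt y hys, ?_⟩
    let V := W ⊓ CohB1.genLocus L s
    have h1 : (ro (inf_le_right : V ≤ _) f * ro (inf_le_left : V ≤ W) a) • rs L (inf_le_left : V ≤ W) e =
        ro (inf_le_left : V ≤ W) b • rs L (inf_le_left : V ≤ W) e := by
      rw [mul_smul, ← rs_smul, ha, rs_rs, ← rs_smul L (inf_le_left : V ≤ W) b, hb, rs_rs]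
      have h2 := congrArg (rs L (inf_le_right : V ≤ _)) hf
      rw [rs_smul, rs_rs, rs_rs] at h2
      exact h2
    have h3 := (he.mono (inf_le_left : V ≤ W)).inj le_rfl (a := _) (b := _) (by simpa only [rs_self] using h1)
    have h4 := congrArg (ev g y V ⟨hy, hys⟩) h3
    rw [map_mul, ev_ro, ev_ro, ev_ro] at h4
    rw [← h4, mul_comm]
  have hk : ∀ (y : Y) (c : ℕ), (c : k) ≠ 0 → (c : IsLocalRing.ResidueField (Y.presheaf.stalk y)) ≠ 0 := by
    intro y c hc
    have := ((IsLocalRing.residue _).comp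
      ((Y.presheaf.germ ⊤ y trivial).hom.comp (algebraMap k Γ(Y, ⊤)))).injective.ne hc
    simpa only [map_natCast, map_zero] using this
  have hinv := isInvertible_tensorPow hL (N' + 1)
  let S := pw s (N' + 1)
  let T := pw t (N' + 1)
  have hS : CohB1.genLocus _ S = CohB1.genLocus L s := genLocus_pw_succ hL s N'
  have hT : CohB1.genLocus _ T = CohB1.genLocus L t := genLocus_pw_succ hL t N'
  rcases two_or_three k with h2 | h3
  · refine ⟨N' + 1, Nat.succ_pos _, sumSec ![S, T], isAffineOpen_genLocus_sum hinv _ (fun i => ?_),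
      fun x hx => ?_, fun y hy => ?_⟩
    · fin_cases i
      · exact hS.symm ▸ hs
      · exact hT.symm ▸ ht
    · by_contra hn
      obtain ⟨W, e, hxW, he⟩ := Frame.exists_frame hL x
      obtain ⟨a, ha⟩ := he.exists_coeff le_rfl (rs L le_top (secOf s))
      obtain ⟨b, hb⟩ := he.exists_coeff le_rfl (rs L le_top (secOf t))
      rw [rs_self] at ha hb
      have hsum := coeff_sumSec ![S, T] (a := ![a ^ (N' + 1), b ^ (N' + 1)]) (e := epow e (N' + 1))
        (fun i => by fin_cases i <;> [exact coeff_pw s ha _; exact coeff_pw t hb _])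
      have hu := (mem_genLocus_iff _ (Groth.L20.ResDescent.isFrame_epow he _) hsum hxW).1 hx
      rw [map_sum, Fin.sum_univ_two] at hu
      refine (IsLocalRing.mem_maximalIdeal _).1 (add_mem ?_ ?_) hu
      · show _ ∈ IsLocalRing.maximalIdeal (X.presheaf.stalk x)
        simp only [Matrix.cons_val_zero, map_pow]
        exact Ideal.pow_mem_of_mem _ ((IsLocalRing.mem_maximalIdeal _).2 fun hu' =>
          hn (Or.inl ((mem_genLocus_iff s he ha hxW).2 hu'))) _ (Nat.succ_pos _)
      · simp only [Matrix.cons_val_one, Matrix.cons_val_zero, map_pow]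
        exact Ideal.pow_mem_of_mem _ ((IsLocalRing.mem_maximalIdeal _).2 fun hu' =>
          hn (Or.inr ((mem_genLocus_iff t he hb hxW).2 hu'))) _ (Nat.succ_pos _)
    · obtain ⟨W, e, hxW, he⟩ := Frame.exists_frame hL (g y)
      obtain ⟨a, ha⟩ := he.exists_coeff le_rfl (rs L le_top (secOf s))
      obtain ⟨b, hb⟩ := he.exists_coeff le_rfl (rs L le_top (secOf t))
      rw [rs_self] at ha hb
      have hsum := coeff_sumSec ![S, T] (a := ![a ^ (N' + 1), b ^ (N' + 1)]) (e := epow e (N' + 1))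
        (fun i => by fin_cases i <;> [exact coeff_pw s ha _; exact coeff_pw t hb _])
      rw [mem_genLocus_iff _ (Groth.L20.ResDescent.isFrame_epow he _) hsum hxW, isUnit_germ_iff,
        Fin.sum_univ_two]
      obtain ⟨h1, h1', hq⟩ := hval y W hxW e a b he ha hb
      simp only [Matrix.cons_val_zero, Matrix.cons_val_one, map_add, map_pow]
      by_cases hA : ev g y W hxW a = 0
      · have hB : ev g y W hxW b ≠ 0 := h1'.1 (hy.resolve_left fun h => h1.1 h hA)
        rw [hA, zero_pow (Nat.succ_ne_zero _), zero_add]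
        exact pow_ne_zero _ hB
      · obtain ⟨q, hq, e1⟩ := hq hA
        rw [e1]
        exact add_ne_zero_of_rt (by exact_mod_cast hk y 2 (by exact_mod_cast h2)) (Nat.succ_pos _) hA hq
  · let T3 := ![tensHom S S, tensHom S T, tensHom T T]
    have hinv2 := isInvertible_tensor hinv hinv
    let φ : CohB1.tensorMod (CohB1.tensorPow L (N' + 1)) (CohB1.tensorPow L (N' + 1)) ≅
        CohB1.tensorPow L ((N' + 1) * 2) :=
      Groth.L00.Tensor.tensorIso (Groth.L00.Tensor.tensorUnitLeft (CohB1.tensorPow L (N' + 1))).symm (Iso.refl _) ≪≫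
        Groth.L00.Tensor.tensorPowMul L (N' + 1) 2
    refine ⟨(N' + 1) * 2, by positivity, sumSec T3 ≫ φ.hom, ?_, ?_, ?_⟩
    all_goals rw [Groth.L16.genLocus_comp_iso]
    · refine isAffineOpen_genLocus_sum hinv2 _ fun i => ?_
      fin_cases i
      · show IsAffineOpen (CohB1.genLocus _ (tensHom S S))
        rw [genLocus_tensHom hinv hinv, hS, inf_idem]
        exact hs
      · show IsAffineOpen (CohB1.genLocus _ (tensHom S T))
        rw [genLocus_tensHom hinv hinv, hS, hT]
        exact isAffineOpen_genLocus_inf hL s ht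
      · show IsAffineOpen (CohB1.genLocus _ (tensHom T T))
        rw [genLocus_tensHom hinv hinv, hT, inf_idem]
        exact ht
    · intro x hx
      by_contra hn
      obtain ⟨W, e, hxW, he⟩ := Frame.exists_frame hL x
      obtain ⟨a, ha⟩ := he.exists_coeff le_rfl (rs L le_top (secOf s))
      obtain ⟨b, hb⟩ := he.exists_coeff le_rfl (rs L le_top (secOf t))
      rw [rs_self] at ha hb
      have hsum := coeff_sumSec T3
        (a := ![a ^ (N' + 1) * a ^ (N' + 1), a ^ (N' + 1) * b ^ (N' + 1), b ^ (N' + 1) * b ^ (N' + 1)])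
        (e := tens _ _ W (epow e (N' + 1)) (epow e (N' + 1)))
        (fun i => by
          fin_cases i
          · exact coeff_tensHom S S (coeff_pw s ha _) (coeff_pw s ha _)
          · exact coeff_tensHom S T (coeff_pw s ha _) (coeff_pw t hb _)
          · exact coeff_tensHom T T (coeff_pw t hb _) (coeff_pw t hb _))
      have hu := (mem_genLocus_iff _ (isFrame_tens (Groth.L20.ResDescent.isFrame_epow he _)
        (Groth.L20.ResDescent.isFrame_epow he _)) hsum hxW).1 hx
      have hma : X.presheaf.germ W x hxW a ∈ IsLocalRing.maximalIdeal (X.presheaf.stalk x) :=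
        (IsLocalRing.mem_maximalIdeal _).2 fun hu' => hn (Or.inl ((mem_genLocus_iff s he ha hxW).2 hu'))
      have hmb : X.presheaf.germ W x hxW b ∈ IsLocalRing.maximalIdeal (X.presheaf.stalk x) :=
        (IsLocalRing.mem_maximalIdeal _).2 fun hu' => hn (Or.inr ((mem_genLocus_iff t he hb hxW).2 hu'))
      refine (IsLocalRing.mem_maximalIdeal _).1 ?_ hu
      simp only [Fin.sum_univ_three, Matrix.cons_val, map_add, map_mul, map_pow]
      exact add_mem (add_mem (Ideal.mul_mem_left _ _ (Ideal.pow_mem_of_mem _ hma _ (Nat.succ_pos _)))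
        (Ideal.mul_mem_left _ _ (Ideal.pow_mem_of_mem _ hmb _ (Nat.succ_pos _))))
        (Ideal.mul_mem_left _ _ (Ideal.pow_mem_of_mem _ hmb _ (Nat.succ_pos _)))
    · intro y hy
      obtain ⟨W, e, hxW, he⟩ := Frame.exists_frame hL (g y)
      obtain ⟨a, ha⟩ := he.exists_coeff le_rfl (rs L le_top (secOf s))
      obtain ⟨b, hb⟩ := he.exists_coeff le_rfl (rs L le_top (secOf t))
      rw [rs_self] at ha hb
      have hsum := coeff_sumSec T3
        (a := ![a ^ (N' + 1) * a ^ (N' + 1), a ^ (N' + 1) * b ^ (N' + 1), b ^ (N' + 1) * b ^ (N' + 1)])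
        (e := tens _ _ W (epow e (N' + 1)) (epow e (N' + 1)))
        (fun i => by
          fin_cases i
          · exact coeff_tensHom S S (coeff_pw s ha _) (coeff_pw s ha _)
          · exact coeff_tensHom S T (coeff_pw s ha _) (coeff_pw t hb _)
          · exact coeff_tensHom T T (coeff_pw t hb _) (coeff_pw t hb _))
      rw [mem_genLocus_iff _ (isFrame_tens (Groth.L20.ResDescent.isFrame_epow he _)
        (Groth.L20.ResDescent.isFrame_epow he _)) hsum hxW, isUnit_germ_iff]
      obtain ⟨h1, h1', hq⟩ := hval y W hxW e a b he ha hb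
      simp only [Fin.sum_univ_three, Matrix.cons_val, map_add, map_mul, map_pow]
      by_cases hA : ev g y W hxW a = 0
      · have hB : ev g y W hxW b ≠ 0 := h1'.1 (hy.resolve_left fun h => h1.1 h hA)
        rw [hA, zero_pow (Nat.succ_ne_zero _), zero_mul, zero_mul, zero_add, zero_add]
        exact mul_ne_zero (pow_ne_zero _ hB) (pow_ne_zero _ hB)
      · obtain ⟨q, hq, e1⟩ := hq hA
        rw [e1]
        exact add_add_ne_zero_of_rt (by exact_mod_cast hk y 3 (by exact_mod_cast h3)) (Nat.succ_pos _) hA hq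

/-- Finitely many sections are merged into one. -/
theorem exists_merge_finset [X.IsSeparated] [IsAffine Y] [Algebra k Γ(Y, ⊤)] [Algebra.IsIntegral k Γ(Y, ⊤)]
    {L : X.Modules} (hL : PicF.IsInvertible L) {ι : Type*} (n : ι → ℕ)
    (t : ∀ i, Coh.structureModule X ⟶ CohB1.tensorPow L (n i + 1))
    (ht : ∀ i, IsAffineOpen (CohB1.genLocus _ (t i))) (I : Finset ι) :
    ∃ (m : ℕ) (u : Coh.structureModule X ⟶ CohB1.tensorPow L (m + 1)),
      IsAffineOpen (CohB1.genLocus _ u) ∧ CohB1.genLocus _ u ≤ I.sup (fun i => CohB1.genLocus _ (t i)) ∧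
      ∀ y : Y, ∀ i ∈ I, g y ∈ CohB1.genLocus _ (t i) → g y ∈ CohB1.genLocus _ u := by
  classical
  induction I using Finset.induction with
  | empty =>
    let u₀ : Coh.structureModule X ⟶ CohB1.tensorPow L (0 + 1) :=
      sumSec (Fin.elim0 : Fin 0 → (Coh.structureModule X ⟶ CohB1.tensorPow L (0 + 1)))
    refine ⟨0, u₀, isAffineOpen_genLocus_sum (isInvertible_tensorPow hL _) _ fun i => i.elim0,
      fun x hx => ?_, fun y i hi => absurd hi (Finset.notMem_empty i)⟩
    obtain ⟨W, e, hxW, he⟩ := Frame.exists_frame (isInvertible_tensorPow hL (0 + 1)) x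
    have := (mem_genLocus_iff u₀ he (coeff_sumSec (e := e) _ (a := Fin.elim0) fun i => i.elim0) hxW).1 hx
    rw [Fin.sum_univ_zero, map_zero] at this
    exact absurd this not_isUnit_zero
  | insert j I hj ih =>
    obtain ⟨m, u, hua, huI, huy⟩ := ih
    have i1 := isInvertible_tensorPow hL (m + 1)
    have i2 := isInvertible_tensorPow hL (n j + 1)
    let M := (m + 1) * (n j + 1)
    let S : Coh.structureModule X ⟶ CohB1.tensorPow L M :=
      pw u (n j + 1) ≫ (Groth.L00.Tensor.tensorPowMul L (m + 1) (n j + 1)).hom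
    let T : Coh.structureModule X ⟶ CohB1.tensorPow L M :=
      pw (t j) (m + 1) ≫ (Groth.L00.Tensor.tensorPowMul L (n j + 1) (m + 1) ≪≫
        eqToIso (congrArg (CohB1.tensorPow L) (mul_comm _ _))).hom
    have hS : CohB1.genLocus _ S = CohB1.genLocus _ u :=
      (Groth.L16.genLocus_comp_iso _ _).trans (genLocus_pw_succ i1 _ _)
    have hT : CohB1.genLocus _ T = CohB1.genLocus _ (t j) :=
      (Groth.L16.genLocus_comp_iso _ _).trans (genLocus_pw_succ i2 _ _)
    obtain ⟨d, hd, w, hwa, hwle, hwy⟩ := exists_merge g (k := k) (isInvertible_tensorPow hL M) S T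
      (hS.symm ▸ hua) (hT.symm ▸ ht j)
    obtain ⟨m', w', hw'⟩ := exists_of_iso (L := L) (j := M * d) (by positivity) w
      (Groth.L00.Tensor.tensorPowMul L M d)
    refine ⟨m', w', hw'.symm ▸ hwa, ?_, fun y i hi hyi => ?_⟩
    · rw [hw', Finset.sup_insert]
      exact hwle.trans (sup_le ((hS.le.trans huI).trans le_sup_right) (hT.le.trans le_sup_left))
    · rw [hw']
      refine hwy y ?_
      rw [hS, hT]
      rcases Finset.mem_insert.1 hi with rfl | hi
      · exact Or.inr hyi
      · exact Or.inl (huy y i hi hyi)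

end Groth.L18.IntPoints
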