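import Groth.Agent.L18.QMap.ConeFibres
import Groth.Agent.L18.ConeMaps

/-!
Fibres of the retractions of the pointed cones of a graded algebra generated in degree one.
-/

set_option autoImplicit false
set_option linter.style.haveILetI false
set_option backward.isDefEq.respectTransparency false
set_option backward.isDefEq.respectTransparency.types false

noncomputable section

universe u

open CategoryTheory CategoryTheory.Limits AlgebraicGeometry HomogeneousLocalization
open scoped DirectSum LaurentPolynomial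

namespace Groth.L18.LaurentCone

variable {R A : Type u} [CommRing R] [CommRing A] [Algebra R A] {𝒜 : ℕ → Submodule R A} [GradedAlgebra 𝒜]
  {f : A} (hf : f ∈ 𝒜 1)

/-- The degree-zero fraction of a homogeneous element. -/
abbrev frac (n : ℕ) (a : A) (ha : a ∈ 𝒜 n) : Away 𝒜 f := Away.mk 𝒜 hf n a (by simpa using ha)

theorem frac_mul {m n : ℕ} (a b : A) (ha : a ∈ 𝒜 m) (hb : b ∈ 𝒜 n) :
    frac hf (m + n) (a * b) (SetLike.mul_mem_graded ha hb) = frac hf m a ha * frac hf n b hb := by
  refine val_injective _ ?_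
  rw [val_mul, Away.val_mk, Away.val_mk, Away.val_mk, Localization.mk_mul]
  exact Localization.mk_eq_mk_iff.2 (Localization.r_iff_exists.2 ⟨1, by simp [pow_add]⟩)

/-- A homogeneous element of degree `n` goes to its fraction times `T ^ n`. -/
def piece (n : ℕ) : 𝒜 n →+ LaurentPolynomial (Away 𝒜 f) where
  toFun a := LaurentPolynomial.C (frac hf n a a.2) * LaurentPolynomial.T n
  map_zero' := by
    rw [show frac hf n ((0 : 𝒜 n) : A) (0 : 𝒜 n).2 = 0 from val_injective _ (by simp [Localization.mk_zero]),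
      map_zero, zero_mul]
  map_add' a b := by
    rw [show frac hf n ((a + b : 𝒜 n) : A) (a + b).2 = frac hf n a a.2 + frac hf n b b.2 from
      val_injective _ (by simp [val_add, Localization.add_mk_self]), map_add, add_mul]

/-- The map on the direct sum of the pieces. -/
def ofSum : (⨁ n, 𝒜 n) →+* LaurentPolynomial (Away 𝒜 f) :=
  (DirectSum.toSemiring (piece hf)
      (by
        show LaurentPolynomial.C (frac hf 0 (1 : A) (SetLike.one_mem_graded 𝒜)) * LaurentPolynomial.T ((0 : ℕ) : ℤ) = 1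
        rw [show frac hf 0 (1 : A) (SetLike.one_mem_graded 𝒜) = 1 from val_injective _ (by simp [Localization.mk_one]),
          map_one, one_mul, Nat.cast_zero, LaurentPolynomial.T_zero])
      (fun {i j} a b => by
        show LaurentPolynomial.C (frac hf (i + j) ((a : A) * b) (SetLike.mul_mem_graded a.2 b.2)) *
            LaurentPolynomial.T ((i + j : ℕ) : ℤ) =
          LaurentPolynomial.C (frac hf i a a.2) * LaurentPolynomial.T (i : ℤ) *
            (LaurentPolynomial.C (frac hf j b b.2) * LaurentPolynomial.T (j : ℤ))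
        rw [frac_mul hf (a : A) (b : A) a.2 b.2, map_mul, Nat.cast_add, LaurentPolynomial.T_add]
        ring))

theorem ofSum_of (n : ℕ) (a : 𝒜 n) : ofSum hf (DirectSum.of (fun i => 𝒜 i) n a) = piece hf n a :=
  DirectSum.toSemiring_of (A := fun i => 𝒜 i) (piece hf) _ _ n a

/-- The map to Laurent polynomials. -/
def toLaurent : A →+* LaurentPolynomial (Away 𝒜 f) :=
  (ofSum hf).comp (DirectSum.decomposeRingEquiv 𝒜).toRingHom

theorem toLaurent_of {n : ℕ} {a : A} (ha : a ∈ 𝒜 n) :
    toLaurent hf a = LaurentPolynomial.C (frac hf n a ha) * LaurentPolynomial.T n := by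
  show ofSum hf (DirectSum.decompose 𝒜 a) = _
  rw [DirectSum.decompose_of_mem 𝒜 ha, ofSum_of]
  rfl

theorem toLaurent_self : toLaurent hf f = LaurentPolynomial.T 1 := by
  rw [toLaurent_of hf hf, show frac hf 1 f hf = 1 from val_injective _ (by
    rw [Away.val_mk, val_one, ← Localization.mk_one, Localization.mk_eq_mk_iff, Localization.r_iff_exists]
    exact ⟨1, by simp⟩), map_one, one_mul, Nat.cast_one]

theorem isUnit_toLaurent : IsUnit (toLaurent hf f) := by
  rw [toLaurent_self]
  exact LaurentPolynomial.isUnit_T 1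

/-- `A_f → A_(f)[T,T⁻¹]`. -/
def fwd : Localization.Away f →+* LaurentPolynomial (Away 𝒜 f) :=
  IsLocalization.Away.lift f (isUnit_toLaurent hf)

theorem fwd_alg (a : A) : fwd hf (algebraMap A (Localization.Away f) a) = toLaurent hf a :=
  IsLocalization.Away.lift_eq f _ a

/-- `A_(f)[T,T⁻¹] → A_f`. -/
def bwd : LaurentPolynomial (Away 𝒜 f) →+* Localization.Away f :=
  LaurentPolynomial.eval₂ (algebraMap (Away 𝒜 f) (Localization.Away f))
    (IsLocalization.Away.algebraMap_isUnit (S := Localization.Away f) f).unit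

include hf in
theorem val_frac_mul (n : ℕ) (a : A) (ha : a ∈ 𝒜 n) :
    algebraMap (Away 𝒜 f) (Localization.Away f) (frac hf n a ha) * algebraMap A (Localization.Away f) f ^ n =
      algebraMap A (Localization.Away f) a := by
  rw [HomogeneousLocalization.algebraMap_apply, Away.val_mk, Localization.mk_eq_mk', ← map_pow]
  exact IsLocalization.mk'_spec _ a (⟨f ^ n, n, rfl⟩ : Submonoid.powers f)

theorem bwd_fwd : (bwd (𝒜 := 𝒜) (f := f)).comp (fwd hf) = RingHom.id _ := by
  classical
  refine IsLocalization.ringHom_ext (Submonoid.powers f) (RingHom.ext fun a => ?_)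
  show bwd (fwd hf (algebraMap A _ a)) = algebraMap A _ a
  rw [fwd_alg, ← DirectSum.sum_support_decompose 𝒜 a, map_sum, map_sum, map_sum]
  refine Finset.sum_congr rfl fun n _ => ?_
  rw [toLaurent_of hf (SetLike.coe_mem _), map_mul, bwd, LaurentPolynomial.eval₂_C, LaurentPolynomial.eval₂_T_n,
    IsUnit.unit_spec]
  exact val_frac_mul hf n _ _

theorem fwd_bwd : (fwd hf).comp (bwd (𝒜 := 𝒜) (f := f)) = RingHom.id _ := by
  have hC : ∀ c, fwd hf (bwd (LaurentPolynomial.C c)) = LaurentPolynomial.C c := by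
    intro c
    obtain ⟨n, a, ha, rfl⟩ := Away.mk_surjective 𝒜 hf c
    have ha' : a ∈ 𝒜 n := by simpa using ha
    have h := congrArg (fwd hf) (val_frac_mul hf n a ha')
    rw [map_mul, map_pow, fwd_alg, fwd_alg, toLaurent_self, toLaurent_of hf ha', LaurentPolynomial.T_pow, mul_one] at h
    rw [bwd, LaurentPolynomial.eval₂_C]
    exact (LaurentPolynomial.isUnit_T (n : ℤ)).mul_left_inj.1 h
  refine IsLocalization.ringHom_ext (Submonoid.powers (Polynomial.X : Polynomial (Away 𝒜 f))) ?_
  refine Polynomial.ringHom_ext (fun c => ?_) ?_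
  · show fwd hf (bwd (algebraMap (Polynomial (Away 𝒜 f)) (LaurentPolynomial (Away 𝒜 f)) (Polynomial.C c))) = _
    rw [LaurentPolynomial.algebraMap_eq_toLaurent, Polynomial.toLaurent_C, hC]
    exact ((LaurentPolynomial.algebraMap_eq_toLaurent _).trans (Polynomial.toLaurent_C c)).symm
  · show fwd hf (bwd (algebraMap (Polynomial (Away 𝒜 f)) (LaurentPolynomial (Away 𝒜 f)) Polynomial.X)) = _
    rw [LaurentPolynomial.algebraMap_eq_toLaurent, Polynomial.toLaurent_X, ← Nat.cast_one, bwd,
      LaurentPolynomial.eval₂_T_n, pow_one, IsUnit.unit_spec, fwd_alg, toLaurent_self]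
    exact ((LaurentPolynomial.algebraMap_eq_toLaurent _).trans Polynomial.toLaurent_X).symm

/-- `A_(f)[T,T⁻¹] ≃ A_f`. -/
def laurentEquiv : LaurentPolynomial (Away 𝒜 f) ≃+* Localization.Away f :=
  RingEquiv.ofRingHom bwd (fwd hf) (bwd_fwd hf) (fwd_bwd hf)

theorem laurentEquiv_C (c : Away 𝒜 f) :
    laurentEquiv hf (LaurentPolynomial.C c) = algebraMap (Away 𝒜 f) (Localization.Away f) c :=
  LaurentPolynomial.eval₂_C _ _ c

theorem exists_deg_one (hgen : (HomogeneousIdeal.irrelevant 𝒜).toIdeal = Ideal.span (𝒜 1 : Set A)) (x : Proj 𝒜) :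
    ∃ f ∈ 𝒜 1, x ∈ Proj.basicOpen 𝒜 f := by
  by_contra hcon
  push Not at hcon
  refine x.not_irrelevant_le ?_
  show (HomogeneousIdeal.irrelevant 𝒜).toIdeal ≤ x.asHomogeneousIdeal.toIdeal
  rw [hgen]
  exact Ideal.span_le.2 fun a ha => not_not.1 (hcon a ha)

theorem cmap_fibre (hgen : (HomogeneousIdeal.irrelevant 𝒜).toIdeal = Ideal.span (𝒜 1 : Set A))
    (π : (Cone.pointed 𝒜 : Scheme.{u}) ⟶ Proj 𝒜)
    (hπ : ∀ (d : ℕ) (f : A) (hd : 0 < d) (hf : f ∈ 𝒜 d),
        Cone.chart hf hd ≫ π =
          Spec.map (CommRingCat.ofHom (algebraMap (Away 𝒜 f) (Localization.Away f))) ≫ Proj.awayι 𝒜 f hf hd)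
    (x : Proj 𝒜) :
    LocallyOfFiniteType π ∧ QuasiCompact π ∧
      ∃ e : pullback π ((Proj 𝒜).fromSpecResidueField x) ≅
          Spec (CommRingCat.of (LaurentPolynomial ((Proj 𝒜).residueField x))),
        e.hom ≫ Spec.map (CommRingCat.ofHom (algebraMap ((Proj 𝒜).residueField x)
          (LaurentPolynomial ((Proj 𝒜).residueField x)))) = pullback.snd π ((Proj 𝒜).fromSpecResidueField x) := by
  haveI := Groth.L18.Cones.cmap_isAffineHom π hπ
  have key : ∀ (f : A) (hf : f ∈ 𝒜 1), ∃ g : Spec (CommRingCat.of (LaurentPolynomial (Away 𝒜 f))) ⟶ (Cone.pointed 𝒜 : Scheme.{u}),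
      IsPullback (Spec.map (CommRingCat.ofHom (algebraMap (Away 𝒜 f) (LaurentPolynomial (Away 𝒜 f))))) g
        (Proj.awayι 𝒜 f hf one_pos) π := by
    intro f hf
    let e := laurentEquiv hf
    haveI : IsIso (CommRingCat.ofHom e.toRingHom) := inferInstanceAs (IsIso e.toCommRingCatIso.hom)
    haveI : IsOpenImmersion (Cone.chart hf one_pos) := by
      haveI : IsOpenImmersion (Cone.chart hf one_pos ≫ (Cone.pointed 𝒜).ι) := by
        rw [Cone.chart, IsOpenImmersion.lift_fac]
        exact IsOpenImmersion.of_isLocalization f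
      exact IsOpenImmersion.of_comp _ (Cone.pointed 𝒜).ι
    have hpb : IsPullback (Spec.map (CommRingCat.ofHom (algebraMap (Away 𝒜 f) (Localization.Away f)))) (Cone.chart hf one_pos)
        (Proj.awayι 𝒜 f hf one_pos) π :=
      IsOpenImmersion.isPullback _ _ _ _ (hπ 1 f one_pos hf) (by
        rw [Proj.opensRange_awayι, Groth.L18.Cones.cmap_preimage π hπ one_pos hf]
        apply TopologicalSpace.Opens.ext
        ext z
        exact (Groth.L18.Cones.mem_range_cchart hf one_pos z).symm)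
    refine ⟨inv (Spec.map (CommRingCat.ofHom e.toRingHom)) ≫ Cone.chart hf one_pos, ?_⟩
    refine hpb.of_iso (asIso (Spec.map (CommRingCat.ofHom e.toRingHom))) (Iso.refl _) (Iso.refl _) (Iso.refl _)
      ?_ (by simp) (by simp) (by simp)
    rw [asIso_hom, Iso.refl_hom, Category.comp_id, ← Spec.map_comp, ← CommRingCat.ofHom_comp]
    exact congrArg (fun m => Spec.map (CommRingCat.ofHom m)) (RingHom.ext fun c => (laurentEquiv_C hf c).symm)
  refine ⟨?_, inferInstance, ?_⟩
  · refine Groth.L18.ConeFib.locallyOfFiniteType_of_charts π fun y => ?_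
    obtain ⟨f, hf, hy⟩ := exists_deg_one hgen y
    obtain ⟨g, hg⟩ := key f hf
    refine ⟨_, _, CommRingCat.ofHom (algebraMap _ _), _, g, inferInstance, ?_, ?_, hg⟩
    · rw [← Proj.opensRange_awayι 𝒜 f hf one_pos] at hy; exact hy
    · rw [CommRingCat.hom_ofHom, RingHom.finiteType_algebraMap]; infer_instance
  · obtain ⟨f, hf, hy⟩ := exists_deg_one hgen x
    obtain ⟨g, hg⟩ := key f hf
    rw [← Proj.opensRange_awayι 𝒜 f hf one_pos] at hy
    exact Groth.L18.ConeFib.fibre_laurent hg hy

theorem pmap_fibre {B : Type u} [CommRing B] [Algebra R B] {ℬ : ℕ → Submodule R B} [GradedAlgebra ℬ]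
    [Algebra A B] [IsScalarTower R A B] (φ : 𝒜 →+*ᵍ ℬ) (hφ : ∀ a : A, φ a = algebraMap A B a)
    (z : B) (hz : z ∈ ℬ 1) (hhat : Function.Bijective (Polynomial.aeval (R := A) z))
    (hgen : (HomogeneousIdeal.irrelevant 𝒜).toIdeal = Ideal.span (𝒜 1 : Set A))
    (p : (PCone.dom φ : Scheme.{u}) ⟶ Proj 𝒜) (hp : ∀ (d : ℕ) (f : A) (hd : 0 < d) (hf : f ∈ 𝒜 d),
        PCone.chart φ hf hd ≫ p =
          Spec.map (CommRingCat.ofHom (Away.map φ f)) ≫ Proj.awayι 𝒜 f hf hd) (x : Proj 𝒜) :
    LocallyOfFiniteType p ∧ QuasiCompact p ∧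
      ∃ e : pullback p ((Proj 𝒜).fromSpecResidueField x) ≅
          Spec (CommRingCat.of (Polynomial ((Proj 𝒜).residueField x))),
        e.hom ≫ Spec.map (CommRingCat.ofHom (algebraMap ((Proj 𝒜).residueField x)
          (Polynomial ((Proj 𝒜).residueField x)))) = pullback.snd p ((Proj 𝒜).fromSpecResidueField x) := by
  haveI := Groth.L18.Cones.pmap_isAffineHom φ p hp
  have hbij : Function.Bijective (Polynomial.eval₂RingHom (φ : A →+* B) z) := by
    rw [show (φ : A →+* B) = algebraMap A B from RingHom.ext hφ]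
    exact hhat
  have key : ∀ (f : A) (hf : f ∈ 𝒜 1), ∃ g : Spec (CommRingCat.of (Polynomial (Away 𝒜 f))) ⟶ (PCone.dom φ : Scheme.{u}),
      IsPullback (Spec.map (CommRingCat.ofHom (Polynomial.C : Away 𝒜 f →+* Polynomial (Away 𝒜 f)))) g
        (Proj.awayι 𝒜 f hf one_pos) p := by
    intro f hf
    let e := Groth.L18.ConeFib.polyEquiv φ hz hbij hf
    haveI : IsIso (CommRingCat.ofHom e.toRingHom) := inferInstanceAs (IsIso e.toCommRingCatIso.hom)
    refine ⟨inv (Spec.map (CommRingCat.ofHom e.toRingHom)) ≫ PCone.chart φ hf one_pos, ?_⟩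
    refine (Groth.L18.Cones.pmap_isPullback φ p hp one_pos hf).of_iso (asIso (Spec.map (CommRingCat.ofHom e.toRingHom)))
      (Iso.refl _) (Iso.refl _) (Iso.refl _) ?_ (by simp) (by simp) (by simp)
    rw [asIso_hom, Iso.refl_hom, Category.comp_id, ← Spec.map_comp, ← CommRingCat.ofHom_comp]
    exact congrArg (fun m => Spec.map (CommRingCat.ofHom m))
      (RingHom.ext fun c => (Groth.L18.ConeFib.polyMap_C φ hz hf c).symm)
  refine ⟨?_, inferInstance, ?_⟩
  · refine Groth.L18.ConeFib.locallyOfFiniteType_of_charts p fun y => ?_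
    obtain ⟨f, hf, hy⟩ := exists_deg_one hgen y
    obtain ⟨g, hg⟩ := key f hf
    refine ⟨_, _, CommRingCat.ofHom Polynomial.C, _, g, inferInstance, ?_, ?_, hg⟩
    · rw [← Proj.opensRange_awayι 𝒜 f hf one_pos] at hy; exact hy
    · rw [CommRingCat.hom_ofHom, ← Polynomial.algebraMap_eq, RingHom.finiteType_algebraMap]; infer_instance
  · obtain ⟨f, hf, hy⟩ := exists_deg_one hgen x
    obtain ⟨g, hg⟩ := key f hf
    rw [← Proj.opensRange_awayι 𝒜 f hf one_pos] at hy
    exact Groth.L18.ConeFib.fibre_poly hg hy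

end Groth.L18.LaurentCone
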