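import Groth.Agent.L18.FormalRefProper
import Groth.Agent.L18.LocPicExtend
import Groth.Agent.L22.SchemeDim
import Groth.Agent.L19.AmpleAffineLocus
import Groth.Agent.L22.EnrSev.H0
import Groth.Agent.L07.RegularQuotient

/-!
# Opens containing the regular points of an ample normal divisor are big

If `X` is normal proper integral of dimension at least three, an open containing all regular points of `X` on an ample
normal divisor has complement of codimension at least two.
-/

set_option autoImplicit false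
set_option linter.style.haveILetI false
set_option backward.isDefEq.respectTransparency false
set_option backward.isDefEq.respectTransparency.types false
universe u

open CategoryTheory CategoryTheory.Limits AlgebraicGeometry Opposite TopologicalSpace IsLocalRing

noncomputable section

namespace Groth.L18.LefRegCodim

variable {X : Scheme.{u}}

theorem two_le_of_not_le_one {a : WithBot ℕ∞} (h : ¬ a ≤ 1) : (2 : WithBot ℕ∞) ≤ a := by
  induction a with
  | bot => exact absurd bot_le h
  | coe m =>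
    have h' : (1 : ℕ∞) < m := lt_of_not_ge fun hm => h (by exact_mod_cast hm)
    have h2 : (2 : ℕ∞) ≤ m := by
      have := Order.add_one_le_of_lt h'
      rwa [one_add_one_eq_two] at this
    exact WithBot.coe_le_coe.2 h2

theorem two_le_dim_of_not_regular [IsLocallyNoetherian X] (hXn : Pi1.IsNormalScheme X) (x : X)
    (hx : ¬ IsRegularLocalRing (X.presheaf.stalk x)) : (2 : WithBot ℕ∞) ≤ ringKrullDim (X.presheaf.stalk x) := by
  haveI := (hXn x).1
  haveI := (hXn x).2
  exact two_le_of_not_le_one fun h => hx (Groth.L06.NormalAscent.regular_of_normal_dim_le_one h)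

/-- The dimension of the local ring and the transcendence degree of the residue field add up. -/
theorem exists_trdeg_add_dim (k : Type u) [Field k] [X.Over (Spec (CommRingCat.of k))]
    [LocallyOfFiniteType (X ↘ Spec (CommRingCat.of k))] [IsIntegral X] {d : ℕ}
    (hd : topologicalKrullDim X = (d : WithBot ℕ∞)) (x : X) :
    letI := Curv2.resAlgebra k X x
    ∃ a c : ℕ, Algebra.trdeg k (X.residueField x) = a ∧
      ringKrullDim (X.presheaf.stalk x) = (c : WithBot ℕ∞) ∧ a + c = d := by
  obtain ⟨a, c, ha, hc, hac⟩ := Groth.L22.SchemeDim.exists_localDim k X x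
  obtain ⟨m, hm, -, hopen⟩ := Groth.L22.SchemeDim.exists_dim_eq_trdeg k X
  have hm2 : d = m := by exact_mod_cast hd.symm.trans hm
  have hl : FlatMor.localDim X x = (d : WithBot ℕ∞) := by
    refine le_antisymm ?_ (le_iInf fun U => ?_)
    · refine iInf_le_of_le ⟨⊤, trivial⟩ ?_
      rw [hm2, ← hopen ⊤ ⟨x, trivial⟩]
      exact le_rfl
    · rw [hm2, ← hopen U.1 ⟨x, U.2⟩]
      exact le_rfl
  rw [hl] at hac
  exact ⟨a, c, ha, hc, by exact_mod_cast hac.symm⟩

/-- A point of a normal Cartier divisor of codimension at most two in the ambient scheme is regular on it. -/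
theorem regular_of_dim_le_two [IsIntegral X] [IsLocallyNoetherian X] (I : X.IdealSheafData)
    (hI : BlowUp.IsEffCartierIdeal I) (hYn : Pi1.IsNormalScheme I.subscheme) (y : I.subscheme)
    (h : ringKrullDim (X.presheaf.stalk (I.subschemeι y)) ≤ 2) :
    IsRegularLocalRing (X.presheaf.stalk (I.subschemeι y)) := by
  obtain ⟨⟨V, hV⟩, hyV, c, hc, hspan⟩ := hI (I.subschemeι y)
  obtain ⟨e⟩ := Groth.L18.FormalLevels.nonempty_stalk_quotient_equiv I hV y hyV
  set φ := (X.presheaf.germ V (I.subschemeι y) hyV).hom with hφ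
  letI := X.presheaf.algebra_section_stalk (⟨I.subschemeι y, hyV⟩ : V)
  haveI := hV.isLocalization_stalk ⟨I.subschemeι y, hyV⟩
  haveI : IsNoetherianRing Γ(X, V) := IsLocallyNoetherian.component_noetherian ⟨V, hV⟩
  haveI : IsNoetherianRing (X.presheaf.stalk (I.subschemeι y)) :=
    IsLocalization.isNoetherianRing (hV.primeIdealOf ⟨I.subschemeι y, hyV⟩).asIdeal.primeCompl _ inferInstance
  haveI : Nonempty V := ⟨⟨_, hyV⟩⟩
  have hinj : Function.Injective φ := germ_injective_of_isIntegral X (I.subschemeι y) hyV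
  have hne : φ c ≠ 0 := fun h0 => nonZeroDivisors.ne_zero hc (hinj (h0.trans (map_zero φ).symm))
  have hJ : (I.ideal ⟨V, hV⟩).map φ = Ideal.span {φ c} := by
    rw [hspan, Ideal.map_span, Set.image_singleton]
  haveI := (hYn y).1
  haveI := (hYn y).2
  haveI : IsNoetherianRing (I.subscheme.presheaf.stalk y) := isNoetherianRing_of_ringEquiv _ e
  have hY1 : ringKrullDim (I.subscheme.presheaf.stalk y) ≤ 1 := by
    rw [← ringKrullDim_eq_of_ringEquiv e]
    have h1 := ringKrullDim_quotient_succ_le_of_nonZeroDivisor (mem_nonZeroDivisors_of_ne_zero hne)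
    rw [← hJ] at h1
    have h2 := h1.trans h
    generalize ringKrullDim (X.presheaf.stalk (I.subschemeι y) ⧸ (I.ideal ⟨V, hV⟩).map φ) = q at h2 ⊢
    induction q with
    | bot => exact bot_le
    | coe m =>
      have h3 : m + 1 ≤ (1 : ℕ∞) + 1 := by rw [one_add_one_eq_two]; exact WithBot.coe_le_coe.1 h2
      exact_mod_cast (WithTop.add_le_add_iff_right ENat.one_ne_top).1 h3
  haveI := Groth.L06.NormalAscent.regular_of_normal_dim_le_one hY1
  haveI : IsRegularLocalRing (X.presheaf.stalk (I.subschemeι y) ⧸ (I.ideal ⟨V, hV⟩).map φ) :=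
    IsRegularLocalRing.of_ringEquiv e.symm
  refine Groth.L07.RegQuot.isRegularLocalRing_of_quotient (J := (I.ideal ⟨V, hV⟩).map φ)
    ⟨[φ c], ⟨?_, fun htop => ?_⟩, by rw [Ideal.ofList_singleton, hJ]⟩
  · rw [RingTheory.Sequence.isWeaklyRegular_cons_iff]
    exact ⟨isSMulRegular_iff_right_eq_zero_of_smul.2 fun a ha => (mul_eq_zero.1 ha).resolve_left hne,
      RingTheory.Sequence.IsWeaklyRegular.nil _ _⟩
  · rw [smul_eq_mul, Ideal.mul_top, Ideal.ofList_singleton, ← hJ] at htop
    haveI := e.symm.isLocalRing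
    exact not_subsingleton (X.presheaf.stalk (I.subschemeι y) ⧸ (I.ideal ⟨V, hV⟩).map φ)
      (Ideal.Quotient.subsingleton_iff.2 htop.symm)

/-- Opens containing the regular points of an ample normal divisor have complement of codimension two. -/
theorem two_le_dim_of_notMem {k : Type u} [Field k] (f : X ⟶ Spec (CommRingCat.of k)) [IsProper f] [IsIntegral X]
    (hXn : Pi1.IsNormalScheme X) {d : ℕ} (hd : topologicalKrullDim X = d) (h3 : 2 ≤ d) {L : X.Modules}
    (hL : CohB1.IsAmple L) {s : Coh.structureModule X ⟶ L} (hs : s ≠ 0)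
    (hYn : Pi1.IsNormalScheme (PicF2.zeroScheme L s).subscheme) (U : Set X) (hU : IsOpen U)
    (hUY : ∀ x : X, x ∈ ((PicF2.zeroScheme L s).support : Set X) → IsRegularLocalRing (X.presheaf.stalk x) → x ∈ U)
    (x : X) (hx : x ∉ U) : (2 : WithBot ℕ∞) ≤ ringKrullDim (X.presheaf.stalk x) := by
  classical
  letI : X.Over (Spec (CommRingCat.of k)) := ⟨f⟩
  haveI : IsProper (X ↘ Spec (CommRingCat.of k)) := ‹IsProper f›
  haveI : IsLocallyNoetherian X := LocallyOfFiniteType.isLocallyNoetherian f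
  set I := PicF2.zeroScheme L s with hI
  by_cases hreg : IsRegularLocalRing (X.presheaf.stalk x)
  swap
  · exact two_le_dim_of_not_regular hXn x hreg
  refine two_le_of_not_le_one fun hle => ?_
  obtain ⟨a, c, ha, hc, hac⟩ := exists_trdeg_add_dim k hd x
  have hc1 : c ≤ 1 := by rw [hc] at hle; exact_mod_cast hle
  have hxY : x ∉ (I.support : Set X) := fun h => hx (hUY x h hreg)
  have hnc : ¬ IsClosed ({x} : Set X) := fun h => by
    have := (hc.symm.trans (Groth.Agent.L26.PicSm.stalk_closed_dim k hd h))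
    have h' : c = d := by exact_mod_cast this
    omega
  obtain ⟨w, hwx, hwY⟩ : (closure ({x} : Set X) ∩ (I.support : Set X)).Nonempty := by
    rw [Set.nonempty_iff_ne_empty]
    intro h0
    refine hnc (Groth.L22.EnrSev.isClosed_of_closure_subset_affine k
      (Groth.L19.AmpleAffine.isAffineOpen_genLocus f hL s) fun z hz => ?_)
    by_contra hzG
    exact Set.eq_empty_iff_forall_notMem.1 h0 z
      ⟨hz, (Groth.L22.ZeroScheme.support_zeroScheme hL.1 s).ge hzG⟩
  -- a point of the intersection without proper generalisation in it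
  obtain ⟨⟨V, hV⟩, hwV, c', hc', hspan⟩ :=
    Groth.Agent.ThetaRed.isEffCartier_zeroScheme hL.1 hs w
  have hxV : x ∈ V := (specializes_iff_mem_closure.2 hwx).mem_open V.2 hwV
  let p := hV.primeIdealOf ⟨x, hxV⟩
  let q₀ := hV.primeIdealOf ⟨w, hwV⟩
  have hp : hV.fromSpec p = x := hV.fromSpec_primeIdealOf ⟨x, hxV⟩
  have hq₀ : hV.fromSpec q₀ = w := hV.fromSpec_primeIdealOf ⟨w, hwV⟩
  have he := hV.fromSpec.isOpenEmbedding
  have hmem : ∀ r : PrimeSpectrum Γ(X, V), (hV.fromSpec r ∈ (I.support : Set X) ↔ c' ∈ r.asIdeal) := fun r => by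
    have hr : hV.fromSpec r ∈ V := hV.range_fromSpec.le ⟨r, rfl⟩
    rw [SetLike.mem_coe, I.mem_support_iff_of_mem (U := ⟨V, hV⟩) hr, hspan, Scheme.zeroLocus_span]
    refine (Set.ext_iff.1 (hV.fromSpec_preimage_zeroLocus {c'}) r).trans ?_
    exact Set.singleton_subset_iff
  have hcq₀ : c' ∈ q₀.asIdeal := (hmem q₀).1 (hq₀.symm ▸ hwY)
  have hpq₀ : p.asIdeal ≤ q₀.asIdeal := (PrimeSpectrum.le_iff_specializes p q₀).2
    (he.isInducing.specializes_iff.1 (hp.symm ▸ hq₀.symm ▸ specializes_iff_mem_closure.2 hwx))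
  have hcp : c' ∉ p.asIdeal := fun h => hxY (hp ▸ (hmem p).2 h)
  have hle' : p.asIdeal ⊔ Ideal.span {c'} ≤ q₀.asIdeal :=
    sup_le hpq₀ ((Ideal.span_singleton_le_iff_mem _).2 hcq₀)
  obtain ⟨m, hm, hmq⟩ := Ideal.exists_minimalPrimes_le hle'
  haveI := hm.1.1
  haveI := p.2
  let q : PrimeSpectrum Γ(X, V) := ⟨m, hm.1.1⟩
  have hpm : p.asIdeal ≤ m := le_sup_left.trans hm.1.2
  have hcm : c' ∈ m := hm.1.2 (Ideal.mem_sup_right (Ideal.mem_span_singleton_self c'))
  have hyY : hV.fromSpec q ∈ (I.support : Set X) := (hmem q).2 hcm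
  have hxy : x ⤳ hV.fromSpec q :=
    hp ▸ ((PrimeSpectrum.le_iff_specializes p q).1 hpm).map hV.fromSpec.continuous
  have hne : x ≠ hV.fromSpec q := fun h => hxY (h.symm ▸ hyY)
  haveI : IsNoetherianRing Γ(X, V) := IsLocallyNoetherian.component_noetherian ⟨V, hV⟩
  obtain ⟨n, hn, hn1⟩ := Groth.L22.SchemeDim.trdeg_covBy k X hne hxy fun z hz1 hz2 => by
    obtain ⟨r, rfl⟩ : z ∈ Set.range hV.fromSpec :=
      hV.range_fromSpec.ge (hz2.mem_open V.2 (hV.range_fromSpec.le ⟨q, rfl⟩))
    have hr1 : p.asIdeal ≤ r.asIdeal := (PrimeSpectrum.le_iff_specializes p r).2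
      (he.isInducing.specializes_iff.1 (hp.symm ▸ hz1))
    have hr2 : r.asIdeal ≤ m := (PrimeSpectrum.le_iff_specializes r q).2 (he.isInducing.specializes_iff.1 hz2)
    haveI := r.2
    rcases Groth.L18.LocPic.eq_or_eq_of_isMinimal c' hcp hr1 hr2 hcm (fun t ht h1 h2 h3 =>
        le_antisymm h2 (hm.2 ⟨ht, sup_le h1 ((Ideal.span_singleton_le_iff_mem _).2 h3)⟩ h2)) with h | h
    · exact Or.inl (hp ▸ congrArg hV.fromSpec (PrimeSpectrum.ext h))
    · exact Or.inr (congrArg hV.fromSpec (PrimeSpectrum.ext h))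
  obtain ⟨a', b', ha', hb', hab'⟩ := exists_trdeg_add_dim k hd (hV.fromSpec q)
  have e1 : a' = n := by exact_mod_cast ha'.symm.trans hn
  have e2 : a = n + 1 := by exact_mod_cast ha.symm.trans hn1
  have hb2 : b' ≤ 2 := by omega
  obtain ⟨y, hy⟩ : hV.fromSpec q ∈ Set.range I.subschemeι := by
    rw [Scheme.IdealSheafData.range_subschemeι]; exact hyY
  have hYreg := regular_of_dim_le_two I (Groth.Agent.ThetaRed.isEffCartier_zeroScheme hL.1 hs) hYn y
    (by rw [hy, hb']; exact_mod_cast hb2)
  rw [hy] at hYreg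
  exact hx (hxy.mem_open hU (hUY _ hyY hYreg))

end Groth.L18.LefRegCodim
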