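import Groth.Agent.L18.SymGraded
import Groth.Agent.L18.SymInvertible
import Groth.Agent.L18.RelSpecAlg
import Groth.Agent.L19.NormalSections
import Groth.Prelude.Def_Pi1
import Mathlib.LinearAlgebra.SymmetricAlgebra.Basis
import Mathlib.RingTheory.Polynomial.IsIntegral

/-!
# Integrality and normality of line bundles and of their functions
-/

set_option autoImplicit false
set_option linter.style.haveILetI false
set_option backward.isDefEq.respectTransparency false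

noncomputable section

universe u

open CategoryTheory CategoryTheory.Limits AlgebraicGeometry TopologicalSpace Opposite
open Groth.L18.Frame (IsFrame)

namespace Groth.L18.LBNormal

variable {X : Scheme.{u}} {L : X.Modules} [Coh.IsQCoh L] {𝒜 : RelSpec.QCAlg X} {jL : L ⟶ 𝒜.toModule}

/-- A localisation of a normal domain at a submonoid avoiding zero. -/
theorem good_of_isLocalization {R S : Type u} [CommRing R] [CommRing S] [Algebra R S] [IsDomain R]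
    [IsIntegrallyClosed R] (M : Submonoid R) (hM : (0 : R) ∉ M) [IsLocalization M S] :
    IsDomain S ∧ IsIntegrallyClosed S := by
  have h : M ≤ nonZeroDivisors R := le_nonZeroDivisors_of_noZeroDivisors hM
  exact ⟨IsLocalization.isDomain_of_le_nonZeroDivisors (S := S) h, isIntegrallyClosed_of_isLocalization S M h⟩

/-- A ring whose idempotent pieces are normal domains has normal local rings. -/
theorem good_atPrime {R : Type u} [CommRing R] (P : Ideal R) [P.IsPrime] {D : Type u} [CommRing D] [Algebra R D]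
    [IsDomain D] [IsIntegrallyClosed D] (e : R) (he : e ∉ P) [IsLocalization.Away e D]
    (S : Type u) [CommRing S] [Algebra R S] [IsLocalization.AtPrime S P] : IsDomain S ∧ IsIntegrallyClosed S := by
  have hle : Submonoid.powers e ≤ P.primeCompl := by
    rintro _ ⟨n, rfl⟩ h
    exact he (Ideal.IsPrime.mem_of_pow_mem inferInstance n h)
  letI : Algebra D S := (IsLocalization.Away.lift (S := D) e (g := algebraMap R S)
    (IsLocalization.map_units S (⟨e, he⟩ : P.primeCompl))).toAlgebra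
  haveI : IsScalarTower R D S := IsScalarTower.of_algebraMap_eq fun r =>
    (IsLocalization.Away.lift_eq (S := D) e (IsLocalization.map_units S (⟨e, he⟩ : P.primeCompl)) r).symm
  haveI : IsLocalization (P.primeCompl.map (algebraMap R D)) S :=
    IsLocalization.isLocalization_of_submonoid_le D S (Submonoid.powers e) P.primeCompl hle
  refine good_of_isLocalization (P.primeCompl.map (algebraMap R D)) ?_
  rintro ⟨s, hs, hs0⟩
  obtain ⟨⟨_, n, rfl⟩, hn⟩ := (IsLocalization.map_eq_zero_iff (Submonoid.powers e) D s).1 hs0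
  exact hs ((Ideal.IsPrime.mem_or_mem inferInstance (hn ▸ P.zero_mem)).resolve_left
    fun h => he (Ideal.IsPrime.mem_of_pow_mem inferInstance n h))

theorem exists_polyEquiv (hA : RelSpec.IsSymAlg L 𝒜 jL) {U : X.Opens} (hU : IsAffineOpen U) {e : Γ(L, U)}
    (he : IsFrame L U e) : Nonempty (Polynomial Γ(X, U) ≃+* Γ(𝒜.spec, 𝒜.π ⁻¹ᵁ U)) := by
  obtain ⟨Φ, -⟩ := SymSheaf.exists_equiv hA
  let b : Module.Basis PUnit.{u + 1} Γ(X, U) Γ(L, U) := (Module.Basis.singleton PUnit Γ(X, U)).map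
    (LinearEquiv.ofBijective ((LinearMap.id : Γ(X, U) →ₗ[Γ(X, U)] Γ(X, U)).smulRight e) (SymInv.bijective_smul he))
  exact ⟨((MvPolynomial.pUnitAlgEquiv Γ(X, U)).toRingEquiv.symm.trans
    (SymmetricAlgebra.equivMvPolynomial b).toRingEquiv.symm).trans ((Φ U hU).trans
      (asIso ((RelSpecAlg.gammaIso 𝒜).inv.app (op U))).commRingCatIsoToRingEquiv)⟩

/-- Over an affine open of functions a domain, on which the module is free. -/
theorem chart_isIntegral (hA : RelSpec.IsSymAlg L 𝒜 jL) {U : X.Opens} (hU : IsAffineOpen U) {e : Γ(L, U)}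
    (he : IsFrame L U e) [IsDomain Γ(X, U)] :
    IsIntegral (𝒜.π ⁻¹ᵁ U).toScheme ∧ IsDomain Γ(𝒜.spec, 𝒜.π ⁻¹ᵁ U) ∧
      (IsIntegrallyClosed Γ(X, U) → IsIntegrallyClosed Γ(𝒜.spec, 𝒜.π ⁻¹ᵁ U)) := by
  obtain ⟨E⟩ := exists_polyEquiv hA hU he
  haveI hD : IsDomain Γ(𝒜.spec, 𝒜.π ⁻¹ᵁ U) := MulEquiv.isDomain (Polynomial Γ(X, U)) E.symm.toMulEquiv
  refine ⟨?_, hD, fun h => haveI := h; IsIntegrallyClosed.of_equiv E⟩
  haveI : IsAffine (𝒜.π ⁻¹ᵁ U).toScheme := hU.preimage _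
  haveI : Nonempty (𝒜.π ⁻¹ᵁ U).toScheme := by
    by_contra h
    have hb : 𝒜.π ⁻¹ᵁ U = ⊥ := le_bot_iff.1 fun z hz => (h ⟨⟨z, hz⟩⟩).elim
    haveI : Subsingleton Γ(𝒜.spec, 𝒜.π ⁻¹ᵁ U) := by rw [hb]; infer_instance
    exact false_of_nontrivial_of_subsingleton Γ(𝒜.spec, 𝒜.π ⁻¹ᵁ U)
  haveI : IsDomain Γ((𝒜.π ⁻¹ᵁ U).toScheme, ⊤) :=
    MulEquiv.isDomain Γ(𝒜.spec, 𝒜.π ⁻¹ᵁ U) (𝒜.π ⁻¹ᵁ U).topIso.commRingCatIsoToRingEquiv.toMulEquiv
  exact isIntegral_of_isAffine_of_isDomain _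

theorem domain_sections {Z : Scheme.{u}} {O U : Z.Opens} [IsIntegral O.toScheme] (hle : U ≤ O) [Nonempty U]
    (hN : ∀ x : O.toScheme, IsIntegrallyClosed (O.toScheme.presheaf.stalk x)) :
    IsDomain Γ(Z, U) ∧ IsIntegrallyClosed Γ(Z, U) := by
  have hU : O.ι ''ᵁ (O.ι ⁻¹ᵁ U) = U := by
    rw [Scheme.Hom.image_preimage_eq_opensRange_inf, Scheme.Opens.opensRange_ι, inf_eq_right]; exact hle
  haveI : Nonempty (O.ι ⁻¹ᵁ U : O.toScheme.Opens) := by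
    obtain ⟨z, hz⟩ := ‹Nonempty U›
    exact ⟨⟨⟨z, hle hz⟩, hz⟩⟩
  let E : Γ(O.toScheme, O.ι ⁻¹ᵁ U) ≃+* Γ(Z, U) :=
    ((O.ι.appIso (O.ι ⁻¹ᵁ U)) ≪≫ Z.presheaf.mapIso (eqToIso hU.symm).op).commRingCatIsoToRingEquiv
  haveI : IsIntegrallyClosed Γ(O.toScheme, O.ι ⁻¹ᵁ U) := Groth.L19.NormalSec.isIntegrallyClosed_sections hN _
  exact ⟨MulEquiv.isDomain _ E.symm.toMulEquiv, IsIntegrallyClosed.of_equiv E⟩

/-- The preimage of an integral open is integral. -/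
theorem isIntegral_preimage (hL : PicF.IsInvertible L) (hA : RelSpec.IsSymAlg L 𝒜 jL) (Ω : X.Opens)
    [IsIntegral Ω.toScheme] : IsIntegral (𝒜.π ⁻¹ᵁ Ω).toScheme := by
  let ι := {U : X.Opens // IsAffineOpen U ∧ U ≤ Ω ∧ Nonempty U ∧ ∃ e : Γ(L, U), IsFrame L U e}
  have hdom : ∀ U : X.Opens, U ≤ Ω → Nonempty U → IsDomain Γ(X, U) := fun U hle hne => by
    haveI : Nonempty (Ω.ι ⁻¹ᵁ U : Ω.toScheme.Opens) := by
      obtain ⟨z, hz⟩ := hne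
      exact ⟨⟨⟨z, hle hz⟩, hz⟩⟩
    have hU : Ω.ι ''ᵁ (Ω.ι ⁻¹ᵁ U) = U := by
      rw [Scheme.Hom.image_preimage_eq_opensRange_inf, Scheme.Opens.opensRange_ι, inf_eq_right]; exact hle
    exact MulEquiv.isDomain Γ(Ω.toScheme, Ω.ι ⁻¹ᵁ U) (Ω.ι.appIso (Ω.ι ⁻¹ᵁ U) ≪≫
      X.presheaf.mapIso (eqToIso hU.symm).op).commRingCatIsoToRingEquiv.symm.toMulEquiv
  have hframe : ∀ x ∈ Ω, ∃ U : ι, x ∈ U.1 := fun x hx => by
    obtain ⟨U, hU, e, hxU, hUΩ, he⟩ := SymInv.exists_affine_frame (L := L) hL x Ω hx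
    exact ⟨⟨U, hU, hUΩ, ⟨⟨x, hxU⟩⟩, e, he⟩, hxU⟩
  have hint : ∀ U : ι, IsIntegral (𝒜.π ⁻¹ᵁ U.1).toScheme := by
    rintro ⟨U, hU, hle, hne, e, he⟩
    haveI := hdom U hle hne
    exact (chart_isIntegral hA hU he).1
  haveI : IsReduced (𝒜.π ⁻¹ᵁ Ω).toScheme := by
    haveI : ∀ v : (𝒜.π ⁻¹ᵁ Ω).toScheme, _root_.IsReduced ((𝒜.π ⁻¹ᵁ Ω).toScheme.presheaf.stalk v) := fun v => by
      obtain ⟨U, hv⟩ := hframe _ v.2
      haveI := hint U
      exact isReduced_of_injective (((𝒜.π ⁻¹ᵁ Ω).stalkIso v).hom ≫ ((𝒜.π ⁻¹ᵁ U.1).stalkIso ⟨v.1, hv⟩).inv).hom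
        (((𝒜.π ⁻¹ᵁ Ω).stalkIso v) ≪≫ ((𝒜.π ⁻¹ᵁ U.1).stalkIso ⟨v.1, hv⟩).symm).commRingCatIsoToRingEquiv.injective
    exact isReduced_of_isReduced_stalk _
  obtain ⟨x⟩ : Nonempty Ω.toScheme := inferInstance
  haveI : IrreducibleSpace (𝒜.π ⁻¹ᵁ Ω).toScheme := by
    have hne : ∀ U : ι, ((𝒜.π ⁻¹ᵁ U.1 : 𝒜.spec.Opens) : Set 𝒜.spec).Nonempty := fun U => by
      haveI := hint U
      obtain ⟨v⟩ : Nonempty (𝒜.π ⁻¹ᵁ U.1).toScheme := inferInstance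
      exact ⟨v.1, v.2⟩
    have hirr : ∀ U : ι, IsPreirreducible ((𝒜.π ⁻¹ᵁ U.1 : 𝒜.spec.Opens) : Set 𝒜.spec) := fun U => by
      haveI := hint U
      rw [← Scheme.Opens.range_ι, ← Set.image_univ]
      exact (PreirreducibleSpace.isPreirreducible_univ).image _ (Scheme.Hom.continuous _).continuousOn
    refine (isIrreducible_iff_irreducibleSpace (s := ((𝒜.π ⁻¹ᵁ Ω : 𝒜.spec.Opens) : Set 𝒜.spec))).1 ⟨?_, ?_⟩
    · obtain ⟨U, hU⟩ := hframe _ x.2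
      obtain ⟨v, hv⟩ := hne U
      exact ⟨v, U.2.2.1 hv⟩
    rintro O O' hO hO' ⟨a, haΩ, ha⟩ ⟨b, hbΩ, hb⟩
    obtain ⟨i, hi⟩ := hframe _ haΩ
    obtain ⟨j, hj⟩ := hframe _ hbΩ
    haveI : PreirreducibleSpace Ω.toScheme := inferInstance
    obtain ⟨z, hzi, hzj⟩ : (((Ω.ι ⁻¹ᵁ i.1 : Ω.toScheme.Opens) : Set Ω.toScheme) ∩ (Ω.ι ⁻¹ᵁ j.1 : Ω.toScheme.Opens)).Nonempty :=
      nonempty_preirreducible_inter (Ω.ι ⁻¹ᵁ i.1).2 (Ω.ι ⁻¹ᵁ j.1).2 ⟨⟨_, haΩ⟩, hi⟩ ⟨⟨_, hbΩ⟩, hj⟩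
    obtain ⟨k, hk, e, hzk, hkij, he⟩ := SymInv.exists_affine_frame (L := L) hL z.1 (i.1 ⊓ j.1) ⟨hzi, hzj⟩
    obtain ⟨v, hv⟩ := hne ⟨k, hk, hkij.trans (inf_le_left.trans i.2.2.1), ⟨⟨z.1, hzk⟩⟩, e, he⟩
    obtain ⟨c, hci, hcO, hcj⟩ := hirr i O _ hO (𝒜.π ⁻¹ᵁ j.1).2 ⟨a, hi, ha⟩ ⟨v, (hkij hv).1, (hkij hv).2⟩
    obtain ⟨d, hdj, ⟨hdO, -⟩, hdO'⟩ := hirr j (O ∩ (𝒜.π ⁻¹ᵁ i.1 : 𝒜.spec.Opens)) O'
      (hO.inter (𝒜.π ⁻¹ᵁ i.1).2) hO' ⟨c, hcj, hcO, hci⟩ ⟨b, hj, hb⟩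
    exact ⟨d, j.2.2.1 hdj, hdO, hdO'⟩
  exact isIntegral_of_irreducibleSpace_of_isReduced _

theorem normal_of_open {Z : Scheme.{u}} (O : Z.Opens) (hN : ∀ z ∈ O, IsIntegrallyClosed (Z.presheaf.stalk z))
    (x : O.toScheme) : IsIntegrallyClosed (O.toScheme.presheaf.stalk x) :=
  haveI := hN x.1 x.2
  IsIntegrallyClosed.of_equiv (O.stalkIso x).symm.commRingCatIsoToRingEquiv

/-- The local rings of a line bundle over a normal scheme. -/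
theorem isIntegrallyClosed_stalk (hL : PicF.IsInvertible L) (hA : RelSpec.IsSymAlg L 𝒜 jL) (Ω : X.Opens)
    [IsIntegral Ω.toScheme] (hN : Pi1.IsNormalScheme X) :
    ∀ v ∈ 𝒜.π ⁻¹ᵁ Ω, IsIntegrallyClosed (𝒜.spec.presheaf.stalk v) := fun v hv => by
  obtain ⟨U, hU, e, hxU, hUΩ, he⟩ := SymInv.exists_affine_frame (L := L) hL _ Ω hv
  haveI : Nonempty U := ⟨⟨_, hxU⟩⟩
  obtain ⟨h1, h2⟩ := domain_sections hUΩ (normal_of_open Ω fun z _ => (hN z).2)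
  haveI := h1
  obtain ⟨-, h3, h4⟩ := chart_isIntegral hA hU he
  haveI := h3
  haveI := h4 h2
  have hW := hU.preimage 𝒜.π
  letI := (𝒜.spec.presheaf.germ (𝒜.π ⁻¹ᵁ U) v hxU).hom.toAlgebra
  haveI := hW.isLocalization_stalk ⟨v, hxU⟩
  exact (good_of_isLocalization (S := 𝒜.spec.presheaf.stalk v) (hW.primeIdealOf ⟨v, hxU⟩).asIdeal.primeCompl
    fun h => h (Ideal.zero_mem _)).2

/-- A quasi-compact open of a scheme with an integral open about each point splits into finitely many. -/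
theorem exists_partition {Z : Scheme.{u}} (hZ : ∀ z : Z, ∃ U : Z.Opens, z ∈ U ∧ IsIntegral U.toScheme) (O : Z.Opens)
    (hO : IsCompact (O : Set Z)) :
    ∃ (s : Finset Z) (Ω : Z → Z.Opens), (∀ η ∈ s, IsIntegral (Ω η).toScheme ∧ Ω η ≤ O) ∧
      (∀ z ∈ O, ∃ η ∈ s, z ∈ Ω η) ∧ ∀ η ∈ s, ∀ η' ∈ s, η ≠ η' → Ω η ⊓ Ω η' = ⊥ := by
  classical
  have hloc : ∀ z : O, ∃ U : Z.Opens, z.1 ∈ U ∧ U ≤ O ∧ ∃ η ∈ U, ∀ y ∈ U, η ⤳ y := fun z => by
    obtain ⟨U, hzU, hU⟩ := hZ z.1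
    haveI := hU
    refine ⟨U ⊓ O, ⟨hzU, z.2⟩, inf_le_right, (genericPoint U.toScheme).1, ⟨(genericPoint U.toScheme).2, ?_⟩, ?_⟩
    · exact (((genericPoint_spec U.toScheme).specializes (y := ⟨z.1, hzU⟩) trivial).map U.ι.continuous).mem_open O.2 z.2
    · exact fun y hy => ((genericPoint_spec U.toScheme).specializes (y := (⟨y, hy.1⟩ : U.toScheme)) trivial).map U.ι.continuous
  choose U hzU hUO η hηU hη using hloc
  obtain ⟨t, ht⟩ := hO.elim_finite_subcover (fun z : O => (U z : Set Z)) (fun z => (U z).2)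
    fun z hz => Set.mem_iUnion.2 ⟨⟨z, hz⟩, hzU _⟩
  let Ω : Z → Z.Opens := fun ξ => ⨆ z ∈ t.filter fun z => η z = ξ, U z
  have hmem : ∀ {ξ y : Z}, y ∈ Ω ξ → ξ ⤳ y ∧ y ∈ O := fun {ξ y} hy => by
    obtain ⟨z, hy⟩ := Opens.mem_iSup.1 hy
    obtain ⟨hz, hy⟩ := Opens.mem_iSup.1 hy
    exact ⟨(Finset.mem_filter.1 hz).2 ▸ hη z y hy, hUO z hy⟩
  have hmax : ∀ z : O, ∀ y : Z, y ⤳ η z → y = η z := fun z y hy =>
    (hy.antisymm (hη z y (hy.mem_open (U z).2 (hηU z)))).eq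
  refine ⟨t.image η, Ω, fun ξ hξ => ⟨?_, fun y hy => (hmem hy).2⟩, fun z hz => ?_, ?_⟩
  · obtain ⟨z, hz, rfl⟩ := Finset.mem_image.1 hξ
    have hξΩ : η z ∈ Ω (η z) :=
      Opens.mem_iSup.2 ⟨z, Opens.mem_iSup.2 ⟨Finset.mem_filter.2 ⟨hz, rfl⟩, hηU z⟩⟩
    haveI : IrreducibleSpace (Ω (η z)).toScheme :=
      (isIrreducible_iff_irreducibleSpace (s := ((Ω (η z) : Z.Opens) : Set Z))).1 ⟨⟨_, hξΩ⟩,
        fun V V' hV hV' ⟨a, haΩ, ha⟩ ⟨b, hbΩ, hb⟩ =>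
          ⟨η z, hξΩ, (hmem haΩ).1.mem_open hV ha, (hmem hbΩ).1.mem_open hV' hb⟩⟩
    haveI : IsReduced (Ω (η z)).toScheme := by
      haveI : ∀ v : (Ω (η z)).toScheme, _root_.IsReduced ((Ω (η z)).toScheme.presheaf.stalk v) := fun v => by
        obtain ⟨W, hvW, hW⟩ := hZ v.1
        haveI := hW
        exact isReduced_of_injective (((Ω (η z)).stalkIso v).hom ≫ (W.stalkIso ⟨v.1, hvW⟩).inv).hom
          (((Ω (η z)).stalkIso v) ≪≫ (W.stalkIso ⟨v.1, hvW⟩).symm).commRingCatIsoToRingEquiv.injective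
      exact isReduced_of_isReduced_stalk _
    exact isIntegral_of_irreducibleSpace_of_isReduced _
  · obtain ⟨i, hi, hzi⟩ := Set.mem_iUnion₂.1 (ht hz)
    exact ⟨η i, Finset.mem_image.2 ⟨i, hi, rfl⟩,
      Opens.mem_iSup.2 ⟨i, Opens.mem_iSup.2 ⟨Finset.mem_filter.2 ⟨hi, rfl⟩, hzi⟩⟩⟩
  · intro ξ hξ ξ' hξ' hne
    obtain ⟨z, -, rfl⟩ := Finset.mem_image.1 hξ
    obtain ⟨z', -, rfl⟩ := Finset.mem_image.1 hξ'
    refine le_bot_iff.1 fun y ⟨hy, hy'⟩ => hne ?_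
    -- both generic points lie in the integral open about `y`
    obtain ⟨W, hyW, hW⟩ := hZ y
    haveI := hW
    have h1 : η z ∈ W := (hmem hy).1.mem_open W.2 hyW
    have h2 : η z' ∈ W := (hmem hy').1.mem_open W.2 hyW
    have e1 := hmax z _ (((genericPoint_spec W.toScheme).specializes (y := ⟨η z, h1⟩) trivial).map W.ι.continuous)
    have e2 := hmax z' _ (((genericPoint_spec W.toScheme).specializes (y := ⟨η z', h2⟩) trivial).map W.ι.continuous)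
    exact e1.symm.trans e2

end Groth.L18.LBNormal
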