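import Groth.Agent.L18.FreeFiniteSet
import Groth.Agent.L18.LocFreeTilde
import Mathlib.RingTheory.Finiteness.Basic
import Mathlib.LinearAlgebra.Dimension.Free

/-!
# Local freeness from free stalks of locally constant rank
-/

set_option autoImplicit false
set_option linter.style.haveILetI false
set_option backward.isDefEq.respectTransparency false
set_option backward.isDefEq.respectTransparency.types false

universe u

open CategoryTheory CategoryTheory.Limits AlgebraicGeometry TopologicalSpace Opposite

noncomputable section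

namespace Groth.L18.LFRank

open Groth.L18.Frame (rs ro rs_rs ro_ro rs_smul)
open Groth.L20.ModStalk (germ_rs germₗ stalkModule isLocalizedModule_germ germ_smul)

variable {X : Scheme.{u}} {M : X.Modules}

/-- the rank of the fibre -/
abbrev rk (M : X.Modules) (x : X) : ℕ :=
  Module.finrank (IsLocalRing.ResidueField (X.presheaf.stalk x))
    (TensorProduct (X.presheaf.stalk x) (IsLocalRing.ResidueField (X.presheaf.stalk x)) (M.presheaf.stalk x))

theorem isLocallyConstant_rk (hM : FlatMod.IsFinLocFree M) : IsLocallyConstant (rk M) := by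
  rw [IsLocallyConstant.iff_exists_open]
  intro x
  obtain ⟨U, n, hx, ⟨e⟩⟩ := hM x
  refine ⟨U, U.isOpen, hx, fun y hy => ?_⟩
  have h : ∀ z (hz : z ∈ U), rk M z = n := fun z hz => by
    obtain ⟨s, hs⟩ := Groth.L17.FinLocBases.exists_isBasis M e
    have hU : U.ι ''ᵁ ⊤ = U := (Scheme.Hom.image_top_eq_opensRange U.ι).trans U.opensRange_ι
    have hb := Groth.L17.PullBasis.bijective_stalk M s hs z (hU.ge hz)
    let b : Module.Basis (Fin n) (X.presheaf.stalk z) (M.presheaf.stalk z) :=
      Module.Basis.ofEquivFun (LinearEquiv.ofBijective (Fintype.linearCombination (X.presheaf.stalk z)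
        fun j => (M.presheaf.germ (U.ι ''ᵁ ⊤) z (hU.ge hz) (s j) : M.presheaf.stalk z)) hb).symm
    haveI := Module.Free.of_basis b
    rw [rk, Module.finrank_baseChange, Module.finrank_eq_card_basis b, Fintype.card_fin]
  rw [h y hy, h x hx]

theorem isFinLocFree_of_free_stalks [Coh.IsQCoh M] (hft : CohB1.IsFT M)
    (hfree : ∀ x : X, Module.Free (X.presheaf.stalk x) (M.presheaf.stalk x))
    (hlc : IsLocallyConstant (rk M)) : FlatMod.IsFinLocFree M := by
  classical
  intro x
  obtain ⟨V, hV, hxV, -⟩ := exists_isAffineOpen_mem_and_subset (x := x) (U := ⊤) trivial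
  obtain ⟨G, hG⟩ := (Groth.L20.ModStalk.finite_sections M ⟨inferInstance, hft⟩ hV).fg_top
  have hgen : ∀ y (hy : y ∈ V), Submodule.span (X.presheaf.stalk y)
      ((fun g => (M.presheaf.germ V y hy g : M.presheaf.stalk y)) '' (G : Set Γ(M, V))) = ⊤ := fun y hy => by
    letI := stalkModule M hy
    haveI := isLocalizedModule_germ M hV hy
    letI := X.presheaf.algebra_section_stalk (⟨y, hy⟩ : V)
    haveI := hV.isLocalization_stalk ⟨y, hy⟩
    haveI : IsScalarTower Γ(X, V) (X.presheaf.stalk y) (M.presheaf.stalk y) :=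
      IsScalarTower.of_algebraMap_smul fun _ _ => rfl
    refine top_le_iff.1 fun v _ => ?_
    obtain ⟨⟨m, t⟩, hmt⟩ := IsLocalizedModule.surj (hV.primeIdealOf ⟨y, hy⟩).asIdeal.primeCompl (germₗ M hy) v
    have hu := IsLocalization.map_units (X.presheaf.stalk y) t
    obtain ⟨w, hw⟩ := hu.exists_left_inv
    have hv : v = w • germₗ M hy m := by
      rw [← hmt, Submonoid.smul_def, ← algebraMap_smul (X.presheaf.stalk y) (t : Γ(X, V)) v, smul_smul, hw, one_smul]
    rw [hv]
    refine Submodule.smul_mem _ _ ?_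
    have hm : m ∈ Submodule.span Γ(X, V) (G : Set Γ(M, V)) := hG ▸ Submodule.mem_top
    clear hv hmt
    induction hm using Submodule.span_induction with
    | mem z hz => exact Submodule.subset_span ⟨z, hz, rfl⟩
    | zero => rw [map_zero]; exact Submodule.zero_mem _
    | add a b _ _ ha hb => rw [map_add]; exact Submodule.add_mem _ ha hb
    | smul a b _ hb =>
      rw [map_smul, ← algebraMap_smul (X.presheaf.stalk y) a]
      exact Submodule.smul_mem _ _ hb
  letI := stalkModule M hxV
  haveI := isLocalizedModule_germ M hV hxV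
  letI := X.presheaf.algebra_section_stalk (⟨x, hxV⟩ : V)
  haveI := hV.isLocalization_stalk ⟨x, hxV⟩
  haveI : IsScalarTower Γ(X, V) (X.presheaf.stalk x) (M.presheaf.stalk x) :=
    IsScalarTower.of_algebraMap_smul fun _ _ => rfl
  haveI : ∀ y : X, Module.Free (X.presheaf.stalk y) (M.presheaf.stalk y) := hfree
  haveI : Module.Finite (X.presheaf.stalk x) (M.presheaf.stalk x) :=
    ⟨⟨G.image fun g => (M.presheaf.germ V x hxV g : M.presheaf.stalk x), by rw [Finset.coe_image]; exact hgen x hxV⟩⟩
  let P := (hV.primeIdealOf ⟨x, hxV⟩).asIdeal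
  let r := rk M x
  have hr : Module.finrank (X.presheaf.stalk x) (M.presheaf.stalk x) = r := Module.finrank_baseChange.symm
  let b := Module.finBasisOfFinrankEq (X.presheaf.stalk x) (M.presheaf.stalk x) hr
  choose p hp using fun i => IsLocalizedModule.surj P.primeCompl (germₗ M hxV) (b i)
  let m : Fin r → Γ(M, V) := fun i => (p i).1
  let S : Submodule Γ(X, V) Γ(M, V) := Submodule.span _ (Set.range m)
  have hb : ∀ v : M.presheaf.stalk x, ∃ t : P.primeCompl, ∃ z ∈ S, (t : Γ(X, V)) • v = germₗ M hxV z := by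
    intro v
    have hv : v ∈ Submodule.span (X.presheaf.stalk x) (Set.range b) := b.span_eq ▸ Submodule.mem_top
    induction hv using Submodule.span_induction with
    | mem z hz =>
      obtain ⟨i, rfl⟩ := hz
      exact ⟨(p i).2, m i, Submodule.subset_span ⟨i, rfl⟩, hp i⟩
    | zero => exact ⟨1, 0, S.zero_mem, by rw [smul_zero, map_zero]⟩
    | add a c _ _ ha hc =>
      obtain ⟨t, z, hz, hta⟩ := ha
      obtain ⟨t', z', hz', htc⟩ := hc
      refine ⟨t * t', (t' : Γ(X, V)) • z + (t : Γ(X, V)) • z', S.add_mem (S.smul_mem _ hz) (S.smul_mem _ hz'), ?_⟩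
      rw [map_add, map_smul, map_smul, ← hta, ← htc, Submonoid.coe_mul, smul_add, smul_smul, smul_smul]
      rw [mul_comm (t' : Γ(X, V))]
    | smul a c _ hc =>
      obtain ⟨t, z, hz, htc⟩ := hc
      obtain ⟨⟨a₀, t₀⟩, ha⟩ := IsLocalization.surj P.primeCompl a
      refine ⟨t₀ * t, a₀ • z, S.smul_mem _ hz, ?_⟩
      rw [map_smul, ← htc, Submonoid.coe_mul, smul_smul, mul_comm a₀, ← algebraMap_smul (X.presheaf.stalk x),
        smul_smul, map_mul, ← algebraMap_smul (X.presheaf.stalk x) ((t : Γ(X, V)) * a₀), map_mul, ← ha]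
      ring_nf
  have hG' : ∀ g : Γ(M, V), ∃ f ∈ P.primeCompl, f • g ∈ S := by
    intro g
    obtain ⟨t, z, hz, h⟩ := hb (germₗ M hxV g)
    rw [← map_smul] at h
    obtain ⟨c, hc⟩ := IsLocalizedModule.exists_of_eq (S := P.primeCompl) h
    refine ⟨(c : Γ(X, V)) * t, P.primeCompl.mul_mem c.2 t.2, ?_⟩
    rw [mul_smul]
    show (c : Γ(X, V)) • _ ∈ S
    rw [show (c : Γ(X, V)) • (t : Γ(X, V)) • g = (c : Γ(X, V)) • z from hc]
    exact S.smul_mem _ hz
  choose f hf hfS using hG'
  let F : Γ(X, V) := ∏ g ∈ G, f g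
  have hF : F ∈ P.primeCompl := Submonoid.prod_mem _ fun g _ => hf g
  have hxF : x ∈ X.basicOpen F := by
    rw [X.mem_basicOpen F x hxV]
    exact IsLocalization.map_units (X.presheaf.stalk x) (⟨F, hF⟩ : P.primeCompl)
  obtain ⟨O, hO, hxO, hconst⟩ := (IsLocallyConstant.iff_exists_open _).1 hlc x
  let W : X.Opens := X.basicOpen F ⊓ ⟨O, hO⟩
  have hWV : W ≤ V := inf_le_left.trans (X.basicOpen_le F)
  let t : Fin r → Γ(M, W) := fun i => rs M hWV (m i)
  have hbij : ∀ y (hy : y ∈ W), Function.Bijective fun c : Fin r → X.presheaf.stalk y =>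
      ∑ j, c j • (M.presheaf.germ W y hy (t j) : M.presheaf.stalk y) := by
    intro y hy
    have hyV := hWV hy
    letI := stalkModule M hyV
    let v : Fin r → M.presheaf.stalk y := fun j => M.presheaf.germ W y hy (t j)
    have hv : ∀ j, v j = germₗ M hyV (m j) := fun j => germ_rs M hWV hy (m j)
    have hspan : ⊤ ≤ Submodule.span (X.presheaf.stalk y) (Set.range v) := by
      rw [← hgen y hyV, Submodule.span_le]
      rintro _ ⟨g, hg, rfl⟩
      have hu : IsUnit (X.presheaf.germ V y hyV F) := (X.mem_basicOpen F y hyV).1 hy.1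
      have hFg : F • g ∈ S := by
        obtain ⟨c, hc⟩ := Finset.dvd_prod_of_mem f hg
        rw [show F = c * f g from hc.trans (mul_comm _ _), mul_smul]
        exact S.smul_mem _ (hfS g)
      have h1 : germₗ M hyV (F • g) ∈ Submodule.span (X.presheaf.stalk y) (Set.range v) := by
        revert hFg
        generalize F • g = z₀
        intro hFg
        induction hFg using Submodule.span_induction with
        | mem z hz =>
          obtain ⟨i, rfl⟩ := hz
          exact Submodule.subset_span ⟨i, hv i⟩
        | zero => rw [map_zero]; exact Submodule.zero_mem _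
        | add a b _ _ ha hb => rw [map_add]; exact Submodule.add_mem _ ha hb
        | smul a b _ hb =>
          rw [map_smul]
          exact Submodule.smul_mem _ (X.presheaf.germ V y hyV a) hb
      rw [map_smul] at h1
      obtain ⟨w, hw⟩ := hu.exists_left_inv
      have h2 := Submodule.smul_mem _ w h1
      change w • ((X.presheaf.germ V y hyV F) • germₗ M hyV g) ∈ _ at h2
      rwa [smul_smul, hw, one_smul] at h2
    haveI : Module.Finite (X.presheaf.stalk y) (M.presheaf.stalk y) :=
      ⟨⟨Finset.univ.image v, top_le_iff.1 (by simpa using hspan)⟩⟩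
    have hy' : Module.finrank (X.presheaf.stalk y) (M.presheaf.stalk y) = r :=
      Module.finrank_baseChange.symm.trans (hconst y hy.2)
    let by' := Module.finBasisOfFinrankEq (X.presheaf.stalk y) (M.presheaf.stalk y) hy'
    have hsurj : Function.Surjective (Fintype.linearCombination (X.presheaf.stalk y) v) := by
      rw [← LinearMap.range_eq_top, Fintype.range_linearCombination, top_le_iff.1 hspan]
    exact Function.Bijective.of_comp_iff' by'.equivFun.bijective _ |>.1
      (OrzechProperty.bijective_of_surjective_endomorphism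
        (by'.equivFun.toLinearMap.comp (Fintype.linearCombination (X.presheaf.stalk y) v))
        (by'.equivFun.surjective.comp hsurj))
  refine ⟨W, r, ⟨hxF, hxO⟩, ?_⟩
  obtain ⟨e⟩ := Groth.L20.ResDescent.nonempty_iso_free (le_of_eq (W.ι_preimage_self).symm)
    ((Groth.L19.ProjBdl.isBasisOn_of_locBases (Groth.L17.PullBasis.isBasis_of_stalk M t hbij)).pullback W.ι)
  exact ⟨(Scheme.Modules.restrictFunctorIsoPullback W.ι).app M ≪≫ e⟩

end Groth.L18.LFRank
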