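import Groth.Agent.L18.LocPicLevels
import Groth.Agent.L29.Formal.Bridge
import Groth.Agent.L17.PushQCoh
import Groth.Agent.L29.LocFree
import Groth.Agent.S0822

/-!
# Algebraisation of invertible modules on the thickenings of a punctured spectrum
-/

set_option autoImplicit false
set_option linter.style.haveILetI false
set_option linter.unusedSectionVars false
set_option backward.isDefEq.respectTransparency.types false
set_option backward.isDefEq.respectTransparency false
universe u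

open CategoryTheory CategoryTheory.Limits AlgebraicGeometry Opposite TopologicalSpace
open Groth.L16
open Groth.L04.PunctLin (tM)
open Groth.L18.Frame (IsFrame rs)

noncomputable section

namespace Groth.L18.LocPic

attribute [local instance] Groth.Agent.AV.InterPic.picLaw

variable {A : Type u} [CommRing A] (f : A)

local notation "II" => (Ideal.span (singleton f) : Ideal A)

theorem isRegular_el (U : (Spec (CommRingCat.of A)).Opens) (hnzd : f ∈ nonZeroDivisors A)
    (W : (U : Scheme.{u}).Opens) (hW : IsAffineOpen W) : IsRegular (el U.ι W f) := by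
  let φ : A →+* Γ((U : Scheme.{u}), W) :=
    (U.ι.appLE ⊤ W (le_of_le_of_eq le_top (Scheme.Hom.preimage_top _).symm)).hom.comp
      (Scheme.ΓSpecIso (CommRingCat.of A)).inv.hom
  have hflat : φ.Flat := RingHom.Flat.comp
    (RingHom.Flat.of_bijective (ConcreteCategory.bijective_of_isIso (Scheme.ΓSpecIso (CommRingCat.of A)).inv))
    (U.ι.flat_appLE (isAffineOpen_top _) hW _)
  letI := φ.toAlgebra
  haveI : Module.Flat A Γ((U : Scheme.{u}), W) := hflat
  show IsRegular (algebraMap A Γ((U : Scheme.{u}), W) f)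
  have h0 : IsSMulRegular A f := ((isRegular_iff_mem_nonZeroDivisors).2 hnzd).left
  have h1 : IsSMulRegular Γ((U : Scheme.{u}), W) f := h0.of_flat
  refine isRegular_iff_mem_nonZeroDivisors.2 (mem_nonZeroDivisors_iff_right.2 fun z hz => ?_)
  refine h1 ?_
  show f • z = f • 0
  rw [smul_zero, Algebra.smul_def, mul_comm]
  exact hz

/-- `H²(U, O/f) = 0` from the vanishing of `H³` with supports. -/
theorem subsingleton_H2_modPow [IsNoetherianRing A] (𝔞 : Ideal A)
    (h₃ : Subsingleton (LocCoh.H 𝔞 3 (A ⧸ II))) :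
    letI : (LocCoh.puncturedOpen A 𝔞 : Scheme.{u}).Over (Spec (CommRingCat.of A)) :=
      ⟨(LocCoh.puncturedOpen A 𝔞).ι⟩
    Subsingleton (Coh.HH (LocCoh.puncturedOpen A 𝔞 : Scheme.{u})
      (Formal.modPow II 1 (Coh.structureModule _)) 2) := by
  let Uo := LocCoh.puncturedOpen A 𝔞
  letI : (Uo : Scheme.{u}).Over (Spec (CommRingCat.of A)) := ⟨Uo.ι⟩
  let eO : Coh.structureModule (Uo : Scheme.{u}) ≅ tM Uo (ModuleCat.of A A) :=
    (Scheme.Modules.restrictUnitIso Uo.ι).symm ≪≫
      (Scheme.Modules.restrictFunctor Uo.ι).mapIso (tildeSelf (R := CommRingCat.of A)).symm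
  obtain ⟨eQ, -⟩ := Groth.L29.Bridge.exists_modPowIso Uo II A 0
  let eP : Formal.modPow II 1 (Coh.structureModule (Uo : Scheme.{u})) ≅
      Formal.modPow II (0 + 1) (tM Uo (ModuleCat.of A A)) :=
    { hom := Exist.redMap II (0 + 1) eO.hom
      inv := Exist.redMap II (0 + 1) eO.inv
      hom_inv_id := by rw [Exist.redMap_comp, eO.hom_inv_id, Exist.redMap_id]
      inv_hom_id := by rw [Exist.redMap_comp, eO.inv_hom_id, Exist.redMap_id] }
  let e : Formal2.quotPow A II A 0 ≃ₗ[A] A ⧸ II :=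
    Submodule.quotEquivOfEq _ _ (by rw [zero_add, pow_one, smul_eq_mul, Ideal.mul_top])
  have hH : Subsingleton ((localCohomology 𝔞 3).obj (ModuleCat.of A (Formal2.quotPow A II A 0))) :=
    @Equiv.subsingleton _ _ ((localCohomology 𝔞 3).mapIso e.toModuleIso).toLinearEquiv.toEquiv h₃
  obtain ⟨l⟩ := Groth.L04.PunctLin.nonempty_equiv 𝔞 1 (ModuleCat.of A (Formal2.quotPow A II A 0))
  have h2 : Subsingleton (Coh.HH (Uo : Scheme.{u}) (tM Uo (ModuleCat.of A (Formal2.quotPow A II A 0))) 2) :=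
    @Equiv.subsingleton _ _ l.toEquiv hH
  exact @Equiv.subsingleton _ _
    ((SheafOfModules.toSheaf _ ⋙ Sheaf.functorH _ 2).mapIso (eP ≪≫ eQ)).addCommGroupIsoToAddEquiv.toEquiv h2

section Free

variable {X : Scheme.{u}} [X.Over (Spec (CommRingCat.of A))]

/-- An invertible module pushed from a thickening is locally free modulo the power of `f`. -/
theorem isFinLocFreeMod_push [IsNoetherianRing A] [IsLocallyNoetherian X] {Z : Scheme.{u}}
    [Z.Over (Spec (CommRingCat.of A))] {k : ℕ} (e : Z ⟶ X) [IsClosedImmersion e]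
    {π : Z ⟶ Spec (CommRingCat.of (A ⧸ II ^ (k + 1)))}
    (h : IsPullback e π (X ↘ Spec (CommRingCat.of A)) (CohB1.specQuot II k))
    (hπ : π ≫ CohB1.specQuot II k = Z ↘ Spec (CommRingCat.of A)) {L : Z.Modules} (hL : PicF.IsInvertible L) :
    Formal2.IsFinLocFreeMod II (k + 1) ((Coh.push e).obj L) := by
  intro x
  obtain ⟨V, hxV, w, hw⟩ : ∃ (V : X.Opens) (_ : x ∈ V) (w : Γ(L, e ⁻¹ᵁ V)), IsFrame L (e ⁻¹ᵁ V) w := by
    by_cases hx : x ∈ Set.range e
    · obtain ⟨z, rfl⟩ := hx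
      obtain ⟨W₀, w₀, hz, hw₀⟩ := Groth.L18.Frame.exists_frame hL z
      obtain ⟨O, hO, hOW⟩ := e.isClosedEmbedding.isInducing.isOpen_iff.1 W₀.2
      have heq : e ⁻¹ᵁ (⟨O, hO⟩ : X.Opens) = W₀ := Opens.ext hOW
      refine ⟨⟨O, hO⟩, ?_, ?_⟩
      · show z ∈ e.base ⁻¹' O
        rw [hOW]
        exact hz
      · subst heq
        exact ⟨w₀, hw₀⟩
    · refine ⟨⟨(Set.range e)ᶜ, e.isClosedEmbedding.isClosed_range.isOpen_compl⟩, hx, 0, fun V' hV' => ?_⟩
      have hb : V' = ⊥ := eq_bot_iff.2 fun z hz => (hV' hz ⟨z, rfl⟩).elim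
      haveI := Groth.L18.Ample.subsingleton_sections_bot L hb
      haveI : Subsingleton Γ(Z, V') := Groth.L18.Ample.subsingleton_sections_bot (Coh.structureModule Z) hb
      exact ⟨fun a b _ => Subsingleton.elim a b, fun y => ⟨0, Subsingleton.elim _ _⟩⟩
  refine ⟨V, 1, hxV, ?_⟩
  obtain ⟨φ⟩ := Groth.L21.Extend.exists_iso_of_isGen L (e := w) hw
  let W := e ⁻¹ᵁ V
  let bc := Groth.L17.PushQCoh.pushRestrictIso e V.ι W.ι (e ∣_ V)
    (by rw [Scheme.Opens.opensRange_ι, Scheme.Opens.opensRange_ι]) (morphismRestrict_ι e V)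
  have hO : Coh.IsCoh (Coh.structureModule X) :=
    ProperFinite.isCoh_of_isInvertible (Groth.L18.Ample.isInvertible_structureModule X)
  obtain ⟨q, -⟩ := Exist.Adic.exists_modPow_iso_unit h hπ hO
  let free1 : Coh.structureModule X ≅ FlatMod.freeMod X 1 :=
    { hom := Sigma.ι (fun _ : Fin 1 => Coh.structureModule X) 0
      inv := Sigma.desc fun _ => 𝟙 _
      hom_inv_id := Sigma.ι_desc _ _
      inv_hom_id := Sigma.hom_ext _ _ fun b => by
        rw [Subsingleton.elim b 0, Sigma.ι_desc_assoc, Category.id_comp, Category.comp_id] }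
  let eP : Formal.modPow II (k + 1) (Coh.structureModule X) ≅ Formal.modPow II (k + 1) (FlatMod.freeMod X 1) :=
    { hom := Exist.redMap II (k + 1) free1.hom
      inv := Exist.redMap II (k + 1) free1.inv
      hom_inv_id := by rw [Exist.redMap_comp, free1.hom_inv_id, Exist.redMap_id]
      inv_hom_id := by rw [Exist.redMap_comp, free1.inv_hom_id, Exist.redMap_id] }
  exact ⟨bc.app L ≪≫ (Scheme.Modules.pushforward (e ∣_ V)).mapIso (φ ≪≫ (Scheme.Modules.restrictUnitIso W.ι).symm) ≪≫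
    (bc.app (Coh.structureModule Z)).symm ≪≫ (Scheme.Modules.restrictFunctor V.ι).mapIso
      ((Coh.push e).mapIso (Groth.L29.LocFree.pullbackUnitIso e).symm ≪≫ q.symm ≪≫ eP)⟩

end Free

variable [IsNoetherianRing A] (𝔞 : Ideal A)

local notation "Uo" => LocCoh.puncturedOpen A 𝔞

/-- Invertible modules on `U ∩ V(f)` extend to a coherent module on `U` with invertible reductions. -/
theorem exists_coherent [IsAdicComplete (Ideal.span {f}) A] (hf : f ∈ 𝔞) (hnzd : f ∈ nonZeroDivisors A)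
    (h₁ : Module.Finite A (LocCoh.H 𝔞 1 (A ⧸ II))) (h₂ : Module.Finite A (LocCoh.H 𝔞 2 (A ⧸ II)))
    (h₃ : Subsingleton (LocCoh.H 𝔞 3 (A ⧸ II)))
    (L₀ : (CohB1.thick (Uo).ι II 0).Modules) (hL₀ : PicF.IsInvertible L₀) :
    ∃ (L : ∀ k, (CohB1.thick (Uo).ι II k).Modules) (F : (Uo : Scheme.{u}).Modules),
      (∀ k, PicF.IsInvertible (L k)) ∧
      Nonempty ((Scheme.Modules.pullback (CohB1.thickι (Uo).ι II 0)).obj F ≅ L₀) ∧ Coh.IsCoh F ∧
      ∀ k, ∃ w : F ⟶ (Coh.push (CohB1.thickι (Uo).ι II k)).obj (L k),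
        ∀ (V : (Uo : Scheme.{u}).Opens), IsAffineOpen V → Function.Surjective (w.app V) ∧
          ∀ y, w.app V y = 0 →
            y ∈ Ideal.span {el (Uo).ι V f ^ (k + 1)} • (⊤ : Submodule Γ((Uo : Scheme.{u}), V) Γ(F, V)) := by
  let X : Scheme.{u} := Uo
  letI : X.Over (Spec (CommRingCat.of A)) := ⟨(Uo).ι⟩
  haveI : AlgebraicGeometry.IsNoetherian X := by
    haveI : IsLocallyNoetherian X := LocallyOfFiniteType.isLocallyNoetherian (Uo).ι
    haveI : CompactSpace X := isCompact_iff_compactSpace.1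
      (NoetherianSpace.isCompact ((Uo : (Spec (CommRingCat.of A)).Opens) : Set (Spec (CommRingCat.of A))))
    exact {}
  let ιs := CohB1.thickι (Uo).ι II
  let ts := CohB1.thickTrans (Uo).ι II
  haveI := Groth.L18.PicWitt.isClosedImmersion_thickι (Uo).ι II
  haveI : ∀ k, IsClosedImmersion (ts k) := fun k => by
    haveI : IsClosedImmersion (ts k ≫ ιs (k + 1)) := by
      rw [Groth.L18.PicWitt.thickTrans_ι]; infer_instance
    exact IsClosedImmersion.of_comp (ts k) (ιs (k + 1))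
  have hH := subsingleton_H2_modPow f 𝔞 h₃
  obtain ⟨c, hc, hc0⟩ := Groth.L18.PicWitt.exists_family 0 (fun k => PicLoc.PicSet (CohB1.thick (Uo).ι II k))
    (fun k => Groth.L18.PicWitt.res (ts k))
    (fun k => Groth.L18.PicWitt.res_surjective (ts k) (ker_sq f (Uo).ι k)
      (subsingleton_H2_ideal f (Uo).ι (isRegular_el f Uo hnzd) hH k))
    (PicGrp.cls L₀ hL₀)
  choose L hLc hL using fun k => (c k).2
  have hφ : ∀ k, Nonempty ((Scheme.Modules.pullback (ts k)).obj (L (k + 1)) ≅ L k) := fun k => by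
    refine (PicGrp.cl_eq_cl_iff _ _).1 ?_
    show PicF.pullCl (ts k) (PicF.cl (L (k + 1))) = _
    rw [hLc, hLc]
    exact congrArg Subtype.val (hc k)
  letI : ∀ k, (CohB1.thick (Uo).ι II k).Over (Spec (CommRingCat.of A)) := fun k => ⟨ιs k ≫ (Uo).ι⟩
  have S : Exist.Adic.IsSys II (fun k => CohB1.thick (Uo).ι II k)
      (fun k => CohB1.thickToBase (Uo).ι _ k) (fun k => ts k) :=
    { base := fun k => pullback.condition.symm
      cart := fun k => Groth.L18.PicWitt.cart_thick (Uo).ι _ (ts k) (Groth.L18.PicWitt.thickTrans_ι (Uo).ι _ k) }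
  haveI : ∀ k, IsLocallyNoetherian (CohB1.thick (Uo).ι II k) := fun k =>
    LocallyOfFiniteType.isLocallyNoetherian (ιs k)
  let G := Exist.Adic.pushSys ιs (fun k => (Groth.L18.PicWitt.thickTrans_ι (Uo).ι II k).symm) L
    (fun k => (hφ k).some)
  have hG : Formal.IsCohFormal II G :=
    Exist.Adic.isCohFormal_pushSys ιs _ L _ S (Groth.L18.PicWitt.isClosedImmersion_thickι _ _) (fun k => rfl)
      (fun k => ProperFinite.isCoh_of_isInvertible (hL k))
  have hfree : ∀ n : ℕ, Formal2.IsFinLocFreeMod II (n + 1) (G.obj (op n)) := fun n =>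
    isFinLocFreeMod_push f (ιs n) (IsPullback.of_hasPullback (Uo).ι (CohB1.specQuot II n))
      pullback.condition.symm (hL n)
  obtain ⟨F, hF, ⟨ε⟩⟩ := Groth.Agent.S0822.result A 𝔞 f hf hnzd h₁ h₂ G hG hfree
  refine ⟨L, F, hL, ?_, hF, fun k => ⟨Formal.modPowπ II (k + 1) F ≫ ε.hom.app (op k), fun V hV => ⟨?_, ?_⟩⟩⟩
  · obtain ⟨e0⟩ : Nonempty (L 0 ≅ L₀) := by
      refine (PicGrp.cl_eq_cl_iff _ _).1 ?_
      rw [hLc 0, hc0]
      rfl
    obtain ⟨q, -⟩ := Exist.Adic.exists_modPow_iso_unit (Z := CohB1.thick (Uo).ι II 0) (f := ιs 0)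
      (π := CohB1.thickToBase (Uo).ι II 0)
      (IsPullback.of_hasPullback (Uo).ι (CohB1.specQuot II 0)) pullback.condition.symm hF
    haveI := Groth.L17.ClosedPush.isIso_counit (ιs 0)
    let adj := Scheme.Modules.pullbackPushforwardAdjunction (ιs 0)
    exact ⟨((asIso adj.counit).app ((Scheme.Modules.pullback (ιs 0)).obj F)).symm ≪≫
      (Scheme.Modules.pullback (ιs 0)).mapIso (q.symm ≪≫ ε.app (op 0)) ≪≫ (asIso adj.counit).app (L 0) ≪≫ e0⟩
  · intro t
    obtain ⟨t', rfl⟩ := (ConcreteCategory.bijective_of_isIso ((ε.app (op k)).hom.app V)).2 t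
    obtain ⟨y, rfl⟩ := ((HomSh.modPow_spec II hF (k + 1)).2 V hV).1 t'
    exact ⟨y, rfl⟩
  · intro y hy
    have h1 := (((HomSh.modPow_spec II hF (k + 1)).2 V hV).2 y).1
      ((ConcreteCategory.bijective_of_isIso ((ε.app (op k)).hom.app V)).1 (hy.trans (map_zero _).symm))
    rwa [Ideal.map_span, Set.image_singleton, Ideal.span_singleton_pow] at h1

end Groth.L18.LocPic
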