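import Groth.Agent.L16.Exist.AlgLine

/-!
# Frames near the special locus of a coherent module with invertible reductions
-/

set_option autoImplicit false
set_option linter.style.haveILetI false
set_option linter.unusedSectionVars false
set_option backward.isDefEq.respectTransparency false
set_option backward.isDefEq.respectTransparency.types false

universe u

open CategoryTheory CategoryTheory.Limits AlgebraicGeometry TopologicalSpace Opposite

noncomputable section

namespace Groth.L18.LocPic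

open Groth.L16 Groth.L16.Exist.Adic
open Formal (smulMod modPow modPowπ)
open Groth.L18.Frame (rs ro rs_rs rs_smul rs_self ro_ro ro_mul IsFrame)
open AffineBC (scal)

variable {A : Type u} [CommRing A] [IsNoetherianRing A] {I : Ideal A} {X : Scheme.{u}}
  [X.Over (Spec (CommRingCat.of A))] [IsLocallyNoetherian X] {Xs : ℕ → Scheme.{u}}
  {p : (k : ℕ) → (Xs k ⟶ Spec (CommRingCat.of (A ⧸ I ^ (k + 1))))}

/-- A coherent module with invertible reductions has a frame near each point of the special locus. -/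
theorem exists_frame_of_levels (e : (k : ℕ) → (Xs k ⟶ X)) (hcl : ∀ k, IsClosedImmersion (e k))
    (hcart : ∀ k, IsPullback (e k) (p k) (X ↘ Spec (CommRingCat.of A)) (CohB1.specQuot I k))
    (L : (k : ℕ) → (Xs k).Modules) (hL : ∀ k, PicF.IsInvertible (L k))
    {M : X.Modules} (hM : Coh.IsCoh M) (w : ∀ k, M ⟶ (Coh.push (e k)).obj (L k))
    (hwsurj : ∀ k (V : X.Opens), IsAffineOpen V → Function.Surjective ((w k).app V))
    (hwker : ∀ k (V : X.Opens), IsAffineOpen V → ∀ y, (w k).app V y = 0 →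
      y ∈ (I.map (scal A X V)) ^ (k + 1) • (⊤ : Submodule Γ(X, V) Γ(M, V)))
    (z : Xs 0) : ∃ (W : X.Opens) (m : Γ(M, W)), e 0 z ∈ W ∧ IsFrame M W m := by
  classical
  haveI : Coh.IsQCoh M := hM.1
  have hx : (X ↘ Spec (CommRingCat.of A)) (e 0 z) ∈ PrimeSpectrum.zeroLocus (I : Set A) := by
    rw [← Scheme.Hom.comp_apply, (hcart 0).w, Scheme.Hom.comp_apply]
    have h : CohB1.specQuot I 0 (p 0 z) ∈ Set.range (PrimeSpectrum.comap (Ideal.Quotient.mk (I ^ (0 + 1)))) :=
      ⟨p 0 z, rfl⟩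
    rw [range_comap_of_surjective _ _ Ideal.Quotient.mk_surjective, Ideal.mk_ker,
      PrimeSpectrum.zeroLocus_pow I (Nat.succ_ne_zero 0)] at h
    exact h
  have hLc : ∀ k, Coh.IsQCoh (L k) := fun k => Groth.L21.Extend.isQCoh_of_isInvertible (hL k)
  haveI := hcl 0
  obtain ⟨W₀, e₀, hzW₀, he₀⟩ := Groth.L18.Frame.exists_frame (hL 0) z
  obtain ⟨O, hO, hOW⟩ := (e 0).isClosedEmbedding.isInducing.isOpen_iff.1 W₀.2
  have hzO : e 0 z ∈ O := by
    have : z ∈ (e 0).base ⁻¹' O := by rw [hOW]; exact hzW₀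
    exact this
  obtain ⟨_, ⟨V, hV, rfl⟩, hxV, hVO⟩ := X.isBasis_affineOpens.exists_subset_of_mem_open hzO hO
  have hVW : e 0 ⁻¹ᵁ V ≤ W₀ := fun y hy => by
    have : y ∈ (e 0).base ⁻¹' O := hVO hy
    show y ∈ W₀.carrier
    rw [← hOW]
    exact this
  haveI : Module.Finite Γ(X, V) Γ(M, V) := Groth.L20.ModStalk.finite_sections M hM hV
  obtain ⟨m, hm⟩ := hwsurj 0 V hV (show Γ((Coh.push (e 0)).obj (L 0), V) from rs (L 0) hVW e₀)
  let IV := I.map (scal A X V)
  -- `m` generates near `x`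
  let N : Submodule Γ(X, V) Γ(M, V) := Submodule.span Γ(X, V) {m}
  have hgen : (⊤ : Submodule Γ(X, V) (Γ(M, V) ⧸ N)) ≤ IV • ⊤ := by
    rintro q -
    obtain ⟨y, rfl⟩ := N.mkQ_surjective q
    obtain ⟨b₀, hb₀⟩ := he₀.exists_coeff hVW (show Γ(L 0, e 0 ⁻¹ᵁ V) from (w 0).app V y)
    obtain ⟨b, rfl⟩ := (e 0).app_surjective V hV b₀
    have h0 : (w 0).app V (y - b • m) = 0 := by
      rw [map_sub, Scheme.Modules.Hom.app_smul, hm, sub_eq_zero]
      exact hb₀.symm
    have h1 := hwker 0 V hV _ h0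
    rw [zero_add, pow_one] at h1
    have h2 := Submodule.mem_map_of_mem (f := N.mkQ) h1
    rw [map_sub, Submodule.map_smul''] at h2
    rw [show N.mkQ (b • m) = 0 from (Submodule.Quotient.mk_eq_zero N).2
      (N.smul_mem b (Submodule.subset_span rfl)), sub_zero] at h2
    exact Submodule.smul_mono le_rfl le_top h2
  obtain ⟨r, hr, hrm⟩ :=
    Submodule.exists_mem_and_smul_eq_self_of_fg_of_le_smul IV ⊤ (Module.Finite.fg_top) hgen
  let v := 1 - r
  have hv : ∀ y : Γ(M, V), ∃ c : Γ(X, V), v • y = c • m := fun y => by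
    have h1 : N.mkQ (v • y) = 0 := by rw [map_smul, sub_smul, one_smul, hrm _ trivial, sub_self]
    obtain ⟨c, hc⟩ := Submodule.mem_span_singleton.1 ((Submodule.Quotient.mk_eq_zero N).1 h1)
    exact ⟨c, hc.symm⟩
  let V₁ := X.basicOpen v
  have hV₁ : IsAffineOpen V₁ := hV.basicOpen v
  have hxV₁ : e 0 z ∈ V₁ := by
    rw [Scheme.mem_basicOpen _ _ _ hxV]
    exact isUnit_germ_one_sub hxV hx hr
  -- annihilators of `m` vanish near `x`
  haveI : IsNoetherianRing Γ(X, V) := IsLocallyNoetherian.component_noetherian ⟨V, hV⟩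
  haveI : IsNoetherianRing Γ(X, V₁) := IsLocallyNoetherian.component_noetherian ⟨V₁, hV₁⟩
  let 𝔞 : Ideal Γ(X, V) := LinearMap.ker (LinearMap.toSpanSingleton Γ(X, V) Γ(M, V) m)
  obtain ⟨s, hs⟩ := IsNoetherian.noetherian 𝔞
  have hbad : ∀ b ∈ 𝔞, ∀ k, ro (X.basicOpen_le v) b ∈ (I.map (scal A X V₁)) ^ (k + 1) := by
    intro b hb k
    haveI := hcl k
    rw [← Ideal.map_pow]
    refine ker_ideal_le (hcart k) ⟨V₁, hV₁⟩ ?_
    rw [Scheme.Hom.ker_apply, RingHom.mem_ker]
    let T := e k ⁻¹ᵁ V₁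
    have hT : IsAffineOpen T := hV₁.preimage (e k)
    let d := (e k).app V₁ (ro (X.basicOpen_le v) b)
    let σ : Γ(L k, T) := (w k).app V₁ (rs M (X.basicOpen_le v) m)
    have hdσ : d • σ = 0 := by
      show ro (X.basicOpen_le v) b • (show Γ((Coh.push (e k)).obj (L k), V₁) from σ) = 0
      show ro (X.basicOpen_le v) b • (w k).app V₁ (rs M (X.basicOpen_le v) m) = 0
      rw [← Scheme.Modules.Hom.app_smul, ← rs_smul, show b • m = 0 from hb]
      exact (congrArg ((w k).app V₁) (map_zero _)).trans (map_zero _)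
    have hσ : ∀ t : Γ(L k, T), ∃ c : Γ(Xs k, T), c • σ = t := fun t => by
      obtain ⟨y, hy⟩ := hwsurj k V₁ hV₁ (show Γ((Coh.push (e k)).obj (L k), V₁) from t)
      obtain ⟨a, ha⟩ := exists_smul_of_gen hV v hv le_rfl y
      refine ⟨(e k).app V₁ a, ?_⟩
      show a • (w k).app V₁ (rs M (X.basicOpen_le v) m) = t
      rw [← Scheme.Modules.Hom.app_smul, ha, hy]
    haveI : Coh.IsQCoh (L k) := hLc k
    show d = 0
    have hloc : ∀ y : T, ∃ (h : Γ(Xs k, T)), y.1 ∈ (Xs k).basicOpen h ∧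
        ro ((Xs k).basicOpen_le h) d = 0 := by
      intro y
      obtain ⟨W', e', hyW', he'⟩ := Groth.L18.Frame.exists_frame (hL k) y.1
      obtain ⟨h, hhW, hyh⟩ := hT.exists_basicOpen_le ⟨y.1, show y.1 ∈ W' from hyW'⟩ y.2
      refine ⟨h, hyh, ?_⟩
      obtain ⟨a, ha⟩ := exists_smul_of_gen hT h (v := 1) (fun t => ⟨(hσ t).choose, by
        rw [one_smul, (hσ t).choose_spec]⟩)
        (by rw [(Xs k).basicOpen_of_isUnit isUnit_one]; exact (Xs k).basicOpen_le h) (rs (L k) hhW e')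
      refine he'.inj hhW ?_
      rw [zero_smul, ← ha, smul_smul, mul_comm, mul_smul, ← rs_smul, hdσ]
      exact (congrArg (a • ·) (map_zero _)).trans (smul_zero a)
    choose h hyh hh using hloc
    refine TopCat.Sheaf.eq_of_locally_eq' (Xs k).sheaf (fun y : T => (Xs k).basicOpen (h y)) T
      (fun y => homOfLE ((Xs k).basicOpen_le _))
      (fun y hy => Opens.mem_iSup.2 ⟨⟨y, hy⟩, hyh ⟨y, hy⟩⟩) _ _ fun y => ?_
    exact (hh y).trans (map_zero _).symm
  have hkr : ∀ b ∈ 𝔞, ∃ t ∈ I.map (scal A X V₁), (1 - t) * ro (X.basicOpen_le v) b = 0 := fun b hb => by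
    obtain ⟨t, ht⟩ := (Ideal.mem_iInf_smul_pow_eq_bot_iff (I.map (scal A X V₁)) (ro (X.basicOpen_le v) b)).1
      (Submodule.mem_iInf _ |>.2 fun n => by
        cases n with
        | zero => simp
        | succ n => rw [smul_eq_mul, Ideal.mul_top]; exact hbad b hb n)
    exact ⟨t, t.2, by rw [sub_mul, one_mul, ← smul_eq_mul (t : Γ(X, V₁)), ht, sub_self]⟩
  choose t htI ht using hkr
  let u : Γ(X, V₁) := ∏ b ∈ s.attach, (1 - t b.1 (hs ▸ Submodule.subset_span b.2))
  let V₂ := X.basicOpen u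
  have hxV₂ : e 0 z ∈ V₂ := by
    rw [Scheme.mem_basicOpen _ _ _ hxV₁, map_prod]
    exact IsUnit.prod_iff.2 fun b _ => isUnit_germ_one_sub hxV₁ hx (htI _ _)
  have hle₂ : V₂ ≤ V := (X.basicOpen_le u).trans (X.basicOpen_le v)
  have hann : ∀ b ∈ 𝔞, ro hle₂ b = 0 := by
    intro b hb
    rw [← hs] at hb
    induction hb using Submodule.span_induction with
    | mem b hb =>
      have hmem : b ∈ 𝔞 := hs ▸ Submodule.subset_span hb
      have h1 : u * ro (X.basicOpen_le v) b = 0 := by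
        rw [show u = (1 - t b hmem) * ∏ c ∈ s.attach.erase ⟨b, hb⟩, (1 - t c.1 (hs ▸ Submodule.subset_span c.2))
          from (Finset.mul_prod_erase s.attach _ (Finset.mem_attach _ ⟨b, hb⟩)).symm, mul_right_comm, ht, zero_mul]
      have h2 := congrArg (ro (X.basicOpen_le u)) h1
      rw [ro_mul, ro_ro, show ro (X.basicOpen_le u) (0 : Γ(X, V₁)) = 0 from map_zero _] at h2
      have hu : IsUnit (ro (X.basicOpen_le u) u) := RingedSpace.isUnit_res_basicOpen X.toRingedSpace u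
      exact hu.mul_right_eq_zero.1 h2
    | zero => exact map_zero _
    | add y y' _ _ h h' =>
      show (X.presheaf.map (homOfLE hle₂).op) (y + y') = 0
      exact (map_add _ y y').trans ((congrArg₂ (· + ·) h h').trans (add_zero _))
    | smul d y _ h => rw [smul_eq_mul, ro_mul, h, mul_zero]
  refine ⟨V₂, rs M hle₂ m, hxV₂, ?_⟩
  let B : { U : X.Opens // U ≤ V₂ → ∃ h : Γ(X, V), U = X.basicOpen h } → X.Opens := fun U => U.1
  refine Groth.L18.SpecLine.isFrame_of_basic B ?_ fun U hU => ?_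
  · rw [Opens.isBasis_iff_nbhd]
    intro O y hy
    by_cases hy₂ : y ∈ V₂
    · obtain ⟨h, hhO, hyh⟩ := hV.exists_basicOpen_le (V := O) ⟨y, hy⟩ (hle₂ hy₂)
      exact ⟨_, ⟨⟨X.basicOpen h, fun _ => ⟨h, rfl⟩⟩, rfl⟩, hyh, hhO⟩
    · exact ⟨O, ⟨⟨O, fun hle => absurd (hle hy) hy₂⟩, rfl⟩, hy, le_rfl⟩
  obtain ⟨U, hU'⟩ := U
  obtain ⟨h, rfl⟩ := hU' hU
  show Function.Bijective fun a : Γ(X, X.basicOpen h) => a • rs M hU (rs M hle₂ m)
  simp only [rs_rs]
  refine ⟨fun a a' haa => sub_eq_zero.1 ?_, fun y => exists_smul_of_gen hV h hv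
    (hU.trans (X.basicOpen_le u)) y⟩
  have h0 : (a - a') • rs M (X.basicOpen_le h) m = 0 := by rw [sub_smul, sub_eq_zero]; exact haa
  generalize a - a' = d at h0 ⊢
  haveI := Groth.L19.Conormal.isQCoh_structureModule X
  obtain ⟨n, c, hc⟩ := QCohSect.exists_pow_smul_eq_res hV (Coh.structureModule X) h
    (show Γ(Coh.structureModule X, X.basicOpen h) from d)
  let c' : Γ(X, V) := c
  have hc' : ro (X.basicOpen_le h) c' = ro (X.basicOpen_le h) (h ^ n) * d := hc
  obtain ⟨n', hn'⟩ := QCohSect.exists_pow_smul_eq_zero hV M h (c' • m) (by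
    rw [rs_smul, hc', mul_smul, h0, smul_zero])
  have h1 : ro hle₂ (h ^ n' * c') = 0 := hann _ (by
    show (h ^ n' * c') • m = 0
    rw [mul_smul, hn'])
  have h2 := congrArg (ro hU) h1
  rw [ro_ro, ro_mul, hc', show ro hU (0 : Γ(X, V₂)) = 0 from map_zero _] at h2
  exact (HomSh.isUnit_ro_pow h n).mul_right_eq_zero.1 ((HomSh.isUnit_ro_pow h n').mul_right_eq_zero.1 h2)

end Groth.L18.LocPic
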