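import Groth.Agent.L18.LocPicFormal
import Groth.Agent.L18.LocPicFrames
import Groth.Prelude.Def_Formal2

/-!
# Extending invertible modules from `U ∩ V(f)` to a neighbourhood
-/

set_option autoImplicit false
set_option linter.style.haveILetI false
set_option linter.unusedSectionVars false
set_option backward.isDefEq.respectTransparency.types false
set_option backward.isDefEq.respectTransparency false
universe u

open CategoryTheory CategoryTheory.Limits AlgebraicGeometry Opposite TopologicalSpace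
open Groth.L16
open Groth.L18.Frame (IsFrame)

noncomputable section

namespace Groth.L18.LocPic

variable {A : Type u} [CommRing A] [IsNoetherianRing A] (f : A)

local notation "II" => (Ideal.span (singleton f) : Ideal A)
local notation "g₀" => Formal2.specQuotMap A f

theorem exists_frames_neighbourhood [IsAdicComplete (Ideal.span {f}) A] (𝔞 : Ideal A) (hf : f ∈ 𝔞) (hnzd : f ∈ nonZeroDivisors A)
    (h₁ : Module.Finite A (LocCoh.H 𝔞 1 (A ⧸ II))) (h₂ : Module.Finite A (LocCoh.H 𝔞 2 (A ⧸ II)))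
    (h₃ : Subsingleton (LocCoh.H 𝔞 3 (A ⧸ II)))
    (L₀ : (↑(g₀ ⁻¹ᵁ LocCoh.puncturedOpen A 𝔞) : Scheme.{u}).Modules) (hL₀ : PicF.IsInvertible L₀) :
    ∃ (F : (LocCoh.puncturedOpen A 𝔞 : Scheme.{u}).Modules)
      (T : (LocCoh.puncturedOpen A 𝔞 : Scheme.{u}).Opens),
      (∀ y, ((g₀) ∣_ LocCoh.puncturedOpen A 𝔞) y ∈ T) ∧
      (∀ z ∈ T, ∃ (W : (LocCoh.puncturedOpen A 𝔞 : Scheme.{u}).Opens) (m : Γ(F, W)), z ∈ W ∧ IsFrame F W m) ∧
      Nonempty ((Scheme.Modules.pullback ((g₀) ∣_ LocCoh.puncturedOpen A 𝔞)).obj F ≅ L₀) := by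
  let U := LocCoh.puncturedOpen A 𝔞
  let P : Scheme.{u} := g₀ ⁻¹ᵁ U
  letI : (U : Scheme.{u}).Over (Spec (CommRingCat.of A)) := ⟨U.ι⟩
  haveI : IsLocallyNoetherian (U : Scheme.{u}) := LocallyOfFiniteType.isLocallyNoetherian U.ι
  -- `U ∩ V(f)` is the bottom thickening
  let q : A ⧸ II ^ (0 + 1) ≃+* A ⧸ II := Ideal.quotEquivOfEq (by rw [zero_add, pow_one])
  let ξ : Spec (CommRingCat.of (A ⧸ II)) ≅ Spec (CommRingCat.of (A ⧸ II ^ (0 + 1))) :=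
    Scheme.Spec.mapIso q.toCommRingCatIso.op
  have hξ : ξ.hom ≫ CohB1.specQuot II 0 = g₀ := by
    show Spec.map _ ≫ Spec.map _ = Spec.map _
    rw [← Spec.map_comp]
    congr 1
  have hP : IsPullback (g₀ ∣_ U) ((g₀ ⁻¹ᵁ U).ι ≫ ξ.hom) U.ι (CohB1.specQuot II 0) :=
    (isPullback_morphismRestrict g₀ U).of_iso (Iso.refl _) (Iso.refl _) ξ (Iso.refl _)
      (by simp) (by simp) (by simp) (by simp [hξ])
  let σ : P ≅ CohB1.thick U.ι II 0 := hP.isoPullback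
  have hσ : σ.hom ≫ CohB1.thickι U.ι II 0 = g₀ ∣_ U := hP.isoPullback_hom_fst
  obtain ⟨L, F, hL, ⟨eF⟩, hF, hw⟩ := exists_coherent f 𝔞 hf hnzd h₁ h₂ h₃
    ((Scheme.Modules.pullback σ.inv).obj L₀) (PicLoc.isInvertible_pullback _ hL₀)
  choose w hw using hw
  let T : (U : Scheme.{u}).Opens :=
    ⨆ W : { W : (U : Scheme.{u}).Opens // ∃ m : Γ(F, W), IsFrame F W m }, W.1
  have hT : ∀ z, CohB1.thickι U.ι II 0 z ∈ T := fun z => by
    obtain ⟨W, m, hzW, hm⟩ := exists_frame_of_levels (A := A) (I := II) (X := (U : Scheme.{u}))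
      (CohB1.thickι U.ι II) (Groth.L18.PicWitt.isClosedImmersion_thickι U.ι II)
      (p := CohB1.thickToBase U.ι II) (fun k => IsPullback.of_hasPullback U.ι (CohB1.specQuot II k))
      L hL hF w (fun k V hV => (hw k V hV).1)
      (fun k V hV y hy => by
        rw [Ideal.map_span, Set.image_singleton, Ideal.span_singleton_pow]
        exact (hw k V hV).2 y hy) z
    exact Opens.mem_iSup.2 ⟨⟨W, m, hm⟩, hzW⟩
  refine ⟨F, T, fun y => ?_, fun z hz => ?_, ⟨?_⟩⟩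
  · rw [← hσ]
    exact hT _
  · obtain ⟨⟨W, m, hm⟩, hzW⟩ := Opens.mem_iSup.1 hz
    exact ⟨W, m, hzW, hm⟩
  · exact (Scheme.Modules.pullbackCongr hσ.symm).app F ≪≫
      ((Scheme.Modules.pullbackComp σ.hom (CohB1.thickι U.ι II 0)).app F).symm ≪≫
      (Scheme.Modules.pullback σ.hom).mapIso eF ≪≫
      (Scheme.Modules.pullbackComp σ.hom σ.inv).app L₀ ≪≫
      (Scheme.Modules.pullbackCongr σ.hom_inv_id).app L₀ ≪≫ (Scheme.Modules.pullbackId _).app L₀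

theorem exists_extension [IsAdicComplete (Ideal.span {f}) A] (𝔞 : Ideal A) (hf : f ∈ 𝔞) (hnzd : f ∈ nonZeroDivisors A)
    (h₁ : Module.Finite A (LocCoh.H 𝔞 1 (A ⧸ II))) (h₂ : Module.Finite A (LocCoh.H 𝔞 2 (A ⧸ II)))
    (h₃ : Subsingleton (LocCoh.H 𝔞 3 (A ⧸ II)))
    (L₀ : (↑(g₀ ⁻¹ᵁ LocCoh.puncturedOpen A 𝔞) : Scheme.{u}).Modules) (hL₀ : PicF.IsInvertible L₀) :
    ∃ (U' : (Spec (CommRingCat.of A)).Opens) (_ : U' ≤ LocCoh.puncturedOpen A 𝔞)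
      (h : g₀ ⁻¹ᵁ LocCoh.puncturedOpen A 𝔞 ≤ g₀ ⁻¹ᵁ U')
      (L : (↑U' : Scheme.{u}).Modules), PicF.IsInvertible L ∧
        Nonempty ((Scheme.Modules.pullback ((g₀).resLE U' _ h)).obj L ≅ L₀) := by
  let U := LocCoh.puncturedOpen A 𝔞
  obtain ⟨F, T, hT, hfr, ⟨eF⟩⟩ := exists_frames_neighbourhood f 𝔞 hf hnzd h₁ h₂ h₃ L₀ hL₀
  let U' : (Spec (CommRingCat.of A)).Opens := U.ι ''ᵁ T
  have hU' : U' ≤ U := fun x ⟨y, _, hy⟩ => hy ▸ y.2
  have h : g₀ ⁻¹ᵁ U ≤ g₀ ⁻¹ᵁ U' := fun x hx => by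
    refine ⟨(g₀ ∣_ U) ⟨x, hx⟩, hT _, ?_⟩
    show ((g₀ ∣_ U) ≫ U.ι) ⟨x, hx⟩ = _
    rw [morphismRestrict_ι]
    rfl
  let j : (U' : Scheme.{u}) ⟶ (U : Scheme.{u}) := (Spec (CommRingCat.of A)).homOfLE hU'
  have hfac : (g₀).resLE U' _ h ≫ j = g₀ ∣_ U := by
    rw [← cancel_mono U.ι, Category.assoc, Scheme.homOfLE_ι, morphismRestrict_ι]
    exact Scheme.Hom.resLE_comp_ι _ _
  refine ⟨U', hU', h, (Scheme.Modules.pullback j).obj F, ?_, ⟨?_⟩⟩
  · refine Groth.L18.SpecLine.isInvertible_of_frames fun y => ?_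
    obtain ⟨z, hz, hzy⟩ := y.2
    obtain ⟨W, m, hzW, hm⟩ := hfr z hz
    refine ⟨j ⁻¹ᵁ W, _, ?_, hm.pullback j F⟩
    have : j y = z := U.ι.isOpenEmbedding.injective (by
      show (j ≫ U.ι) y = _
      rw [Scheme.homOfLE_ι]
      exact hzy.symm)
    show j y ∈ W
    rw [this]
    exact hzW
  · exact (Scheme.Modules.pullbackComp ((g₀).resLE U' _ h) j).app F ≪≫
      (Scheme.Modules.pullbackCongr hfac).app F ≪≫ eF

end Groth.L18.LocPic
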