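import Mathlib.AlgebraicGeometry.Morphisms.Immersion
import Mathlib.AlgebraicGeometry.Morphisms.IsIso
import Mathlib.AlgebraicGeometry.Morphisms.UnderlyingMap
import Groth.Prelude.Def_SchLoc

/-!
Local immersions and local isomorphisms.
-/

noncomputable section

namespace Groth.L18

open CategoryTheory AlgebraicGeometry Limits TopologicalSpace

universe u

variable {X Y Z : Scheme.{u}} (f : X ⟶ Y) (g : Y ⟶ Z)

theorem isLocalImmersionAt_iff (x : X) :
    SchLoc.IsLocalImmersionAt f x ↔ ∃ U : X.Opens, x ∈ U ∧ IsImmersion (U.ι ≫ f) := by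
  constructor
  · rintro ⟨U, V, h, hx, hc⟩
    refine ⟨U, hx, ?_⟩
    rw [← f.resLE_comp_ι h]
    infer_instance
  · rintro ⟨U, hx, hi⟩
    have h : U ≤ f ⁻¹ᵁ (U.ι ≫ f).coborderRange := fun y hy =>
      subset_coborder (s := Set.range (U.ι ≫ f)) ⟨⟨y, hy⟩, rfl⟩
    refine ⟨U, (U.ι ≫ f).coborderRange, h, hx, ?_⟩
    have : f.resLE _ U h = (U.ι ≫ f).liftCoborder := by
      rw [← cancel_mono (U.ι ≫ f).coborderRange.ι, f.resLE_comp_ι h, Scheme.Hom.liftCoborder_ι]
    rw [this]
    infer_instance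

theorem isImmersion_ι_comp_of_le {U U' : X.Opens} (h : U' ≤ U) [IsImmersion (U.ι ≫ f)] :
    IsImmersion (U'.ι ≫ f) := by
  rw [← X.homOfLE_ι h, Category.assoc]
  infer_instance

theorem isLocalImmersion_comp (hf : SchLoc.IsLocalImmersion f) (hg : SchLoc.IsLocalImmersion g) :
    SchLoc.IsLocalImmersion (f ≫ g) := by
  intro x
  obtain ⟨U, hx, hU⟩ := (isLocalImmersionAt_iff f x).mp (hf x)
  obtain ⟨U', hx', hU'⟩ := (isLocalImmersionAt_iff g (f x)).mp (hg (f x))
  refine (isLocalImmersionAt_iff _ x).mpr ⟨U ⊓ f ⁻¹ᵁ U', ⟨hx, hx'⟩, ?_⟩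
  have h : U ⊓ f ⁻¹ᵁ U' ≤ f ⁻¹ᵁ U' := inf_le_right
  have h1 := isImmersion_ι_comp_of_le f (inf_le_left : U ⊓ f ⁻¹ᵁ U' ≤ U)
  rw [← f.resLE_comp_ι h] at h1
  have := IsImmersion.of_comp (f.resLE U' _ h) U'.ι
  rw [← f.resLE_comp_ι_assoc h]
  infer_instance

theorem isLocalImmersion_baseChange {S S' : Scheme.{u}} (f : X ⟶ S) (g : S' ⟶ S)
    (hf : SchLoc.IsLocalImmersion f) : SchLoc.IsLocalImmersion (pullback.snd f g) := by
  intro t
  obtain ⟨U, hx, hU⟩ := (isLocalImmersionAt_iff f (pullback.fst f g t)).mp (hf _)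
  refine (isLocalImmersionAt_iff _ t).mpr ⟨pullback.fst f g ⁻¹ᵁ U, hx, ?_⟩
  have h1 := (isPullback_morphismRestrict (pullback.fst f g) U).paste_vert
    (IsPullback.of_hasPullback f g)
  exact MorphismProperty.of_isPullback (P := @IsImmersion) h1 hU

theorem isLocalImmersion_of_comp (h : SchLoc.IsLocalImmersion (f ≫ g)) :
    SchLoc.IsLocalImmersion f := by
  intro x
  obtain ⟨U, hx, hU⟩ := (isLocalImmersionAt_iff _ x).mp (h x)
  refine (isLocalImmersionAt_iff f x).mpr ⟨U, hx, ?_⟩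
  have : IsImmersion ((U.ι ≫ f) ≫ g) := by rwa [Category.assoc]
  exact IsImmersion.of_comp _ g

theorem immersion_respectsRight :
    MorphismProperty.RespectsRight @IsImmersion @IsOpenImmersion.{u} :=
  ⟨fun i (hi : IsOpenImmersion i) h (hh : IsImmersion h) => inferInstanceAs (IsImmersion (h ≫ i))⟩

/-- If every point has a chart `f ⁻¹ V → V` which is a closed immersion, `f` is an immersion. -/
theorem isImmersion_of_forall_preimage
    (H : ∀ x : X, ∃ V : Y.Opens, f x ∈ V ∧ IsClosedImmersion (f ∣_ V)) : IsImmersion f := by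
  choose V hV hc using H
  have := immersion_respectsRight.{u}
  refine IsZariskiLocalAtTarget.of_range_subset_iSup V ?_ (fun x => ?_)
  · rintro _ ⟨x, rfl⟩
    exact Opens.mem_iSup.mpr ⟨x, hV x⟩
  · have := hc x
    infer_instance

/-- The open-closed trick: a nonempty open of an irreducible space closed in a bigger open. -/
theorem eq_of_isClosed_of_le [IrreducibleSpace X] {U W : X.Opens} (hUW : U ≤ W)
    (hne : (U : Set X).Nonempty) {C : Set X} (hC : IsClosed C)
    (h : (U : Set X) = C ∩ W) : U = W := by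
  refine le_antisymm hUW fun w hw => ?_
  by_contra hwU
  have hw' : w ∈ Cᶜ ∩ (W : Set X) := ⟨fun hc => hwU (h ▸ ⟨hc, hw⟩ : w ∈ (U : Set X)), hw⟩
  obtain ⟨z, hzU, hz⟩ := nonempty_preirreducible_inter (hC.isOpen_compl.inter W.2) U.2 ⟨w, hw'⟩ hne
  exact hzU.1 (h.le hz).1

theorem morphismRestrict_isClosedImmersion_of_eq {U : X.Opens} {V : Y.Opens} (h : U ≤ f ⁻¹ᵁ V)
    [hc : IsClosedImmersion (f.resLE V U h)] (he : U = f ⁻¹ᵁ V) : IsClosedImmersion (f ∣_ V) := by
  subst he
  rwa [Scheme.Hom.resLE_eq_morphismRestrict] at hc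

theorem range_homOfLE_eq {U W : X.Opens} (h : U ≤ W) :
    W.ι '' Set.range (X.homOfLE h) = (U : Set X) := by
  rw [← Set.range_comp, ← TopCat.coe_comp, ← Scheme.Hom.comp_base, X.homOfLE_ι, Scheme.Opens.range_ι]

theorem eq_preimage_of_isClosedImmersion_homOfLE [IrreducibleSpace X] {U W : X.Opens} (h : U ≤ W)
    (hne : (U : Set X).Nonempty) [IsClosedImmersion (X.homOfLE h)] : U = W := by
  obtain ⟨C, hC, hCW⟩ := W.ι.isOpenEmbedding.isInducing.isClosed_iff.mp
    (X.homOfLE h).isClosedEmbedding.isClosed_range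
  refine eq_of_isClosed_of_le h hne hC ?_
  rw [← range_homOfLE_eq h, ← hCW, Set.image_preimage_eq_inter_range, Scheme.Opens.range_ι]

theorem isImmersion_of_isLocalImmersion_of_isSeparated [IrreducibleSpace X]
    (hf : SchLoc.IsLocalImmersion f) [IsSeparated f] : IsImmersion f := by
  refine isImmersion_of_forall_preimage f fun x => ?_
  obtain ⟨U, V, h, hx, hc⟩ := hf x
  refine ⟨V, h hx, ?_⟩
  have : IsClosedImmersion (X.homOfLE h ≫ (f ∣_ V)) := by
    rw [← Scheme.Hom.resLE_eq_morphismRestrict, Scheme.Hom.map_resLE]; exact hc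
  have := IsClosedImmersion.of_comp (X.homOfLE h) (f ∣_ V)
  exact morphismRestrict_isClosedImmersion_of_eq f h
    (eq_preimage_of_isClosedImmersion_homOfLE h ⟨x, hx⟩)

theorem isOpenImmersion_of_isLocalIso_of_isSeparated [IrreducibleSpace X]
    (hf : SchLoc.IsLocalIso f) [IsSeparated f] : IsOpenImmersion f := by
  have H : ∀ x : X, ∃ V : Y.Opens, f x ∈ V ∧ IsOpenImmersion (f ∣_ V) := by
    intro x
    obtain ⟨U, hx, hU⟩ := hf x
    set V := (U.ι ≫ f).opensRange with hV
    have h : U ≤ f ⁻¹ᵁ V := fun y hy => ⟨⟨y, hy⟩, rfl⟩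
    have hiso : IsIso (f.resLE V U h) := by
      have : f.resLE V U h = (U.ι ≫ f).isoOpensRange.hom := by
        rw [← cancel_mono V.ι, f.resLE_comp_ι h, Scheme.Hom.isoOpensRange_hom_ι]
      rw [this]; infer_instance
    have : IsClosedImmersion (X.homOfLE h ≫ (f ∣_ V)) := by
      rw [← Scheme.Hom.resLE_eq_morphismRestrict, Scheme.Hom.map_resLE]; infer_instance
    have := IsClosedImmersion.of_comp (X.homOfLE h) (f ∣_ V)
    have he := eq_preimage_of_isClosedImmersion_homOfLE h ⟨x, hx⟩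
    refine ⟨V, h hx, ?_⟩
    clear_value V
    clear hV
    subst he
    rw [Scheme.Hom.resLE_eq_morphismRestrict] at hiso
    infer_instance
  choose V hV hc using H
  refine IsZariskiLocalAtTarget.of_range_subset_iSup V ?_ hc
  rintro _ ⟨x, rfl⟩
  exact Opens.mem_iSup.mpr ⟨x, hV x⟩

theorem isImmersion_of_isLocalImmersion_of_injective_of_isDominant [IrreducibleSpace X]
    [IsDominant f] (hf : SchLoc.IsLocalImmersion f) (hi : Function.Injective f.base) :
    IsImmersion f ∧ IsOpen (Set.range f.base) := by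
  have H : ∀ x : X, ∃ V : Y.Opens, f x ∈ V ∧ (V : Set Y) ⊆ Set.range f ∧ IsClosedImmersion (f ∣_ V) := by
    intro x
    obtain ⟨U, V, h, hx, hc⟩ := hf x
    obtain ⟨C, hC, hCV⟩ := V.ι.isOpenEmbedding.isInducing.isClosed_iff.mp
      (f.resLE V U h).isClosedEmbedding.isClosed_range
    have himg : f '' (U : Set X) = C ∩ V := by
      rw [← Scheme.Opens.range_ι V, ← Set.image_preimage_eq_inter_range, hCV, ← Set.range_comp,
        ← TopCat.coe_comp, ← Scheme.Hom.comp_base, f.resLE_comp_ι h, Scheme.Hom.comp_base,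
        TopCat.coe_comp, Set.range_comp, Scheme.Opens.range_ι]
    have hd : Dense (f '' (U : Set X)) :=
      f.denseRange.dense_image f.continuous (U.2.dense ⟨x, hx⟩)
    have hCu : C = Set.univ := by
      rw [← hC.closure_eq]
      exact Set.eq_univ_of_univ_subset (hd.closure_eq ▸ closure_mono (himg ▸ Set.inter_subset_left))
    rw [hCu, Set.univ_inter] at himg
    refine ⟨V, h hx, himg ▸ Set.image_subset_range _ _, ?_⟩
    refine morphismRestrict_isClosedImmersion_of_eq f h (le_antisymm h fun y hy => ?_)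
    obtain ⟨z, hz, hzy⟩ : f y ∈ f '' (U : Set X) := himg ▸ hy
    exact hi hzy ▸ hz
  choose V hV hsub hc using H
  refine ⟨isImmersion_of_forall_preimage f fun x => ⟨V x, hV x, hc x⟩, ?_⟩
  have : Set.range f.base = ⋃ x, (V x : Set Y) := by
    refine Set.Subset.antisymm ?_ (Set.iUnion_subset hsub)
    rintro _ ⟨x, rfl⟩
    exact Set.mem_iUnion.mpr ⟨x, hV x⟩
  rw [this]
  exact isOpen_iUnion fun x => (V x).2

end Groth.L18
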