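import Mathlib.AlgebraicGeometry.Morphisms.FlatMono
import Mathlib.AlgebraicGeometry.Morphisms.ClosedImmersion
import Mathlib.AlgebraicGeometry.Limits

/-!
# Monomorphisms into discrete reduced schemes
-/

set_option autoImplicit false
universe u

open CategoryTheory CategoryTheory.Limits AlgebraicGeometry TopologicalSpace

noncomputable section

namespace Groth.L18.MonoDiscrete

theorem isOpenImmersion_of_mono {X Y : Scheme.{u}} [IsReduced Y] [DiscreteTopology Y] (f : X ⟶ Y) [Mono f] :
    IsOpenImmersion f := by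
  let U : Y → Y.Opens := fun y => ⟨{y}, isOpen_discrete _⟩
  refine (IsZariskiLocalAtTarget.iff_of_iSup_eq_top (P := @IsOpenImmersion) U
    (eq_top_iff.2 fun y _ => Opens.mem_iSup.2 ⟨y, rfl⟩)).2 fun y => ?_
  haveI : Subsingleton ((U y : Y.Opens) : Scheme.{u}) := ⟨fun a b => Subtype.ext (a.2.trans b.2.symm)⟩
  haveI : Nonempty ((U y : Y.Opens) : Scheme.{u}) := ⟨⟨y, rfl⟩⟩
  haveI : IsReduced ((U y : Y.Opens) : Scheme.{u}) := isReduced_of_isOpenImmersion (U y).ι
  haveI : IrreducibleSpace ((U y : Y.Opens) : Scheme.{u}) :=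
    { isPreirreducible_univ := Set.Subsingleton.isPreirreducible Set.subsingleton_univ, toNonempty := ⟨⟨y, rfl⟩⟩ }
  haveI : AlgebraicGeometry.IsIntegral ((U y : Y.Opens) : Scheme.{u}) :=
    isIntegral_of_irreducibleSpace_of_isReduced _
  haveI hm : Mono (f ∣_ U y) :=
    MorphismProperty.of_isPullback (P := MorphismProperty.monomorphisms Scheme.{u}) (isPullback_morphismRestrict f (U y)).flip
      (show Mono f from inferInstance)
  rcases isEmpty_or_nonempty ((f ⁻¹ᵁ U y : X.Opens) : Scheme.{u}) with he | hne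
  · exact isOpenImmersion_of_isEmpty _
  · haveI : Surjective (f ∣_ U y) := ⟨fun a => ⟨hne.some, Subsingleton.elim _ _⟩⟩
    haveI : UniversallyInjective (f ∣_ U y) := inferInstance
    haveI : Subsingleton ((f ⁻¹ᵁ U y : X.Opens) : Scheme.{u}) :=
      ⟨fun a b => (f ∣_ U y).injective (Subsingleton.elim _ _)⟩
    haveI : QuasiCompact (f ∣_ U y) := ⟨fun _ _ _ => Set.subsingleton_of_subsingleton.isCompact⟩
    haveI := Flat.isIso_of_surjective_of_mono (f ∣_ U y)
    infer_instance

theorem exists_eq_ker_eval {ι : Type u} [Finite ι] {k : ι → Type u} [∀ i, Field (k i)]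
    (p : PrimeSpectrum (Π i, k i)) : ∃ i, p.asIdeal = RingHom.ker (Pi.evalRingHom k i) := by
  classical
  haveI := Fintype.ofFinite ι
  obtain ⟨i, hi⟩ : ∃ i, Pi.single (M := k) i 1 ∉ p.asIdeal := by
    by_contra h
    push Not at h
    refine p.isPrime.ne_top ((Ideal.eq_top_iff_one _).2 ?_)
    rw [show (1 : Π i, k i) = ∑ i, Pi.single i 1 from (Finset.univ_sum_single (1 : Π i, k i)).symm]
    exact Ideal.sum_mem _ fun i _ => h i
  refine ⟨i, le_antisymm (fun x hx => ?_) (fun x hx => ?_)⟩
  · by_contra hne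
    refine hi ?_
    have : Pi.single i 1 = Pi.single (M := k) i (x i)⁻¹ * x := by
      rw [← Pi.single_mul_left]
      exact congrArg _ (inv_mul_cancel₀ hne).symm
    rw [this]; exact Ideal.mul_mem_left _ _ hx
  · refine (p.isPrime.mem_or_mem (x := x) (y := Pi.single i 1) ?_).resolve_right hi
    rw [← Pi.single_mul_right, mul_one, show x i = 0 from hx, Pi.single_zero]
    exact Ideal.zero_mem _

theorem exists_iso_pi {ι : Type u} [Finite ι] (k : ι → Type u) [∀ i, Field (k i)]
    {X : Scheme.{u}} (f : X ⟶ Spec (CommRingCat.of (Π i, k i))) [Mono f] :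
    ∃ (I : Set ι) (e : X ≅ Spec (CommRingCat.of (Π i : I, k i))),
      e.hom ≫ Spec.map (CommRingCat.ofHom (Pi.ringHom fun i : I => Pi.evalRingHom k i.1)) = f := by
  classical
  haveI : Finite (PrimeSpectrum (Π i, k i)) := by
    choose c hc using exists_eq_ker_eval (k := k)
    exact Finite.of_injective c fun p q h => PrimeSpectrum.ext ((hc p).trans (h ▸ (hc q).symm))
  haveI : T1Space (PrimeSpectrum (Π i, k i)) := ⟨fun p => (PrimeSpectrum.isClosed_singleton_iff_isMaximal p).2 <| by
    obtain ⟨i, hi⟩ := exists_eq_ker_eval p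
    rw [hi]
    exact RingHom.ker_isMaximal_of_surjective _ fun c => ⟨Pi.single i c, Pi.single_eq_same i c⟩⟩
  haveI : DiscreteTopology (Spec (CommRingCat.of (Π i, k i))) :=
    inferInstanceAs (DiscreteTopology (PrimeSpectrum (Π i, k i)))
  haveI : IsReduced (Spec (CommRingCat.of (Π i, k i))) := inferInstance
  haveI := isOpenImmersion_of_mono f
  let pt : ι → PrimeSpectrum (Π i, k i) := fun i => ⟨RingHom.ker (Pi.evalRingHom k i), RingHom.ker_isPrime _⟩
  let I : Set ι := {i | pt i ∈ Set.range f}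
  let φ : (Π i, k i) →+* (Π i : I, k i) := Pi.ringHom fun i : I => Pi.evalRingHom k i.1
  have hφ : Function.Surjective φ := fun v =>
    ⟨fun i => if h : i ∈ I then v ⟨i, h⟩ else 0, funext fun i => dif_pos i.2⟩
  haveI : IsClosedImmersion (Spec.map (CommRingCat.ofHom φ)) := IsClosedImmersion.spec_of_surjective _ hφ
  haveI := isOpenImmersion_of_mono (Spec.map (CommRingCat.ofHom φ))
  have hrange : Set.range f = Set.range (Spec.map (CommRingCat.ofHom φ)) := by
    ext p
    obtain ⟨i, hi⟩ := exists_eq_ker_eval (show PrimeSpectrum (Π i, k i) from p)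
    have hp : p = pt i := PrimeSpectrum.ext hi
    have h2 : p ∈ Set.range (Spec.map (CommRingCat.ofHom φ)) ↔ RingHom.ker φ ≤ RingHom.ker (Pi.evalRingHom k i) := by
      rw [← hi]
      exact Set.ext_iff.1 (range_comap_of_surjective _ φ hφ) p
    rw [h2, hp]
    constructor
    · intro hmem x hx
      exact congrFun hx ⟨i, hmem⟩
    · intro hle
      by_contra hne
      have h0 : Pi.single (M := k) i 1 ∈ RingHom.ker φ := funext fun j => by
        show Pi.single (M := k) i 1 j.1 = 0
        refine Pi.single_eq_of_ne ?_ _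
        intro h
        have h' : i ∈ I := h ▸ j.2
        exact hne h'
      exact one_ne_zero ((Pi.single_eq_same i (1 : k i)).symm.trans (hle h0))
  exact ⟨I, IsOpenImmersion.isoOfRangeEq f (Spec.map (CommRingCat.ofHom φ)) hrange,
    IsOpenImmersion.isoOfRangeEq_hom_fac _ _ hrange⟩

theorem exists_iso_sigma {ι : Type u} (k : ι → Type u) [∀ i, Field (k i)]
    {Y : Scheme.{u}} (f : Y ⟶ ∐ fun i => Spec (CommRingCat.of (k i))) [Mono f] :
    ∃ (J : Set ι) (e : Y ≅ ∐ fun j : J => Spec (CommRingCat.of (k j.1))),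
      e.hom ≫ Sigma.desc (fun j : J => Sigma.ι (fun i => Spec (CommRingCat.of (k i))) j.1) = f := by
  let g : ι → Scheme.{u} := fun i => Spec (CommRingCat.of (k i))
  haveI : ∀ i, DiscreteTopology (g i) := fun i => inferInstanceAs (DiscreteTopology (PrimeSpectrum (k i)))
  haveI : DiscreteTopology (∐ g : Scheme.{u}) := (sigmaMk g).discreteTopology
  haveI : IsReduced (∐ g : Scheme.{u}) := by
    haveI : ∀ x : (∐ g : Scheme.{u}), _root_.IsReduced ((∐ g : Scheme.{u}).presheaf.stalk x) := fun x => by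
      obtain ⟨⟨i, y⟩, rfl⟩ := (sigmaMk g).surjective x
      rw [sigmaMk_mk]
      exact isReduced_of_injective (asIso ((Sigma.ι g i).stalkMap y)).commRingCatIsoToRingEquiv
        (asIso ((Sigma.ι g i).stalkMap y)).commRingCatIsoToRingEquiv.injective
    exact isReduced_of_isReduced_stalk _
  haveI : Mono f := inferInstance
  haveI := isOpenImmersion_of_mono f
  let J : Set ι := {i | ∃ y, Sigma.ι g i y ∈ Set.range f}
  haveI : IsOpenImmersion (Sigma.desc (fun j : J => Sigma.ι g j.1)) :=
    isOpenImmersion_sigmaDesc _ _ fun i j hij => Set.disjoint_iff_inter_eq_empty.2 (by simpa using congrArg (fun U : Opens (∐ g : Scheme.{u}) => (U : Set (∐ g : Scheme.{u}))) (disjoint_opensRange_sigmaι g i.1 j.1 fun h => hij (Subtype.ext h)).eq_bot)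
  have hrange : Set.range f = Set.range (Sigma.desc (fun j : J => Sigma.ι g j.1)) := by
    ext x
    constructor
    · intro hx
      obtain ⟨⟨i, y⟩, rfl⟩ := (sigmaMk g).surjective x
      rw [sigmaMk_mk] at hx ⊢
      exact ⟨Sigma.ι (fun j : J => g j.1) ⟨i, y, hx⟩ y, by rw [← Scheme.Hom.comp_apply, Sigma.ι_desc]⟩
    · rintro ⟨z, rfl⟩
      obtain ⟨⟨⟨i, y₀, hy₀⟩, y⟩, rfl⟩ := (sigmaMk (fun j : J => g j.1)).surjective z
      rw [sigmaMk_mk, ← Scheme.Hom.comp_apply, Sigma.ι_desc]
      haveI : Subsingleton (g i) := inferInstanceAs (Subsingleton (PrimeSpectrum (k i)))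
      rwa [Subsingleton.elim y y₀]
  exact ⟨J, IsOpenImmersion.isoOfRangeEq f _ hrange, IsOpenImmersion.isoOfRangeEq_hom_fac _ _ hrange⟩

end Groth.L18.MonoDiscrete
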