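import Groth.Agent.L18.GradedGen
import Mathlib.Algebra.Polynomial.AlgebraMap
import Mathlib.RingTheory.Polynomial.Basic

/-!
# The graded ring `S♮` with `S♮_n = S_{≥ n}`
-/

set_option autoImplicit false
universe u

open DirectSum Polynomial

namespace Groth.L18.Natural

variable {R A B : Type u} [CommRing R] [CommRing A] [Algebra R A]
  {𝒜 : ℕ → Submodule R A} [GradedAlgebra 𝒜] [CommRing B] [Algebra R B]
  {ℬ : ℕ → Submodule R B} [GradedAlgebra ℬ]
  (φ : B →ₐ[R] Polynomial A)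
  (hdeg : ∀ n : ℕ, Submodule.map φ.toLinearMap (ℬ n) =
    Submodule.map ((Polynomial.monomial n : A →ₗ[A] Polynomial A).restrictScalars R)
      (⨆ (m : ℕ) (_ : n ≤ m), 𝒜 m))

theorem proj_eq_zero_of_mem {n : ℕ} {s : A} (hs : s ∈ ⨆ (m : ℕ) (_ : n ≤ m), 𝒜 m) :
    ∀ k, k < n → GradedRing.proj 𝒜 k s = 0 := by
  intro k hk
  induction hs using Submodule.iSup_induction' with
  | mem m x hx =>
    by_cases hm : n ≤ m
    · rw [iSup_pos hm] at hx; exact proj_of_mem_ne 𝒜 hx (by omega)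
    · rw [iSup_neg hm, Submodule.mem_bot] at hx; rw [hx, map_zero]
  | zero => simp
  | add x y _ _ hx hy => rw [map_add, hx, hy, add_zero]

theorem mem_ge {n m : ℕ} (h : n ≤ m) {s : A} (hs : s ∈ 𝒜 m) : s ∈ ⨆ (m : ℕ) (_ : n ≤ m), 𝒜 m :=
  Submodule.mem_iSup_of_mem m (by rwa [iSup_pos h])

theorem sum_proj (s : A) :
    ∃ T : Finset ℕ, s = ∑ m ∈ T, GradedRing.proj 𝒜 m s := by
  classical
  exact ⟨(DirectSum.decompose 𝒜 s).support, by
    simpa [GradedRing.proj_apply] using (DirectSum.sum_support_decompose 𝒜 s).symm⟩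

theorem proj_mul_ge {i j : ℕ} {s t : A} (hs : s ∈ ⨆ (m : ℕ) (_ : i ≤ m), 𝒜 m)
    (ht : t ∈ ⨆ (m : ℕ) (_ : j ≤ m), 𝒜 m) :
    GradedRing.proj 𝒜 (i + j) (s * t) = GradedRing.proj 𝒜 i s * GradedRing.proj 𝒜 j t := by
  induction hs using Submodule.iSup_induction' with
  | zero => simp
  | add x y _ _ hx hy => rw [add_mul, map_add, map_add, hx, hy, add_mul]
  | mem m x hx =>
    by_cases hm : i ≤ m
    swap
    · rw [iSup_neg hm, Submodule.mem_bot] at hx; subst hx; simp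
    rw [iSup_pos hm] at hx
    induction ht using Submodule.iSup_induction' with
    | zero => simp
    | add y z _ _ hy hz => rw [mul_add, map_add, map_add, hy, hz, mul_add]
    | mem l y hy =>
      by_cases hl : j ≤ l
      swap
      · rw [iSup_neg hl, Submodule.mem_bot] at hy; subst hy; simp
      rw [iSup_pos hl] at hy
      have hxy := SetLike.mul_mem_graded hx hy
      by_cases h : m = i ∧ l = j
      · rw [← h.1, ← h.2, proj_of_mem 𝒜 hxy, proj_of_mem 𝒜 hx, proj_of_mem 𝒜 hy]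
      · rw [proj_of_mem_ne 𝒜 hxy (by omega)]
        by_cases h1 : m = i
        · rw [proj_of_mem_ne 𝒜 hy (fun e => h ⟨h1, e⟩), mul_zero]
        · rw [proj_of_mem_ne 𝒜 hx h1, zero_mul]

include hdeg

theorem exists_coeff {n : ℕ} {b : B} (hb : b ∈ ℬ n) :
    ∃ s ∈ ⨆ (m : ℕ) (_ : n ≤ m), 𝒜 m, φ b = monomial n s := by
  obtain ⟨s, hs, hs'⟩ := (hdeg n).le (Submodule.mem_map_of_mem hb)
  exact ⟨s, hs, hs'.symm⟩

theorem exists_lift {n : ℕ} {s : A} (hs : s ∈ ⨆ (m : ℕ) (_ : n ≤ m), 𝒜 m) :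
    ∃ b ∈ ℬ n, φ b = monomial n s := by
  obtain ⟨b, hb, hb'⟩ := (hdeg n).ge ⟨s, hs, rfl⟩
  exact ⟨b, hb, hb'⟩

theorem exists_lift_C (a : A) : ∃ b ∈ ℬ 0, φ b = C a := by
  have ha : a ∈ ⨆ (m : ℕ) (_ : 0 ≤ m), 𝒜 m := by
    obtain ⟨T, hT⟩ := sum_proj (𝒜 := 𝒜) a
    rw [hT]
    exact Submodule.sum_mem _ fun m _ => mem_ge (Nat.zero_le m) (proj_mem 𝒜 a m)
  obtain ⟨b, hb, hb'⟩ := exists_lift φ hdeg ha
  exact ⟨b, hb, by rw [hb', monomial_zero_left]⟩

omit hdeg in
/-- component of the diagonal -/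
noncomputable def diagAux (𝒜 : ℕ → Submodule R A) [GradedAlgebra 𝒜] (n : ℕ) : ℬ n →+ A where
  toFun b := GradedRing.proj 𝒜 n ((φ b.1).coeff n)
  map_zero' := by simp
  map_add' x y := by simp

/-- The diagonal `S♮ → S`, sending `s Xⁿ` to the degree `n` component of `s`. -/
noncomputable def diag : B →+* A :=
  (DirectSum.toSemiring (diagAux φ 𝒜)
    (by
      show GradedRing.proj 𝒜 0 ((φ (1 : B)).coeff 0) = 1
      rw [map_one, coeff_one_zero, proj_of_mem 𝒜 SetLike.GradedOne.one_mem])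
    (fun {i j} ai aj => by
      obtain ⟨s, hs, hs'⟩ := exists_coeff φ hdeg ai.2
      obtain ⟨t, ht, ht'⟩ := exists_coeff φ hdeg aj.2
      show GradedRing.proj 𝒜 (i + j) ((φ ((ai : B) * aj)).coeff (i + j)) =
        GradedRing.proj 𝒜 i ((φ ai).coeff i) * GradedRing.proj 𝒜 j ((φ aj).coeff j)
      rw [map_mul, hs', ht', monomial_mul_monomial, coeff_monomial_same, coeff_monomial_same,
        coeff_monomial_same, proj_mul_ge hs ht])).comp (decomposeRingEquiv ℬ).toRingHom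

theorem diag_of_mem {n : ℕ} {b : B} (hb : b ∈ ℬ n) :
    diag φ hdeg b = GradedRing.proj 𝒜 n ((φ b).coeff n) := by
  have h : decomposeRingEquiv ℬ b = DirectSum.of (fun i => ℬ i) n ⟨b, hb⟩ := decompose_of_mem ℬ hb
  rw [diag, RingHom.comp_apply]
  erw [h]
  rw [DirectSum.toSemiring_of]
  rfl

/-- The diagonal as an algebra homomorphism. -/
noncomputable def diagₐ : B →ₐ[R] A :=
  { diag φ hdeg with
    commutes' := fun r => by
      show diag φ hdeg (algebraMap R B r) = algebraMap R A r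
      rw [diag_of_mem φ hdeg (SetLike.algebraMap_mem_graded ℬ r), AlgHom.commutes,
        Polynomial.algebraMap_apply, coeff_C_zero, proj_of_mem 𝒜 (SetLike.algebraMap_mem_graded 𝒜 r)] }

theorem map_diag (n : ℕ) : Submodule.map (diagₐ φ hdeg).toLinearMap (ℬ n) = 𝒜 n := by
  refine le_antisymm ?_ fun a ha => ?_
  · rintro _ ⟨b, hb, rfl⟩
    show diag φ hdeg b ∈ 𝒜 n
    rw [diag_of_mem φ hdeg hb]
    exact proj_mem 𝒜 _ _
  · obtain ⟨b, hb, hb'⟩ := exists_lift φ hdeg (mem_ge le_rfl ha)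
    refine ⟨b, hb, ?_⟩
    show diag φ hdeg b = a
    rw [diag_of_mem φ hdeg hb, hb', coeff_monomial_same, proj_of_mem 𝒜 ha]

theorem diag_surjective : Function.Surjective (diag φ hdeg) := fun a => by
  obtain ⟨T, hT⟩ := sum_proj (𝒜 := 𝒜) a
  have : ∀ m, ∃ b, diag φ hdeg b = GradedRing.proj 𝒜 m a := fun m => by
    obtain ⟨b, -, hb⟩ := (map_diag φ hdeg m).ge (proj_mem 𝒜 a m)
    exact ⟨b, hb⟩
  choose g hg using this
  exact ⟨∑ m ∈ T, g m, by rw [map_sum, Finset.sum_congr rfl fun m _ => hg m, ← hT]⟩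

theorem finiteType_of_natural (h : Algebra.FiniteType (ℬ 0) B) : Algebra.FiniteType (𝒜 0) A := by
  classical
  obtain ⟨s, hs⟩ := h.out
  refine ⟨⟨s.image (diag φ hdeg), ?_⟩⟩
  rw [_root_.eq_top_iff]
  rintro a -
  obtain ⟨b, rfl⟩ := diag_surjective φ hdeg a
  have hb : b ∈ Algebra.adjoin (ℬ 0) (s : Set B) := hs ▸ Algebra.mem_top
  induction hb using Algebra.adjoin_induction with
  | mem x hx => exact Algebra.subset_adjoin (by simpa using ⟨x, hx, rfl⟩)
  | algebraMap r =>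
    exact Subalgebra.algebraMap_mem (Algebra.adjoin (𝒜 0) _)
      (⟨diag φ hdeg (r : B), (map_diag φ hdeg 0).le ⟨(r : B), r.2, rfl⟩⟩ : 𝒜 0)
  | add x y _ _ hx hy => rw [map_add]; exact add_mem hx hy
  | mul x y _ _ hx hy => rw [map_mul]; exact mul_mem hx hy

theorem natural_finiteType (hφ : Function.Injective φ) [Algebra.FiniteType (𝒜 0) A] :
    Algebra.FiniteType (ℬ 0) B := by
  classical
  obtain ⟨s, hs, hs'⟩ := GradedAlgebra.exists_finset_adjoin_eq_top_and_homogeneous_ne_zero 𝒜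
  choose! w hw0 hw using hs'
  have hlift : ∀ p : Σ e : s, Fin (w e + 1), ∃ b : B, φ b = monomial (p.2 : ℕ) (p.1 : A) := fun p => by
    obtain ⟨b, -, hb⟩ := exists_lift φ hdeg (mem_ge (Fin.is_le p.2) (hw p.1 p.1.2))
    exact ⟨b, hb⟩
  choose g hg using hlift
  let T := (Algebra.adjoin (ℬ 0) (Set.range g)).toSubring.map φ.toRingHom
  have hC : ∀ a : A, C a ∈ T := fun a => by
    obtain ⟨b, hb, hb'⟩ := exists_lift_C φ hdeg a
    exact ⟨b, Subalgebra.algebraMap_mem (Algebra.adjoin (ℬ 0) (Set.range g)) (⟨b, hb⟩ : ℬ 0), hb'⟩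
  let U : A → Prop := fun a => ∀ m n : ℕ, n ≤ m → monomial n (GradedRing.proj 𝒜 m a) ∈ T
  have hU : ∀ a, U a := fun a => by
    have ha : a ∈ Algebra.adjoin (𝒜 0) (s : Set A) := hs ▸ Algebra.mem_top
    induction ha using Algebra.adjoin_induction with
    | mem x hx =>
      intro m n hnm
      by_cases h : w x = m
      · subst h
        rw [proj_of_mem 𝒜 (hw x hx)]
        exact ⟨g ⟨⟨x, hx⟩, ⟨n, Nat.lt_succ_of_le hnm⟩⟩, Algebra.subset_adjoin ⟨_, rfl⟩, hg _⟩
      · rw [proj_of_mem_ne 𝒜 (hw x hx) h, map_zero]; exact T.zero_mem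
    | algebraMap r =>
      intro m n hnm
      rcases Nat.eq_zero_or_pos m with rfl | hm
      · rw [Nat.le_zero.mp hnm, monomial_zero_left]; exact hC _
      · rw [show algebraMap (𝒜 0) A r = (r : A) from rfl, proj_of_mem_ne 𝒜 r.2 hm.ne, map_zero]
        exact T.zero_mem
    | add x y _ _ hx hy =>
      intro m n h
      rw [map_add, map_add]
      exact T.add_mem (hx m n h) (hy m n h)
    | mul x y _ _ hx hy =>
      intro m n hnm
      obtain ⟨Tx, hTx⟩ := sum_proj (𝒜 := 𝒜) x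
      obtain ⟨Ty, hTy⟩ := sum_proj (𝒜 := 𝒜) y
      rw [hTx, hTy, Finset.sum_mul_sum]
      simp only [map_sum]
      refine T.sum_mem fun i _ => T.sum_mem fun j _ => ?_
      have hmem := SetLike.mul_mem_graded (proj_mem 𝒜 x i) (proj_mem 𝒜 y j)
      by_cases h : i + j = m
      · subst h
        rw [proj_of_mem 𝒜 hmem, show n = min n i + (n - min n i) by omega, ← monomial_mul_monomial]
        exact T.mul_mem (hx i _ (min_le_right _ _)) (hy j _ (by omega))
      · rw [proj_of_mem_ne 𝒜 hmem h, map_zero]; exact T.zero_mem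
  refine ⟨⟨Finset.univ.image g, ?_⟩⟩
  rw [Finset.coe_image, Finset.coe_univ, Set.image_univ, _root_.eq_top_iff]
  rintro b -
  rw [← DirectSum.sum_support_decompose ℬ b]
  refine sum_mem fun n _ => ?_
  obtain ⟨t, ht, ht'⟩ := exists_coeff φ hdeg (SetLike.coe_mem (DirectSum.decompose ℬ b n))
  suffices h : monomial n t ∈ T by
    obtain ⟨c, hc, hc'⟩ := h
    rwa [← hφ (hc'.trans ht'.symm)]
  obtain ⟨Tt, hTt⟩ := sum_proj (𝒜 := 𝒜) t
  rw [hTt, map_sum]
  refine T.sum_mem fun m _ => ?_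
  by_cases hm : n ≤ m
  · exact hU t m n hm
  · rw [proj_eq_zero_of_mem ht m (by omega), map_zero]; exact T.zero_mem

theorem isNoetherianRing_iff_natural (hφ : Function.Injective φ) :
    IsNoetherianRing B ↔ IsNoetherianRing A := by
  constructor
  · intro h
    exact isNoetherianRing_of_surjective B A (diag φ hdeg) (diag_surjective φ hdeg)
  · intro h
    rw [Groth.L18.isNoetherianRing_iff ℬ]
    haveI : Algebra.FiniteType (𝒜 0) A := ((Groth.L18.isNoetherianRing_iff 𝒜).mp h).2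
    refine ⟨?_, natural_finiteType φ hdeg hφ⟩
    refine isNoetherianRing_of_ringEquiv A (RingEquiv.ofBijective
      ((constantCoeff.comp φ.toRingHom).comp (algebraMap (ℬ 0) B)) ⟨?_, fun a => ?_⟩).symm
    · intro x y h
      obtain ⟨s, -, hs⟩ := exists_coeff φ hdeg x.2
      obtain ⟨t, -, ht⟩ := exists_coeff φ hdeg y.2
      refine Subtype.ext (hφ ?_)
      have h' : (φ (x : B)).coeff 0 = (φ (y : B)).coeff 0 := h
      rw [hs, ht, coeff_monomial_same, coeff_monomial_same] at h'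
      rw [hs, ht, h']
    · obtain ⟨b, hb, hb'⟩ := exists_lift_C φ hdeg a
      exact ⟨⟨b, hb⟩, by
        show (φ b).coeff 0 = a
        rw [hb', coeff_C_zero]⟩

theorem succ_eq_iff (hφ : Function.Injective φ) (n₀ : ℕ) :
    (∀ n : ℕ, n₀ ≤ n → ℬ (n + 1) = ℬ 1 * ℬ n) ↔ (∀ n : ℕ, n₀ ≤ n → 𝒜 (n + 1) = 𝒜 1 * 𝒜 n) := by
  refine ⟨fun h n hn => ?_, fun h n hn => ?_⟩
  · rw [← map_diag φ hdeg, h n hn, Submodule.map_mul, map_diag, map_diag]
  · refine le_antisymm ?_ (Submodule.mul_le.mpr fun x hx y hy => by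
      rw [add_comm n 1]; exact SetLike.mul_mem_graded hx hy)
    refine (Submodule.map_le_map_iff_of_injective (show Function.Injective φ.toLinearMap from hφ) _ _).mp ?_
    rw [hdeg, Submodule.map_mul, hdeg, hdeg, Submodule.map_le_iff_le_comap]
    refine iSup₂_le fun m hm => ?_
    have e : 𝒜 m = 𝒜 1 * 𝒜 (m - 1) := by
      rw [← h (m - 1) (by omega), Nat.sub_add_cancel (by omega)]
    rw [e, Submodule.mul_le]
    intro x hx y hy
    rw [Submodule.mem_comap, LinearMap.restrictScalars_apply]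
    rw [add_comm n 1, ← monomial_mul_monomial]
    exact Submodule.mul_mem_mul ⟨x, mem_ge le_rfl hx, rfl⟩ ⟨y, mem_ge (by omega) hy, rfl⟩

omit hdeg in
theorem one_pow_le (n : ℕ) (hn : 1 ≤ n) : 𝒜 1 ^ n ≤ 𝒜 n := by
  induction n, hn using Nat.le_induction with
  | base => rw [pow_one]
  | succ k _ ih =>
    rw [pow_succ']
    refine Submodule.mul_le.mpr fun x hx y hy => ?_
    rw [add_comm k 1]
    exact SetLike.mul_mem_graded hx (ih hy)

omit hdeg in
theorem monomial_mem_pow (k : ℕ) : ∀ m : ℕ, k + 1 ≤ m → ∀ x ∈ 𝒜 1 ^ m,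
    monomial (k + 1) x ∈ (Submodule.map ((Polynomial.monomial 1 : A →ₗ[A] Polynomial A).restrictScalars R)
      (⨆ (l : ℕ) (_ : 1 ≤ l), 𝒜 l)) ^ (k + 1) := by
  induction k with
  | zero =>
    intro m hm x hx
    rw [pow_one]
    exact ⟨x, mem_ge hm (one_pow_le m hm hx), rfl⟩
  | succ k ih =>
    intro m hm x hx
    obtain ⟨l, rfl⟩ : ∃ l, m = l + 1 := ⟨m - 1, by omega⟩
    rw [pow_succ'] at hx
    induction hx using Submodule.mul_induction_on' with
    | mem_mul_mem a ha b hb =>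
      rw [show k + 1 + 1 = 1 + (k + 1) by omega, ← monomial_mul_monomial,
        show 1 + (k + 1) = (k + 1) + 1 by omega, pow_succ' _ (k + 1)]
      exact Submodule.mul_mem_mul ⟨a, mem_ge le_rfl ha, rfl⟩ (ih l (by omega) b hb)
    | add a _ b _ ha hb => rw [map_add]; exact add_mem ha hb

theorem pow_eq_iff (hφ : Function.Injective φ) (n₀ : ℕ) (hn₀ : 1 ≤ n₀) :
    (∀ n : ℕ, n₀ ≤ n → ℬ n = ℬ 1 ^ n) ↔ (∀ n : ℕ, n₀ ≤ n → 𝒜 n = 𝒜 1 ^ n) := by
  refine ⟨fun h n hn => ?_, fun h n hn => ?_⟩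
  · rw [← map_diag φ hdeg, h n hn, Submodule.map_pow, map_diag]
  refine le_antisymm ?_ (one_pow_le n (by omega))
  refine (Submodule.map_le_map_iff_of_injective (show Function.Injective φ.toLinearMap from hφ) _ _).mp ?_
  rw [hdeg, Submodule.map_pow, hdeg, Submodule.map_le_iff_le_comap]
  refine iSup₂_le fun m hm => ?_
  rw [h m (hn.trans hm)]
  obtain ⟨k, rfl⟩ : ∃ k, n = k + 1 := ⟨n - 1, by omega⟩
  exact fun x hx => monomial_mem_pow k m hm x hx

theorem radical_span (hφ : Function.Injective φ) {ι : Type u} (d : ι → ℕ) (f : ι → A)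
    (hf : ∀ a, f a ∈ 𝒜 (d a))
    (hrad : ∀ g ∈ (HomogeneousIdeal.irrelevant 𝒜).toIdeal, ∃ n : ℕ, 0 < n ∧ g ^ n ∈ Ideal.span (Set.range f))
    (fn : ι → B) (hfn : ∀ a, φ (fn a) = Polynomial.monomial (d a) (f a)) :
    ∀ g ∈ (HomogeneousIdeal.irrelevant ℬ).toIdeal, ∃ n : ℕ, 0 < n ∧ g ^ n ∈ Ideal.span (Set.range fn) := by
  classical
  have key : ∀ n : ℕ, 0 < n → ∀ b ∈ ℬ n, b ∈ (Ideal.span (Set.range fn)).radical := by
    intro n hn b hb
    obtain ⟨s, hs, hs'⟩ := exists_coeff φ hdeg hb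
    obtain ⟨T, hT⟩ := sum_proj (𝒜 := 𝒜) s
    have hpart : ∀ m, ∃ c ∈ (Ideal.span (Set.range fn)).radical, φ c = monomial n (GradedRing.proj 𝒜 m s) := by
      intro m
      rcases Nat.lt_or_ge m n with hmn | hmn
      · exact ⟨0, zero_mem _, by rw [proj_eq_zero_of_mem hs m hmn, map_zero, map_zero]⟩
      set t := GradedRing.proj 𝒜 m s with ht
      have htm : t ∈ 𝒜 m := proj_mem 𝒜 s m
      obtain ⟨c, hc, hc'⟩ := exists_lift φ hdeg (mem_ge hmn htm)
      refine ⟨c, ?_, hc'⟩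
      obtain ⟨N, hN, hN'⟩ := hrad t (HomogeneousIdeal.mem_irrelevant_of_mem 𝒜 (hn.trans_le hmn) htm)
      obtain ⟨co, hco⟩ := (Finsupp.mem_ideal_span_range_iff_exists_finsupp).mp hN'
      let M := co.support.sup d
      refine ⟨N + M, ?_⟩
      have hle : ∀ a ∈ co.support, d a ≤ (N + M) * n := fun a ha => by
        have h1 : d a ≤ M := Finset.le_sup ha
        calc d a ≤ (N + M) * 1 := by omega
          _ ≤ (N + M) * n := Nat.mul_le_mul_left _ hn
      have hlem : (N + M) * n ≤ (N + M) * m := Nat.mul_le_mul_left _ hmn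
      have hval : t ^ (N + M) = ∑ a ∈ co.support,
          GradedRing.proj 𝒜 ((N + M) * m - d a) (t ^ M * co a) * f a := by
        have hmem : t ^ (N + M) ∈ 𝒜 ((N + M) * m) := by
          simpa [smul_eq_mul] using SetLike.pow_mem_graded (N + M) htm
        conv_lhs => rw [← proj_of_mem 𝒜 hmem, pow_add, mul_comm (t ^ N), ← hco, Finsupp.sum, Finset.mul_sum]
        rw [map_sum]
        refine Finset.sum_congr rfl fun a ha => ?_
        rw [← mul_assoc, proj_mul_of_right_mem 𝒜 (hf a), if_pos ((hle a ha).trans hlem)]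
      have hl : ∀ a ∈ co.support, ∃ e : B,
          φ e = monomial ((N + M) * n - d a) (GradedRing.proj 𝒜 ((N + M) * m - d a) (t ^ M * co a)) := fun a _ => by
        obtain ⟨e, -, he⟩ := exists_lift φ hdeg
          (mem_ge (show (N + M) * n - d a ≤ (N + M) * m - d a by omega) (proj_mem 𝒜 (t ^ M * co a) _))
        exact ⟨e, he⟩
      choose! e he using hl
      have hce : c ^ (N + M) = ∑ a ∈ co.support, e a * fn a := by
        apply hφ
        rw [map_pow, hc', monomial_pow, map_sum, hval, map_sum]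
        refine Finset.sum_congr rfl fun a ha => ?_
        rw [map_mul φ, he a ha, hfn, monomial_mul_monomial, Nat.sub_add_cancel (hle a ha), mul_comm n]
      rw [hce]
      exact Ideal.sum_mem _ fun a _ => Ideal.mul_mem_left _ _ (Ideal.subset_span ⟨a, rfl⟩)
    choose c hc hc' using hpart
    have : b = ∑ m ∈ T, c m := hφ (by
      rw [hs', map_sum, Finset.sum_congr rfl fun m _ => hc' m, ← map_sum, ← hT])
    rw [this]
    exact Ideal.sum_mem _ fun m _ => hc m
  intro g hg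
  obtain ⟨N, hN⟩ : g ∈ (Ideal.span (Set.range fn)).radical := by
    rw [← DirectSum.sum_support_decompose ℬ g]
    refine Ideal.sum_mem _ fun i _ => ?_
    rcases Nat.eq_zero_or_pos i with rfl | hi
    · rw [HomogeneousIdeal.mem_iff, HomogeneousIdeal.mem_irrelevant_iff, GradedRing.proj_apply] at hg
      rw [hg]; exact zero_mem _
    · exact key i hi _ (SetLike.coe_mem _)
  exact ⟨N + 1, Nat.succ_pos _, by rw [pow_succ]; exact Ideal.mul_mem_right _ _ hN⟩

end Groth.L18.Natural
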