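import Groth.Agent.L22.PDual.RegVanish
import Groth.Agent.L04.RegularPd
import Groth.Agent.L04.Depth2
import Groth.Agent.L01.AusBuch
import Groth.Agent.L01.FlatCx.Seq
import Groth.Agent.L02.FibDepth.Semi

/-!
# Depth of the reductions of flat modules along a local homomorphism
-/

set_option autoImplicit false
set_option linter.style.haveILetI false
set_option linter.unusedSectionVars false
set_option backward.isDefEq.respectTransparency.types false
set_option backward.isDefEq.respectTransparency false
universe u

open IsLocalRing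
open scoped TensorProduct

noncomputable section

namespace Groth.L18.NegVanish

variable (A : Type u) {B : Type u} [CommRing A] [IsLocalRing A] [CommRing B] [Algebra A B]

/-- The ideal of the closed fibre. -/
abbrev fib : Ideal B := (maximalIdeal A).map (algebraMap A B)

/-- The reduction of a module to the closed fibre. -/
abbrev Red (M : Type u) [AddCommGroup M] [Module B M] : Type u := M ⧸ (fib A (B := B) • (⊤ : Submodule B M))

variable [IsLocalRing B]

/-- The depth of the reduction. -/
def dep (M : Type u) [AddCommGroup M] [Module B M] : ℕ∞ := LocCoh.depth B (Red A (B := B) M)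

variable {A} [IsNoetherianRing B]
variable {K E M : Type u} [AddCommGroup K] [Module B K] [AddCommGroup E] [Module B E] [AddCommGroup M] [Module B M]
  [Module A K] [IsScalarTower A B K] [Module A E] [IsScalarTower A B E] [Module A M] [IsScalarTower A B M]

/-- The reduction of a submodule is injective when the quotient is flat. -/
theorem mem_of_flat [Module.Flat A M] (f : K →ₗ[B] E) (g : E →ₗ[B] M) (hf : Function.Injective f)
    (hg : Function.Surjective g) (hfg : Function.Exact f g) {x : K}
    (hx : f x ∈ fib A (B := B) • (⊤ : Submodule B E)) : x ∈ fib A (B := B) • (⊤ : Submodule B K) := by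
  let I := maximalIdeal A
  have key : ∀ (N : Type u) [AddCommGroup N] [Module B N] [Module A N] [IsScalarTower A B N] (v : N),
      (v ∈ fib A (B := B) • (⊤ : Submodule B N)) ↔ v ⊗ₜ[A] (1 : A ⧸ I) = 0 := by
    intro N _ _ _ _ v
    have h1 : (v ∈ fib A (B := B) • (⊤ : Submodule B N)) ↔ v ∈ I • (⊤ : Submodule A N) := by
      rw [show (⊤ : Submodule A N) = (⊤ : Submodule B N).restrictScalars A from rfl,
        ← Ideal.smul_restrictScalars]
      rfl
    rw [h1, ← (TensorProduct.tensorQuotEquivQuotSMul N I).injective.eq_iff, map_zero]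
    rw [show (1 : A ⧸ I) = Ideal.Quotient.mk I 1 from rfl, TensorProduct.tensorQuotEquivQuotSMul_tmul_mk, one_smul,
      Submodule.Quotient.mk_eq_zero]
  rw [key] at hx ⊢
  refine Groth.L01.FlatCx.rTensor_injective_of_flat_quot (f := f.restrictScalars A) (g := g.restrictScalars A)
    hf hg hfg (A ⧸ I) ?_
  rw [map_zero, LinearMap.rTensor_tmul]
  exact hx

/-- One step of the depth chase. -/
theorem le_dep_left [Module.Finite B E] [Module.Finite B M] [Module.Flat A M] (f : K →ₗ[B] E) (g : E →ₗ[B] M)
    (hf : Function.Injective f) (hg : Function.Surjective g) (hfg : Function.Exact f g) {n : ℕ}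
    (hE : ((n + 1 : ℕ) : ℕ∞) ≤ dep A (B := B) E) (hM : (n : ℕ∞) ≤ dep A (B := B) M) :
    ((n + 1 : ℕ) : ℕ∞) ≤ dep A (B := B) K := by
  haveI : Module.Finite B K := Module.Finite.of_injective f hf
  let J := fib A (B := B)
  let f' : Red A (B := B) K →ₗ[B] Red A (B := B) E := Submodule.mapQ _ _ f fun x hx => by
    exact Submodule.smul_top_le_comap_smul_top J f hx
  let g' : Red A (B := B) E →ₗ[B] Red A (B := B) M := Submodule.mapQ _ _ g fun x hx => by
    exact Submodule.smul_top_le_comap_smul_top J g hx
  refine Groth.L04.le_idealDepth_left (f := f') (g := g') ?_ ?_ ?_ hE hM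
  · refine (injective_iff_map_eq_zero f').2 fun z hz => ?_
    obtain ⟨z, rfl⟩ := Submodule.Quotient.mk_surjective _ z
    exact (Submodule.Quotient.mk_eq_zero _).2 (mem_of_flat f g hf hg hfg ((Submodule.Quotient.mk_eq_zero _).1 hz))
  · intro z
    obtain ⟨z, rfl⟩ := Submodule.Quotient.mk_surjective _ z
    obtain ⟨y, rfl⟩ := hg z
    exact ⟨Submodule.Quotient.mk y, rfl⟩
  · intro z
    obtain ⟨y, rfl⟩ := Submodule.Quotient.mk_surjective _ z
    constructor
    · intro hy
      have h1 : g y ∈ J • (⊤ : Submodule B M) := (Submodule.Quotient.mk_eq_zero _).1 hy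
      rw [← Submodule.map_top (f := g) |>.trans (LinearMap.range_eq_top.2 hg), ← Submodule.map_smul''] at h1
      obtain ⟨w, hw, hgw⟩ := h1
      obtain ⟨x, hx⟩ := (hfg (y - w)).1 (by rw [map_sub, hgw, sub_self])
      refine ⟨Submodule.Quotient.mk x, (Submodule.Quotient.eq _).2 ?_⟩
      rw [hx, sub_sub_cancel_left]
      exact Submodule.neg_mem _ hw
    · rintro ⟨w, hw⟩
      obtain ⟨x, rfl⟩ := Submodule.Quotient.mk_surjective _ w
      rw [← hw]
      refine (Submodule.Quotient.mk_eq_zero _).2 ?_
      rw [hfg.apply_apply_eq_zero]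
      exact zero_mem _

variable [IsLocalHom (algebraMap A B)] [IsRegularLocalRing (B ⧸ fib A (B := B))]

theorem semi_dep (N : Type u) [AddCommGroup N] [Module B N] :
    dep A (B := B) N = LocCoh.depth (B ⧸ fib A (B := B)) (Red A (B := B) N) :=
  L02.FibDepth.Semi.depth_eq
    { φ := Ideal.Quotient.mk (fib A (B := B))
      surj := Ideal.Quotient.mk_surjective
      e := AddEquiv.refl _
      map_smul := fun r m => rfl }

/-- Free modules have the depth of the fibre ring. -/
theorem dim_le_dep_free [Module.Finite B E] [Module.Free B E] {d : ℕ}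
    (hd : ringKrullDim (B ⧸ fib A (B := B)) = d) : (d : ℕ∞) ≤ dep A (B := B) E := by
  let R := B ⧸ fib A (B := B)
  rw [semi_dep]
  rcases subsingleton_or_nontrivial (Red A (B := B) E) with h | h
  · rw [LocCoh.depth, Groth.L04.idealDepth_eq_top (Subsingleton.elim _ _)]
    exact le_top
  haveI : Module.Free R (Red A (B := B) E) :=
    Module.Free.of_equiv' (inferInstance : Module.Free R (R ⊗[B] E))
      ((TensorProduct.quotTensorEquivQuotSMul E (fib A (B := B))).extendScalarsOfSurjective Ideal.Quotient.mk_surjective)
  haveI : Module.Finite R (Red A (B := B) E) := Module.Finite.of_restrictScalars_finite B R _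
  exact (Groth.L01.AusBuch.depth_free (R := R) _ d).2 (Groth.L22.PDual.depth_eq_dim hd).ge

/-- A flat module with a maximal depth reduction is free. -/
theorem free_of_dim_le_dep [Module.Finite B M] [Module.Flat A M] {d : ℕ}
    (hd : ringKrullDim (B ⧸ fib A (B := B)) = d) (h : (d : ℕ∞) ≤ dep A (B := B) M) : Module.Free B M := by
  let R := B ⧸ fib A (B := B)
  let J := fib A (B := B)
  haveI : Module.Finite R (Red A (B := B) M) := Module.Finite.of_restrictScalars_finite B R _
  haveI : CategoryTheory.Projective (ModuleCat.of R (Red A (B := B) M)) := by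
    rw [CategoryTheory.projective_iff_hasProjectiveDimensionLT_one]
    exact Groth.L04.hasProjectiveDimensionLE_of_dim_le_add_depth (t := 0) _ hd (by
      rw [← semi_dep]; simpa using h)
  haveI : Module.Projective R (Red A (B := B) M) := (IsProjective.iff_projective _).2 inferInstance
  haveI : Module.Free R (Red A (B := B) M) := Module.free_of_flat_of_isLocalRing
  let b := Module.Free.chooseBasis R (Red A (B := B) M)
  let ι := Module.Free.ChooseBasisIndex R (Red A (B := B) M)
  haveI : Fintype ι := inferInstance
  choose m hm using fun i => Submodule.Quotient.mk_surjective _ (b i)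
  let F : (ι → B) →ₗ[B] M := Fintype.linearCombination B m
  have hFq : ∀ c : ι → B, (Submodule.Quotient.mk (F c) : Red A (B := B) M) = ∑ i, Ideal.Quotient.mk J (c i) • b i := by
    intro c
    rw [Fintype.linearCombination_apply]
    refine (map_sum (Submodule.mkQ _) _ _).trans ?_
    exact Finset.sum_congr rfl fun i _ => by rw [Submodule.mkQ_apply, Submodule.Quotient.mk_smul, hm]; rfl
  have hJ : J ≤ maximalIdeal B := IsLocalRing.map_maximalIdeal_le (algebraMap A B)
  have hjac : J ≤ Ideal.jacobson ⊥ := hJ.trans (IsLocalRing.maximalIdeal_le_jacobson ⊥)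
  have hsurj : Function.Surjective F := by
    rw [← LinearMap.range_eq_top]
    refine top_le_iff.mp (Submodule.le_of_le_smul_of_le_jacobson_bot (Module.Finite.fg_top (R := B) (M := M))
      hjac fun x _ => ?_)
    choose c hc using fun i => Ideal.Quotient.mk_surjective (b.repr (Submodule.Quotient.mk x) i)
    refine Submodule.mem_sup.mpr ⟨F c, ⟨c, rfl⟩, x - F c, (Submodule.Quotient.mk_eq_zero _).1 ?_, by abel⟩
    rw [Submodule.Quotient.mk_sub, hFq, sub_eq_zero]
    exact (b.sum_repr _).symm.trans (Finset.sum_congr rfl fun i _ => by rw [← hc i])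
  let N := LinearMap.ker F
  have hN : N ≤ J • N := by
    intro c hc
    have h0 : ∀ i, c i ∈ J := by
      have hz := hFq c
      rw [LinearMap.mem_ker.1 hc, Submodule.Quotient.mk_zero] at hz
      exact fun i => Ideal.Quotient.eq_zero_iff_mem.1 (Fintype.linearIndependent_iff.1 b.linearIndependent _ hz.symm i)
    have hc' : c ∈ J • (⊤ : Submodule B (ι → B)) := by
      rw [pi_eq_sum_univ' c]
      exact Submodule.sum_mem _ fun i _ => Submodule.smul_mem_smul (h0 i) Submodule.mem_top
    have h1 : (⟨c, hc⟩ : N) ∈ J • (⊤ : Submodule B N) :=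
      mem_of_flat N.subtype F Subtype.val_injective hsurj (LinearMap.exact_subtype_ker_map F) hc'
    have h2 := Submodule.mem_map_of_mem (f := N.subtype) h1
    rwa [Submodule.map_smul'', Submodule.map_top, Submodule.range_subtype] at h2
  have hbot : N = ⊥ := Submodule.eq_bot_of_le_smul_of_le_jacobson_bot J N (IsNoetherian.noetherian N) hN hjac
  exact Module.Free.of_equiv (LinearEquiv.ofBijective F ⟨LinearMap.ker_eq_bot.1 hbot, hsurj⟩)

end Groth.L18.NegVanish
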