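import Groth.Agent.L18.NegVanishStalk
import Groth.Agent.L22.PDual.TwistExt
import Groth.Agent.L22.Reg.Pn
import Groth.Agent.L22.Reg.Quot
import Groth.Agent.L16.ProjSpace.QuotTwist
import Groth.Agent.L16.ProjSpace.SerreVanishing
import Groth.Agent.L16.Acc
import Groth.Agent.L03.Euler.Basic
import Groth.Agent.L16.CohSupport
import Groth.Agent.L16.HomSh.FullyFaithful
import Groth.Agent.L12.DualVb
import Groth.Agent.L29.DCoh.TensorPerfect

/-!
# Negative twists of modules of large depth on the fibres of projective space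
-/

set_option autoImplicit false
set_option linter.style.haveILetI false
set_option linter.unusedSectionVars false
set_option backward.isDefEq.respectTransparency false
set_option backward.isDefEq.respectTransparency.types false
universe u

open CategoryTheory CategoryTheory.Limits AlgebraicGeometry IsLocalRing TopologicalSpace

noncomputable section

namespace Groth.L18.NegVanish

open Groth.L22.Reg (O' tw')
open Groth.L16
open Groth.L16.CohLinear (hmap exact_hmap_hmap exact_delta_hmap delta)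
open Groth.L00.Tensor (tensorIso tensorUnitLeft tensorUnitRight tensorRightF tensorComm)

section Duals

variable {X : Scheme.{u}}

local notation "Dl" => RefHull.dual

/-- Bundles are reflexive. -/
theorem nonempty_dual_dual {K : X.Modules} (hK : FlatMod.IsFinLocFree K) : Nonempty (Dl (Dl K) ≅ K) := by
  haveI := Groth.L17.Duality.hasSheafHom K
  obtain ⟨a⟩ := Groth.L12.DualVb.nonempty_adj (Groth.L12.DualVb.isFinLocFree_dual hK)
  obtain ⟨e⟩ := Groth.L12.DualVb.nonempty_dual_iso K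
  let ε : tensorRightF (Groth.L17.Duality.dual K) ≅ tensorRightF (Dl K) :=
    NatIso.ofComponents (fun M => tensorIso (Iso.refl M) e) fun {M N} g => by
      show Groth.L00.Tensor.tensorMap g (𝟙 _) ≫ Groth.L00.Tensor.tensorMap (𝟙 N) e.hom =
        Groth.L00.Tensor.tensorMap (𝟙 M) e.hom ≫ Groth.L00.Tensor.tensorMap g (𝟙 _)
      rw [← Groth.L00.Tensor.tensorMap_comp, ← Groth.L00.Tensor.tensorMap_comp, Category.comp_id, Category.id_comp,
        Category.id_comp, Category.comp_id]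
  let b : tensorRightF K ⊣ tensorRightF (Dl K) :=
    ((ModSite.sheafHomAdj (O := X.sheaf) K).ofNatIsoLeft (Groth.L17.ChangeRings.tensorRightBiIso K).symm).ofNatIsoRight
      ((Groth.L17.Duality.tensorDualIso K hK).symm ≪≫ ε)
  exact ⟨(tensorUnitLeft _).symm ≪≫ (a.leftAdjointUniq b).app (Coh.structureModule X) ≪≫ tensorUnitLeft _⟩

theorem nonempty_dual_invertible {L L' : X.Modules} (e : CohB1.tensorMod L L' ≅ Coh.structureModule X)
    (hL : FlatMod.IsFinLocFree L) : Nonempty (Dl L ≅ L') := by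
  obtain ⟨a⟩ := Groth.L12.DualVb.nonempty_adj hL
  let b : tensorRightF L' ⊣ tensorRightF L :=
    (CategoryTheory.Equivalence.mk (tensorRightF L') (tensorRightF L)
      (Groth.L22.PDual.invIso (tensorComm L' L ≪≫ e)).symm (Groth.L22.PDual.invIso e)).toAdjunction
  exact ⟨(tensorUnitLeft _).symm ≪≫ (a.leftAdjointUniq b).app (Coh.structureModule X) ≪≫ tensorUnitLeft _⟩

theorem nonempty_dual_congr {E E' : X.Modules} (e : E ≅ E') (hE : FlatMod.IsFinLocFree E) :
    Nonempty (Dl E ≅ Dl E') := by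
  obtain ⟨a⟩ := Groth.L12.DualVb.nonempty_adj hE
  obtain ⟨a'⟩ := Groth.L12.DualVb.nonempty_adj (Groth.L29.LocFree.of_iso e hE)
  let ε : tensorRightF E ≅ tensorRightF E' :=
    NatIso.ofComponents (fun M => tensorIso (Iso.refl M) e) fun {M N} g => by
      show Groth.L00.Tensor.tensorMap g (𝟙 _) ≫ Groth.L00.Tensor.tensorMap (𝟙 N) e.hom =
        Groth.L00.Tensor.tensorMap (𝟙 M) e.hom ≫ Groth.L00.Tensor.tensorMap g (𝟙 _)
      rw [← Groth.L00.Tensor.tensorMap_comp, ← Groth.L00.Tensor.tensorMap_comp, Category.comp_id, Category.id_comp,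
        Category.id_comp, Category.comp_id]
  exact ⟨(tensorUnitLeft _).symm ≪≫ ((a.ofNatIsoRight ε).leftAdjointUniq a').app (Coh.structureModule X) ≪≫
    tensorUnitLeft _⟩

theorem isZero_dual {E : X.Modules} (h : IsZero E) : IsZero (Dl E) := by
  obtain ⟨a⟩ := Groth.L12.DualVb.nonempty_adj (Groth.L29.LocFree.of_isZero h)
  have hz : IsZero ((tensorRightF (Dl E)).obj (Coh.structureModule X)) := by
    refine (IsZero.iff_id_eq_zero _).2 ((a.homEquiv _ _).injective ?_)
    have h' : IsZero ((tensorRightF E).obj ((tensorRightF (Dl E)).obj (Coh.structureModule X))) :=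
      (Groth.L00.Tensor.tensorLeftF _).map_isZero h
    exact h'.eq_of_tgt _ _
  exact hz.of_iso (tensorUnitLeft _).symm

end Duals

variable {A : Type u} [CommRing A] [IsNoetherianRing A] {r : ℕ}

local notation "P" => CohB1.ProjSpace r A
local notation "g₀" => CohB1.ProjSpace.toSpec r A
local notation "Dl" => RefHull.dual

/-- `H^q` of the large negative twists vanishes. -/
def Van (q : ℕ) (K : (CohB1.ProjSpace r A).Modules) : Prop :=
  ∃ m₀ : ℕ, ∀ m : ℕ, m₀ ≤ m → Subsingleton (Coh.HH (CohB1.ProjSpace r A) (tw' K (-(m : ℤ))) q)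

theorem Van.iso {q : ℕ} {K K' : (CohB1.ProjSpace r A).Modules} (e : K ≅ K') (h : Van q K) : Van q K' := by
  obtain ⟨m₀, h⟩ := h
  exact ⟨m₀, fun m hm => ProjSpace.subsingleton_of_iso (tensorIso e.symm (Iso.refl _)) q (h m hm)⟩

theorem shortExact_tw {T : ShortComplex (CohB1.ProjSpace r A).Modules} (hT : T.ShortExact) (d : ℤ) :
    (T.map (tensorRightF (O' r A d))).ShortExact := by
  obtain ⟨e1⟩ := Groth.L22.Reg.nonempty_O_add (n := r) (R := A) (show d + -d = 0 by ring)
  obtain ⟨e2⟩ := Groth.L22.Reg.nonempty_O_zero r A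
  haveI := Groth.L22.PDual.isEquivalence_tensorRightF (e1 ≪≫ e2)
  exact hT.map_of_exact _

theorem Van.left_zero {T : ShortComplex (CohB1.ProjSpace r A).Modules} (hT : T.ShortExact) (h : Van 0 T.X₂) :
    Van 0 T.X₁ := by
  obtain ⟨m₀, h⟩ := h
  refine ⟨m₀, fun m hm => ?_⟩
  have hS := shortExact_tw hT (-(m : ℤ))
  haveI := hS.mono_f
  let S := T.map (tensorRightF (O' r A (-(m : ℤ))))
  have key : ∀ y : Coh.HH (CohB1.ProjSpace r A) S.X₁ 0, y = 0 := fun y => by
    haveI : Subsingleton (Coh.HH (CohB1.ProjSpace r A) S.X₂ 0) := h m hm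
    refine (HomSh.h0Equiv S.X₁).injective (Acc.app_injective S.f ⊤ ?_)
    refine (HomSh.h0Equiv_map S.f y).symm.trans ?_
    rw [Subsingleton.elim (Sheaf.H.map _ 0 y) 0, map_zero, map_zero, map_zero]
  exact subsingleton_of_forall_eq 0 key

theorem Van.left_succ {T : ShortComplex (CohB1.ProjSpace r A).Modules} (hT : T.ShortExact) {q : ℕ}
    (h₂ : Van (q + 1) T.X₂) (h₃ : Van q T.X₃) : Van (q + 1) T.X₁ := by
  obtain ⟨m₂, h₂⟩ := h₂
  obtain ⟨m₃, h₃⟩ := h₃
  exact ⟨max m₂ m₃, fun m hm => Groth.L22.Reg.subsingleton_of_exact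
    (exact_delta_hmap (shortExact_tw hT (-(m : ℤ))) q) (h₃ m (le_of_max_le_right hm))
    (h₂ m (le_of_max_le_left hm)) (map_zero _)⟩

theorem Van.middle {T : ShortComplex (CohB1.ProjSpace r A).Modules} (hT : T.ShortExact) {q : ℕ}
    (h₁ : Van q T.X₁) (h₃ : Van q T.X₃) : Van q T.X₂ := by
  obtain ⟨m₁, h₁⟩ := h₁
  obtain ⟨m₃, h₃⟩ := h₃
  exact ⟨max m₁ m₃, fun m hm => Groth.L22.Reg.subsingleton_of_exact
    (exact_hmap_hmap (shortExact_tw hT (-(m : ℤ))) q) (h₁ m (le_of_max_le_left hm))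
    (h₃ m (le_of_max_le_right hm)) (map_zero _)⟩

theorem Van.right {T : ShortComplex (CohB1.ProjSpace r A).Modules} (hT : T.ShortExact) {q : ℕ}
    (h₂ : Van q T.X₂) (h₁ : Van (q + 1) T.X₁) : Van q T.X₃ := by
  obtain ⟨m₁, h₁⟩ := h₁
  obtain ⟨m₂, h₂⟩ := h₂
  exact ⟨max m₁ m₂, fun m hm => Groth.L22.Reg.subsingleton_of_exact
    (CohLinear.exact_hmap_delta (shortExact_tw hT (-(m : ℤ))) q) (h₂ m (le_of_max_le_right hm))
    (h₁ m (le_of_max_le_left hm)) (map_zero _)⟩

theorem van_O (d : ℤ) {q : ℕ} (hq : q < r) : Van q (O' r A d) := by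
  refine ⟨d.toNat + 1, fun m hm => ?_⟩
  obtain ⟨e⟩ := Groth.L22.Reg.nonempty_O_add (n := r) (R := A) (show d + -(m : ℤ) = d - m by ring)
  exact ProjSpace.subsingleton_of_iso e q (ProjSpace.subsingleton_HH_twist r A _ q
    (fun h => by have := h.2; omega) (fun h => by omega))

theorem van_of_isZero {q : ℕ} {K : (CohB1.ProjSpace r A).Modules} (h : IsZero K) : Van q K :=
  ⟨0, fun m _ => by
    obtain ⟨e1⟩ := Groth.L22.Reg.nonempty_O_add (n := r) (R := A) (show -(m : ℤ) + m = 0 by ring)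
    obtain ⟨e2⟩ := Groth.L22.Reg.nonempty_O_zero r A
    haveI := Groth.L22.PDual.isEquivalence_tensorRightF (e1 ≪≫ e2)
    have hz : IsZero ((tensorRightF (O' r A (-(m : ℤ)))).obj K) := (tensorRightF _).map_isZero h
    exact Groth.L03.Euler.subsingleton_HH_of_isZero hz q⟩

theorem van_dual_sum {q : ℕ} (hq : q < r) (d : ℤ) :
    ∀ k : ℕ, Van q (Dl (∐ fun _ : Fin k => O' r A d)) := by
  have hvb : ∀ e : ℤ, FlatMod.IsFinLocFree (O' r A e) := fun e =>
    Groth.L20.ResDescent.isFinLocFree_of_isInvertible (ProjTwist.isInvertible_twistProjSpace r A e)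
  obtain ⟨e1⟩ := Groth.L22.Reg.nonempty_O_add (n := r) (R := A) (show d + -d = 0 by ring)
  obtain ⟨e2⟩ := Groth.L22.Reg.nonempty_O_zero r A
  obtain ⟨ed⟩ := nonempty_dual_invertible (e1 ≪≫ e2) (hvb d)
  intro k
  induction k with
  | zero =>
    exact van_of_isZero (isZero_dual ((IsZero.iff_id_eq_zero _).2 (Sigma.hom_ext _ _ fun i => i.elim0)))
  | succ k ih =>
    let e := Groth.L29.DC.coprodFinSuccIso fun _ : Fin (k + 1) => O' r A d
    let S : ShortComplex (CohB1.ProjSpace r A).Modules :=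
      ShortComplex.mk (biprod.inl : O' r A d ⟶ O' r A d ⊞ ∐ fun _ : Fin k => O' r A d) biprod.snd (by simp)
    have hS : S.ShortExact := Groth.L22.Reg.biSC_shortExact _ _
    have h3 := Groth.L29.DC.isFinLocFree_coprod_fin k (fun _ => O' r A d) fun _ => hvb d
    obtain ⟨T, hT, ⟨i₁⟩, ⟨i₂⟩, ⟨i₃⟩⟩ := Groth.L12.DualVb.exists_dual_shortExact hS (hvb d)
      (Groth.L29.LocFree.of_iso e (Groth.L29.DC.isFinLocFree_coprod_fin _ _ fun _ => hvb d)) h3
    obtain ⟨i₄⟩ := nonempty_dual_congr e.symm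
      (Groth.L29.LocFree.of_iso e (Groth.L29.DC.isFinLocFree_coprod_fin _ _ fun _ => hvb d))
    exact Van.iso (i₂ ≪≫ i₄) (Van.middle hT (ih.iso i₁.symm) ((van_O (-d) hq).iso (ed.symm ≪≫ i₃.symm)))

/-- A bundle is a quotient of a sum of negative twists, with a bundle as kernel. -/
theorem exists_presentation {G : (CohB1.ProjSpace r A).Modules} (hG : Coh.IsCoh G) :
    ∃ (k : ℕ) (d : ℤ) (T : ShortComplex (CohB1.ProjSpace r A).Modules), T.ShortExact ∧ T.X₃ = G ∧
      T.X₂ = (∐ fun _ : Fin k => O' r A d) := by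
  haveI := hG.1
  obtain ⟨N, hN⟩ := ProjTwist.exists_epi_neg_twists (CohB1.polyGrading r A)
    (fun i : ULift.{u} (Fin (r + 1)) => (⟨_, ProjSpace.X_mem r A i.down⟩ : CohB1.polyGrading r A 1)) one_pos
    (fun x => by
      obtain ⟨i, hi⟩ := ProjSpace.exists_mem_basicOpen_X r A x
      exact ⟨⟨i⟩, hi⟩) G hG.2
  obtain ⟨k, p, hp⟩ := hN N le_rfl
  exact ⟨k, -((N * 1 : ℕ) : ℤ), ShortComplex.mk (kernel.ι p) p (kernel.condition _),
    { exact := ShortComplex.exact_kernel _, mono_f := inferInstance, epi_g := hp }, rfl, rfl⟩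

theorem isFinLocFree_sum (k : ℕ) (d : ℤ) : FlatMod.IsFinLocFree (∐ fun _ : Fin k => O' r A d) :=
  Groth.L29.DC.isFinLocFree_coprod_fin _ _ fun _ =>
    Groth.L20.ResDescent.isFinLocFree_of_isInvertible (ProjTwist.isInvertible_twistProjSpace r A d)

theorem isCoh_kernel {T : ShortComplex (CohB1.ProjSpace r A).Modules} (hT : T.ShortExact)
    (h₂ : FlatMod.IsFinLocFree T.X₂) (h₃ : Coh.IsCoh T.X₃) : Coh.IsCoh T.X₁ := by
  haveI : IsLocallyNoetherian P := LocallyOfFiniteType.isLocallyNoetherian g₀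
  haveI : CompactSpace P := QuasiCompact.compactSpace_of_compactSpace g₀
  haveI : IsNoetherian P := {}
  exact Groth.L12.KRes.isCoh_left hT (Groth.L16.NegPow.isCoh_of_isFinLocFree h₂) h₃

/-- Bundles embed in sums of twists with bundles as cokernels, so their negative twists have no cohomology. -/
theorem exists_coresolution {K : (CohB1.ProjSpace r A).Modules} (hK : FlatMod.IsFinLocFree K) :
    ∃ (k : ℕ) (d : ℤ) (T : ShortComplex (CohB1.ProjSpace r A).Modules), T.ShortExact ∧ Nonempty (T.X₁ ≅ K) ∧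
      Nonempty (T.X₂ ≅ Dl (∐ fun _ : Fin k => O' r A d)) ∧ FlatMod.IsFinLocFree T.X₃ := by
  have hD := Groth.L12.DualVb.isFinLocFree_dual hK
  obtain ⟨k, d, S, hS, h₃, h₂⟩ := exists_presentation (Groth.L16.NegPow.isCoh_of_isFinLocFree hD)
  have hv2 : FlatMod.IsFinLocFree S.X₂ := h₂ ▸ isFinLocFree_sum k d
  have hv3 : FlatMod.IsFinLocFree S.X₃ := h₃ ▸ hD
  haveI : IsLocallyNoetherian P := LocallyOfFiniteType.isLocallyNoetherian g₀
  have hc := isCoh_kernel hS hv2 (Groth.L16.NegPow.isCoh_of_isFinLocFree hv3)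
  have hv1 : FlatMod.IsFinLocFree S.X₁ := by
    refine Groth.L15.CohFlat.isFinLocFree_of_isCoh_isFlat _ hc fun p => ?_
    let st := Groth.L00.Stk.F P p
    have hp := Groth.L12.KRes.shortExact_stalk hS p
    haveI : Module.Free ((CohB1.ProjSpace r A).presheaf.stalk p) (st.obj S.X₂) := Groth.L18.LFP.free_stalk S.X₂ hv2 p
    haveI : Module.Free ((CohB1.ProjSpace r A).presheaf.stalk p) (st.obj S.X₃) := Groth.L18.LFP.free_stalk S.X₃ hv3 p
    exact Groth.L01.FlatCx.flat_left (f := (st.map S.f).hom) (g := (st.map S.g).hom) hp.moduleCat_injective_f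
      hp.moduleCat_surjective_g ((ShortComplex.ShortExact.moduleCat_exact_iff_function_exact _).1 hp.exact)
  obtain ⟨T, hT, ⟨i₁⟩, ⟨i₂⟩, ⟨i₃⟩⟩ := Groth.L12.DualVb.exists_dual_shortExact hS hv1 hv2 hv3
  obtain ⟨e₃⟩ := nonempty_dual_congr (eqToIso h₃) hv3
  obtain ⟨e₂⟩ := nonempty_dual_congr (eqToIso h₂) hv2
  obtain ⟨eK⟩ := nonempty_dual_dual hK
  exact ⟨k, d, T, hT, ⟨i₁ ≪≫ e₃ ≪≫ eK⟩, ⟨i₂ ≪≫ e₂⟩,
    Groth.L29.LocFree.of_iso i₃.symm (Groth.L12.DualVb.isFinLocFree_dual hv1)⟩

/-- Bundles embed in sums of twists with bundles as cokernels, so their negative twists have no cohomology. -/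
theorem van_of_isFinLocFree : ∀ (q : ℕ), q < r → ∀ {K : (CohB1.ProjSpace r A).Modules},
    FlatMod.IsFinLocFree K → Van q K := by
  intro q
  induction q with
  | zero =>
    intro hq K hK
    obtain ⟨k, d, T, hT, ⟨i₁⟩, ⟨i₂⟩, -⟩ := exists_coresolution hK
    exact (Van.left_zero hT ((van_dual_sum hq d k).iso i₂.symm)).iso i₁
  | succ q ih =>
    intro hq K hK
    obtain ⟨k, d, T, hT, ⟨i₁⟩, ⟨i₂⟩, h₃⟩ := exists_coresolution hK
    exact (Van.left_succ hT ((van_dual_sum hq d k).iso i₂.symm) (ih (by omega) h₃)).iso i₁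

/-- A flat module whose fibres have depth more than the dimension vanishes. -/
theorem isZero_of_sdep {F : (CohB1.ProjSpace r A).Modules} (hF : Coh.IsCoh F) (hfl : FlatMod.IsFlatOver g₀ F)
    (h : ∀ p : CohB1.ProjSpace r A, IsClosed ({p} : Set (CohB1.ProjSpace r A)) → ((r + 1 : ℕ) : ℕ∞) ≤ sdep g₀ F p) :
    IsZero F := by
  haveI : IsLocallyNoetherian P := LocallyOfFiniteType.isLocallyNoetherian g₀
  have hvb := isFinLocFree_of_sdep hF hfl fun p hp => le_trans (by exact_mod_cast Nat.le_succ r) (h p hp)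
  rw [Groth.L00.Stk.isZero_iff]
  intro p
  by_contra hz
  have hsupp : p ∈ CohB1.support F := fun hs =>
    hz (@ModuleCat.isZero_of_subsingleton _ _ ((Groth.L00.Stk.F P p).obj F) hs)
  haveI : CompactSpace P := QuasiCompact.compactSpace_of_compactSpace g₀
  obtain ⟨q, hq, hqc⟩ := IsClosed.exists_closed_singleton (CohSupport.isClosed_support F hF.2) ⟨p, hsupp⟩
  apply hq
  let B := (CohB1.ProjSpace r A).presheaf.stalk q
  let A₀ := (Spec (CommRingCat.of A)).presheaf.stalk ((g₀).base q)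
  letI : Algebra A₀ B := ((g₀).stalkMap q).hom.toAlgebra
  let M := (Groth.L00.Stk.F P q).obj F
  letI : Module A₀ M := FlatMod.moduleStalkOver g₀ F q
  haveI : IsScalarTower A₀ B M := IsScalarTower.of_algebraMap_smul fun _ _ => rfl
  haveI : IsLocalHom (algebraMap A₀ B) := inferInstanceAs (IsLocalHom ((g₀).stalkMap q).hom)
  haveI : IsRegularLocalRing (B ⧸ fib A₀ (B := B)) := (fibre_regular hqc).1
  haveI : Module.Free B M := Groth.L18.LFP.free_stalk F hvb q
  haveI : Module.Finite B M := Groth.L18.LFP.finite_stalk F (Groth.L15.Ref.isFP_of_isCoh hF) q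
  have hd := h q hqc
  change _ ≤ dep A₀ (B := B) M at hd
  change Subsingleton M
  by_contra hM
  haveI : Nontrivial M := not_subsingleton_iff_nontrivial.1 hM
  rw [semi_dep] at hd
  haveI : Nontrivial (Red A₀ (B := B) M) := by
    rw [Submodule.Quotient.nontrivial_iff]
    intro htop
    refine not_subsingleton M (Submodule.subsingleton_iff B |>.1 (subsingleton_of_bot_eq_top ?_))
    exact (Submodule.eq_bot_of_le_smul_of_le_jacobson_bot (fib A₀ (B := B)) ⊤ Module.Finite.fg_top htop.ge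
      ((IsLocalRing.map_maximalIdeal_le (algebraMap A₀ B)).trans (IsLocalRing.maximalIdeal_le_jacobson ⊥))).symm
  let R := B ⧸ fib A₀ (B := B)
  haveI : Module.Free R (Red A₀ (B := B) M) :=
    Module.Free.of_equiv' (inferInstance : Module.Free R (TensorProduct B R M))
      ((TensorProduct.quotTensorEquivQuotSMul M (fib A₀ (B := B))).extendScalarsOfSurjective Ideal.Quotient.mk_surjective)
  haveI : Module.Finite R (Red A₀ (B := B) M) := Module.Finite.of_restrictScalars_finite B R _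
  have h2 := (Groth.L01.AusBuch.depth_free (R := R) _ (r + 1)).1 hd
  have hdim := Groth.L22.PDual.depth_eq_dim (A := R) (fibre_regular hqc).2
  rw [hdim] at h2
  exact absurd h2 (by norm_cast; omega)

/-- The negative twists of a flat module of depth more than `n` on the fibres have no `H^q`, `q ≤ n`. -/
theorem van_of_sdep {F : (CohB1.ProjSpace r A).Modules} (hF : Coh.IsCoh F) (hfl : FlatMod.IsFlatOver g₀ F) (n : ℕ)
    (h : ∀ p : CohB1.ProjSpace r A, IsClosed ({p} : Set (CohB1.ProjSpace r A)) → ((n + 1 : ℕ) : ℕ∞) ≤ sdep g₀ F p)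
    (q : ℕ) (hq : q ≤ n) : Van q F := by
  by_cases hn : r ≤ n
  · exact van_of_isZero (isZero_of_sdep hF hfl fun p hp => le_trans (by exact_mod_cast Nat.succ_le_succ hn) (h p hp))
  · obtain ⟨j, hj⟩ := Nat.exists_eq_add_of_le (show n + 1 ≤ r by omega)
    clear hn
    induction j generalizing n q F with
    | zero => exact van_of_isFinLocFree q (by omega) (isFinLocFree_of_sdep hF hfl fun p hp => hj ▸ h p hp)
    | succ j ih =>
      obtain ⟨k, d, T, hT, h₃, h₂⟩ := exists_presentation hF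
      have hv2 : FlatMod.IsFinLocFree T.X₂ := h₂ ▸ isFinLocFree_sum k d
      obtain ⟨hfl1, hd1⟩ := step hT hv2 (h₃ ▸ hfl) (n + 1) (by omega) (fun p hp => h₃ ▸ h p hp)
      exact h₃ ▸ Van.right hT (van_of_isFinLocFree q (by omega) hv2)
        (ih (isCoh_kernel hT hv2 (h₃ ▸ hF)) hfl1 (n + 1) hd1 (q + 1) (by omega) (by omega))

end Groth.L18.NegVanish
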