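import Groth.Prelude.Def_Neron
import Mathlib.AlgebraicGeometry.Morphisms.Smooth
import Mathlib.CategoryTheory.Monoidal.Cartesian.Over
import Mathlib.CategoryTheory.Monoidal.Cartesian.Grp

/-!
The group structure of a Neron model of a group.
-/

set_option autoImplicit false
set_option linter.style.haveILetI false
set_option backward.isDefEq.respectTransparency.types false

universe u

open CategoryTheory CategoryTheory.Limits MonoidalCategory CartesianMonoidalCategory AlgebraicGeometry MonObj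

noncomputable section

namespace Groth.L18.NeronGrp

variable {R : Type u} [CommRing R] [IsDomain R] {N : Over (Spec (CommRingCat.of R))}
  {A : Over (Spec (CommRingCat.of (FractionRing R)))} [GrpObj A] (e : (Neron.genericFibre R).obj N ≅ A)

variable {Y : Over (Spec (CommRingCat.of R))}

/-- Restriction of a point to the generic fibre, read in `A`. -/
abbrev res (g : Y ⟶ N) : (Neron.genericFibre R).obj Y ⟶ A := (Neron.genericFibre R).map g ≫ e.hom

theorem res_comp {Y' : Over (Spec (CommRingCat.of R))} (h : Y' ⟶ Y) (g : Y ⟶ N) :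
    res e (h ≫ g) = (Neron.genericFibre R).map h ≫ res e g := by
  rw [res, Functor.map_comp, Category.assoc]

theorem smooth_tensor (X Y : Over (Spec (CommRingCat.of R))) [Smooth X.hom] [Smooth Y.hom] :
    Smooth (X ⊗ Y).hom :=
  inferInstanceAs (Smooth (pullback.fst X.hom Y.hom ≫ X.hom))

/-- A Neron model of a group is a group. -/
theorem exists_grpObj [Smooth N.hom]
    (hN : ∀ Y : Over (Spec (CommRingCat.of R)), Smooth Y.hom →
      Function.Bijective (fun g : Y ⟶ N => (Neron.genericFibre R).map g ≫ e.hom)) : Nonempty (GrpObj N) := by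
  haveI h2 : Smooth (N ⊗ N).hom := smooth_tensor N N
  haveI h1 : Smooth (𝟙_ (Over (Spec (CommRingCat.of R)))).hom := inferInstanceAs (Smooth (𝟙 _))
  haveI h3 : Smooth ((N ⊗ N) ⊗ N).hom := smooth_tensor (N ⊗ N) N
  obtain ⟨m, hm⟩ := (hN _ h2).2 (res e (fst N N) * res e (snd N N))
  obtain ⟨o, ho⟩ := (hN _ h1).2 1
  obtain ⟨i, hi⟩ := (hN N ‹_›).2 (res e (𝟙 N))⁻¹
  have hmul : ∀ {Y : Over (Spec (CommRingCat.of R))} (a b : Y ⟶ N),
      res e (lift a b ≫ m) = res e a * res e b := by
    intro Y a b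
    rw [res_comp]
    refine (congrArg ((Neron.genericFibre R).map (lift a b) ≫ ·) hm).trans ?_
    rw [MonObj.comp_mul, ← res_comp, ← res_comp, lift_fst, lift_snd]
  have hone : ∀ {Y : Over (Spec (CommRingCat.of R))} (t : Y ⟶ 𝟙_ _), res e (t ≫ o) = 1 := by
    intro Y t
    rw [res_comp]
    exact (congrArg ((Neron.genericFibre R).map t ≫ ·) ho).trans (MonObj.comp_one _)
  have hinv : res e i = (res e (𝟙 N))⁻¹ := hi
  haveI hl : Smooth (𝟙_ _ ⊗ N : Over (Spec (CommRingCat.of R))).hom := smooth_tensor _ N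
  haveI hr : Smooth (N ⊗ 𝟙_ _ : Over (Spec (CommRingCat.of R))).hom := smooth_tensor N _
  refine ⟨{ one := o, mul := m, one_mul := (hN _ hl).1 ?_, mul_one := (hN _ hr).1 ?_,
            mul_assoc := (hN _ h3).1 ?_, inv := i, left_inv := (hN N ‹_›).1 ?_, right_inv := (hN N ‹_›).1 ?_ }⟩
  · have he : o ▷ N = lift (fst _ _ ≫ o) (snd _ _) := by ext <;> simp
    show res e (o ▷ N ≫ m) = res e (λ_ N).hom
    rw [he, hmul, hone, _root_.one_mul, leftUnitor_hom]
  · have he : N ◁ o = lift (fst _ _) (snd _ _ ≫ o) := by ext <;> simp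
    show res e (N ◁ o ≫ m) = res e (ρ_ N).hom
    rw [he, hmul, hone, _root_.mul_one, rightUnitor_hom]
  · have he : m ▷ N = lift (lift (fst _ _ ≫ fst N N) (fst _ _ ≫ snd N N) ≫ m) (snd _ _) := by
      ext <;> simp [← comp_lift_assoc]
    have ha : (α_ N N N).hom ≫ snd _ _ = lift (fst _ _ ≫ snd N N) (snd _ _) := by
      apply CartesianMonoidalCategory.hom_ext <;> simp
    have he' : (α_ N N N).hom ≫ N ◁ m =
        lift (fst _ _ ≫ fst N N) (lift (fst _ _ ≫ snd N N) (snd _ _) ≫ m) := by
      apply CartesianMonoidalCategory.hom_ext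
      · simp
      · rw [Category.assoc, whiskerLeft_snd, lift_snd, ← Category.assoc, ha]
    show res e (m ▷ N ≫ m) = res e ((α_ N N N).hom ≫ N ◁ m ≫ m)
    rw [← Category.assoc (α_ N N N).hom, he, he', hmul, hmul, hmul, hmul, _root_.mul_assoc]
  · show res e (lift i (𝟙 N) ≫ m) = res e (toUnit N ≫ o)
    rw [hmul, hone, hinv, inv_mul_cancel]
  · show res e (lift (𝟙 N) i ≫ m) = res e (toUnit N ≫ o)
    rw [hmul, hone, hinv, mul_inv_cancel]

end Groth.L18.NeronGrp
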