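import Mathlib.AlgebraicGeometry.Noetherian
import Mathlib.AlgebraicGeometry.Stalk
import Mathlib.RingTheory.Ideal.Height
import Mathlib.RingTheory.Ideal.KrullsHeightTheorem

/-!
# Maximal points and antichains of subsets of Noetherian schemes
-/

set_option autoImplicit false
universe u

open CategoryTheory AlgebraicGeometry TopologicalSpace

namespace Groth.L18.NoethPoints

variable (S : Scheme.{u})

theorem exists_maximal [IsLocallyNoetherian S] (T : Set S) (t : S) (ht : t ∈ T) :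
    ∃ t₀ ∈ T, (∀ t' ∈ T, t' ⤳ t₀ → t' = t₀) ∧ t₀ ⤳ t := by
  have hr : ∀ t' : S, t' ⤳ t → ∃ q : Spec (S.presheaf.stalk t), (S.fromSpecStalk t).base q = t' := fun t' h => by
    have : t' ∈ Set.range (S.fromSpecStalk t).base := by rw [Scheme.range_fromSpecStalk]; exact h
    exact this
  let Q : Set (PrimeSpectrum (S.presheaf.stalk t)) := {q | (S.fromSpecStalk t).base q ∈ T}
  obtain ⟨q0, hq0⟩ := hr t specializes_rfl
  have hQ : Q.Nonempty := ⟨q0, by show (S.fromSpecStalk t).base q0 ∈ T; rw [hq0]; exact ht⟩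
  obtain ⟨q, hq, hmin⟩ := (InvImage.wf (fun q : PrimeSpectrum (S.presheaf.stalk t) => q.asIdeal.height)
    (wellFounded_lt (α := ℕ∞))).has_min Q hQ
  have hqt : (S.fromSpecStalk t).base q ⤳ t := by
    have : (S.fromSpecStalk t).base q ∈ Set.range (S.fromSpecStalk t).base := ⟨q, rfl⟩
    rwa [Scheme.range_fromSpecStalk] at this
  refine ⟨_, hq, fun t' ht' h => ?_, hqt⟩
  obtain ⟨q', rfl⟩ := hr t' (h.trans hqt)
  have hle : q' ⤳ q := ((S.fromSpecStalk t).isEmbedding.isInducing.specializes_iff).mp h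
  have hle' : (show PrimeSpectrum _ from q').asIdeal ≤ q.asIdeal :=
    (PrimeSpectrum.le_iff_specializes (q' : PrimeSpectrum (S.presheaf.stalk t)) q).mpr hle
  rcases hle'.eq_or_lt with he | hlt
  · exact congrArg _ (PrimeSpectrum.ext he)
  · exact absurd (Ideal.height_strict_mono_of_isPrime hlt) (hmin q' ht')

theorem exists_antichain [IsNoetherian S] (T : Set S) (hT : T.Infinite) :
    ∃ T' : Set S, T' ⊆ T ∧ T'.Infinite ∧ ∀ a ∈ T', ∀ b ∈ T', a ⤳ b → a = b := by
  obtain ⟨Z, hZ, hmin⟩ := wellFounded_lt.has_min {Z : Closeds S | (T ∩ Z).Infinite}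
    ⟨⊤, by simpa using hT⟩
  let T₁ : Set S := (T ∩ Z) \ {a | closure ({a} : Set S) = Z}
  have hsub : ({a : S | closure ({a} : Set S) = Z}).Subsingleton := fun a ha b hb =>
    (inseparable_iff_closure_eq.mpr (ha.trans hb.symm)).eq
  have hT₁ : T₁.Infinite := hZ.sdiff hsub.finite
  have hfin : ∀ a ∈ T₁, (T ∩ closure ({a} : Set S)).Finite := fun a ha => by
    by_contra h
    refine hmin ⟨closure {a}, isClosed_closure⟩ h (lt_of_le_of_ne ?_ fun e => ha.2 (show closure ({a} : Set S) = (Z : Set S) from congrArg (fun W : Closeds S => (W : Set S)) e))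
    exact closure_minimal (Set.singleton_subset_iff.mpr ha.1.2) Z.isClosed
  refine ⟨{a ∈ T₁ | ∀ a' ∈ T₁, a' ⤳ a → a' = a}, fun a ha => ha.1.1.1, fun hM => hT₁ ?_,
    fun a ha b hb hab => hb.2 a ha.1 hab⟩
  refine (hM.biUnion fun m hm => hfin m hm.1).subset fun a ha => ?_
  obtain ⟨m, hm, hmmax, hma⟩ := exists_maximal S T₁ a ha
  exact Set.mem_biUnion (x := m) ⟨hm, hmmax⟩ ⟨ha.1.1, specializes_iff_mem_closure.mp hma⟩

end Groth.L18.NoethPoints
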