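import Groth.Agent.L18.NormIntegral
import Groth.Agent.L18.NormalExtend
import Groth.Agent.L18.Frame
import Groth.Prelude.Def_Fitting

/-!
The norm of a finite surjective morphism onto a normal integral scheme.
-/

set_option autoImplicit false
set_option backward.isDefEq.respectTransparency false
set_option linter.style.haveILetI false
universe u

open CategoryTheory AlgebraicGeometry TopologicalSpace Opposite

noncomputable section

namespace Groth.L18.NormNormal

open Groth.L18.Frame (ro ro_ro)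

variable {X Y : Scheme.{u}} [IsIntegral X] [IsIntegral Y] {π : X ⟶ Y}

omit [IsIntegral X] [IsIntegral Y] in
theorem map_genericPoint [IrreducibleSpace X] [IrreducibleSpace Y] [Surjective π] :
    π (genericPoint X) = genericPoint Y := by
  have h := (genericPoint_spec X).image π.continuous
  rw [Set.image_univ, π.surjective.range_eq, closure_univ] at h
  exact h.eq (genericPoint_spec Y)

variable (e : π (genericPoint X) = genericPoint Y)

/-- The map of function fields. -/
def ff : Y.functionField →+* X.functionField :=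
  (Y.presheaf.stalkSpecializes (specializes_of_eq e) ≫ π.stalkMap (genericPoint X)).hom

theorem ff_germ {U : Y.Opens} (hy : genericPoint Y ∈ U)
    (hx : genericPoint X ∈ π ⁻¹ᵁ U) (a : Γ(Y, U)) :
    ff e (Y.presheaf.germ U _ hy a) = X.presheaf.germ (π ⁻¹ᵁ U) _ hx (π.app U a) := by
  show π.stalkMap _ (Y.presheaf.stalkSpecializes _ (Y.presheaf.germ U _ hy a)) = _
  rw [Y.presheaf.germ_stalkSpecializes_apply]
  exact π.germ_stalkMap_apply U (genericPoint X) hx a

/-- A finite surjective morphism onto a normal integral scheme carries a norm. -/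
theorem exists_hasNorm [IsFinite π] [Surjective π] (hY : Pi1.IsNormalScheme Y) : ∃ d : ℕ, Nrm.HasNorm π d := by
  classical
  have e : π (genericPoint X) = genericPoint Y := map_genericPoint
  letI : Algebra Y.functionField X.functionField := (ff e).toAlgebra
  have hgY : ∀ {U : Y.Opens}, (U : Set Y).Nonempty → genericPoint Y ∈ U := fun {U} h =>
    ((genericPoint_spec Y).mem_open_set_iff U.2).2 (by simpa using h)
  have hgX : ∀ {U : Y.Opens}, genericPoint Y ∈ U → genericPoint X ∈ π ⁻¹ᵁ U := fun {U} h => by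
    show π (genericPoint X) ∈ U; rw [e]; exact h
  -- affine opens
  have aff : ∀ (V : Y.Opens) (hV : IsAffineOpen V) (hy : genericPoint Y ∈ V),
      Module.Finite Y.functionField X.functionField ∧
      ∀ s : Γ(X, π ⁻¹ᵁ V), ∃ a : Γ(Y, V),
        Y.presheaf.germ V _ hy a = Algebra.norm Y.functionField (X.presheaf.germ (π ⁻¹ᵁ V) _ (hgX hy) s : X.functionField) ∧
          ((Module.Finite Y.functionField X.functionField) → IsUnit a → IsUnit s) := by
    intro V hV hy
    haveI : Nonempty V := ⟨⟨_, hy⟩⟩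
    haveI : Nonempty (π ⁻¹ᵁ V) := ⟨⟨_, hgX hy⟩⟩
    have hVX : IsAffineOpen (π ⁻¹ᵁ V) := hV.preimage π
    haveI := functionField_isFractionRing_of_isAffineOpen Y V hV
    haveI := functionField_isFractionRing_of_isAffineOpen X (π ⁻¹ᵁ V) hVX
    haveI := Groth.L18.isIntegrallyClosed_of_isNormalScheme hY hV
    letI : Algebra Γ(Y, V) Γ(X, π ⁻¹ᵁ V) := (π.app V).hom.toAlgebra
    letI : Algebra Γ(Y, V) X.functionField := ((ff e).comp (algebraMap Γ(Y, V) Y.functionField)).toAlgebra
    haveI : IsScalarTower Γ(Y, V) Y.functionField X.functionField := IsScalarTower.of_algebraMap_eq fun _ => rfl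
    haveI : IsScalarTower Γ(Y, V) Γ(X, π ⁻¹ᵁ V) X.functionField := IsScalarTower.of_algebraMap_eq fun a =>
      ff_germ e hy (hgX hy) a
    haveI : Module.Finite Γ(Y, V) Γ(X, π ⁻¹ᵁ V) := IsFinite.finite_app π V hV
    refine ⟨Groth.L18.NormInt.finite_fractions (A := Γ(Y, V)) (B := Γ(X, π ⁻¹ᵁ V)), fun s => ?_⟩
    obtain ⟨a, ha⟩ := Groth.L18.NormInt.exists_norm (A := Γ(Y, V)) (K := Y.functionField) (L := X.functionField) s
    exact ⟨a, ha, fun hfin hu => by
      haveI := hfin
      exact Groth.L18.NormInt.isUnit_of_norm (IsFractionRing.injective _ _) hu ha⟩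
  obtain ⟨_, ⟨V₀, hV₀, rfl⟩, hy₀, -⟩ :=
    Y.isBasis_affineOpens.exists_subset_of_mem_open (Set.mem_univ (genericPoint Y)) isOpen_univ
  haveI hfin := (aff V₀ hV₀ hy₀).1
  have inj : ∀ (U : Y.Opens) (a b : Γ(Y, U)),
      (∀ hy : genericPoint Y ∈ U, Y.presheaf.germ U _ hy a = Y.presheaf.germ U _ hy b) → a = b := by
    intro U a b h
    by_cases hU : (U : Set Y).Nonempty
    · exact germ_injective_of_isIntegral Y _ (hgY hU) (h _)
    · obtain rfl : U = ⊥ := Opens.ext (Set.not_nonempty_iff_eq_empty.1 hU)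
      exact Subsingleton.elim _ _
  have glue : ∀ (U : Y.Opens) (s : Γ(X, π ⁻¹ᵁ U)), ∃ a : Γ(Y, U), ∀ hy : genericPoint Y ∈ U,
      Y.presheaf.germ U _ hy a =
        Algebra.norm Y.functionField (X.presheaf.germ (π ⁻¹ᵁ U) _ (hgX hy) s : X.functionField) := by
    intro U s
    choose V hV hyV hVU using fun y : U =>
      Opens.isBasis_iff_nbhd.1 Y.isBasis_affineOpens (show y.1 ∈ U from y.2)
    have hgV : ∀ y : U, genericPoint Y ∈ V y := fun y => hgY ⟨_, hyV y⟩
    choose a ha _ using fun y : U => (aff (V y) (hV y) (hgV y)).2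
      (ro (fun _ hx => hVU y hx : π ⁻¹ᵁ V y ≤ π ⁻¹ᵁ U) s)
    obtain ⟨b, hb, -⟩ := Y.sheaf.existsUnique_gluing' V U (fun y => homOfLE (hVU y))
      (fun y hy => Opens.mem_iSup.2 ⟨⟨y, hy⟩, hyV ⟨y, hy⟩⟩) a fun y z => by
        show ro (inf_le_left : V y ⊓ V z ≤ V y) (a y) = ro inf_le_right (a z)
        refine inj _ _ _ fun hy => ?_
        rw [Y.presheaf.germ_res_apply, Y.presheaf.germ_res_apply, ha, ha, X.presheaf.germ_res_apply,
          X.presheaf.germ_res_apply]
    refine ⟨b, fun hy => ?_⟩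
    let y₀ : U := ⟨_, hy⟩
    have h1 := congrArg (Y.presheaf.germ (V y₀) _ (hgV y₀)) (hb y₀)
    change Y.presheaf.germ (V y₀) _ (hgV y₀) (ro (hVU y₀) b) = _ at h1
    rw [Y.presheaf.germ_res_apply, ha, X.presheaf.germ_res_apply] at h1
    exact h1
  choose N hN using glue
  refine ⟨Module.finrank Y.functionField X.functionField, ⟨{
    one_le := Module.finrank_pos
    norm := fun U =>
      { toFun := N U
        map_one' := inj U _ _ fun hy => by rw [hN U 1 hy, map_one, map_one, map_one]
        map_mul' := fun a b => inj U _ _ fun hy => by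
          rw [hN U (a * b) hy, map_mul, map_mul, map_mul, hN U a hy, hN U b hy] }
    norm_res := fun {U V} i s => inj V _ _ fun hy => ?_
    norm_app := fun U g => inj U _ _ fun hy => ?_
    norm_mem := fun U s x hx hs => ?_ }⟩⟩
  · show Y.presheaf.germ V _ hy (Y.presheaf.map i.op (N U s)) = Y.presheaf.germ V _ hy (N V _)
    rw [Y.presheaf.germ_res_apply, hN, hN, X.presheaf.germ_res_apply]
  · show Y.presheaf.germ U _ hy (N U (π.app U g)) = _
    rw [hN, ← ff_germ e hy (hgX hy) g, map_pow]
    exact Algebra.norm_algebraMap _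
  · refine (IsLocalRing.mem_maximalIdeal _).2 fun hu => ?_
    have hxb : π x ∈ Y.basicOpen (N U s) := (Y.mem_basicOpen _ (π x) hx).2 hu
    obtain ⟨W, hW, hxW, hWb⟩ := Opens.isBasis_iff_nbhd.1 Y.isBasis_affineOpens hxb
    have hWU : W ≤ U := hWb.trans (Y.basicOpen_le _)
    have hgW : genericPoint Y ∈ W := hgY ⟨_, hxW⟩
    obtain ⟨a, ha, hunit⟩ := (aff W hW hgW).2 (ro (fun _ hx => hWU hx : π ⁻¹ᵁ W ≤ π ⁻¹ᵁ U) s)
    have h0 : IsUnit (ro hWU (N U s)) := by
      have h1 : IsUnit (ro (Y.basicOpen_le _) (N U s)) := RingedSpace.isUnit_res_basicOpen Y.toRingedSpace (N U s)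
      have h2 : IsUnit (ro hWb (ro (Y.basicOpen_le _) (N U s))) := h1.map (Y.presheaf.map (homOfLE hWb).op).hom
      rwa [ro_ro] at h2
    have heq : a = ro hWU (N U s) := inj W _ _ fun hy => by
      rw [ha, X.presheaf.germ_res_apply, Y.presheaf.germ_res_apply, hN]
    have h3 := (hunit hfin (heq ▸ h0)).map (X.presheaf.germ (π ⁻¹ᵁ W) x hxW).hom
    rw [X.presheaf.germ_res_apply] at h3
    exact (IsLocalRing.mem_maximalIdeal _).1 hs h3

end Groth.L18.NormNormal
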