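import Groth.Agent.L18.NormModule
import Groth.Agent.L18.NormNormal
import Groth.Agent.L18.NormFlat
import Groth.Agent.L22.Cyc.ClosedSub

/-!
Applications of norms over normal schemes.
-/

set_option autoImplicit false
set_option backward.isDefEq.respectTransparency false
set_option linter.style.haveILetI false
universe u

open CategoryTheory CategoryTheory.Limits AlgebraicGeometry TopologicalSpace

noncomputable section

namespace Groth.L18.NormApps

variable {X Y : Scheme.{u}} (π : X ⟶ Y)

theorem exists_component_hasNorm [IsFinite π] [Surjective π] [IsIntegral Y] (hY : Pi1.IsNormalScheme Y) :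
    ∃ (Z : Scheme.{u}) (j : Z ⟶ X) (_ : IsAffineHom j) (_ : IsFinite (j ≫ π)) (d : ℕ), Nrm.HasNorm (j ≫ π) d := by
  obtain ⟨ξ, hξ⟩ := π.surjective (genericPoint Y)
  let j := Groth.L22.Cyc.clι ξ
  haveI : IsClosedImmersion j := inferInstance
  haveI : IsFinite (j ≫ π) := inferInstance
  haveI : Surjective (j ≫ π) := ⟨fun y => by
    have hmem : genericPoint Y ∈ Set.range (j ≫ π) :=
      ⟨genericPoint _, by rw [Scheme.Hom.comp_apply, Groth.L22.Cyc.clι_genericPoint]; exact hξ⟩
    have hc := (j ≫ π).isClosedMap.isClosed_range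
    exact ((genericPoint_spec Y).specializes trivial).mem_closed hc hmem⟩
  obtain ⟨d, hd⟩ := Groth.L18.NormNormal.exists_hasNorm (π := j ≫ π) hY
  exact ⟨_, j, inferInstance, inferInstance, d, hd⟩

theorem exists_isAmple_of_finite_normal [IsFinite π] [Surjective π] [IsIntegral Y] (hY : Pi1.IsNormalScheme Y)
    {L : X.Modules} (hL : CohB1.IsAmple L) : ∃ M : Y.Modules, CohB1.IsAmple M := by
  obtain ⟨Z, j, hj, hf, d, ⟨N⟩⟩ := exists_component_hasNorm π hY
  haveI := Groth.L18.NormDesc.surjective_of_norm N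
  exact Groth.L18.NormDesc.exists_isAmple_of_norm (Groth.L18.NormDesc.toPre N)
    (Groth.L18.Ample.isAmple_pullback_of_isAffineHom j hL)

theorem isQuasiAffine_of_hasNorm [IsFinite π] {d : ℕ} (h : Nrm.HasNorm π d) (hX : X.IsQuasiAffine) : Y.IsQuasiAffine := by
  obtain ⟨N⟩ := h
  haveI := hX
  exact Groth.L18.Ample.isQuasiAffine_of_isAmple_structureModule (Groth.L18.NormDesc.isAmple_of_norm N
    (Groth.L18.Ample.isInvertible_structureModule Y) (Groth.L18.Ample.isAmple_of_iso
      (Groth.L29.LocFree.pullbackUnitIso π).symm Groth.L18.Ample.isAmple_structureModule))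

theorem isQuasiAffine_of_finite_normal [IsFinite π] [Surjective π] [IsIntegral Y] (hY : Pi1.IsNormalScheme Y)
    (hX : X.IsQuasiAffine) : Y.IsQuasiAffine := by
  obtain ⟨Z, j, hj, hf, d, hN⟩ := exists_component_hasNorm π hY
  haveI := hX
  exact isQuasiAffine_of_hasNorm (j ≫ π) hN (Scheme.IsQuasiAffine.of_isAffineHom j)

open Groth.L18.NormFree in
theorem isQuasiAffine_of_finite_flat [IsFinite π] [Surjective π] [Flat π] [LocallyOfFinitePresentation π]
    (hX : X.IsQuasiAffine) : Y.IsQuasiAffine := by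
  classical
  haveI := hX
  haveI : CompactSpace Y := π.surjective.compactSpace π.continuous
  choose W n c hyW _ hc using exists_goodBasis_of_flat (π := π)
  obtain ⟨T, hT⟩ := isCompact_univ.elim_finite_subcover (fun y : Y => (W y : Set Y)) (fun y => (W y).2)
    (fun y _ => Set.mem_iUnion.2 ⟨y, hyW y⟩)
  have hpos : ∀ y, 0 < n y := fun y => by
    obtain ⟨x, hx⟩ := π.surjective y
    exact pos_rank (hc y) (show π x ∈ W y by rw [hx]; exact hyW y)
  refine isQuasiAffine_of_hasNorm π (hasNorm_of_goodBases (∏ y ∈ T, n y) (Finset.prod_pos fun y _ => hpos y) fun z => ?_) hX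
  obtain ⟨y, hy, hzy⟩ := Set.mem_iUnion₂.1 (hT (Set.mem_univ z))
  exact ⟨W y, n y, c y, hzy, hpos y, Finset.dvd_prod_of_mem _ hy, hc y⟩

end Groth.L18.NormApps
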