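import Mathlib.RingTheory.Norm.Transitivity
import Mathlib.FieldTheory.Minpoly.IsIntegrallyClosed
import Mathlib.FieldTheory.IntermediateField.Adjoin.Basic
import Mathlib.RingTheory.Algebraic.Basic
import Mathlib.RingTheory.IntegralClosure.IntegrallyClosed
import Mathlib.RingTheory.Norm.Basic

/-!
Norms of integral elements over a normal domain.
-/

set_option autoImplicit false
universe u

open Polynomial IntermediateField

noncomputable section

namespace Groth.L18.NormInt

variable {A B K L : Type u} [CommRing A] [CommRing B] [Field K] [Field L] [Algebra A B] [Algebra A K]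
  [Algebra B L] [Algebra A L] [Algebra K L] [IsScalarTower A B L] [IsScalarTower A K L]

omit [IsScalarTower A K L] in
theorem isIntegral_image [Module.Finite A B] (b : B) : IsIntegral A (algebraMap B L b) :=
  (Algebra.IsIntegral.isIntegral b).map (IsScalarTower.toAlgHom A B L)

/-- The fraction field of a finite algebra is finite over the fraction field. -/
theorem finite_fractions [IsFractionRing B L] [Module.Finite A B] : Module.Finite K L := by
  obtain ⟨T, hT⟩ := (Module.Finite.fg_top : (⊤ : Submodule A B).FG)
  have hint : ∀ x ∈ (algebraMap B L '' (T : Set B)), IsIntegral K x := by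
    rintro _ ⟨b, -, rfl⟩
    exact (isIntegral_image (A := A) b).tower_top
  let S : Subalgebra K L := Algebra.adjoin K (algebraMap B L '' (T : Set B))
  have hS : S.toSubmodule.FG := fg_adjoin_of_finite (T.finite_toSet.image _) hint
  haveI : Module.Finite K S := Module.Finite.iff_fg.2 hS
  have hB : ∀ b : B, algebraMap B L b ∈ S := fun b => by
    have hb : b ∈ Submodule.span A (T : Set B) := by rw [hT]; trivial
    induction hb using Submodule.span_induction with
    | mem x hx => exact Algebra.subset_adjoin ⟨x, hx, rfl⟩
    | zero => rw [map_zero]; exact S.zero_mem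
    | add x y _ _ hx hy => rw [map_add]; exact S.add_mem hx hy
    | smul a x _ hx =>
      rw [Algebra.smul_def, map_mul, ← IsScalarTower.algebraMap_apply A B L, IsScalarTower.algebraMap_apply A K L]
      exact S.mul_mem (S.algebraMap_mem _) hx
  have htop : S = ⊤ := eq_top_iff.2 fun z _ => by
    obtain ⟨b, c, hc, rfl⟩ := IsFractionRing.div_surjective (A := B) z
    rw [div_eq_mul_inv]
    refine S.mul_mem (hB b) (Subalgebra.inv_mem_of_algebraic (x := ⟨_, hB c⟩) S ?_)
    exact (IsIntegral.of_finite K (⟨_, hB c⟩ : S)).map S.val |>.isAlgebraic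
  exact Module.Finite.equiv (((Subalgebra.equivOfEq S ⊤ htop).trans Subalgebra.topEquiv).toLinearEquiv)

variable [IsFractionRing A K] [IsIntegrallyClosed A]

theorem exists_norm [Module.Finite A B] (b : B) :
    ∃ a : A, algebraMap A K a = Algebra.norm K (algebraMap B L b) :=
  IsIntegrallyClosed.isIntegral_iff.1 (Algebra.isIntegral_norm K (isIntegral_image (A := A) b))

theorem isUnit_of_norm [IsDomain A] [Module.Finite A B] [FiniteDimensional K L]
    (hinj : Function.Injective (algebraMap B L)) {b : B} {a : A} (ha : IsUnit a)
    (h : algebraMap A K a = Algebra.norm K (algebraMap B L b)) : IsUnit b := by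
  set β := algebraMap B L b
  have hβA : IsIntegral A β := isIntegral_image b
  have hβK : IsIntegral K β := hβA.tower_top
  set p := minpoly A β
  have hp : minpoly K β = p.map (algebraMap A K) := minpoly.isIntegrallyClosed_eq_field_fractions' K hβA
  have hgen : Algebra.norm K (AdjoinSimple.gen K β) =
      (-1) ^ (adjoin.powerBasis hβK).dim * algebraMap A K (p.coeff 0) := by
    have := Algebra.PowerBasis.norm_gen_eq_coeff_zero_minpoly (adjoin.powerBasis hβK)
    rw [show (adjoin.powerBasis hβK).gen = AdjoinSimple.gen K β from rfl] at this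
    rw [this, IntermediateField.minpoly_gen, hp, coeff_map]
  have hn := Algebra.norm_eq_norm_adjoin (K := K) β
  rw [hgen, ← h, show ((-1 : K) ^ (adjoin.powerBasis hβK).dim * algebraMap A K (p.coeff 0)) =
    algebraMap A K ((-1) ^ (adjoin.powerBasis hβK).dim * p.coeff 0) by simp, ← map_pow] at hn
  rw [IsFractionRing.injective A K hn] at ha
  have hr : Module.finrank K⟮β⟯ L ≠ 0 := Module.finrank_pos.ne'
  rw [isUnit_pow_iff hr, IsUnit.mul_iff] at ha
  have h0 : aeval b p = 0 := hinj (by rw [← aeval_algebraMap_apply, map_zero]; exact minpoly.aeval A β)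
  rw [← X_mul_divX_add p, map_add, map_mul, aeval_X, aeval_C] at h0
  have h1 : b * aeval b p.divX = -algebraMap A B (p.coeff 0) := eq_neg_of_add_eq_zero_left h0
  exact isUnit_of_mul_isUnit_left (h1 ▸ (ha.2.map (algebraMap A B)).neg : IsUnit (b * aeval b p.divX))

end Groth.L18.NormInt
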