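import Groth.Agent.L18.NormFree
import Groth.Agent.L18.NormDescent
import Groth.Agent.L18.RelAmpleLocal

/-!
Relative ampleness descends along finite locally free surjective morphisms.
-/

set_option autoImplicit false
set_option backward.isDefEq.respectTransparency false
set_option linter.style.haveILetI false
universe u

open CategoryTheory CategoryTheory.Limits AlgebraicGeometry TopologicalSpace Opposite

noncomputable section

namespace Groth.L18.NormFree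

open Groth.L18.Frame (rs ro ro_ro ro_self ro_mul)
open Groth.L18.Ample

variable {X Y : Scheme.{u}} (π : X ⟶ Y) (A : Y.Opens)

/-- Sections over preimages in an open subscheme. -/
def resSec (U : A.toScheme.Opens) : Γ(X, π ⁻¹ᵁ A.ι ''ᵁ U) ⟶ Γ((π ⁻¹ᵁ A).toScheme, (π ∣_ A) ⁻¹ᵁ U) :=
  X.presheaf.map (eqToHom (image_morphismRestrict_preimage π A U)).op

instance (U : A.toScheme.Opens) : IsIso (resSec π A U) := by
  unfold resSec; infer_instance

variable {π A}

theorem resSec_ro {U V : A.toScheme.Opens} (h : V ≤ U) (s : Γ(X, π ⁻¹ᵁ A.ι ''ᵁ U)) :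
    ro (fun _ hx => h hx : (π ∣_ A) ⁻¹ᵁ V ≤ (π ∣_ A) ⁻¹ᵁ U) (resSec π A U s) =
      resSec π A V (ro (fun _ hx => Scheme.Hom.image_mono A.ι h hx : π ⁻¹ᵁ A.ι ''ᵁ V ≤ π ⁻¹ᵁ A.ι ''ᵁ U) s) := by
  show (X.presheaf.map (eqToHom (image_morphismRestrict_preimage π A U)).op ≫ X.presheaf.map
      (homOfLE (Scheme.Hom.image_mono (π ⁻¹ᵁ A).ι (fun _ hx => h hx : (π ∣_ A) ⁻¹ᵁ V ≤ (π ∣_ A) ⁻¹ᵁ U))).op) s =
    (X.presheaf.map (homOfLE (fun _ hx => Scheme.Hom.image_mono A.ι h hx : π ⁻¹ᵁ A.ι ''ᵁ V ≤ π ⁻¹ᵁ A.ι ''ᵁ U)).op ≫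
      X.presheaf.map (eqToHom (image_morphismRestrict_preimage π A V)).op) s
  rw [← X.presheaf.map_comp, ← X.presheaf.map_comp]
  rfl

theorem exists_goodBasis_restrict {W : Y.Opens} {n : ℕ} {c : Fin n → Γ(X, π ⁻¹ᵁ W)} (hc : IsGoodBasis π c) :
    ∃ c' : Fin n → Γ((π ⁻¹ᵁ A).toScheme, (π ∣_ A) ⁻¹ᵁ (A.ι ⁻¹ᵁ W)), IsGoodBasis (π ∣_ A) c' := by
  have hU : A.ι ''ᵁ (A.ι ⁻¹ᵁ W) ≤ W := by
    rw [Scheme.Hom.image_preimage_eq_opensRange_inf]; exact inf_le_right
  refine ⟨fun i => resSec π A _ (ro (fun _ hx => hU hx : π ⁻¹ᵁ A.ι ''ᵁ (A.ι ⁻¹ᵁ W) ≤ π ⁻¹ᵁ W) (c i)), fun V h => ?_⟩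
  have hb := hc (A.ι ''ᵁ V) ((Scheme.Hom.image_mono A.ι h).trans hU)
  have := (ConcreteCategory.bijective_of_isIso (resSec π A V)).comp hb
  refine Eq.mp (congrArg Function.Bijective (funext fun r => ?_)) this
  simp only [Function.comp_apply, map_sum, map_mul]
  refine Finset.sum_congr rfl fun i _ => ?_
  rw [morphismRestrict_app]
  refine congrArg₂ (· * ·) rfl ?_
  exact ((resSec_ro h _).trans (congrArg _ (ro_ro _ _ _))).symm

theorem exists_hasNorm_restrict [Surjective π]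
    (hπ : FlatMod.IsFinLocFree ((Coh.push π).obj (Coh.structureModule X))) (A : Y.Opens)
    (hA : IsCompact (A : Set Y)) : ∃ m, Nrm.HasNorm (π ∣_ A) m := by
  classical
  haveI : CompactSpace A.toScheme := isCompact_iff_compactSpace.1 hA
  choose W n c hyW hc using exists_goodBasis hπ
  obtain ⟨T, hT⟩ := hA.elim_finite_subcover (fun y : Y => (W y : Set Y)) (fun y => (W y).2)
    (fun y _ => Set.mem_iUnion.2 ⟨y, hyW y⟩)
  have hpos : ∀ y, 0 < n y := fun y => by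
    obtain ⟨x, hx⟩ := π.surjective y
    exact pos_rank (hc y) (show π x ∈ W y by rw [hx]; exact hyW y)
  refine ⟨∏ y ∈ T, n y, hasNorm_of_goodBases _ (Finset.prod_pos fun y _ => hpos y) fun z => ?_⟩
  obtain ⟨y, hy, hzy⟩ := Set.mem_iUnion₂.1 (hT z.2)
  obtain ⟨c', hc'⟩ := exists_goodBasis_restrict (A := A) (hc y)
  exact ⟨_, n y, c', hzy, hpos y, Finset.dvd_prod_of_mem _ hy, hc'⟩

theorem isRelAmple_of_pullback_finLocFree {S : Scheme.{u}} (f : Y ⟶ S) [QuasiCompact f] [IsFinite π] [Surjective π]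
    (hπ : FlatMod.IsFinLocFree ((Coh.push π).obj (Coh.structureModule X))) {L : Y.Modules}
    (hL : PicF.IsInvertible L) (h : RelAmple.IsRelAmple (π ≫ f) ((Scheme.Modules.pullback π).obj L)) :
    RelAmple.IsRelAmple f L := by
  refine ⟨inferInstance, fun V => ?_⟩
  set A := f ⁻¹ᵁ V.1
  obtain ⟨m, ⟨N⟩⟩ := exists_hasNorm_restrict hπ A (f.isCompact_preimage V.2.isCompact)
  haveI : IsFinite (π ∣_ A) := IsZariskiLocalAtTarget.restrict ‹IsFinite π› A
  refine (isAmple_restrict_iff_pullback _).2 (Groth.L18.NormDesc.isAmple_of_norm N (isInvertible_pullback _ hL) ?_)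
  refine isAmple_of_iso ?_ ((isAmple_restrict_iff_pullback _).1 (h.2 V))
  exact (Scheme.Modules.pullbackComp _ _).app L ≪≫
    ((Scheme.Modules.pullbackCongr (morphismRestrict_ι π A)).app L).symm ≪≫
    ((Scheme.Modules.pullbackComp _ _).app L).symm

theorem isQuasiAffineHom_of_isAffineHom {Z W : Scheme.{u}} (g : Z ⟶ W) [IsAffineHom g] : Mor2.IsQuasiAffine g :=
  ⟨inferInstance, fun U hU => by
    haveI : IsAffine (g ⁻¹ᵁ U).toScheme := hU.preimage g
    infer_instance⟩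

end Groth.L18.NormFree
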