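import Groth.Agent.L18.NormalizationField
import Mathlib.AlgebraicGeometry.ResidueField
import Mathlib.RingTheory.Algebraic.Integral

/-!
The generic point of the normalization of an integral scheme in a field extension.
-/

set_option autoImplicit false
set_option linter.style.haveILetI false
set_option linter.unusedSectionVars false
universe u

open CategoryTheory CategoryTheory.Limits AlgebraicGeometry TopologicalSpace

namespace Groth.L18.NormField

variable {X : Scheme.{u}} [IsIntegral X] {K : Type u} [Field K] {φ : X.functionField →+* K}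
  {g : Spec (CommRingCat.of K) ⟶ X}

theorem toNormalization_base [QuasiCompact g] [QuasiSeparated g]
    [IsIntegral g.normalization] (x : ↥(Spec (CommRingCat.of K))) :
    g.toNormalization x = genericPoint g.normalization := by
  refine (genericPoint_spec g.normalization).eq ?_ |>.symm
  rw [isGenericPoint_def]
  have h := g.toNormalization.denseRange.closure_range
  haveI : Subsingleton ↥(Spec (CommRingCat.of K)) := inferInstanceAs (Subsingleton (PrimeSpectrum K))
  rw [Set.range_eq_singleton_iff.mpr (fun y => congrArg g.toNormalization (Subsingleton.elim y x))] at h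
  exact h

theorem fromNormalization_genericPoint
    (hg : g = Spec.map (CommRingCat.ofHom φ) ≫ X.fromSpecStalk (genericPoint X))
    [QuasiCompact g] [QuasiSeparated g] [IsIntegral g.normalization] :
    g.fromNormalization (genericPoint g.normalization) = genericPoint X := by
  rw [← toNormalization_base (g := g) (IsLocalRing.closedPoint K)]
  erw [← Scheme.Hom.comp_apply]
  rw [g.toNormalization_fromNormalization]
  exact base_eq hg _

theorem surjective_fromNormalization
    (hg : g = Spec.map (CommRingCat.ofHom φ) ≫ X.fromSpecStalk (genericPoint X))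
    [QuasiCompact g] [QuasiSeparated g] [IsIntegral g.normalization] :
    Surjective g.fromNormalization := by
  refine ⟨fun x => ?_⟩
  have hc : IsClosed (Set.range g.fromNormalization) := g.fromNormalization.isClosedMap.isClosed_range
  have h1 : closure ({genericPoint X} : Set X) ⊆ Set.range g.fromNormalization :=
    hc.closure_subset_iff.mpr (Set.singleton_subset_iff.mpr ⟨_, fromNormalization_genericPoint hg⟩)
  rw [genericPoint_closure] at h1
  exact h1 (Set.mem_univ x)

theorem stalkTo_injective [QuasiCompact g] [QuasiSeparated g]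
    [IsIntegral g.normalization] :
    Function.Injective (Scheme.stalkClosedPointTo g.toNormalization).hom := by
  have hp := toNormalization_base (g := g) (IsLocalRing.closedPoint K)
  have hF : IsField (g.normalization.presheaf.stalk (g.toNormalization (IsLocalRing.closedPoint K))) := by
    refine isField_stalk_of_closure_mem_irreducibleComponents _ _ ?_
    rw [hp, genericPoint_closure, irreducibleComponents_eq_singleton]
    rfl
  letI := hF.toField
  exact (Scheme.stalkClosedPointTo g.toNormalization).hom.injective

/-- The value in the field of a section of the normalization. -/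
theorem stalkTo_germ (hg : g = Spec.map (CommRingCat.ofHom φ) ≫ X.fromSpecStalk (genericPoint X))
    [QuasiCompact g] [QuasiSeparated g] (U : X.Opens) [Nonempty U]
    (hp : g.toNormalization (IsLocalRing.closedPoint K) ∈ g.fromNormalization ⁻¹ᵁ U) :
    g.normalization.presheaf.germ (g.fromNormalization ⁻¹ᵁ U) _ hp ≫
        Scheme.stalkClosedPointTo g.toNormalization =
      g.toNormalization.appLE (g.fromNormalization ⁻¹ᵁ U) (g ⁻¹ᵁ U)
        (by simp [← Scheme.Hom.comp_preimage]) ≫ (secIso hg U).hom := by
  rw [Scheme.germ_stalkClosedPointTo, Scheme.Hom.appLE, secIso]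
  simp only [Iso.trans_hom, Functor.mapIso_hom, Category.assoc, Iso.op_hom, eqToIso.hom,
    ← Functor.map_comp_assoc]
  rfl

theorem preimage_genericPoint
    (hg : g = Spec.map (CommRingCat.ofHom φ) ≫ X.fromSpecStalk (genericPoint X))
    [QuasiCompact g] [QuasiSeparated g] [IsIntegral g.normalization] :
    g.fromNormalization.base ⁻¹' {genericPoint X} = {genericPoint g.normalization} := by
  refine Set.eq_singleton_iff_unique_mem.mpr ⟨fromNormalization_genericPoint hg, fun y hy => ?_⟩
  have hy : g.fromNormalization y = genericPoint X := hy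
  obtain ⟨_, ⟨U, hU, rfl⟩, hyU, -⟩ :=
    X.isBasis_affineOpens.exists_subset_of_mem_open (Set.mem_univ (g.fromNormalization y)) isOpen_univ
  haveI : Nonempty U := ⟨⟨_, hyU⟩⟩
  haveI : Nonempty ↥((g.fromNormalization ⁻¹ᵁ U).toScheme) := ⟨⟨y, hyU⟩⟩
  let hV := hU.preimage g.fromNormalization
  letI := (g.fromNormalization.app U).hom.toAlgebra
  haveI : Algebra.IsIntegral Γ(X, U) Γ(g.normalization, g.fromNormalization ⁻¹ᵁ U) :=
    algebraMap_isIntegral_iff.mp (IsIntegralHom.isIntegral_app g.fromNormalization U hU)
  have hm := IsAffineOpen.comap_primeIdealOf_appLE (f := g.fromNormalization) U hU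
    (g.fromNormalization ⁻¹ᵁ U) hV le_rfl (x := y) hyU
  rw [← Scheme.Hom.app_eq_appLE] at hm
  haveI : IsDomain Γ(g.normalization, g.fromNormalization ⁻¹ᵁ U) := inferInstance
  have hmm : ((hV.primeIdealOf ⟨y, hyU⟩).asIdeal.comap
      (algebraMap Γ(X, U) Γ(g.normalization, g.fromNormalization ⁻¹ᵁ U))) = ⊥ := by
    refine (congrArg PrimeSpectrum.asIdeal hm).trans ?_
    rw [show (⟨g.fromNormalization y, hyU⟩ : U) = ⟨genericPoint X,
      ((genericPoint_spec X).mem_open_set_iff U.isOpen).mpr (by simpa using ‹Nonempty U›)⟩ from Subtype.ext hy,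
      hU.primeIdealOf_genericPoint, genericPoint_eq_bot_of_affine]
    rfl
  have hbot := Ideal.eq_bot_of_comap_eq_bot (R := Γ(X, U)) hmm
  have hgen := hV.primeIdealOf_genericPoint
  rw [genericPoint_eq_bot_of_affine] at hgen
  have h2 : hV.primeIdealOf ⟨y, hyU⟩ = hV.primeIdealOf ⟨genericPoint g.normalization,
      ((genericPoint_spec g.normalization).mem_open_set_iff (g.fromNormalization ⁻¹ᵁ U).isOpen).mpr
        ⟨y, trivial, hyU⟩⟩ := by
    rw [hgen]
    exact PrimeSpectrum.ext hbot
  have h3 := congrArg hV.fromSpec h2
  rwa [hV.fromSpec_primeIdealOf, hV.fromSpec_primeIdealOf] at h3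

theorem range_stalkTo (hg : g = Spec.map (CommRingCat.ofHom φ) ≫ X.fromSpecStalk (genericPoint X))
    [QuasiCompact g] [QuasiSeparated g] [IsIntegral g.normalization] :
    Set.range (Scheme.stalkClosedPointTo g.toNormalization).hom =
      {y : K | ∃ q : Polynomial X.functionField, q.Monic ∧ Polynomial.eval₂ φ y q = 0} := by
  have hpt := toNormalization_base (g := g) (IsLocalRing.closedPoint K)
  obtain ⟨_, ⟨U, hU, rfl⟩, hxU, -⟩ :=
    X.isBasis_affineOpens.exists_subset_of_mem_open (Set.mem_univ (genericPoint X)) isOpen_univ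
  haveI : Nonempty U := ⟨⟨_, hxU⟩⟩
  have hp : g.toNormalization (IsLocalRing.closedPoint K) ∈ g.fromNormalization ⁻¹ᵁ U := by
    rw [hpt]
    change g.fromNormalization _ ∈ U
    rw [fromNormalization_genericPoint hg]
    exact hxU
  haveI : Nonempty ↥((g.fromNormalization ⁻¹ᵁ U).toScheme) := ⟨⟨_, hp⟩⟩
  obtain ⟨e, he, he'⟩ := exists_equiv hg hU
  have hgerm : ∀ b, (Scheme.stalkClosedPointTo g.toNormalization).hom
      (g.normalization.presheaf.germ (g.fromNormalization ⁻¹ᵁ U) _ hp b) = (e b : K) := fun b => by
    rw [he' b, ← CategoryTheory.comp_apply, stalkTo_germ hg U hp]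
  letI := (φ.comp (X.germToFunctionField U).hom).toAlgebra
  letI := φ.toAlgebra
  haveI : IsScalarTower Γ(X, U) X.functionField K := IsScalarTower.of_algebraMap_eq fun a => rfl
  haveI : IsFractionRing Γ(X, U) X.functionField := functionField_isFractionRing_of_isAffineOpen X U hU
  haveI : FaithfulSMul Γ(X, U) K := (faithfulSMul_iff_algebraMap_injective _ _).mpr
    (φ.injective.comp (Scheme.germToFunctionField_injective X U))
  haveI : FaithfulSMul Γ(X, U) X.functionField := (faithfulSMul_iff_algebraMap_injective _ _).mpr
    (Scheme.germToFunctionField_injective X U)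
  ext v
  constructor
  · rintro ⟨z, rfl⟩
    have hV := hU.preimage g.fromNormalization
    letI := g.normalization.presheaf.algebra_section_stalk
      (⟨g.toNormalization (IsLocalRing.closedPoint K), hp⟩ : ↥(g.fromNormalization ⁻¹ᵁ U))
    haveI := hV.isLocalization_stalk ⟨g.toNormalization (IsLocalRing.closedPoint K), hp⟩
    obtain ⟨⟨b, s⟩, hz⟩ := IsLocalization.surj
      (hV.primeIdealOf ⟨g.toNormalization (IsLocalRing.closedPoint K), hp⟩).asIdeal.primeCompl z
    have h1 := congrArg (Scheme.stalkClosedPointTo g.toNormalization).hom hz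
    rw [map_mul] at h1
    change _ * (Scheme.stalkClosedPointTo g.toNormalization).hom
      (g.normalization.presheaf.germ _ _ hp s.1) = (Scheme.stalkClosedPointTo g.toNormalization).hom
      (g.normalization.presheaf.germ _ _ hp b) at h1
    rw [hgerm, hgerm] at h1
    have hs : (e s.1 : K) ≠ 0 := fun h => s.2 (by
      rw [(map_eq_zero_iff e e.injective).mp (Subtype.ext h)]; exact zero_mem _)
    rw [← eq_div_iff hs] at h1
    rw [h1]
    have hb : IsIntegral X.functionField (e b : K) := IsIntegral.tower_top (e b).2
    have hsi : IsIntegral X.functionField (e s.1 : K) := IsIntegral.tower_top (e s.1).2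
    rw [div_eq_mul_inv]
    exact hb.mul hsi.inv
  · rintro ⟨q, hq, hqv⟩
    have hv : IsIntegral X.functionField v := ⟨q, hq, hqv⟩
    obtain ⟨⟨a, ha⟩, hav⟩ :=
      hv.exists_multiple_integral_of_isLocalization (nonZeroDivisors Γ(X, U)) v
    have hav : IsIntegral Γ(X, U) (algebraMap Γ(X, U) K a * v) := by
      rw [← Algebra.smul_def]; exact hav
    obtain ⟨b, hb⟩ := e.surjective ⟨_, hav⟩
    have hF : IsField (g.normalization.presheaf.stalk (g.toNormalization (IsLocalRing.closedPoint K))) := by
      refine isField_stalk_of_closure_mem_irreducibleComponents _ _ ?_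
      rw [hpt, genericPoint_closure, irreducibleComponents_eq_singleton]
      rfl
    letI := hF.toField
    refine ⟨g.normalization.presheaf.germ _ _ hp b /
      g.normalization.presheaf.germ _ _ hp ((g.fromNormalization.app U).hom a), ?_⟩
    rw [map_div₀, hgerm, hgerm, he, hb]
    change algebraMap Γ(X, U) K a * v / algebraMap Γ(X, U) K a = v
    rw [mul_div_cancel_left₀]
    rw [map_ne_zero_iff _ (FaithfulSMul.algebraMap_injective Γ(X, U) K)]
    exact nonZeroDivisors.ne_zero ha

omit [IsIntegral X] in
/-- Residue extensions are trivial when germs on the source are fractions of germs from the target. -/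
theorem residueFieldMap_surjective_of_fractions {N : Scheme.{u}} (f : N ⟶ X) (p : N) (U : X.Opens)
    (hp : p ∈ f ⁻¹ᵁ U)
    (h : ∀ z : N.presheaf.stalk p, ∃ a s : Γ(X, U),
      IsUnit ((N.presheaf.germ (f ⁻¹ᵁ U) p hp).hom ((f.app U).hom s)) ∧
        z * (N.presheaf.germ (f ⁻¹ᵁ U) p hp).hom ((f.app U).hom s) =
          (N.presheaf.germ (f ⁻¹ᵁ U) p hp).hom ((f.app U).hom a)) :
    Function.Surjective (f.residueFieldMap p).hom := by
  intro w
  obtain ⟨z, rfl⟩ := IsLocalRing.residue_surjective w
  obtain ⟨a, s, hu, hz⟩ := h z
  have hβ : ∀ c, (f.residueFieldMap p).hom ((X.residue (f p)).hom ((X.presheaf.germ U (f p) hp).hom c)) =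
      (N.residue p).hom ((N.presheaf.germ (f ⁻¹ᵁ U) p hp).hom ((f.app U).hom c)) := fun c => by
    change (X.presheaf.germ U (f p) hp ≫ X.residue _ ≫ f.residueFieldMap p).hom c = _
    rw [Scheme.residue_residueFieldMap]
    exact congrArg (N.residue p).hom (ConcreteCategory.congr_hom (f.germ_stalkMap U p hp) c)
  refine ⟨(X.residue (f p)).hom ((X.presheaf.germ U (f p) hp).hom a) /
    (X.residue (f p)).hom ((X.presheaf.germ U (f p) hp).hom s), ?_⟩
  rw [map_div₀, hβ, hβ, ← hz, map_mul, mul_div_assoc, div_self (hu.map (N.residue p).hom).ne_zero,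
    mul_one]
  rfl

theorem exists_fraction {g : Spec (CommRingCat.of X.functionField) ⟶ X}
    (hg : g = Spec.map (CommRingCat.ofHom (RingHom.id X.functionField)) ≫ X.fromSpecStalk (genericPoint X))
    [QuasiCompact g] [QuasiSeparated g] [IsIntegral g.normalization] {U : X.Opens} (hU : IsAffineOpen U)
    [Nonempty U] (p : g.normalization)
    (hpe : p = g.toNormalization (IsLocalRing.closedPoint X.functionField))
    (hp : p ∈ g.fromNormalization ⁻¹ᵁ U) (z : g.normalization.presheaf.stalk p) : ∃ a s : Γ(X, U),
      IsUnit ((g.normalization.presheaf.germ (g.fromNormalization ⁻¹ᵁ U) p hp).hom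
        ((g.fromNormalization.app U).hom s)) ∧
      z * (g.normalization.presheaf.germ (g.fromNormalization ⁻¹ᵁ U) p hp).hom
          ((g.fromNormalization.app U).hom s) =
        (g.normalization.presheaf.germ (g.fromNormalization ⁻¹ᵁ U) p hp).hom
          ((g.fromNormalization.app U).hom a) := by
  subst hpe
  obtain ⟨e, he, he'⟩ := exists_equiv hg hU
  haveI : IsFractionRing Γ(X, U) X.functionField := functionField_isFractionRing_of_isAffineOpen X U hU
  have hgerm : ∀ a, (Scheme.stalkClosedPointTo g.toNormalization).hom
      ((g.normalization.presheaf.germ (g.fromNormalization ⁻¹ᵁ U) _ hp).hom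
        ((g.fromNormalization.app U).hom a)) = (X.germToFunctionField U).hom a := fun a => by
    change (g.normalization.presheaf.germ _ _ hp ≫ Scheme.stalkClosedPointTo g.toNormalization).hom _ = _
    rw [stalkTo_germ hg U hp]
    exact (he' _).symm.trans (congrArg Subtype.val (he a))
  obtain ⟨a, s, hs, hv⟩ :=
    IsFractionRing.div_surjective Γ(X, U) ((Scheme.stalkClosedPointTo g.toNormalization).hom z)
  have hs0 : (X.germToFunctionField U).hom s ≠ 0 := fun h => nonZeroDivisors.ne_zero hs
    (Scheme.germToFunctionField_injective X U (h.trans (map_zero _).symm))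
  refine ⟨a, s, ?_, stalkTo_injective (g := g) ?_⟩
  · apply isUnit_of_map_unit (Scheme.stalkClosedPointTo g.toNormalization).hom
    rw [hgerm]
    exact hs0.isUnit
  · rw [map_mul, hgerm, hgerm, ← hv]
    exact div_mul_cancel₀ _ hs0

theorem residueFieldMap_bijective {g : Spec (CommRingCat.of X.functionField) ⟶ X}
    (hg : g = Spec.map (CommRingCat.ofHom (RingHom.id X.functionField)) ≫ X.fromSpecStalk (genericPoint X))
    [QuasiCompact g] [QuasiSeparated g] [IsIntegral g.normalization] :
    Function.Bijective (g.fromNormalization.residueFieldMap (genericPoint g.normalization)).hom := by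
  obtain ⟨_, ⟨U, hU, rfl⟩, hxU, -⟩ :=
    X.isBasis_affineOpens.exists_subset_of_mem_open (Set.mem_univ (genericPoint X)) isOpen_univ
  haveI : Nonempty U := ⟨⟨_, hxU⟩⟩
  have hp : genericPoint g.normalization ∈ g.fromNormalization ⁻¹ᵁ U := by
    change g.fromNormalization _ ∈ U
    rw [fromNormalization_genericPoint hg]
    exact hxU
  exact ⟨(g.fromNormalization.residueFieldMap _).hom.injective,
    residueFieldMap_surjective_of_fractions _ _ U hp
      fun z => exists_fraction hg hU _ (toNormalization_base _).symm hp z⟩

end Groth.L18.NormField
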