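import Groth.Agent.L18.OffAffineVanish
import Groth.Agent.L18.NegVanishField
import Groth.Agent.L18.CIProjUnit
import Groth.Agent.L19.AmpleAffineLocus
import Groth.Agent.L16.ProjSpace.AmpleIff
import Groth.Agent.L22.PDual.Asym
import Groth.Agent.L22.ZeroScheme
import Groth.Agent.L22.Ideal
import Groth.Agent.L16.Supp.ClosedNat
import Groth.Agent.S3852

/-!
# Cohomology of high powers of the ideal of a section of an ample module

`X` is proper over a field, `s` is a section of an ample invertible module and the depth at the closed points of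
`X_s` exceeds `n`.  Then `H^q(I^(m+d)) ⟶ H^q(I^m)` is zero for `q ≤ n` and `d` large, `I` the ideal of `s`.
-/

set_option autoImplicit false
set_option linter.style.haveILetI false
set_option linter.unusedSectionVars false
set_option backward.isDefEq.respectTransparency false
set_option backward.isDefEq.respectTransparency.types false
universe u

open CategoryTheory CategoryTheory.Limits AlgebraicGeometry IsLocalRing TopologicalSpace Opposite

noncomputable section

namespace Groth.L18.OffAffine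

open Groth.L22.Reg (O')
open Groth.L16
open Groth.L16.CohLinear (hmap hmap_comp exact_hmap_hmap exact_hmap_delta)
open Groth.L17.IdealMulSec
open Groth.L00.Tensor (tensorIso tensorComm tensorMap)

variable {k : Type u} [Field k]

theorem nonempty_O_pos (r : ℕ) : ∀ M : ℕ,
    Nonempty (CohB1.tensorPow (O' r k 1) M ≅ O' r k (M : ℤ))
  | 0 => by
    obtain ⟨e⟩ := Groth.L22.Reg.nonempty_O_zero r k
    exact ⟨e.symm⟩
  | M + 1 => by
    obtain ⟨e⟩ := nonempty_O_pos r M
    obtain ⟨e'⟩ := Groth.L22.Reg.nonempty_O_add (n := r) (R := k) (show (M : ℤ) + 1 = ((M + 1 : ℕ) : ℤ) by omega)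
    exact ⟨tensorIso e (Iso.refl _) ≪≫ e'⟩

theorem isAmple_O (r : ℕ) {M : ℕ} (hM : 0 < M) : CohB1.IsAmple (O' r k (M : ℤ)) :=
  ProjTwist.isAmple_twist (CohB1.polyGrading r k) hM
    (fun i : Fin (r + 1) => ⟨MvPolynomial.X i ^ M, by
      simpa using SetLike.pow_mem_graded M (ProjSpace.X_mem r k i)⟩)
    (top_le_iff.1 fun x _ => TopologicalSpace.Opens.mem_iSup.2 (by
      obtain ⟨i, hi⟩ := ProjSpace.exists_mem_basicOpen_X r k x
      exact ⟨i, (Proj.mem_basicOpen _ _ _).2 (ProjTwist.notMem_pow _ ((Proj.mem_basicOpen _ _ _).1 hi) M)⟩))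

variable {X : Scheme.{u}}

theorem isCoh_idealMod' [IsLocallyNoetherian X] (I : X.IdealSheafData) : Coh.IsCoh (ClSub.idealMod I) :=
  Groth.L18.IdealModule.isCoh_idealMod (I := I) fun V => by
    haveI := IsLocallyNoetherian.component_noetherian V
    exact IsNoetherian.noetherian _

/-- An embedding in projective space in which the locus of a section is cut out by an affine open. -/
theorem exists_affine_open (f : X ⟶ Spec (CommRingCat.of k)) [IsProper f] {L : X.Modules}
    (hL : CohB1.IsAmple L) (s : Coh.structureModule X ⟶ L) :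
    ∃ (r : ℕ) (j : X ⟶ CohB1.ProjSpace r k) (U : (CohB1.ProjSpace r k).Opens),
      IsClosedImmersion j ∧ IsAffineOpen U ∧ j ⁻¹ᵁ U = CohB1.genLocus L s := by
  obtain ⟨N, r, j, hN, hj, hjf, ⟨eL⟩⟩ := Groth.L18.NegVanish.exists_embedding f hL
  haveI := hj
  haveI := isNoetherian_P (k := k) (r := r)
  haveI := Groth.L22.PDual.proper r k
  let J := j.ker
  have hJ : Coh.IsCoh (ClSub.idealMod J) := isCoh_idealMod' _
  obtain ⟨m₀, hm₀⟩ := Groth.L22.PDual.exists_large_vanish (n := r) (k := k) hJ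
  obtain ⟨N', rfl⟩ : ∃ N', N = N' + 1 := ⟨N - 1, by omega⟩
  let M := m₀.toNat + 1
  let LP := O' r k (M : ℤ)
  have hLP : PicF.IsInvertible LP := ProjTwist.isInvertible_twistProjSpace r k _
  have hv : Subsingleton (Coh.HH (CohB1.ProjSpace r k) (CohB1.tensorMod LP (ClSub.idealMod J)) 1) :=
    Groth.L22.EnrSev.subsingleton_of_iso (tensorComm _ _) 1 (hm₀ (M : ℤ) (by omega)).1
  have hsurj := Groth.L18.CIProj.surjective_pull_subscheme J hLP hv
  obtain ⟨eM⟩ := nonempty_O_pos (k := k) r M
  let ι : CohB1.tensorPow (CohB1.tensorPow L (N' + 1)) M ≅ (Scheme.Modules.pullback j).obj LP :=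
    Groth.L00.Tensor.tensorPowIso eL M ≪≫ (Groth.L18.Ample.pullPow j _ M).symm ≪≫
      (Scheme.Modules.pullback j).mapIso eM
  let σ : Coh.structureModule X ⟶ (Scheme.Modules.pullback j).obj LP :=
    Groth.L18.Ample.pw (Groth.L18.Ample.pw s (N' + 1)) M ≫ ι.hom
  have hσ : CohB1.genLocus _ σ = CohB1.genLocus L s := by
    rw [Groth.L16.genLocus_comp_iso,
      Groth.L18.Ample.genLocus_pw_succ (Groth.L18.Ample.isInvertible_tensorPow hL.1 _),
      Groth.L18.Ample.genLocus_pw_succ hL.1]
  let c : X ⟶ J.subscheme := j.toImage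
  haveI : IsIso c := inferInstanceAs (IsIso j.toImage)
  have hc : c ≫ J.subschemeι = j := j.toImage_imageι
  let P' := (Scheme.Modules.pullback J.subschemeι).obj LP
  let σ' : Coh.structureModule J.subscheme ⟶ (Scheme.Modules.pullback (inv c)).obj
      ((Scheme.Modules.pullback j).obj LP) := Groth.L18.Ample.pullHom (inv c) σ
  let κ : (Scheme.Modules.pullback (inv c)).obj ((Scheme.Modules.pullback j).obj LP) ≅ P' :=
    (Scheme.Modules.pullbackComp (inv c) j).app LP ≪≫
      (Scheme.Modules.pullbackCongr (by rw [← hc, IsIso.inv_hom_id_assoc])).app LP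
  obtain ⟨t, ht⟩ := hsurj (Groth.L18.GenLoc.secOf (σ' ≫ κ.hom))
  let τ : Coh.structureModule (CohB1.ProjSpace r k) ⟶ LP := Groth.L16.homOfSection _ t
  refine ⟨r, j, CohB1.genLocus LP τ, hj,
    Groth.L19.AmpleAffine.isAffineOpen_genLocus (CohB1.ProjSpace.toSpec r k) (isAmple_O r (by omega)) τ, ?_⟩
  have hJτ : J.subschemeι ⁻¹ᵁ CohB1.genLocus LP τ = inv c ⁻¹ᵁ CohB1.genLocus L s := by
    rw [← Groth.L18.Ample.genLocus_pullHom J.subschemeι hLP τ,
      show Groth.L18.Ample.pullHom J.subschemeι τ = σ' ≫ κ.hom from by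
        rw [Groth.L18.Ample.pullHom, Groth.L18.GenLoc.secOf_homOfSection, ht,
          Groth.L18.GenLoc.homOfSection_secOf],
      Groth.L16.genLocus_comp_iso,
      Groth.L18.Ample.genLocus_pullHom (inv c) (Groth.L18.Ample.isInvertible_pullback j hLP) σ, hσ]
  rw [← hc, Scheme.Hom.comp_preimage, hJτ, ← Scheme.Hom.comp_preimage, IsIso.hom_inv_id]
  rfl

/-- The ideal module has the stalks of the structure sheaf off the support. -/
theorem depth_idealMod (I : X.IdealSheafData) {x : X} (hx : x ∉ I.support) :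
    LocCoh.depth (X.presheaf.stalk x) ((ClSub.idealMod I).presheaf.stalk x) =
      LocCoh.depth (X.presheaf.stalk x) (X.presheaf.stalk x) := by
  have hS := Groth.L12.KRes.shortExact_stalk (Groth.L18.LefTwists.shortExact_ideal I) x
  let st := Groth.L00.Stk.F X x
  have hss : Subsingleton (st.obj (ClSub.quotMod I)) :=
    Groth.L17.ClosedPush.subsingleton_stalk_push I.subschemeι _ (fun h => hx (by
      rw [I.range_subschemeι] at h; exact h))
  have hb : Function.Bijective (st.map (ClSub.idealModι I)).hom := ⟨hS.moduleCat_injective_f, fun y =>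
    (((ShortComplex.ShortExact.moduleCat_exact_iff_function_exact _).1 hS.exact) y).1 (@Subsingleton.elim _ hss _ _)⟩
  let e := (LinearEquiv.ofBijective _ hb).trans (Groth.L15.Ref.strE x).symm
  exact L02.FibDepth.Semi.depth_eq
    { φ := RingHom.id _
      surj := Function.surjective_id
      e := e.toAddEquiv
      map_smul := fun r z => e.map_smul r z }

/-- High powers of the ideal of a section of an ample module are acyclic, as a system, below the depth. -/
theorem exists_hmap_eq_zero (f : X ⟶ Spec (CommRingCat.of k)) [IsProper f] {L : X.Modules}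
    (hL : CohB1.IsAmple L) (s : Coh.structureModule X ⟶ L) (n : ℕ)
    (hd : ∀ x : X, IsClosed ({x} : Set X) → x ∉ (PicF2.zeroScheme L s).support →
      ((n + 1 : ℕ) : ℕ∞) ≤ LocCoh.depth (X.presheaf.stalk x) (X.presheaf.stalk x))
    (q : ℕ) (hq : q ≤ n) (m : ℕ) :
    ∃ d : ℕ, ∀ (m' : ℕ), m + d ≤ m' →
      ∀ (g : ClSub.idealMod (PicF2.zeroScheme L s ^ m') ⟶ ClSub.idealMod (PicF2.zeroScheme L s ^ m)),
        g ≫ ClSub.idealModι _ = ClSub.idealModι _ → ∀ x, hmap g q x = 0 := by
  classical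
  obtain ⟨r, j, U, hj, hU, hjU⟩ := exists_affine_open f hL s
  haveI := hj
  haveI := isNoetherian_P (k := k) (r := r)
  haveI : IsLocallyNoetherian X := LocallyOfFiniteType.isLocallyNoetherian f
  haveI : CompactSpace X := QuasiCompact.compactSpace_of_compactSpace f
  haveI : IsNoetherian X := {}
  let P := CohB1.ProjSpace r k
  let I := PicF2.zeroScheme L s
  let 𝔞 : P.IdealSheafData := Scheme.IdealSheafData.vanishingIdeal ⟨(U : Set P)ᶜ, U.2.isClosed_compl⟩
  have hUa : (U : Set P) = (𝔞.support : Set P)ᶜ := by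
    rw [Scheme.IdealSheafData.coe_support_vanishingIdeal]
    exact (compl_compl _).symm
  have hsupp : ∀ x : X, x ∈ I.support ↔ j x ∉ U := fun x => by
    have h : x ∈ I.support ↔ x ∈ (CohB1.genLocus L s : Set X)ᶜ :=
      Set.ext_iff.1 (Groth.L22.ZeroScheme.support_zeroScheme hL.1 s) x
    rw [h, Set.mem_compl_iff, SetLike.mem_coe, ← hjU]
    rfl
  let G := ClSub.idealMod (I ^ m)
  have hG : Coh.IsCoh G := isCoh_idealMod' _
  let F := (Coh.push j).obj G
  have hF : Coh.IsCoh F := Groth.L16.CohClosedPush.isCoh_push j hG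
  have hdeep : Deep U (n + 1) F := by
    intro p hp hpc
    rw [← Groth.L18.NegVanish.sdep_field (CohB1.ProjSpace.toSpec r k) F p]
    by_cases hr : p ∈ Set.range j
    · obtain ⟨x, rfl⟩ := hr
      have hx : IsClosed ({x} : Set X) := by
        rw [show ({x} : Set X) = j ⁻¹' {j x} from Set.ext fun y =>
          ⟨fun e => congrArg _ e, fun e => j.isClosedEmbedding.injective e⟩]
        exact hpc.preimage j.continuous
      have hxs : x ∉ I.support := fun h => (hsupp x).1 h hp
      have hxm : x ∉ (I ^ m).support := fun h => hxs (by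
        rcases Nat.eq_zero_or_pos m with rfl | hm
        · simp at h
          exact absurd h (fun h' => (Set.mem_empty_iff_false x).1 h')
        · rwa [Scheme.IdealSheafData.support_pow _ _ hm.ne'] at h)
      refine (hd x hx hxs).trans_eq ?_
      refine ((Groth.L18.NegVanish.sdep_push j (CohB1.ProjSpace.toSpec r k) G x).trans ?_).symm
      rw [Groth.L18.NegVanish.sdep_field]
      exact depth_idealMod _ hxm
    · exact le_top.trans_eq (Groth.L18.NegVanish.sdep_push_of_not_mem j _ G hr).symm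
  obtain ⟨N, hN⟩ := z_of_deep 𝔞 U hU hUa r n (Nat.le_add_left r n) hF hdeep q hq
  let 𝔟 := (𝔞 ^ N).comap j
  obtain ⟨M, hM⟩ : ∃ M, I ^ (M + 1) ≤ 𝔟 := by
    refine Groth.Agent.S3852.result X I 𝔟 fun x hx => ?_
    rw [Scheme.IdealSheafData.support_comap] at hx
    rcases Nat.eq_zero_or_pos N with rfl | hN0
    · simp at hx
    · rw [Scheme.IdealSheafData.support_pow _ _ hN0.ne'] at hx
      exact (hsupp x).2 fun h => (Set.ext_iff.1 hUa (j x)).1 h hx
  refine ⟨M + 1, fun m' hm' g hg x => ?_⟩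
  haveI := hF.1
  haveI := hG.1
  haveI : Coh.IsQCoh (ClSub.idealMod (I ^ m')) :=
    (isCoh_idealMod' _).1
  obtain ⟨l, hl⟩ := exists_lift (𝔞 ^ N) F ((Coh.push j).map g) fun V hV a => by
    let W : X.Opens := j ⁻¹ᵁ V
    have hW : IsAffineOpen W := hV.preimage j
    let ι := Groth.L17.IdealMulExtend.lapp (ClSub.idealModι (I ^ m)) W
    have hι : Function.Injective ι := (kernel_sections (ClSub.toSubscheme (I ^ m)) W).1
    have hrange : ∀ (e : ℕ) (b : Γ(X, W)), b ∈ (I ^ e).ideal ⟨W, hW⟩ ↔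
        ∃ z, (ClSub.idealModι (I ^ e)).app W z = b := fun e b =>
      Groth.L18.IdealModule.mem_ideal_iff (I := I ^ e) hW b
    let a' : Γ(G, W) := g.app W a
    have ha : (ClSub.idealModι (I ^ m)).app W a' ∈
        𝔟.ideal ⟨W, hW⟩ • (I ^ m).ideal ⟨W, hW⟩ := by
      have h1 : (ClSub.idealModι (I ^ m)).app W a' = (ClSub.idealModι (I ^ m')).app W a :=
        congr($(hg).app W a)
      rw [h1, smul_eq_mul]
      have h2 : (ClSub.idealModι (I ^ m')).app W a ∈ (I ^ m').ideal ⟨W, hW⟩ := (hrange m' _).2 ⟨a, rfl⟩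
      rw [Scheme.IdealSheafData.ideal_pow, Pi.pow_apply] at h2 ⊢
      have h4 := hM ⟨W, hW⟩
      rw [Scheme.IdealSheafData.ideal_pow, Pi.pow_apply] at h4
      refine Ideal.mul_mono_left h4 ?_
      rw [← pow_add]
      exact Ideal.pow_le_pow_right (by omega) h2
    rw [show 𝔟.ideal ⟨W, hW⟩ = ((𝔞 ^ N).ideal ⟨V, hV⟩).map (j.app V).hom from by
      rw [show 𝔟 = (𝔞 ^ N).comap j from rfl, Groth.L22.Ideals.comap_ideal j (𝔞 ^ N) ⟨V, hV⟩ ⟨W, hW⟩ le_rfl]
      congr 1
      rw [Scheme.Hom.app_eq_appLE]] at ha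
    show (show Γ(F, V) from a') ∈ (𝔞 ^ N).ideal ⟨V, hV⟩ • (⊤ : Submodule Γ(P, V) Γ(F, V))
    have key : ∀ b ∈ ((𝔞 ^ N).ideal ⟨V, hV⟩).map (j.app V).hom • (I ^ m).ideal ⟨W, hW⟩,
        ∃ z : Γ(G, W), (ClSub.idealModι (I ^ m)).app W z = b ∧
          (show Γ(F, V) from z) ∈ (𝔞 ^ N).ideal ⟨V, hV⟩ • (⊤ : Submodule Γ(P, V) Γ(F, V)) := by
      intro b hb
      induction hb using Submodule.smul_induction_on' with
      | smul c hc e he =>
        obtain ⟨z, rfl⟩ := (hrange m e).1 he
        obtain ⟨c', hc', rfl⟩ := (Ideal.mem_map_iff_of_surjective _ (j.app_surjective V hV)).1 hc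
        refine ⟨(j.app V).hom c' • z, ?_, ?_⟩
        · exact Scheme.Modules.Hom.app_smul _ _ _
        · have h3 : (show Γ(F, V) from (j.app V).hom c' • z) = c' • (show Γ(F, V) from z) :=
            (Groth.L00.PullStalk.push_smul j G V c' z).symm
          rw [h3]
          exact Submodule.smul_mem_smul hc' Submodule.mem_top
      | add x _ y _ hx hy =>
        obtain ⟨z, hz, hz'⟩ := hx
        obtain ⟨w, hw, hw'⟩ := hy
        exact ⟨z + w, by rw [map_add, hz, hw], add_mem hz' hw'⟩
    obtain ⟨z, hz, hz'⟩ := key _ ha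
    rwa [← hι hz] at *
  obtain ⟨E, hE⟩ := Groth.L16.Supp.exists_natural j q
  obtain ⟨y, rfl⟩ := (E _).surjective x
  rw [← hE g y, ← hl, hmap_comp, hN, map_zero]

end Groth.L18.OffAffine
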