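import Groth.Prelude.Def_RelSpec

/-!
# Restriction of charts and gluing of morphisms out of a relative spectrum
-/

noncomputable section

namespace Groth.L18.RSGlue

open CategoryTheory CategoryTheory.Limits AlgebraicGeometry TopologicalSpace Opposite

universe u

variable {S : Scheme.{u}} (A : RelSpec.QCAlg S)

theorem map_map {U V W : S.Opens} (i : V ≤ U) (j : W ≤ V) :
    A.presheaf.map (homOfLE i).op ≫ A.presheaf.map (homOfLE j).op = A.presheaf.map (homOfLE (j.trans i)).op := by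
  rw [← Functor.map_comp]
  rfl

theorem range_ι (U : S.Opens) (hU : IsAffineOpen U) : (A.ι U hU).opensRange = A.π ⁻¹ᵁ U :=
  (A.π_preimage U hU).symm

theorem π_mem (U : S.Opens) (hU : IsAffineOpen U) (z : (Spec (A.presheaf.obj (op U)) :)) :
    A.π.base ((A.ι U hU).base z) ∈ U := by
  have h : (A.ι U hU).base z ∈ A.π ⁻¹ᵁ U := by rw [A.π_preimage U hU]; exact ⟨z, rfl⟩
  exact h

theorem exists_ι_eq (U : S.Opens) (hU : IsAffineOpen U) (x : A.spec) (hx : A.π.base x ∈ U) :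
    ∃ z, (A.ι U hU).base z = x := by
  have h : x ∈ (A.ι U hU).opensRange := by rw [← A.π_preimage U hU]; exact hx
  exact h

theorem ι_res_basic {U V : S.Opens} (hU : IsAffineOpen U) (hV : IsAffineOpen V)
    (h : ∃ r : Γ(S, U), S.basicOpen r = V) (i : V ≤ U) :
    Spec.map (A.presheaf.map (homOfLE i).op) ≫ A.ι U hU = A.ι V hV := by
  obtain ⟨r, rfl⟩ := h
  exact A.ι_res (U := ⟨U, hU⟩) (V := ⟨S.basicOpen r, hV⟩) (homOfLE ⟨r, rfl⟩)

/-- Extensionality on an open cover given pointwise by open immersions. -/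
theorem hom_ext_of_range {X Y : Scheme.{u}} (f g : X ⟶ Y)
    (H : ∀ x : X, ∃ (Z : Scheme.{u}) (l : Z ⟶ X) (_ : IsOpenImmersion l),
      x ∈ Set.range l.base ∧ l ≫ f = l ≫ g) : f = g := by
  refine Scheme.hom_ext_of_forall f g fun x => ?_
  obtain ⟨Z, l, _, hx, e⟩ := H x
  refine ⟨l.opensRange, hx, ?_⟩
  rw [← cancel_epi l.isoOpensRange.hom, ← Category.assoc, ← Category.assoc,
    show l.isoOpensRange.hom ≫ l.opensRange.ι = l from by simp]
  exact e

/-- The charts are compatible with restriction along any inclusion of affine opens. -/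
theorem ι_res {U V : S.Opens} (hU : IsAffineOpen U) (hV : IsAffineOpen V) (i : V ≤ U) :
    Spec.map (A.presheaf.map (homOfLE i).op) ≫ A.ι U hU = A.ι V hV := by
  refine hom_ext_of_range _ _ fun z => ?_
  have hxV := π_mem A V hV z
  obtain ⟨f, g, e, hx⟩ := exists_basicOpen_le_affine_inter hV hU _ ⟨hxV, i hxV⟩
  obtain ⟨w, hw⟩ := exists_ι_eq A (S.basicOpen f) (hV.basicOpen f) _ hx
  have e1 := ι_res_basic A hV (hV.basicOpen f) ⟨f, rfl⟩ (S.basicOpen_le f)
  refine ⟨_, Spec.map (A.presheaf.map (homOfLE (S.basicOpen_le f)).op), ?_, ⟨w, ?_⟩, ?_⟩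
  · haveI : IsOpenImmersion (Spec.map (A.presheaf.map (homOfLE (S.basicOpen_le f)).op) ≫ A.ι V hV) := by
      rw [e1]; infer_instance
    exact IsOpenImmersion.of_comp _ (A.ι V hV)
  · refine (A.ι V hV).isOpenEmbedding.injective ?_
    rw [← hw, ← Scheme.Hom.comp_apply, e1]
  · rw [← Category.assoc, ← Spec.map_comp, map_map, e1,
      ι_res_basic A hU (hV.basicOpen f) ⟨g, e.symm⟩ ((S.basicOpen_le f).trans i)]

variable {S' : Scheme.{u}} (q : S' ⟶ S) (B' : RelSpec.QCAlg S')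

/-- Pairs of affine opens `U' ≤ q⁻¹ U`. -/
structure Pair where
  U : S.Opens
  hU : IsAffineOpen U
  U' : S'.Opens
  hU' : IsAffineOpen U'
  hle : U' ≤ q ⁻¹ᵁ U

theorem exists_pair_le (y : S') (U : S.Opens) (U' : S'.Opens) (hy : y ∈ U') (hqy : q.base y ∈ U) :
    ∃ p : Pair q, y ∈ p.U' ∧ p.U ≤ U ∧ p.U' ≤ U' := by
  obtain ⟨_, ⟨V, hV, rfl⟩, hV₁, hV₂⟩ := S.isBasis_affineOpens.exists_subset_of_mem_open hqy U.isOpen
  obtain ⟨_, ⟨V', hV', rfl⟩, hV'₁, hV'₂⟩ := S'.isBasis_affineOpens.exists_subset_of_mem_open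
    (show y ∈ (U' ⊓ q ⁻¹ᵁ V : S'.Opens) from ⟨hy, hV₁⟩) (U' ⊓ q ⁻¹ᵁ V).isOpen
  exact ⟨⟨V, hV, V', hV', fun _ h => (hV'₂ h).2⟩, hV'₁, hV₂, fun _ h => (hV'₂ h).1⟩

/-- The cover of `Spec B'` by the charts over the pairs. -/
def pairCover : Scheme.OpenCover.{u} B'.spec :=
  haveI hcov : ∀ x : B'.spec, ∃ p : Pair q, ∃ z, (B'.ι p.U' p.hU').base z = x := fun x => by
    obtain ⟨p, hp, -, -⟩ := exists_pair_le q (B'.π.base x) ⊤ ⊤ trivial trivial
    exact ⟨p, exists_ι_eq B' p.U' p.hU' x hp⟩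
  { I₀ := Pair q
    X := fun p => Spec (B'.presheaf.obj (op p.U'))
    f := fun p => B'.ι p.U' p.hU'
    mem₀ := by
      rw [Scheme.presieve₀_mem_precoverage_iff]
      exact ⟨fun x => hcov x, fun _ => inferInstance⟩ }

/-- Morphisms out of `Spec B'` are glued from compatible morphisms on the charts over pairs. -/
theorem existsUnique_hom {Y : Scheme.{u}} (g : ∀ p : Pair q, Spec (B'.presheaf.obj (op p.U')) ⟶ Y)
    (hg : ∀ (p p' : Pair q) (_ : p'.U ≤ p.U) (h' : p'.U' ≤ p.U'),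
      Spec.map (B'.presheaf.map (homOfLE h').op) ≫ g p = g p') :
    ∃! v : B'.spec ⟶ Y, ∀ p : Pair q, B'.ι p.U' p.hU' ≫ v = g p := by
  have hcompat : ∀ i j : Pair q,
      pullback.fst (B'.ι i.U' i.hU') (B'.ι j.U' j.hU') ≫ g i =
        pullback.snd (B'.ι i.U' i.hU') (B'.ι j.U' j.hU') ≫ g j := by
    intro i j
    refine hom_ext_of_range _ _ fun z => ?_
    set z₁ := (pullback.fst (B'.ι i.U' i.hU') (B'.ι j.U' j.hU')).base z with hz₁
    set z₂ := (pullback.snd (B'.ι i.U' i.hU') (B'.ι j.U' j.hU')).base z with hz₂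
    have hzz : (B'.ι i.U' i.hU').base z₁ = (B'.ι j.U' j.hU').base z₂ := by
      rw [hz₁, hz₂, ← Scheme.Hom.comp_apply, ← Scheme.Hom.comp_apply, pullback.condition]
    set y := B'.π.base ((B'.ι i.U' i.hU').base z₁) with hy
    have hyi : y ∈ i.U' := π_mem B' i.U' i.hU' z₁
    have hyj : y ∈ j.U' := by rw [hy, hzz]; exact π_mem B' j.U' j.hU' z₂
    obtain ⟨p, hp, hpU, hpU'⟩ := exists_pair_le q y (i.U ⊓ j.U) (i.U' ⊓ j.U') ⟨hyi, hyj⟩ ⟨i.hle hyi, j.hle hyj⟩
    have e1 := ι_res B' i.hU' p.hU' (hpU'.trans inf_le_left)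
    have e2 := ι_res B' j.hU' p.hU' (hpU'.trans inf_le_right)
    let l := pullback.lift (f := B'.ι i.U' i.hU') (g := B'.ι j.U' j.hU')
      (Spec.map (B'.presheaf.map (homOfLE (hpU'.trans inf_le_left)).op))
      (Spec.map (B'.presheaf.map (homOfLE (hpU'.trans inf_le_right)).op)) (e1.trans e2.symm)
    have hl : l ≫ pullback.fst _ _ ≫ B'.ι i.U' i.hU' = B'.ι p.U' p.hU' := by
      rw [pullback.lift_fst_assoc]; exact e1
    obtain ⟨w, hw⟩ := exists_ι_eq B' p.U' p.hU' ((B'.ι i.U' i.hU').base z₁) hp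
    refine ⟨_, l, ?_, ⟨w, ?_⟩, ?_⟩
    · haveI : IsOpenImmersion (l ≫ pullback.fst _ _ ≫ B'.ι i.U' i.hU') := by rw [hl]; infer_instance
      exact IsOpenImmersion.of_comp l (pullback.fst _ _ ≫ B'.ι i.U' i.hU')
    · refine (pullback.fst (B'.ι i.U' i.hU') (B'.ι j.U' j.hU') ≫ B'.ι i.U' i.hU').isOpenEmbedding.injective ?_
      rw [← Scheme.Hom.comp_apply, hl, hw, Scheme.Hom.comp_apply]
    · rw [pullback.lift_fst_assoc, pullback.lift_snd_assoc,
        hg i p (hpU.trans inf_le_left) (hpU'.trans inf_le_left),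
        hg j p (hpU.trans inf_le_right) (hpU'.trans inf_le_right)]
  refine ⟨(pairCover q B').glueMorphisms g hcompat, fun p => (pairCover q B').ι_glueMorphisms g hcompat p,
    fun v hv => (pairCover q B').hom_ext _ _ fun p => ?_⟩
  exact (hv p).trans ((pairCover q B').ι_glueMorphisms g hcompat p).symm

/-- A morphism given on the charts over pairs by a `q`-morphism of algebras lies over `q`. -/
theorem qmap_π (B : RelSpec.QCAlg S) (u : B.presheaf ⟶ q.base _* B'.presheaf)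
    (hu : B.str ≫ u = q.c ≫ (TopCat.Presheaf.pushforward CommRingCat.{u} q.base).map B'.str)
    (w : B'.spec ⟶ B.spec)
    (hw : ∀ (U : S.Opens) (hU : IsAffineOpen U) (U' : S'.Opens) (hU' : IsAffineOpen U') (hle : U' ≤ q ⁻¹ᵁ U),
      B'.ι U' hU' ≫ w =
        Spec.map ((u.app (op U) : B.presheaf.obj (op U) ⟶ B'.presheaf.obj (op (q ⁻¹ᵁ U))) ≫
          B'.presheaf.map (homOfLE hle).op) ≫ B.ι U hU) :
    w ≫ B.π = B'.π ≫ q := by
  refine (pairCover q B').hom_ext _ _ fun p => ?_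
  show B'.ι p.U' p.hU' ≫ w ≫ B.π = B'.ι p.U' p.hU' ≫ B'.π ≫ q
  rw [← Category.assoc, hw p.U p.hU p.U' p.hU' p.hle, Category.assoc, B.ι_π, ← Category.assoc, ← Spec.map_comp]
  refine Eq.trans ?_ ((congrArg (· ≫ q) (B'.ι_π p.U' p.hU')).symm.trans (Category.assoc _ _ _))
  refine Eq.trans ?_ (Category.assoc _ _ _).symm
  rw [← p.hU.SpecMap_appLE_fromSpec q p.hU' p.hle]
  refine Eq.trans ?_ (Category.assoc _ _ _)
  rw [← Spec.map_comp]
  congr 2
  have h1 : B.str.app (op p.U) ≫ (u.app (op p.U) : B.presheaf.obj (op p.U) ⟶ B'.presheaf.obj (op (q ⁻¹ᵁ p.U))) =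
      q.app p.U ≫ B'.str.app (op (q ⁻¹ᵁ p.U)) := NatTrans.congr_app hu (op p.U)
  rw [reassoc_of% h1, Scheme.Hom.appLE, Category.assoc]
  exact congrArg (q.app p.U ≫ ·) (B'.str.naturality (homOfLE p.hle).op).symm

/-- Gluing from morphisms on the charts compatible with basic opens. -/
theorem existsUnique_hom_basic {Y : Scheme.{u}}
    (g : ∀ (U : S.Opens) (_ : IsAffineOpen U), Spec (A.presheaf.obj (op U)) ⟶ Y)
    (hg : ∀ (U : S.Opens) (hU : IsAffineOpen U) (r : Γ(S, U)),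
      Spec.map (A.presheaf.map (homOfLE (S.basicOpen_le r)).op) ≫ g U hU = g (S.basicOpen r) (hU.basicOpen r)) :
    ∃! v : A.spec ⟶ Y, ∀ (U : S.Opens) (hU : IsAffineOpen U), A.ι U hU ≫ v = g U hU := by
  have hg' : ∀ {U V : S.Opens} (hU : IsAffineOpen U) (hV : IsAffineOpen V) (h : V ≤ U),
      Spec.map (A.presheaf.map (homOfLE h).op) ≫ g U hU = g V hV := by
    intro U V hU hV h
    refine hom_ext_of_range _ _ fun z => ?_
    have hxV := π_mem A V hV z
    obtain ⟨f, f', e, hx⟩ := exists_basicOpen_le_affine_inter hV hU _ ⟨hxV, h hxV⟩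
    obtain ⟨w, hw⟩ := exists_ι_eq A (S.basicOpen f) (hV.basicOpen f) _ hx
    have e1 := ι_res_basic A hV (hV.basicOpen f) ⟨f, rfl⟩ (S.basicOpen_le f)
    refine ⟨_, Spec.map (A.presheaf.map (homOfLE (S.basicOpen_le f)).op), ?_, ⟨w, ?_⟩, ?_⟩
    · haveI : IsOpenImmersion (Spec.map (A.presheaf.map (homOfLE (S.basicOpen_le f)).op) ≫ A.ι V hV) := by
        rw [e1]; infer_instance
      exact IsOpenImmersion.of_comp _ (A.ι V hV)
    · refine (A.ι V hV).isOpenEmbedding.injective ?_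
      rw [← hw, ← Scheme.Hom.comp_apply, e1]
    · rw [← Category.assoc, ← Spec.map_comp, map_map, hg V hV f]
      have key : ∀ {W : S.Opens} (hW : IsAffineOpen W) (_ : S.basicOpen f' = W) (i : W ≤ U),
          Spec.map (A.presheaf.map (homOfLE i).op) ≫ g U hU = g W hW := by
        intro W hW eW i
        subst eW
        exact hg U hU f'
      exact key (hV.basicOpen f) e.symm _
  obtain ⟨v, hv, huniq⟩ := existsUnique_hom (𝟙 S) A (fun p => g p.U' p.hU') fun p p' _ h => hg' p.hU' p'.hU' h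
  exact ⟨v, fun U hU => hv ⟨U, hU, U, hU, le_rfl⟩, fun w hw => huniq w fun p => hw p.U' p.hU'⟩

end Groth.L18.RSGlue
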