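import Groth.Agent.L18.ConeAlg
import Groth.Agent.L18.RelSpecGlue
import Groth.Agent.L18.RelProj.Props
import Groth.Agent.L18.RelProj.SchemDense
import Groth.Prelude.Def_RelProj2

/-!
# The canonical immersion `Spec 𝒜 ⟶ Proj 𝒜[z]`
-/

noncomputable section

namespace Groth.L18.PConeImm

open CategoryTheory CategoryTheory.Limits AlgebraicGeometry TopologicalSpace Opposite HomogeneousIdeal
open HomogeneousLocalization
open Groth.L18

universe u

section Generic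

variable {A B σ τ : Type u} [CommRing A] [CommRing B] [SetLike σ A] [AddSubgroupClass σ A]
  [SetLike τ B] [AddSubgroupClass τ B] {𝒜 : ℕ → σ} [GradedRing 𝒜] {ℬ : ℕ → τ} [GradedRing ℬ]
  (φ : 𝒜 →+*ᵍ ℬ)

/-- `A_(s) → B_(w)` for `w = φ s`. -/
def awayMapTo (s : A) (w : B) (h : φ s = w) : Away 𝒜 s →+* Away ℬ w := by
  subst h
  exact Away.map φ s

theorem awayMapTo_val {i : ℕ} (s : A) (w : B) (h : φ s = w) (hs : s ∈ 𝒜 i) (n : ℕ) (a : A) (ha : a ∈ 𝒜 (n • i)) :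
    awayMapTo φ s w h (Away.mk 𝒜 hs n a ha) = Away.mk ℬ (h ▸ φ.2 hs) n (φ a) (φ.2 ha) := by
  subst h
  exact Away.map_mk ..

theorem awayι_map (hφ : ℬ₊ ≤ 𝒜₊.map φ) {i : ℕ} (hi : 0 < i) (s : A) (hs : s ∈ 𝒜 i) (w : B) (hw : w ∈ ℬ i)
    (h : φ s = w) :
    Spec.map (CommRingCat.ofHom (awayMapTo φ s w h)) ≫ Proj.awayι 𝒜 s hs hi =
      Proj.awayι ℬ w hw hi ≫ Proj.map φ hφ := by
  subst h
  exact (Proj.awayι_comp_map φ hφ hi s hs).symm

theorem fromZero_val (S : Submonoid A) (y : 𝒜 0) :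
    (fromZeroRingHom 𝒜 S y).val = Localization.mk (y : A) (1 : S) := by
  simp [fromZeroRingHom, HomogeneousLocalization.val_mk]
  rfl

end Generic

theorem emb_chart {S PC : Scheme.{u}} {Sh : RelProj.QCGrAlg S} (pC : PC ⟶ S)
    (chartC : ∀ (U : S.Opens) (hU : IsAffineOpen U), (((pC ⁻¹ᵁ U : PC.Opens) : Scheme.{u}) ≅ Proj (Sh.deg U hU)))
    (U : S.Opens) (hU : IsAffineOpen U) (y : ((pC ⁻¹ᵁ U : PC.Opens) : Scheme.{u})) :
    (RelProj.emb pC chartC U hU).base ((chartC U hU).hom.base y) = (pC ⁻¹ᵁ U).ι.base y := by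
  show ((chartC U hU).hom ≫ (chartC U hU).inv ≫ (pC ⁻¹ᵁ U).ι).base y = _
  rw [Iso.hom_inv_id_assoc]

theorem emb_apply {S PC : Scheme.{u}} {Sh : RelProj.QCGrAlg S} (pC : PC ⟶ S)
    (chartC : ∀ (U : S.Opens) (hU : IsAffineOpen U), (((pC ⁻¹ᵁ U : PC.Opens) : Scheme.{u}) ≅ Proj (Sh.deg U hU)))
    (U : S.Opens) (hU : IsAffineOpen U) (v : Proj (Sh.deg U hU)) :
    (chartC U hU).hom.base ((chartC U hU).inv.base v) = v := by
  rw [← Scheme.Hom.comp_apply, Iso.inv_hom_id]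
  rfl

variable {S : Scheme.{u}} {𝒜 : RelSpec.QCAlg S}
  {dA : ∀ (U : S.Opens) (_ : IsAffineOpen U), ℕ → AddSubgroup (𝒜.presheaf.obj (op U))}
  [∀ (U : S.Opens) (hU : IsAffineOpen U), GradedRing (dA U hU)]
  {Sh : RelProj.QCGrAlg S}

/-- The data `(𝒜, Sh = 𝒜[z])`. -/
structure Data (ι : 𝒜 ⟶ Sh.toQCAlg) (z : Sh.presheaf.obj (op ⊤))
    (dA : ∀ (U : S.Opens) (_ : IsAffineOpen U), ℕ → AddSubgroup (𝒜.presheaf.obj (op U)))
    [∀ (U : S.Opens) (hU : IsAffineOpen U), GradedRing (dA U hU)]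
    (θ : ∀ (U : S.Opens) (hU : IsAffineOpen U),
      CommRingCat.of (Away (Sh.deg U hU) ((Sh.presheaf.map (homOfLE le_top).op).hom z)) ⟶
        𝒜.presheaf.obj (op U)) : Prop where
  graded : ∀ (U : S.Opens) (hU : IsAffineOpen U) (i : ℕ), ∀ x ∈ dA U hU i,
    (ι.hom.app (op U)).hom x ∈ Sh.deg U hU i
  deg_z : ∀ (U : S.Opens) (hU : IsAffineOpen U), (Sh.presheaf.map (homOfLE le_top).op).hom z ∈ Sh.deg U hU 1
  bij : ∀ (U : S.Opens) (_ : IsAffineOpen U),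
    Function.Bijective (Polynomial.eval₂RingHom (ι.hom.app (op U)).hom ((Sh.presheaf.map (homOfLE le_top).op).hom z))
  res_mem : ∀ (U V : S.Opens) (hU : IsAffineOpen U) (hV : IsAffineOpen V) (h : V ≤ U) (i : ℕ),
    ∀ x ∈ dA U hU i, (𝒜.presheaf.map (homOfLE h).op).hom x ∈ dA V hV i
  str_mem : ∀ (U : S.Opens) (hU : IsAffineOpen U) (r : Γ(S, U)), (𝒜.str.app (op U)).hom r ∈ dA U hU 0
  rule : ∀ (U : S.Opens) (hU : IsAffineOpen U) (i : ℕ) (x : 𝒜.presheaf.obj (op U)) (hx : x ∈ dA U hU i),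
    (θ U hU).hom (ConeAlg.gen (ι.hom.app (op U)).hom (graded U hU) _ (deg_z U hU) i x hx) = x

variable {ι : 𝒜 ⟶ Sh.toQCAlg} {z : Sh.presheaf.obj (op ⊤)}
  {θ : ∀ (U : S.Opens) (hU : IsAffineOpen U),
      CommRingCat.of (Away (Sh.deg U hU) ((Sh.presheaf.map (homOfLE le_top).op).hom z)) ⟶
        𝒜.presheaf.obj (op U)}
  (D : Data ι z dA θ)
  {PC : Scheme.{u}} {pC : PC ⟶ S}
  {chartC : ∀ (U : S.Opens) (hU : IsAffineOpen U), (((pC ⁻¹ᵁ U : PC.Opens) : Scheme.{u}) ≅ Proj (Sh.deg U hU))}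
  (hPC : RelProj.IsRelProj Sh pC chartC)

include D

theorem isIso_θ (U : S.Opens) (hU : IsAffineOpen U) : IsIso (θ U hU) :=
  (ConcreteCategory.isIso_iff_bijective _).mpr
    (ConeAlg.bijective (ι.hom.app (op U)).hom (D.graded U hU) _ (D.deg_z U hU) (D.bij U hU).2
      (θ U hU).hom (D.rule U hU))

theorem map_gen {U V : S.Opens} (hU : IsAffineOpen U) (hV : IsAffineOpen V) (h : V ≤ U)
    (e : Sh.res hU hV h ((Sh.presheaf.map (homOfLE le_top).op).hom z) =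
      (Sh.presheaf.map (homOfLE le_top).op).hom z)
    (q : Away (Sh.deg U hU) ((Sh.presheaf.map (homOfLE le_top).op).hom z)) :
    (θ V hV).hom (awayMapTo (Sh.res hU hV h) _ _ e q) = (𝒜.presheaf.map (homOfLE h).op).hom ((θ U hU).hom q) := by
  refine ConeAlg.hom_ext (ι.hom.app (op U)).hom (D.graded U hU) _ (D.deg_z U hU) (D.bij U hU).2
    ((θ V hV).hom.comp (awayMapTo (Sh.res hU hV h) _ _ e)).toAddMonoidHom
    ((𝒜.presheaf.map (homOfLE h).op).hom.comp (θ U hU).hom).toAddMonoidHom (fun i x hx => ?_) q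
  show (θ V hV).hom (awayMapTo (Sh.res hU hV h) _ _ e (ConeAlg.gen _ _ _ _ i x hx)) =
    (𝒜.presheaf.map (homOfLE h).op).hom ((θ U hU).hom (ConeAlg.gen _ _ _ _ i x hx))
  rw [D.rule U hU i x hx, ConeAlg.gen, awayMapTo_val]
  refine Eq.trans ?_ (D.rule V hV i _ (D.res_mem U V hU hV h i x hx))
  refine congrArg (θ V hV).hom (HomogeneousLocalization.val_injective _ ?_)
  rw [ConeAlg.gen_val, Away.val_mk]
  refine congrArg (fun b => Localization.mk b _) ?_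
  exact (ConcreteCategory.congr_hom (ι.hom.naturality (homOfLE h).op) x).symm

/-- The morphism on a chart. -/
def chartMap (PC : Scheme.{u}) (pC : PC ⟶ S)
    (chartC : ∀ (U : S.Opens) (hU : IsAffineOpen U), (((pC ⁻¹ᵁ U : PC.Opens) : Scheme.{u}) ≅ Proj (Sh.deg U hU)))
    (U : S.Opens) (hU : IsAffineOpen U) : Spec (𝒜.presheaf.obj (op U)) ⟶ PC :=
  Spec.map (θ U hU) ≫ Proj.awayι (Sh.deg U hU) _ (D.deg_z U hU) one_pos ≫ RelProj.emb pC chartC U hU

include hPC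

theorem existsUnique :
    ∃! i : 𝒜.spec ⟶ PC, ∀ (U : S.Opens) (hU : IsAffineOpen U), 𝒜.ι U hU ≫ i = chartMap D PC pC chartC U hU := by
  refine RSGlue.existsUnique_hom_basic 𝒜 (chartMap D PC pC chartC) fun U hU r => ?_
  have e : Sh.res hU (hU.basicOpen r) (S.basicOpen_le r) ((Sh.presheaf.map (homOfLE le_top).op).hom z) =
      (Sh.presheaf.map (homOfLE le_top).op).hom z := by
    rw [RelProj.QCGrAlg.res_apply, ← ConcreteCategory.comp_apply, ← Functor.map_comp]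
    rfl
  rw [chartMap, chartMap, ← RelProj.map_res_emb hPC U hU r,
    ← Category.assoc (Proj.awayι (Sh.deg (S.basicOpen r) (hU.basicOpen r)) _ (D.deg_z _ (hU.basicOpen r)) one_pos),
    ← awayι_map (Sh.res hU (hU.basicOpen r) (S.basicOpen_le r)) (Sh.irrelevant_le_map U hU r) one_pos _
      (D.deg_z U hU) _ (D.deg_z _ (hU.basicOpen r)) e,
    Category.assoc, ← Category.assoc, ← Category.assoc (Spec.map (θ (S.basicOpen r) (hU.basicOpen r))),
    ← Spec.map_comp, ← Spec.map_comp]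
  congr 2
  ext q
  exact (map_gen D hU (hU.basicOpen r) (S.basicOpen_le r) e q).symm

variable {i : 𝒜.spec ⟶ PC}
  (hi : ∀ (U : S.Opens) (hU : IsAffineOpen U), 𝒜.ι U hU ≫ i = chartMap D PC pC chartC U hU)

include hi

theorem comp_base : i ≫ pC = 𝒜.π := by
  refine RSGlue.hom_ext_of_range _ _ fun x => ?_
  obtain ⟨⟨U, hU⟩, hx⟩ := Opens.mem_iSup.mp ((iSup_affineOpens_eq_top S).ge (trivial : 𝒜.π.base x ∈ (⊤ : S.Opens)))
  refine ⟨_, 𝒜.ι U hU, inferInstance, RSGlue.exists_ι_eq 𝒜 U hU x hx, ?_⟩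
  rw [← Category.assoc, hi U hU, chartMap, RelProj.emb, 𝒜.ι_π]
  simp only [Category.assoc]
  rw [RP.chart_ι_comp hPC U hU, RP.projBase_ι, Proj.awayι_toSpecZero_assoc, ← Category.assoc,
    ← Category.assoc, ← Spec.map_comp, ← Spec.map_comp]
  congr 2
  ext r
  refine Eq.trans ?_ (D.rule U hU 0 _ (D.str_mem U hU r))
  refine congrArg (θ U hU).hom (HomogeneousLocalization.val_injective _ ?_)
  rw [ConeAlg.gen_val]
  refine (fromZero_val _ ((Sh.strZero U hU).hom r)).trans ?_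
  refine Localization.mk_eq_mk_iff.mpr (Localization.r_iff_exists.mpr ⟨1, ?_⟩)
  simp only [OneMemClass.coe_one, one_mul, pow_zero]
  exact (ConcreteCategory.congr_hom (NatTrans.congr_app ι.comm (op U)) r).symm

/-- The morphism on a chart, into the piece over `U`. -/
theorem restrict_eq (U : S.Opens) (hU : IsAffineOpen U) :
    ∃ e : Spec (𝒜.presheaf.obj (op U)) ≅ ((i ⁻¹ᵁ (pC ⁻¹ᵁ U) : 𝒜.spec.Opens) : Scheme.{u}),
      e.hom ≫ i ∣_ (pC ⁻¹ᵁ U) =
        Spec.map (θ U hU) ≫ Proj.awayι (Sh.deg U hU) _ (D.deg_z U hU) one_pos ≫ (chartC U hU).inv := by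
  have h : (𝒜.ι U hU).opensRange = i ⁻¹ᵁ (pC ⁻¹ᵁ U) := by
    rw [← Scheme.Hom.comp_preimage, comp_base D hPC hi, 𝒜.π_preimage U hU]
  refine ⟨(𝒜.ι U hU).isoOpensRange ≪≫ 𝒜.spec.isoOfEq h, ?_⟩
  rw [← cancel_mono (pC ⁻¹ᵁ U).ι]
  simp only [Category.assoc, morphismRestrict_ι, Iso.trans_hom, Scheme.isoOfEq_hom_ι_assoc]
  rw [← Category.assoc, show (𝒜.ι U hU).isoOpensRange.hom ≫ (𝒜.ι U hU).opensRange.ι = 𝒜.ι U hU from by simp,
    hi U hU, chartMap, RelProj.emb]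

theorem property_of_chart (Q : MorphismProperty Scheme.{u}) [IsZariskiLocalAtTarget Q]
    (H : ∀ (U : S.Opens) (hU : IsAffineOpen U),
      Q (Spec.map (θ U hU) ≫ Proj.awayι (Sh.deg U hU) _ (D.deg_z U hU) one_pos ≫ (chartC U hU).inv)) : Q i := by
  refine IsZariskiLocalAtTarget.of_iSup_eq_top (P := Q) (fun U : S.affineOpens => pC ⁻¹ᵁ U.1) ?_ fun U => ?_
  · exact top_le_iff.mp fun x _ => by
      obtain ⟨U, hU⟩ := Opens.mem_iSup.mp ((iSup_affineOpens_eq_top S).ge (trivial : pC.base x ∈ (⊤ : S.Opens)))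
      exact Opens.mem_iSup.mpr ⟨U, hU⟩
  · obtain ⟨e, he⟩ := restrict_eq D hPC hi U.1 U.2
    rw [← Q.cancel_left_of_respectsIso e.hom, he]
    exact H U.1 U.2

theorem isOpenImmersion : IsOpenImmersion i :=
  property_of_chart D hPC hi @IsOpenImmersion fun U hU => by
    haveI := isIso_θ D U hU
    infer_instance

theorem isAffineHom : IsAffineHom i := by
  haveI := RP.isSeparated hPC
  haveI : IsAffineHom (i ≫ pC) := by rw [comp_base D hPC hi]; infer_instance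
  exact IsAffineHom.of_comp i pC

theorem isIso_of_basicOpen_eq_top
    (h : ∀ (U : S.Opens) (hU : IsAffineOpen U),
      Proj.basicOpen (Sh.deg U hU) ((Sh.presheaf.map (homOfLE le_top).op).hom z) = ⊤) : IsIso i :=
  property_of_chart D hPC hi (MorphismProperty.isomorphisms Scheme.{u}) fun U hU => by
    haveI := isIso_θ D U hU
    haveI : IsIso (Proj.awayι (Sh.deg U hU) _ (D.deg_z U hU) one_pos) :=
      isIso_of_isOpenImmersion_of_opensRange_eq_top _ ((Proj.opensRange_awayι _ _ _ _).trans (h U hU))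
    show IsIso _
    infer_instance

theorem range_eq (Xz : PC.Opens)
    (hXz : ∀ (U : S.Opens) (hU : IsAffineOpen U),
      Xz ⊓ pC ⁻¹ᵁ U = (pC ⁻¹ᵁ U).ι ''ᵁ ((chartC U hU).hom ⁻¹ᵁ
        Proj.basicOpen (Sh.deg U hU) ((Sh.presheaf.map (homOfLE le_top).op).hom z))) :
    Set.range i.base = (Xz : Set PC) := by
  ext x
  obtain ⟨⟨U, hU⟩, hxU⟩ := Opens.mem_iSup.mp ((iSup_affineOpens_eq_top S).ge (trivial : pC.base x ∈ (⊤ : S.Opens)))
  have hmem : x ∈ Xz ↔ ∃ v, (RelProj.emb pC chartC U hU).base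
      ((Proj.awayι (Sh.deg U hU) _ (D.deg_z U hU) one_pos).base v) = x := by
    have hB := Proj.opensRange_awayι (Sh.deg U hU) _ (D.deg_z U hU) one_pos
    constructor
    · intro hx
      obtain ⟨y, hy, rfl⟩ : x ∈ (pC ⁻¹ᵁ U).ι ''ᵁ ((chartC U hU).hom ⁻¹ᵁ
          Proj.basicOpen (Sh.deg U hU) ((Sh.presheaf.map (homOfLE le_top).op).hom z)) := by
        rw [← hXz U hU]; exact ⟨hx, hxU⟩
      obtain ⟨v, hv⟩ := hB.ge hy
      refine ⟨v, ?_⟩
      rw [hv]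
      exact emb_chart pC chartC U hU y
    · rintro ⟨v, rfl⟩
      have h1 : (RelProj.emb pC chartC U hU).base ((Proj.awayι (Sh.deg U hU) _ (D.deg_z U hU) one_pos).base v) ∈
          (pC ⁻¹ᵁ U).ι ''ᵁ ((chartC U hU).hom ⁻¹ᵁ
            Proj.basicOpen (Sh.deg U hU) ((Sh.presheaf.map (homOfLE le_top).op).hom z)) := by
        refine ⟨(chartC U hU).inv.base ((Proj.awayι (Sh.deg U hU) _ (D.deg_z U hU) one_pos).base v), ?_, rfl⟩
        show (chartC U hU).hom.base ((chartC U hU).inv.base _) ∈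
          Proj.basicOpen (Sh.deg U hU) ((Sh.presheaf.map (homOfLE le_top).op).hom z)
        rw [emb_apply pC chartC U hU]
        exact hB.le ⟨v, rfl⟩
      rw [← hXz U hU] at h1
      exact h1.1
  constructor
  · rintro ⟨y, rfl⟩
    have hy : 𝒜.π.base y ∈ U := by rw [← comp_base D hPC hi, Scheme.Hom.comp_apply]; exact hxU
    obtain ⟨w, rfl⟩ := RSGlue.exists_ι_eq 𝒜 U hU y hy
    refine hmem.mpr ⟨(Spec.map (θ U hU)).base w, ?_⟩
    rw [← Scheme.Hom.comp_apply (𝒜.ι U hU), hi U hU, chartMap]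
    rfl
  · intro hx
    obtain ⟨v, rfl⟩ := hmem.mp hx
    haveI := isIso_θ D U hU
    refine ⟨(𝒜.ι U hU).base ((inv (Spec.map (θ U hU))).base v), ?_⟩
    rw [← Scheme.Hom.comp_apply (𝒜.ι U hU), hi U hU, ← Scheme.Hom.comp_apply, chartMap, IsIso.inv_hom_id_assoc]
    rfl

theorem ker_eq_bot : i.ker = ⊥ := by
  haveI := isAffineHom D hPC hi
  let J := Σ U : S.affineOpens, (Proj (Sh.deg U.1 U.2)).affineOpens
  refine Scheme.IdealSheafData.ext_of_iSup_eq_top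
    (fun k : J => ⟨(RelProj.emb pC chartC k.1.1 k.1.2) ''ᵁ k.2.1, k.2.2.image_of_isOpenImmersion _⟩)
    (top_le_iff.mp fun x _ => ?_) fun k => ?_
  · obtain ⟨U, hxU⟩ := Opens.mem_iSup.mp ((iSup_affineOpens_eq_top S).ge (trivial : pC.base x ∈ (⊤ : S.Opens)))
    obtain ⟨W, hW⟩ := Opens.mem_iSup.mp ((iSup_affineOpens_eq_top (Proj (Sh.deg U.1 U.2))).ge
      (trivial : (chartC U.1 U.2).hom.base ⟨x, hxU⟩ ∈ (⊤ : (Proj (Sh.deg U.1 U.2)).Opens)))
    refine Opens.mem_iSup.mpr ⟨⟨U, W⟩, (chartC U.1 U.2).hom.base ⟨x, hxU⟩, hW, ?_⟩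
    exact emb_chart pC chartC U.1 U.2 ⟨x, hxU⟩
  · obtain ⟨⟨U, hU⟩, W⟩ := k
    rw [Scheme.IdealSheafData.ideal_bot, Pi.bot_apply, _root_.eq_bot_iff]
    have hsq : IsPullback (Spec.map (θ U hU) ≫ Proj.awayι (Sh.deg U hU) _ (D.deg_z U hU) one_pos) (𝒜.ι U hU)
        (RelProj.emb pC chartC U hU) i := by
      refine IsOpenImmersion.isPullback _ _ _ _ ((hi U hU).trans (Category.assoc _ _ _).symm) ?_
      rw [show (RelProj.emb pC chartC U hU).opensRange = pC ⁻¹ᵁ U from ?_, ← Scheme.Hom.comp_preimage,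
        comp_base D hPC hi, 𝒜.π_preimage U hU]
      show ((chartC U hU).inv ≫ (pC ⁻¹ᵁ U).ι).opensRange = _
      rw [Scheme.Hom.opensRange_comp_of_isIso, Scheme.Opens.opensRange_ι]
    haveI := isIso_θ D U hU
    have h0 : (Spec.map (θ U hU) ≫ Proj.awayι (Sh.deg U hU) _ (D.deg_z U hU) one_pos).ker = ⊥ := by
      rw [Scheme.Hom.ker_comp_of_isIso]
      exact RPDense.ker_awayι_eq_bot _ _ (D.deg_z U hU) one_pos
        (ConeAlg.mem_nonZeroDivisors _ _ (D.bij U hU))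
    have h := Scheme.ker_ideal_of_isPullback_of_isOpenImmersion i _ _ _ hsq W
    rw [h0, Scheme.IdealSheafData.ideal_bot, Pi.bot_apply] at h
    intro x hx
    obtain ⟨y, rfl⟩ := (ConcreteCategory.bijective_of_isIso ((RelProj.emb pC chartC U hU).appIso W).inv).2 x
    have hy : y ∈ (⊥ : Ideal _) := h ▸ hx
    rw [Ideal.mem_bot] at hy ⊢
    rw [hy, map_zero]

end Groth.L18.PConeImm

namespace Groth.L18.PConeImm

open CategoryTheory AlgebraicGeometry HomogeneousIdeal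

theorem basicOpen_eq_top_of_trivGrading.{v} {A B τ : Type v} [CommRing A] [CommRing B] [SetLike τ B]
    [AddSubgroupClass τ B] {ℬ : ℕ → τ} [GradedRing ℬ] (ι : A →+* B)
    (hι : ∀ i, ∀ x ∈ ConeAlg.trivGrading A i, ι x ∈ ℬ i) (z : B) (hz : z ∈ ℬ 1)
    (hsurj : Function.Surjective (Polynomial.eval₂RingHom ι z)) : Proj.basicOpen ℬ z = ⊤ := by
  have h : (HomogeneousIdeal.irrelevant ℬ).toIdeal ≤ Ideal.span {z} := by
    classical
    intro b hb
    change b ∈ ℬ₊ at hb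
    rw [HomogeneousIdeal.mem_irrelevant_iff, GradedRing.proj_apply] at hb
    rw [← DirectSum.sum_support_decompose ℬ b]
    refine Ideal.sum_mem _ fun m _ => ?_
    rcases Nat.eq_zero_or_pos m with rfl | hm
    · rw [hb]; exact zero_mem _
    · have hmem := ConeAlg.mem_closure_of_mem ι hι z hz hsurj m (SetLike.coe_mem (DirectSum.decompose ℬ b m))
      refine (AddSubgroup.closure_le (K := (Ideal.span {z}).toAddSubgroup)).mpr ?_ hmem
      rintro _ ⟨i, j, x, hij, hx, rfl⟩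
      show _ ∈ Ideal.span {z}
      rcases Nat.eq_zero_or_pos j with rfl | hj
      · rw [ConeAlg.trivGrading_eq_zero A hx (by omega), map_zero, zero_mul]
        exact zero_mem _
      · exact Ideal.mul_mem_left _ _ (Ideal.pow_mem_of_mem _ (Ideal.mem_span_singleton_self z) j hj)
  have h2 := Proj.iSup_basicOpen_eq_top ℬ (fun _ : PUnit.{1} => z) (h.trans (Ideal.span_mono (by simp)))
  simpa using h2

end Groth.L18.PConeImm
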