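import Groth.Agent.L18.PicLefInj
import Groth.Agent.L02.PicH1.Thick
import Groth.Agent.L26.AV.InterPic
import Groth.Agent.L20.ThickAffine
import Groth.Agent.L12.LineLift.Obstruction
import Groth.Agent.L24.SB.Tower
import Groth.Prelude.Def_Formal2

/-!
# Lifting line bundles along the thickenings of a closed subscheme
-/

set_option autoImplicit false
set_option linter.style.haveILetI false
set_option linter.unusedSectionVars false
set_option backward.isDefEq.respectTransparency false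
set_option backward.isDefEq.respectTransparency.types false
universe u

open CategoryTheory CategoryTheory.Limits AlgebraicGeometry TopologicalSpace

noncomputable section

namespace Groth.L18.PicLefLevels

attribute [local instance] Groth.Agent.AV.InterPic.picLaw

/-- Line bundles lift along a square-zero ideal without second cohomology. -/
theorem surjective_subscheme {X : Scheme.{u}} (J : X.IdealSheafData) (hJ : J * J = ⊥)
    (h2 : Subsingleton (Coh.HH X (ClSub.idealMod J) 2)) : Formal2.PicPullbackSurjective J.subschemeι := by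
  intro L hL
  obtain ⟨-, -, -, δ₁, -, -, -, -, -, hr⟩ :=
    Groth.L02.PicH1.exists_units_sequence J hJ (Groth.Agent.AV.InterPic.pullMul J.subschemeι)
  haveI := h2
  let c : PicLoc.PicSet J.subscheme := ⟨PicF.cl L, L, rfl, hL⟩
  have hc : c ∈ δ₁.ker := MonoidHom.mem_ker.2 (@Subsingleton.elim (Multiplicative (Coh.HH X (ClSub.idealMod J) 2))
    (show Subsingleton (Multiplicative (Coh.HH X (ClSub.idealMod J) 2)) from h2) _ _)
  rw [hr] at hc
  obtain ⟨d, hd⟩ := hc
  obtain ⟨L', hL', hI⟩ := d.2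
  have h := congrArg Subtype.val hd
  change PicF.pullCl J.subschemeι d.1 = PicF.cl L at h
  rw [← hL'] at h
  exact ⟨L', hI, (PicGrp.cl_eq_cl_iff _ _).1 h⟩

/-- Line bundles lift along a square-zero closed immersion without second cohomology. -/
theorem surjective_immersion {Z Z' : Scheme.{u}} (t : Z ⟶ Z') [IsClosedImmersion t]
    (ht : Groth.L12.LineLift.SqZero t)
    (h2 : Subsingleton (Coh.HH Z' (kernel (ClSub.unitToPush t)) 2)) : Formal2.PicPullbackSurjective t := by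
  let J := t.ker
  have hJ : J * J = ⊥ := by
    refine Scheme.IdealSheafData.ext (funext fun U => ?_)
    show J.ideal U * J.ideal U = ⊥
    refine eq_bot_iff.2 (Ideal.mul_le.2 fun a ha b hb => ?_)
    rw [Scheme.Hom.ker_apply] at ha hb
    exact Ideal.mem_bot.2 (ht U.1 a b (RingHom.mem_ker.1 ha) (RingHom.mem_ker.1 hb))
  have hk : t.ker = J.subschemeι.ker := (Scheme.IdealSheafData.ker_subschemeι _).symm
  let l := IsClosedImmersion.lift J.subschemeι t (le_of_eq hk.symm)
  have hl : l ≫ J.subschemeι = t := IsClosedImmersion.lift_fac _ _ _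
  haveI : IsIso l := IsClosedImmersion.isIso_lift _ _ hk.symm
  haveI := Groth.L18.LefExtend.isIso_unitToPush l
  let β : (Scheme.Modules.pushforward J.subschemeι).obj (Coh.structureModule J.subscheme) ≅
      (Scheme.Modules.pushforward t).obj (Coh.structureModule Z) :=
    (Scheme.Modules.pushforward J.subschemeι).mapIso (asIso (ClSub.unitToPush l)) ≪≫
      (Scheme.Modules.pushforwardComp l J.subschemeι).app _ ≪≫ (Scheme.Modules.pushforwardCongr hl).app _
  have hβ : ClSub.toSubscheme J ≫ β.hom = ClSub.unitToPush t :=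
    Groth.L18.LefConnected.unitToPush_comp l J.subschemeι t hl.symm
  let κ : ClSub.idealMod J ≅ kernel (ClSub.unitToPush t) :=
    kernel.mapIso (ClSub.toSubscheme J) (ClSub.unitToPush t) (Iso.refl _) β (by rw [hβ, Iso.refl_hom, Category.id_comp])
  intro L hL
  obtain ⟨L', hL', ⟨e⟩⟩ := surjective_subscheme J hJ (Groth.L22.EnrSev.subsingleton_of_iso κ.symm 2 h2)
    ((Scheme.Modules.pullback (inv l)).obj L) (Groth.L18.Ample.isInvertible_pullback (inv l) hL)
  refine ⟨L', hL', ⟨(Scheme.Modules.pullbackCongr hl.symm).app L' ≪≫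
    ((Scheme.Modules.pullbackComp l J.subschemeι).app L').symm ≪≫ (Scheme.Modules.pullback l).mapIso e ≪≫
    (Scheme.Modules.pullbackComp l (inv l)).app L ≪≫ (Scheme.Modules.pullbackCongr (IsIso.hom_inv_id l)).app L ≪≫
    (Scheme.Modules.pullbackId Z).app L⟩⟩

variable {X : Scheme.{u}} (𝓘 : X.IdealSheafData)

/-- Inclusions of thickenings. -/
abbrev incl {a b : ℕ} (h : a ≤ b) : (𝓘 ^ a).subscheme ⟶ (𝓘 ^ b).subscheme :=
  Scheme.IdealSheafData.inclusion (Groth.L18.PicLefInj.pow_le h)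

theorem incl_comp {a b c : ℕ} (h : a ≤ b) (h' : b ≤ c) : incl 𝓘 h ≫ incl 𝓘 h' = incl 𝓘 (h.trans h') := by
  rw [← cancel_mono (𝓘 ^ c).subschemeι]
  simp [incl]

theorem sqZero_incl (m : ℕ) : Groth.L12.LineLift.SqZero (incl 𝓘 (Nat.le_succ (m + 1))) := fun V a b ha hb => by
  let t := incl 𝓘 (Nat.le_succ (m + 1))
  let P := (𝓘 ^ (m + 1 + 1)).subschemeι
  refine Groth.L20.ThickAffine.sq_zero_of_local t (fun U x hx => ?_) V a b ha hb
  obtain ⟨U₀, hU₀, hU⟩ := P.isEmbedding.isInducing.isOpen_iff.1 U.2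
  obtain ⟨W, hW, hxW, hWU⟩ := exists_isAffineOpen_mem_and_subset (x := P x) (U := (⟨U₀, hU₀⟩ : X.Opens))
    (show x ∈ P ⁻¹' U₀ by rw [hU]; exact hx)
  refine ⟨P ⁻¹ᵁ W, hxW, fun z hz => ?_, fun c d hc hd => ?_⟩
  · exact (Set.ext_iff.1 hU z).1 (hWU hz)
  obtain ⟨c', rfl⟩ := P.app_surjective W hW c
  obtain ⟨d', rfl⟩ := P.app_surjective W hW d
  have key : ∀ z : Γ(X, W), t.app (P ⁻¹ᵁ W) (P.app W z) = 0 → z ∈ (𝓘.ideal ⟨W, hW⟩) ^ (m + 1) := by
    intro z hz
    have h := Scheme.Hom.ker_apply (𝓘 ^ (m + 1)).subschemeι ⟨W, hW⟩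
    rw [Scheme.IdealSheafData.ker_subschemeι, Scheme.IdealSheafData.ideal_pow, Pi.pow_apply] at h
    rw [h, RingHom.mem_ker]
    have hf : t ≫ P = (𝓘 ^ (m + 1)).subschemeι := Scheme.IdealSheafData.inclusion_subschemeι _
    rw [Scheme.Hom.congr_app hf.symm W]
    simp only [Scheme.Hom.comp_app, CommRingCat.comp_apply]
    exact (congrArg _ hz).trans (map_zero _)
  rw [← map_mul]
  have hk := Scheme.Hom.ker_apply P ⟨W, hW⟩
  rw [Scheme.IdealSheafData.ker_subschemeι, Scheme.IdealSheafData.ideal_pow, Pi.pow_apply] at hk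
  refine RingHom.mem_ker.1 (hk.le ?_)
  refine Ideal.pow_le_pow_right (show m + 1 + 1 ≤ (m + 1) + (m + 1) by omega) ?_
  rw [pow_add]
  exact Ideal.mul_mem_mul (key c' hc) (key d' hd)

theorem surjective_level (m : ℕ) (h2 : Subsingleton (Coh.HH X (kernel (Lef.quotMap (Lef.pow_succ_le 𝓘 m))) 2)) :
    Formal2.PicPullbackSurjective (incl 𝓘 (Nat.le_succ (m + 1))) := by
  let t := incl 𝓘 (Nat.le_succ (m + 1))
  let P := (𝓘 ^ (m + 1 + 1)).subschemeι
  haveI : IsClosedImmersion (t ≫ P) := by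
    rw [show t ≫ P = (𝓘 ^ (m + 1)).subschemeι from Scheme.IdealSheafData.inclusion_subschemeι _]
    infer_instance
  haveI : IsClosedImmersion t := IsClosedImmersion.of_comp t P
  refine surjective_immersion t (sqZero_incl 𝓘 m) ?_
  let PP := Scheme.Modules.pushforward P
  haveI : PP.IsRightAdjoint := (Scheme.Modules.pullbackPushforwardAdjunction P).isRightAdjoint
  let c : PP.obj ((Scheme.Modules.pushforward t).obj (Coh.structureModule _)) ≅
      ClSub.quotMod (𝓘 ^ (m + 1)) :=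
    (Scheme.Modules.pushforwardComp t P).app _ ≪≫
      (Scheme.Modules.pushforwardCongr (Scheme.IdealSheafData.inclusion_subschemeι _)).app _
  let β : kernel (Lef.quotMap (Lef.pow_succ_le 𝓘 m)) ≅ PP.obj (kernel (ClSub.unitToPush t)) :=
    kernel.mapIso (Lef.quotMap (Lef.pow_succ_le 𝓘 m)) (PP.map (ClSub.unitToPush t)) (Iso.refl _) c.symm (by
      rw [Iso.refl_hom, Category.id_comp, Iso.symm_hom, Iso.comp_inv_eq]
      rfl) ≪≫ (PreservesKernel.iso PP _).symm
  obtain ⟨e⟩ := Groth.L17.nonempty_HH_push_of_isClosedImmersion P (kernel (ClSub.unitToPush t)) 2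
  exact e.toEquiv.subsingleton_congr.2 (Groth.L22.EnrSev.subsingleton_of_iso β 2 h2)

/-- Restriction between levels. -/
def resIso {a b c : ℕ} (h : a ≤ b) (h' : b ≤ c) (M : (𝓘 ^ c).subscheme.Modules) :
    (Scheme.Modules.pullback (incl 𝓘 h)).obj ((Scheme.Modules.pullback (incl 𝓘 h')).obj M) ≅
      (Scheme.Modules.pullback (incl 𝓘 (h.trans h'))).obj M :=
  (Scheme.Modules.pullbackComp _ _).app M ≪≫ (Scheme.Modules.pullbackCongr (incl_comp 𝓘 h h')).app M

theorem incl_self {a : ℕ} (h : a ≤ a) : incl 𝓘 h = 𝟙 _ := by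
  rw [← cancel_mono (𝓘 ^ a).subschemeι]
  simp [incl]

/-- A line bundle on a thickening extends to a system of line bundles on the completion. -/
theorem exists_system (n : ℕ)
    (h2 : ∀ m, n ≤ m → Subsingleton (Coh.HH X (kernel (Lef.quotMap (Lef.pow_succ_le 𝓘 m))) 2))
    {N : (𝓘 ^ (n + 1)).subscheme.Modules} (hN : PicF.IsInvertible N) :
    ∃ 𝔐 : FSch.ModSys (FSch.completionAlong X 𝓘), (∀ m, PicF.IsInvertible (𝔐.F m)) ∧ Nonempty (𝔐.F n ≅ N) := by
  let Ty := fun j : ℕ => {M : (𝓘 ^ (n + j + 1)).subscheme.Modules //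
    PicF.IsInvertible M ∧ Nonempty ((Scheme.Modules.pullback (incl 𝓘 (show n + 1 ≤ n + j + 1 by omega))).obj M ≅ N)}
  have base : Ty 0 := ⟨N, hN, ⟨(Scheme.Modules.pullbackCongr (incl_self 𝓘 _)).app N ≪≫
    (Scheme.Modules.pullbackId _).app N⟩⟩
  have step : ∀ (j : ℕ) (M : Ty j), ∃ M' : Ty (j + 1),
      Nonempty ((Scheme.Modules.pullback (incl 𝓘 (Nat.le_succ (n + j + 1)))).obj M'.1 ≅ M.1) := by
    intro j M
    obtain ⟨M', hM', ⟨e⟩⟩ := surjective_level 𝓘 (n + j) (h2 (n + j) (Nat.le_add_right n j)) M.1 M.2.1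
    obtain ⟨a⟩ := M.2.2
    exact ⟨⟨M', hM', ⟨(resIso 𝓘 (show n + 1 ≤ n + j + 1 by omega) (Nat.le_succ _) M').symm ≪≫
      (Scheme.Modules.pullback _).mapIso e ≪≫ a⟩⟩, ⟨e⟩⟩
  choose nx hnx using step
  let M : ∀ j, Ty j := fun j => Nat.rec (motive := Ty) base nx j
  let F : ∀ m, (𝓘 ^ (m + 1)).subscheme.Modules := fun m =>
    (Scheme.Modules.pullback (incl 𝓘 (show m + 1 ≤ n + m + 1 by omega))).obj (M m).1
  let ε : ∀ m, (Scheme.Modules.pullback (incl 𝓘 (Nat.le_succ (m + 1)))).obj (F (m + 1)) ≅ F m := fun m =>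
    resIso 𝓘 (Nat.le_succ (m + 1)) _ _ ≪≫
      (resIso 𝓘 (show m + 1 ≤ n + m + 1 by omega) (Nat.le_succ _) _).symm ≪≫
      (Scheme.Modules.pullback (incl 𝓘 (show m + 1 ≤ n + m + 1 by omega))).mapIso (hnx m (M m)).some
  refine ⟨⟨F, ε⟩, fun m => Groth.L18.Ample.isInvertible_pullback _ (M m).2.1, ?_⟩
  exact (M n).2.2

/-- A bundle is invertible after pullback along a map into its rank one locus. -/
theorem isInvertible_pullback_of_rank {U Y : Scheme.{u}} (g : Y ⟶ U) {E : U.Modules}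
    (h : ∀ y : Y, ∃ W : U.Opens, g y ∈ W ∧ Nonempty (E.restrict W.ι ≅ FlatMod.freeMod (W : Scheme.{u}) 1)) :
    PicF.IsInvertible ((Scheme.Modules.pullback g).obj E) := by
  refine Groth.L21.Bundle.isInvertible_of_rank fun y => ?_
  obtain ⟨W, hy, ⟨i⟩⟩ := h y
  exact ⟨g ⁻¹ᵁ W, hy, Groth.L29.LocFree.restrict_pullback g i⟩

/-- The rank one locus contains the image of a map along which the bundle is invertible. -/
theorem rank_one_of_pullback {U Y : Scheme.{u}} (g : Y ⟶ U) {E : U.Modules} (hE : FlatMod.IsFinLocFree E)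
    (h : PicF.IsInvertible ((Scheme.Modules.pullback g).obj E)) (y : Y) :
    ∃ W : U.Opens, g y ∈ W ∧ Nonempty (E.restrict W.ι ≅ FlatMod.freeMod (W : Scheme.{u}) 1) := by
  obtain ⟨W, m, hy, ⟨i⟩⟩ := hE (g y)
  obtain ⟨j⟩ := Groth.L29.LocFree.restrict_pullback g i
  obtain ⟨V, hy', ⟨l⟩⟩ := Groth.L18.KRRAmple.isRankOne_of_isInvertible h y
  obtain rfl : m = 1 := Groth.L18.KRRAmple.rank_unique (E := (Scheme.Modules.pullback g).obj E)
    (x := y) (U := g ⁻¹ᵁ W) (V := V) hy hy' j l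
  exact ⟨W, hy, ⟨i⟩⟩

end Groth.L18.PicLefLevels
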