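import Groth.Agent.L02.PicH1.Thick
import Groth.Agent.L17.ThickBasic
import Groth.Agent.L18.IdealModule
import Groth.Agent.L26.AV.InterPic

/-!
# Powers in the kernel of restriction to a thickening
-/

set_option autoImplicit false
set_option linter.style.haveILetI false
set_option linter.unusedSectionVars false
set_option backward.isDefEq.respectTransparency.types false
set_option backward.isDefEq.respectTransparency false
universe u

open CategoryTheory CategoryTheory.Limits AlgebraicGeometry Opposite TopologicalSpace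
open Groth.L10.UnitsThick Groth.L02.PicH1

noncomputable section

namespace Groth.L18.PicWitt

attribute [local instance] Groth.Agent.AV.InterPic.picLaw

/-- Restriction of classes along any morphism. -/
abbrev res {X Y : Scheme.{u}} (g : X ⟶ Y) : PicLoc.PicSet Y →* PicLoc.PicSet X := Groth.Agent.AV.InterPic.pullPic g

theorem res_congr {X Y : Scheme.{u}} {g g' : X ⟶ Y} (h : g = g') : res g = res g' := by subst h; rfl

theorem res_comp {X Y Z : Scheme.{u}} (g : X ⟶ Y) (g' : Y ⟶ Z) (a : PicLoc.PicSet Z) :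
    res (g ≫ g') a = res g (res g' a) :=
  Subtype.ext (PicLoc.pullCl_comp g g' a.1)

/-- A closed immersion and the inclusion of the subscheme of its kernel kill the same classes. -/
theorem res_eq_one_iff {X Z : Scheme.{u}} (i : Z ⟶ X) [IsClosedImmersion i] (J : X.IdealSheafData) (hi : i.ker = J)
    (a : PicLoc.PicSet X) : res i a = 1 ↔ res J.subschemeι a = 1 := by
  have hk : J.subschemeι.ker = i.ker := (Scheme.IdealSheafData.ker_subschemeι J).trans hi.symm
  haveI := IsClosedImmersion.isIso_lift _ _ hk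
  let ℓ := IsClosedImmersion.lift J.subschemeι i hk.le
  have e : ℓ ≫ J.subschemeι = i := IsClosedImmersion.lift_fac _ _ _
  constructor
  · intro h
    have e' : inv ℓ ≫ i = J.subschemeι := (IsIso.inv_comp_eq ℓ).2 e.symm
    rw [← res_congr e', res_comp, h, map_one]
  · intro h
    rw [← res_congr e, res_comp, h, map_one]

variable {X : Scheme.{u}}

/-- Surjectivity of restriction to a square-zero thickening without second cohomology. -/
theorem res_surjective {Z : Scheme.{u}} (i : Z ⟶ X) [IsClosedImmersion i] (hJ : i.ker * i.ker = ⊥)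
    (h2 : Subsingleton (Coh.HH X (ClSub.idealMod i.ker) 2)) : Function.Surjective (res i) := by
  intro q
  let J := i.ker
  have hk : J.subschemeι.ker = i.ker := Scheme.IdealSheafData.ker_subschemeι J
  haveI := IsClosedImmersion.isIso_lift _ _ hk
  let ℓ := IsClosedImmersion.lift J.subschemeι i hk.le
  obtain ⟨ε, d₀, α, d₁, -, -, -, -, -, h⟩ :=
    exists_units_sequence (X := X) J hJ (Groth.Agent.AV.InterPic.pullMul J.subschemeι)
  haveI : Subsingleton (Coh.HH X (ClSub.idealMod J) 2) := h2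
  have hq : res (inv ℓ) q ∈ d₁.ker := Subsingleton.elim _ _
  rw [h] at hq
  obtain ⟨p, hp⟩ := hq
  refine ⟨p, ?_⟩
  have e : ℓ ≫ J.subschemeι = i := IsClosedImmersion.lift_fac _ _ _
  rw [← res_congr e, res_comp,
    show res J.subschemeι p = res (inv ℓ) q from hp, ← res_comp, res_congr (IsIso.hom_inv_id ℓ)]
  exact Subtype.ext (by
    obtain ⟨L, hL, rfl⟩ := PicGrp.exists_eq_cls q
    exact (PicGrp.cl_eq_cl_iff _ _).2 ⟨(Scheme.Modules.pullbackId Z).app L⟩)

/-- Killed classes correspond to killed cohomology classes, for a fixed comparison. -/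
theorem ker_iff (J : X.IdealSheafData) (hJ : J * J = ⊥) {I Q : CohTop.Ab X.toTopCat}
    {f' : UnitsSh.unitsAb X ⟶ I} {g' : I ⟶ Q} {w' : f' ≫ g' = 0} [Injective I]
    (hS' : (ShortComplex.mk f' g' w').ShortExact)
    (e' : Additive (PicLoc.PicSet X) ≃+ CohTop.H (UnitsSh.unitsAb X) 1)
    (he' : ∀ (L : X.Modules) (hL : PicF.IsInvertible L) (t : Q.obj.obj (op ⊤)),
      Assoc f' g' t L → e' (Additive.ofMul (PicGrp.cls L hL)) = δ₀ hS' t) (p : PicLoc.PicSet X) :
    res J.subschemeι p = 1 ↔ Sheaf.H.map (UnitsSh.comap J.subschemeι) 1 (e' (Additive.ofMul p)) = 0 := by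
  let i := J.subschemeι
  obtain ⟨P⟩ := (inferInstance : EnoughInjectives (CohTop.Ab J.subscheme.toTopCat)).presentation
    (UnitsSh.unitsAb J.subscheme)
  haveI := P.injective
  haveI := P.mono
  have hS : (ShortComplex.mk P.f (cokernel.π P.f) (cokernel.condition _)).ShortExact :=
    { exact := ShortComplex.exact_cokernel _ }
  haveI : Injective ((CohTop.push i.base).obj P.J) := Groth.L10.TopCoh.push_injective i.base P.J
  haveI := hS'.mono_f
  haveI := hS'.epi_g
  let φ₂ : I ⟶ (CohTop.push i.base).obj P.J :=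
    Injective.factorThru (UnitsSh.comap i ≫ (CohTop.push i.base).map P.f) f'
  have h₁ : UnitsSh.comap i ≫ (CohTop.push i.base).map P.f = f' ≫ φ₂ := (Injective.comp_factorThru _ _).symm
  have hz : f' ≫ φ₂ ≫ (CohTop.push i.base).map (cokernel.π P.f) = 0 := by
    rw [← Category.assoc, ← h₁, Category.assoc, ← Functor.map_comp, cokernel.condition, Functor.map_zero,
      comp_zero]
  let φ₃ : Q ⟶ (CohTop.push i.base).obj (cokernel P.f) := hS'.exact.desc (φ₂ ≫ (CohTop.push i.base).map (cokernel.π P.f)) hz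
  have h₂ : φ₂ ≫ (CohTop.push i.base).map (cokernel.π P.f) = g' ≫ φ₃ := (hS'.exact.g_desc _ _).symm
  have hP := shortExact_push i.base i.isClosedEmbedding.isInducing (surjective_subschemeι J hJ) hS
  let δ : (cokernel P.f).obj.obj (op ⊤) →+ CohTop.H ((CohTop.push i.base).obj (UnitsSh.unitsAb J.subscheme)) 1 :=
    δ₀ hP
  obtain ⟨e, he⟩ := exists_addEquiv_pic hS δ (δ₀_eq_zero_iff hP) (exists_δ₀ hP)
  have key : e (Additive.ofMul (res i p)) = Sheaf.H.map (UnitsSh.comap i) 1 (e' (Additive.ofMul p)) := by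
    obtain ⟨L, hL, rfl⟩ := PicGrp.exists_eq_cls p
    obtain ⟨t, ht⟩ := exists_assoc_section (f := f') (g := g') (w := w') L hL
    have hpull : res i (PicGrp.cls L hL) =
        PicGrp.cls ((Scheme.Modules.pullback i).obj L) (PicLoc.isInvertible_pullback i hL) := Subtype.ext rfl
    rw [hpull, he _ _ _ (assoc_pull i φ₂ φ₃ h₁ h₂ ht), he' L hL t ht]
    exact (δ₀_naturality hS' hP (UnitsSh.comap i) φ₂ φ₃ h₁ h₂ t).symm
  rw [← key]
  exact ofMul_eq_zero.symm.trans e.map_eq_zero_iff.symm

theorem H_map_nsmul {F G : CohTop.Ab X.toTopCat} (f : F ⟶ G) (k : ℕ) {n : ℕ} (x : CohTop.H F n) :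
    Sheaf.H.map (k • f) n x = k • Sheaf.H.map f n x := by
  induction k with
  | zero => simp [Sheaf.H.map_apply]
  | succ k ih => rw [succ_nsmul, succ_nsmul, Sheaf.H.map_add_apply, ih]

/-- If `J' = p J` and there is no second cohomology, classes killed on `V(J')` are `p`-th powers of classes
killed on `V(J)`. -/
theorem exists_pow_of_killed (p : ℕ) (J J' : X.IdealSheafData) (hJ : J * J = ⊥) (hJ' : J' * J' = ⊥)
    (hmul : ∀ U : X.affineOpens, J'.ideal U = Ideal.span {(p : Γ(X, U.1))} * J.ideal U)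
    (h2 : ∀ F : CohTop.Ab X.toTopCat, Subsingleton (CohTop.H F 2))
    (a : PicLoc.PicSet X) (ha : res J'.subschemeι a = 1) :
    ∃ b : PicLoc.PicSet X, res J.subschemeι b = 1 ∧ b ^ p = a := by
  obtain ⟨P'⟩ := (inferInstance : EnoughInjectives (CohTop.Ab X.toTopCat)).presentation (UnitsSh.unitsAb X)
  haveI := P'.injective
  haveI := P'.mono
  have hS' : (ShortComplex.mk P'.f (cokernel.π P'.f) (cokernel.condition _)).ShortExact :=
    { exact := ShortComplex.exact_cokernel _ }
  obtain ⟨e', he'⟩ := exists_addEquiv_pic hS' (δ₀ hS') (δ₀_eq_zero_iff hS') (exists_δ₀ hS')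
  let hT := shortExact_oneAddHom J hJ
  let hT' := shortExact_oneAddHom J' hJ'
  have hunit : ∀ (k : ℕ) (V : X.Opens) (m : (ClSub.idealMod J).val.obj (op V)),
      (oneAdd J hJ V m ^ k : Γ(X, V)ˣ).val = 1 + (k : Γ(X, V)) * io J V m := by
    intro k V m
    have hsq : io J V m * io J V m = 0 := io_mul_io J hJ V m m
    show (1 + io J V m) ^ k = _
    induction k with
    | zero => simp
    | succ k ih => rw [pow_succ, ih]; push_cast; linear_combination (k : Γ(X, V)) * hsq
  have hval : ∀ (k : ℕ) (V : X.Opens) (m : (ClSub.idealMod J).val.obj (op V)),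
      (k • oneAddHom J hJ).hom.app (op V) m =
        UnitsSh.sectOfUnit (X := X.toTopCat) (O := X.sheaf.obj) (oneAdd J hJ V m ^ k) := by
    intro k V m
    induction k with
    | zero => simp; rfl
    | succ k ih =>
      rw [succ_nsmul, pow_succ]
      show ((k • oneAddHom J hJ).hom.app (op V) m) + (oneAddHom J hJ).hom.app (op V) m = _
      rw [ih]
      rfl
  have hzero : ((p : ℕ) • oneAddHom J hJ) ≫ UnitsSh.comap J'.subschemeι = 0 := by
    ext V (m : (ClSub.idealMod J).val.obj (op V.unop))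
    refine (congrArg ((UnitsSh.comap J'.subschemeι).hom.app V) (hval p V.unop m)).trans ?_
    refine congrArg (UnitsSh.sectOfUnit (X := X.toTopCat) (O := J'.subschemeι.base _* J'.subscheme.presheaf)) (Units.ext ?_ :
      Units.map (J'.subschemeι.app V.unop).hom.toMonoidHom (oneAdd J hJ V.unop m ^ p) = 1)
    show J'.subschemeι.app V.unop (oneAdd J hJ V.unop m ^ p : Γ(X, V.unop)ˣ).val = 1
    rw [hunit, map_add, map_one, add_eq_left]
    refine eq_of_locally (F := (CohTop.push J'.subschemeι.base).obj (Coh.toAb (Coh.structureModule J'.subscheme)))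
      (V := V.unop) (s := J'.subschemeι.app V.unop ((p : Γ(X, V.unop)) * io J V.unop m)) (t := 0) fun x hx => ?_
    obtain ⟨W, hW, hxW, ⟨i⟩⟩ := exists_affine hx
    refine ⟨W, hxW, i, ?_⟩
    show J'.subscheme.presheaf.map _ (J'.subschemeι.app V.unop _) = J'.subscheme.presheaf.map _ 0
    rw [map_zero]
    refine (app_rf J'.subschemeι i _).symm.trans ?_
    rw [← RingHom.mem_ker, J'.ker_subschemeι_app ⟨W, hW⟩, hmul ⟨W, hW⟩]
    show X.presheaf.map i.op ((p : Γ(X, V.unop)) * io J V.unop m) ∈ _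
    rw [map_mul, map_natCast]
    refine Ideal.mul_mem_mul (Ideal.subset_span rfl) ?_
    rw [← J.ker_subschemeι_app ⟨W, hW⟩, RingHom.mem_ker]
    exact (app_rf J.subschemeι i _).trans (by rw [app_io, map_zero])
  haveI := hT'.mono_f
  let φ : Coh.toAb (ClSub.idealMod J) ⟶ Coh.toAb (ClSub.idealMod J') := hT'.exact.lift _ hzero
  have hφ : φ ≫ oneAddHom J' hJ' = (p : ℕ) • oneAddHom J hJ := hT'.exact.lift_f _ hzero
  haveI : Epi φ := by
    refine epi_of_local_lift _ fun V s x hx => ?_
    obtain ⟨W, hW, hxW, ⟨i⟩⟩ := exists_affine hx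
    let s' : (ClSub.idealMod J').val.obj (op W) := (ClSub.idealMod J').val.map i.op s
    have hs : io J' W s' ∈ J'.ideal ⟨W, hW⟩ := by
      rw [← J'.ker_subschemeι_app ⟨W, hW⟩]
      exact RingHom.mem_ker.2 (app_io J' W s')
    rw [hmul ⟨W, hW⟩, Ideal.mem_span_singleton_mul] at hs
    obtain ⟨c, hc, hpc⟩ := hs
    rw [← J.ker_subschemeι_app ⟨W, hW⟩] at hc
    obtain ⟨m, hm⟩ := ((Groth.L18.IdealModule.exact_sections J W).2 c).1 (RingHom.mem_ker.1 hc)
    refine ⟨W, hxW, i, m, ?_⟩
    apply app_injective hT'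
    refine (ConcreteCategory.congr_hom (congrArg (fun k => k.hom.app (op W)) hφ) m).trans ?_
    refine (hval p W m).trans (congrArg (UnitsSh.sectOfUnit (X := X.toTopCat) (O := X.sheaf.obj)) (Units.ext ?_ :
      oneAdd J hJ W m ^ p = oneAdd J' hJ' W s'))
    rw [hunit]
    show 1 + (p : Γ(X, W)) * io J W m = 1 + io J' W s'
    rw [show io J W m = c from hm, hpc]
  have hK : (ShortComplex.mk (kernel.ι φ) φ (kernel.condition φ)).ShortExact :=
    { exact := ShortComplex.exact_kernel φ }
  have ha' := (ker_iff J' hJ' hS' e' he' a).1 ha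
  obtain ⟨x, hx⟩ := (map_g_eq_zero_iff hT' 1 _).1 ha'
  obtain ⟨y, hy⟩ := (δn_eq_zero_iff hK 1 x).1 (Subsingleton.elim (h := h2 _) _ _)
  refine ⟨(e'.symm (Sheaf.H.map (oneAddHom J hJ) 1 y)).toMul, ?_, ?_⟩
  · refine (ker_iff J hJ hS' e' he' _).2 ?_
    rw [ofMul_toMul, AddEquiv.apply_symm_apply]
    exact (map_g_eq_zero_iff hT 1 _).2 ⟨y, rfl⟩
  · refine Additive.ofMul.injective (e'.injective ?_)
    rw [ofMul_pow, ofMul_toMul, map_nsmul, AddEquiv.apply_symm_apply, ← hx, ← hy]
    have h1 : Sheaf.H.map (oneAddHom J' hJ') 1 (Sheaf.H.map φ 1 y) = Sheaf.H.map ((p : ℕ) • oneAddHom J hJ) 1 y := by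
      rw [← hφ]
      exact (Sheaf.H.map_comp_apply _ _ _).symm
    refine Eq.trans ?_ h1.symm
    exact (H_map_nsmul (oneAddHom J hJ) p y).symm

end Groth.L18.PicWitt
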