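import Groth.Agent.L18.PicWittPower
import Groth.Agent.L18.PicWittInj
import Groth.Agent.L18.AlgebraizeH2
import Groth.Agent.L22.GV.Sober

/-!
# Picard groups of the thickenings of a relative curve
-/

set_option autoImplicit false
set_option linter.style.haveILetI false
set_option linter.unusedSectionVars false
set_option backward.isDefEq.respectTransparency.types false
set_option backward.isDefEq.respectTransparency false
universe u

open CategoryTheory CategoryTheory.Limits AlgebraicGeometry Opposite TopologicalSpace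

noncomputable section

namespace Groth.L18.PicWitt

attribute [local instance] Groth.Agent.AV.InterPic.picLaw

/-- A compatible family through a given element of a tower of surjections. -/
theorem exists_family : ∀ (n : ℕ) (G : ℕ → Type (u + 1)) (t : ∀ k, G (k + 1) → G k),
    (∀ k, Function.Surjective (t k)) → ∀ y : G n, ∃ c : ∀ k, G k, (∀ k, t k (c (k + 1)) = c k) ∧ c n = y
  | 0, G, t, ht, y => by
    choose up hup using ht
    exact ⟨fun k => k.rec y fun j x => up j x, fun k => hup k _, rfl⟩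
  | n + 1, G, t, ht, y => by
    obtain ⟨c, hc, hcn⟩ := exists_family n (fun k => G (k + 1)) (fun k => t (k + 1)) (fun k => ht (k + 1)) y
    refine ⟨fun k => match k with | 0 => t 0 (c 0) | j + 1 => c j, fun k => ?_, hcn⟩
    cases k with
    | zero => rfl
    | succ j => exact hc j

variable {A : Type u} [CommRing A]

theorem isClosedImmersion_thickι {X : Scheme.{u}} (f : X ⟶ Spec (CommRingCat.of A)) (I : Ideal A) (n : ℕ) :
    IsClosedImmersion (CohB1.thickι f I n) := by
  haveI := Groth.L16.Exist.Adic.isClosedImmersion_specQuot I n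
  exact inferInstanceAs (IsClosedImmersion (pullback.fst f (CohB1.specQuot I n)))

theorem thickTrans_ι {X : Scheme.{u}} (f : X ⟶ Spec (CommRingCat.of A)) (I : Ideal A) (n : ℕ) :
    CohB1.thickTrans f I n ≫ CohB1.thickι f I (n + 1) = CohB1.thickι f I n :=
  (pullback.lift_fst _ _ _).trans (Category.comp_id _)

theorem cart_thick {X : Scheme.{u}} (f : X ⟶ Spec (CommRingCat.of A)) (I : Ideal A) {n k : ℕ}
    (e : CohB1.thick f I n ⟶ CohB1.thick f I k) (he : e ≫ CohB1.thickι f I k = CohB1.thickι f I n) :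
    IsPullback e (CohB1.thickToBase f I n) (CohB1.thickι f I k ≫ f) (CohB1.specQuot I n) := by
  haveI := isClosedImmersion_thickι f I k
  refine IsPullback.of_isLimit' ⟨by rw [reassoc_of% he]; exact pullback.condition⟩
    (PullbackCone.IsLimit.mk _ (fun s => pullback.lift (s.fst ≫ CohB1.thickι f I k) s.snd
      (by rw [Category.assoc]; exact s.condition)) (fun s => ?_) (fun s => pullback.lift_snd _ _ _) fun s m h1 h2 => ?_)
  · rw [← cancel_mono (CohB1.thickι f I k), Category.assoc, he]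
    exact pullback.lift_fst _ _ _
  · refine pullback.hom_ext ?_ (h2.trans (pullback.lift_snd _ _ _).symm)
    rw [pullback.lift_fst, ← h1, Category.assoc, he]

variable (p : ℕ)

local notation "II" => (Ideal.span {(p : A)} : Ideal A)

/-- The ideal of a lower thickening in a higher one is generated by a power of `p`. -/
theorem ker_ideal_eq {X : Scheme.{u}} (f : X ⟶ Spec (CommRingCat.of A)) {n k : ℕ}
    (e : CohB1.thick f II n ⟶ CohB1.thick f II k) (he : e ≫ CohB1.thickι f II k = CohB1.thickι f II n)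
    (U : (CohB1.thick f II k).affineOpens) :
    e.ker.ideal U = Ideal.span {(p : Γ(CohB1.thick f II k, U.1)) ^ (n + 1)} := by
  haveI := Groth.L16.Exist.Adic.isClosedImmersion_specQuot II n
  rw [Groth.L17.Thick.ker_of_isPullback (cart_thick f II e he), Groth.L18.AlgebraizeH2.ker_specQuot,
    ← Groth.L18.AlgebraizeH2.idealSpec_pow,
    Groth.L22.Ideals.comap_ideal (CohB1.thickι f II k ≫ f) _ ⟨⊤, isAffineOpen_top _⟩ U
      (le_of_le_of_eq le_top (Scheme.Hom.preimage_top _).symm),
    Groth.L17.FSheaf.idealSpec_ideal_top, Ideal.span_singleton_pow, Ideal.map_span, Ideal.map_span,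
    Set.image_singleton, Set.image_singleton, map_pow, map_pow, map_natCast, map_natCast]

theorem natCast_pow_eq_zero {X : Scheme.{u}} (f : X ⟶ Spec (CommRingCat.of A)) (k : ℕ)
    (U : (CohB1.thick f II k).Opens) : (p : Γ(CohB1.thick f II k, U)) ^ (k + 1) = 0 := by
  have h0 : (p : A ⧸ II ^ (k + 1)) ^ (k + 1) = 0 := by
    rw [← map_natCast (Ideal.Quotient.mk (II ^ (k + 1))), ← map_pow, Ideal.Quotient.eq_zero_iff_mem]
    exact Ideal.pow_mem_pow (Ideal.mem_span_singleton_self (p : A)) _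
  let φ : A ⧸ II ^ (k + 1) →+* Γ(CohB1.thick f II k, U) :=
    ((CohB1.thickToBase f II k).appLE ⊤ U (le_of_le_of_eq le_top (Scheme.Hom.preimage_top _).symm)).hom.comp
      (Scheme.ΓSpecIso (CommRingCat.of (A ⧸ II ^ (k + 1)))).inv.hom
  have h1 := congrArg φ h0
  rwa [map_pow, map_natCast, map_zero] at h1

theorem ker_sq {X : Scheme.{u}} (f : X ⟶ Spec (CommRingCat.of A)) {n k : ℕ} (hk : k + 1 ≤ (n + 1) + (n + 1))
    (e : CohB1.thick f II n ⟶ CohB1.thick f II k) (he : e ≫ CohB1.thickι f II k = CohB1.thickι f II n) :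
    e.ker * e.ker = ⊥ := by
  refine Scheme.IdealSheafData.ext (funext fun U => ?_)
  show e.ker.ideal U * e.ker.ideal U = _
  rw [ker_ideal_eq p f e he, Ideal.span_singleton_mul_span_singleton, ← pow_add]
  obtain ⟨d, hd⟩ := Nat.exists_eq_add_of_le hk
  rw [hd, pow_add, natCast_pow_eq_zero, zero_mul, Ideal.span_singleton_zero]
  rfl

/-- No second cohomology on the thickenings of a relative curve. -/
theorem subsingleton_H2 [IsNoetherianRing A] {X : Scheme.{u}} (f : X ⟶ Spec (CommRingCat.of A)) [IsProper f]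
    (hd : topologicalKrullDim (CohB1.thick f II 0) ≤ 1) (k : ℕ)
    (F : CohTop.Ab (CohB1.thick f II k).toTopCat) : Subsingleton (CohTop.H F 2) := by
  haveI : IsLocallyNoetherian X := LocallyOfFiniteType.isLocallyNoetherian f
  haveI : CompactSpace X := QuasiCompact.compactSpace_of_compactSpace f
  haveI := isClosedImmersion_thickι f II k
  haveI : IsLocallyNoetherian (CohB1.thick f II k) := LocallyOfFiniteType.isLocallyNoetherian (CohB1.thickι f II k)
  haveI : CompactSpace (CohB1.thick f II k) := QuasiCompact.compactSpace_of_compactSpace (CohB1.thickι f II k)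
  haveI : AlgebraicGeometry.IsNoetherian (CohB1.thick f II k) := {}
  haveI := isClosedImmersion_thickι f II 0
  have hr : ∀ j, Set.range (CohB1.thickι f II j) = f.base ⁻¹' (PrimeSpectrum.zeroLocus (II : Set A)) := fun j => by
    show Set.range (pullback.fst f (CohB1.specQuot II j)) = _
    rw [Scheme.Pullback.range_fst,
      show Set.range (CohB1.specQuot II j) = Set.range (PrimeSpectrum.comap (Ideal.Quotient.mk (II ^ (j + 1)))) from rfl,
      range_comap_of_surjective _ _ Ideal.Quotient.mk_surjective, Ideal.mk_ker,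
      PrimeSpectrum.zeroLocus_pow II (Nat.succ_ne_zero j)]
  have e0 := (CohB1.thickι f II 0).isClosedEmbedding.isEmbedding.toHomeomorph
  have ek := (CohB1.thickι f II k).isClosedEmbedding.isEmbedding.toHomeomorph
  let h : (CohB1.thick f II k) ≃ₜ (CohB1.thick f II 0) :=
    (ek.trans (Homeomorph.setCongr ((hr k).trans (hr 0).symm))).trans e0.symm
  refine Groth.L22.GV.subsingleton_H' (d := 1) ?_ F 2 (by norm_num)
  have he : topologicalKrullDim (CohB1.thick f II k).toTopCat = topologicalKrullDim (CohB1.thick f II 0).toTopCat :=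
    IsHomeomorph.topologicalKrullDim_eq h h.isHomeomorph
  rw [he]
  exact_mod_cast hd

variable [IsNoetherianRing A] [IsAdicComplete (Ideal.span {(p : A)}) A] {X : Scheme.{u}} (f : X ⟶ Spec (CommRingCat.of A))
  [IsProper f] (hd : topologicalKrullDim (CohB1.thick f (Ideal.span {(p : A)}) 0) ≤ 1)

local notation "ιₙ" => CohB1.thickι f (Ideal.span {(p : A)})
local notation "tₙ" => CohB1.thickTrans f (Ideal.span {(p : A)})

theorem res_trans (n : ℕ) (a : PicLoc.PicSet X) : res (tₙ n) (res (ιₙ (n + 1)) a) = res (ιₙ n) a := by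
  rw [← res_comp, res_congr (thickTrans_ι f _ n)]

include hd in
theorem surjective_trans (n : ℕ) : Function.Surjective (res (tₙ n)) := by
  haveI := isClosedImmersion_thickι f (Ideal.span {(p : A)}) n
  haveI : IsClosedImmersion (tₙ n ≫ ιₙ (n + 1)) := by rw [thickTrans_ι]; infer_instance
  haveI := isClosedImmersion_thickι f (Ideal.span {(p : A)}) (n + 1)
  haveI : IsClosedImmersion (tₙ n) := IsClosedImmersion.of_comp (tₙ n) (ιₙ (n + 1))
  exact res_surjective (tₙ n) (ker_sq p f (by omega) _ (thickTrans_ι f _ n)) (subsingleton_H2 p f hd (n + 1) _)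

/-- Compatible families of classes on the thickenings come from the scheme. -/
theorem exists_of_family (c : ∀ k, PicLoc.PicSet (CohB1.thick f (Ideal.span {(p : A)}) k))
    (hc : ∀ k, res (tₙ k) (c (k + 1)) = c k) : ∃ a : PicLoc.PicSet X, ∀ k, res (ιₙ k) a = c k := by
  letI : X.Over (Spec (CommRingCat.of A)) := ⟨f⟩
  haveI : IsProper (X ↘ Spec (CommRingCat.of A)) := ‹IsProper f›
  letI : ∀ k, (CohB1.thick f (Ideal.span {(p : A)}) k).Over (Spec (CommRingCat.of A)) := fun k => ⟨ιₙ k ≫ f⟩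
  have S : Groth.L16.Exist.Adic.IsSys (Ideal.span {(p : A)}) (fun k => CohB1.thick f (Ideal.span {(p : A)}) k)
      (fun k => CohB1.thickToBase f _ k) (fun k => tₙ k) :=
    { base := fun k => pullback.condition.symm
      cart := fun k => cart_thick f _ (tₙ k) (thickTrans_ι f _ k) }
  choose L hLc hL using fun k => (c k).2
  have hφ : ∀ k, Nonempty ((Scheme.Modules.pullback (tₙ k)).obj (L (k + 1)) ≅ L k) := fun k => by
    refine (PicGrp.cl_eq_cl_iff _ _).1 ?_
    show PicF.pullCl (tₙ k) (PicF.cl (L (k + 1))) = _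
    rw [hLc, hLc]
    exact congrArg Subtype.val (hc k)
  obtain ⟨M, hM, hMk⟩ := Groth.L16.Exist.Adic.exists_line_algebraization S (fun k => ιₙ k)
    (isClosedImmersion_thickι f _) (fun k => (thickTrans_ι f _ k).symm)
    (fun k => IsPullback.of_hasPullback f (CohB1.specQuot _ k)) L hL (fun k => (hφ k).some)
  refine ⟨⟨PicF.cl M, M, rfl, hM⟩, fun k => Subtype.ext ?_⟩
  show PicF.cl ((Scheme.Modules.pullback (ιₙ k)).obj M) = _
  rw [← hLc k]
  exact (PicGrp.cl_eq_cl_iff _ _).2 (hMk k)

/-- A class trivial on all thickenings is trivial. -/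
theorem eq_one_of_forall (a : PicLoc.PicSet X) (h : ∀ k, res (ιₙ k) a = 1) : a = 1 := by
  obtain ⟨M, hM, rfl⟩ := PicGrp.exists_eq_cls a
  refine (PicGrp.cls_eq_one_iff hM).2 ?_
  refine nonempty_iso_unit_of_levels (Ideal.span {(p : A)}) f M hM fun k => ?_
  exact (PicGrp.cls_eq_one_iff (PicLoc.isInvertible_pullback _ hM)).1 ((Subtype.ext rfl : _ = res (ιₙ k) _).trans (h k))

include hd in
theorem surjective_res (n : ℕ) : Function.Surjective (res (ιₙ n)) := fun y => by
  obtain ⟨c, hc, hcn⟩ := exists_family n (fun k => PicLoc.PicSet (CohB1.thick f (Ideal.span {(p : A)}) k))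
    (fun k => res (tₙ k)) (surjective_trans p f hd) y
  obtain ⟨a, ha⟩ := exists_of_family p f c hc
  exact ⟨a, (ha n).trans hcn⟩

theorem res_eq_one_mono (d : PicLoc.PicSet X) {j k : ℕ} (hjk : j ≤ k) (h : res (ιₙ k) d = 1) :
    res (ιₙ j) d = 1 := by
  induction k, hjk using Nat.le_induction generalizing d with
  | base => exact h
  | succ k _ ih => exact ih d (by rw [← res_trans, h, map_one])

include hd in
/-- The step of successive approximation. -/
theorem exists_step (n : ℕ) (hn : 1 ≤ n) (a : PicLoc.PicSet X) (ha : res (ιₙ (n + 1)) a = 1) :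
    ∃ β : PicLoc.PicSet X, res (ιₙ n) β = 1 ∧ res (ιₙ (n + 1 + 1)) (a * (β ^ p)⁻¹) = 1 := by
  let Y := CohB1.thick f (Ideal.span {(p : A)}) (n + 1 + 1)
  let e₁ : CohB1.thick f (Ideal.span {(p : A)}) (n + 1) ⟶ Y := tₙ (n + 1)
  let e₀ : CohB1.thick f (Ideal.span {(p : A)}) n ⟶ Y := tₙ n ≫ tₙ (n + 1)
  have he₀ : e₀ ≫ ιₙ (n + 1 + 1) = ιₙ n := by rw [Category.assoc, thickTrans_ι, thickTrans_ι]
  have he₁ : e₁ ≫ ιₙ (n + 1 + 1) = ιₙ (n + 1) := thickTrans_ι f _ _
  haveI := isClosedImmersion_thickι f (Ideal.span {(p : A)})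
  haveI : IsClosedImmersion (e₀ ≫ ιₙ (n + 1 + 1)) := by rw [he₀]; infer_instance
  haveI : IsClosedImmersion e₀ := IsClosedImmersion.of_comp e₀ (ιₙ (n + 1 + 1))
  haveI : IsClosedImmersion (e₁ ≫ ιₙ (n + 1 + 1)) := by rw [he₁]; infer_instance
  haveI : IsClosedImmersion e₁ := IsClosedImmersion.of_comp e₁ (ιₙ (n + 1 + 1))
  have h₁ : res e₁.ker.subschemeι (res (ιₙ (n + 1 + 1)) a) = 1 := by
    refine (res_eq_one_iff e₁ _ rfl _).1 ?_
    rw [← res_comp, res_congr he₁, ha]
  obtain ⟨b, hb₀, hb⟩ := exists_pow_of_killed p e₀.ker e₁.ker (ker_sq p f (by omega) _ he₀)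
    (ker_sq p f (by omega) _ he₁) (fun U => by
      rw [ker_ideal_eq p f e₀ he₀, ker_ideal_eq p f e₁ he₁, Ideal.span_singleton_mul_span_singleton, ← pow_succ'])
    (subsingleton_H2 p f hd _) _ h₁
  obtain ⟨β, hβ⟩ := surjective_res p f hd (n + 1 + 1) b
  refine ⟨β, ?_, ?_⟩
  · rw [← res_congr he₀, res_comp, hβ]
    exact (res_eq_one_iff e₀ _ rfl _).2 hb₀
  · rw [map_mul, map_inv, map_pow, hβ, hb, mul_inv_cancel]

include hd in
/-- Classes killed at level `s + 1` are `p`-th powers of classes killed at level `s`. -/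
theorem exists_root (s : ℕ) (hs : 1 ≤ s) (a : PicLoc.PicSet X) (ha : res (ιₙ (s + 1)) a = 1) :
    ∃ d : PicLoc.PicSet X, res (ιₙ s) d = 1 ∧ d ^ p = a := by
  have st : ∀ (j : ℕ) (d : {d : PicLoc.PicSet X // res (ιₙ (s + j + 1)) (a * (d ^ p)⁻¹) = 1}),
      ∃ d' : {d : PicLoc.PicSet X // res (ιₙ (s + (j + 1) + 1)) (a * (d ^ p)⁻¹) = 1},
        res (ιₙ (s + j)) (d'.1 * d.1⁻¹) = 1 := fun j d => by
    obtain ⟨β, hβ, hβ'⟩ := exists_step p f hd (s + j) (by omega) _ d.2
    exact ⟨⟨d.1 * β, show res (ιₙ (s + j + 1 + 1)) (a * ((d.1 * β) ^ p)⁻¹) = 1 by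
      rw [mul_pow, mul_inv, ← mul_assoc]; exact hβ'⟩, by
      show res (ιₙ (s + j)) (d.1 * β * d.1⁻¹) = 1
      rw [mul_comm d.1 β, mul_assoc, mul_inv_cancel, mul_one]; exact hβ⟩
  choose up hup using st
  let d : ∀ j, {d : PicLoc.PicSet X // res (ιₙ (s + j + 1)) (a * (d ^ p)⁻¹) = 1} :=
    fun j => j.rec ⟨1, by rw [one_pow, inv_one, mul_one]; exact ha⟩ up
  have hcons : ∀ j, res (ιₙ (s + j)) (d (j + 1)).1 = res (ιₙ (s + j)) (d j).1 := fun j => by
    have h := hup j (d j)
    rw [map_mul, map_inv, mul_inv_eq_one] at h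
    exact h
  obtain ⟨D, hD⟩ := exists_of_family p f (fun k => res (ιₙ k) (d k).1) fun k => by
    rw [res_trans]
    refine mul_inv_eq_one.1 ?_
    rw [← map_inv, ← map_mul]
    exact res_eq_one_mono p f _ (Nat.le_add_left k s) (hup k (d k))
  refine ⟨D, ?_, ?_⟩
  · rw [hD s]
    have : ∀ j, res (ιₙ s) (d j).1 = 1 := fun j => by
      induction j with
      | zero => exact map_one _
      | succ j ih =>
        have h := res_eq_one_mono p f _ (Nat.le_add_right s j) (hup j (d j))
        rw [map_mul, map_inv, ih, inv_one, mul_one] at h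
        exact h
    exact this s
  · refine (mul_inv_eq_one.1 (eq_one_of_forall p f (a * (D ^ p)⁻¹) fun k => ?_)).symm
    rw [map_mul, map_inv, map_pow, hD k, ← map_pow, ← map_inv, ← map_mul]
    exact res_eq_one_mono p f _ (by omega) (d k).2

include hd in
theorem exists_root_iter (s : ℕ) (hs : 1 ≤ s) :
    ∀ (i : ℕ) (a : PicLoc.PicSet X), res (ιₙ (s + i)) a = 1 →
      ∃ d : PicLoc.PicSet X, res (ιₙ s) d = 1 ∧ d ^ p ^ i = a
  | 0, a, ha => ⟨a, ha, by rw [pow_zero, pow_one]⟩
  | i + 1, a, ha => by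
    obtain ⟨d, hd', rfl⟩ := exists_root p f hd (s + i) (by omega) a ha
    obtain ⟨d₀, hd₀, rfl⟩ := exists_root_iter s hs i d hd'
    exact ⟨d₀, hd₀, by rw [pow_succ, pow_mul]⟩

include hd in
/-- Restriction is surjective, and powers at a high level come from powers. -/
theorem main (i : ℕ) :
    (∀ n, Function.Surjective (res (ιₙ n))) ∧
    ∃ t, ∀ a : PicLoc.PicSet X, (∃ b, b ^ (p ^ i) = res (ιₙ t) a) → ∃ a', a' ^ (p ^ i) = a := by
  refine ⟨surjective_res p f hd, 1 + i, fun a ⟨b, hb⟩ => ?_⟩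
  obtain ⟨β, rfl⟩ := surjective_res p f hd (1 + i) b
  obtain ⟨d, -, hd'⟩ := exists_root_iter p f hd 1 le_rfl i (a * (β ^ p ^ i)⁻¹)
    (by rw [map_mul, map_inv, map_pow, hb, mul_inv_cancel])
  exact ⟨d * β, by rw [mul_pow, hd', inv_mul_cancel_right]⟩

end Groth.L18.PicWitt
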