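import Groth.Agent.L13.LefInter.Kill
import Groth.Agent.L22.Reg.Chase
import Groth.Agent.L22.PDual.TwistExt
import Groth.Agent.L18.CIProjDim
import Groth.Agent.L21.PlaneCurve.HypCoh

/-!
# Twisted ideals built from hypersurfaces of projective space
-/

set_option autoImplicit false
set_option linter.style.haveILetI false
set_option linter.unusedSectionVars false
set_option backward.isDefEq.respectTransparency false
set_option backward.isDefEq.respectTransparency.types false
universe u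

open CategoryTheory CategoryTheory.Limits AlgebraicGeometry TopologicalSpace MvPolynomial

noncomputable section

namespace Groth.L18.PlaneQuadric

open Groth.L22.Reg (O' tw' subsingleton_iso subsingleton_of_exact biSC biSC_shortExact)
open Groth.L13.LefInter (incl incl_ι mvSeq shortExact_mvSeq)
open Groth.L16.CohLinear (hmap hmap_comp exact_hmap_hmap exact_hmap_delta exact_delta_hmap delta)
open Groth.L00.Tensor (tensorRightF tensorIso)
open Groth.L18.CIProjRing Groth.L18.CIProj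

variable {k : Type u} [Field k] {n : ℕ}

local notation "𝐏" => CohB1.ProjSpace n k
local notation "Rk" => MvPolynomial (Fin (n + 1)) k

/-- The functor `F ↦ F(t)`. -/
abbrev T (t : ℤ) : (CohB1.ProjSpace n k).Modules ⥤ (CohB1.ProjSpace n k).Modules := tensorRightF (O' n k t)

theorem shortExact_T (t : ℤ) {S : ShortComplex (CohB1.ProjSpace n k).Modules} (hS : S.ShortExact) :
    ∃ w, (ShortComplex.mk ((T t).map S.f) ((T t).map S.g) w).ShortExact := by
  obtain ⟨e1⟩ := Groth.L22.Reg.nonempty_O_add (n := n) (R := k) (add_neg_cancel t)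
  obtain ⟨e0⟩ := Groth.L22.Reg.nonempty_O_zero n k
  haveI : (T (k := k) (n := n) t).IsEquivalence := Groth.L22.PDual.isEquivalence_tensorRightF (e1 ≪≫ e0)
  exact ⟨_, hS.map_of_exact (T t)⟩

/-- Twisted cohomology of an ideal vanishes in one degree. -/
def Z (I : (CohB1.ProjSpace n k).IdealSheafData) (t : ℤ) (i : ℕ) : Prop :=
  Subsingleton (Coh.HH 𝐏 ((T t).obj (ClSub.idealMod I)) i)

theorem subsingleton_T_biprod (t : ℤ) {A B : (CohB1.ProjSpace n k).Modules} (i : ℕ)
    (hA : Subsingleton (Coh.HH 𝐏 ((T t).obj A) i)) (hB : Subsingleton (Coh.HH 𝐏 ((T t).obj B) i)) :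
    Subsingleton (Coh.HH 𝐏 ((T t).obj (A ⊞ B)) i) := by
  obtain ⟨w, hS⟩ := shortExact_T t (biSC_shortExact A B)
  exact subsingleton_of_exact (exact_hmap_hmap hS i) hA hB (map_zero _)

theorem Z_sup {I J : (CohB1.ProjSpace n k).IdealSheafData} {t : ℤ} {i : ℕ} (hI : Z I t i) (hJ : Z J t i)
    (h : Z (I ⊓ J) t (i + 1)) : Z (I ⊔ J) t i := by
  obtain ⟨w, hS⟩ := shortExact_T t (shortExact_mvSeq I J)
  exact subsingleton_of_exact (exact_hmap_delta hS i) (subsingleton_T_biprod t i hI hJ) h (map_zero _)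

/-- Sections of the pieces generate. -/
def Gen (t : ℤ) {I J K : (CohB1.ProjSpace n k).IdealSheafData} (hI : I ≤ K) (hJ : J ≤ K) : Prop :=
  Function.Surjective (hmap ((T t).map (biprod.desc (incl hI) (-incl hJ))) 0)

theorem Z_inf {I J : (CohB1.ProjSpace n k).IdealSheafData} {t : ℤ} {i : ℕ} (hI : Z I t (i + 1)) (hJ : Z J t (i + 1))
    (h : Z (I ⊔ J) t i ∨ (i = 0 ∧ Gen t (le_sup_left : I ≤ I ⊔ J) (le_sup_right : J ≤ I ⊔ J))) :
    Z (I ⊓ J) t (i + 1) := by
  obtain ⟨w, hS⟩ := shortExact_T t (shortExact_mvSeq I J)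
  refine subsingleton_of_forall_eq 0 fun x => ?_
  obtain ⟨z, rfl⟩ := ((exact_delta_hmap hS i) x).1 (@Subsingleton.elim _ (subsingleton_T_biprod t (i + 1) hI hJ) _ _)
  rcases h with h | ⟨rfl, h⟩
  · rw [@Subsingleton.elim _ h z 0, map_zero]
  · obtain ⟨y, rfl⟩ := h z
    exact ((exact_hmap_delta hS 0) _).2 ⟨y, rfl⟩

theorem gen_of_Z {I J : (CohB1.ProjSpace n k).IdealSheafData} {t : ℤ} (h : Z (I ⊓ J) t 1) :
    Gen t (le_sup_left : I ≤ I ⊔ J) (le_sup_right : J ≤ I ⊔ J) := by
  obtain ⟨w, hS⟩ := shortExact_T t (shortExact_mvSeq I J)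
  intro z
  exact ((exact_hmap_delta hS 0) z).1 (@Subsingleton.elim _ h _ _)

theorem incl_incl {I J K : (CohB1.ProjSpace n k).IdealSheafData} (h : I ≤ J) (h' : J ≤ K) :
    incl h ≫ incl h' = incl (h.trans h') := by
  rw [← cancel_mono (ClSub.idealModι K), Category.assoc, incl_ι, incl_ι, incl_ι]

theorem incl_refl (I : (CohB1.ProjSpace n k).IdealSheafData) : incl (le_refl I) = 𝟙 _ := by
  rw [← cancel_mono (ClSub.idealModι I), incl_ι, Category.id_comp]

/-- Enlarging one of the pieces. -/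
theorem Gen.mono {t : ℤ} {I J J' K : (CohB1.ProjSpace n k).IdealSheafData} {hI : I ≤ K} {hJ : J ≤ K}
    (h : Gen t hI hJ) (hJJ : J ≤ J') (hJ' : J' ≤ K) : Gen t hI hJ' := by
  intro z
  obtain ⟨y, rfl⟩ := h z
  refine ⟨hmap ((T t).map (biprod.map (𝟙 _) (incl hJJ))) 0 y, ?_⟩
  rw [← hmap_comp, ← Functor.map_comp]
  congr 3
  refine biprod.hom_ext' _ _ ?_ ?_ <;> simp [incl_incl]

theorem Gen.cast {t : ℤ} {I J K K' : (CohB1.ProjSpace n k).IdealSheafData} {hI : I ≤ K} {hJ : J ≤ K}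
    (h : Gen t hI hJ) (e : K = K') : Gen t (hI.trans e.le) (hJ.trans e.le) := by
  subst e
  exact h

/-- Twists of hypersurface ideals. -/
theorem Z_hyp {d : ℕ} (F : LefPen.Form n k d) (hF : F ≠ 0) {t : ℤ} {i : ℕ}
    (h : -(n : ℤ) ≤ t - d) : Z (LefPen.hypIdeal F) t (i + 1) := by
  obtain ⟨e⟩ := Groth.L21.PlaneCurve.nonempty_idealMod_iso hF
  obtain ⟨a⟩ := Groth.L22.Reg.nonempty_O_add (n := n) (R := k) (show -(d : ℤ) + t = t - d by omega)
  refine subsingleton_iso (tensorIso e (Iso.refl _) ≪≫ a).symm (i + 1) ?_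
  exact Groth.L16.ProjSpace.subsingleton_HH_twist_pos (n := n) (R := k) (t - d) i (Or.inr h)

/-- The product of two forms. -/
def fmul {a b : ℕ} (F : LefPen.Form n k a) (G : LefPen.Form n k b) : LefPen.Form n k (a + b) :=
  ⟨F.1 * G.1, SetLike.mul_mem_graded F.2 G.2⟩

theorem fmul_ne_zero {a b : ℕ} {F : LefPen.Form n k a} {G : LefPen.Form n k b} (hF : F ≠ 0) (hG : G ≠ 0) :
    fmul F G ≠ 0 := fun h =>
  mul_ne_zero (fun h' => hF (Subtype.ext h')) (fun h' => hG (Subtype.ext h')) (congrArg Subtype.val h)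

theorem dehom_fmul {a b : ℕ} (F : LefPen.Form n k a) (G : LefPen.Form n k b) (i : Fin (n + 1)) :
    LefPen.dehom (fmul F G) i = LefPen.dehom F i * LefPen.dehom G i := by
  rw [← deh_form, ← deh_form, ← deh_form, ← map_mul]
  rfl

theorem ext_charts {I J : (CohB1.ProjSpace n k).IdealSheafData}
    (h : ∀ i, I.ideal ⟨LefPen.chart n k i, Groth.L21.PlaneCurve.isAffineOpen_chart i⟩ =
      J.ideal ⟨LefPen.chart n k i, Groth.L21.PlaneCurve.isAffineOpen_chart i⟩) : I = J :=
  Scheme.IdealSheafData.ext_of_iSup_eq_top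
    (fun i => (⟨LefPen.chart n k i, Groth.L21.PlaneCurve.isAffineOpen_chart i⟩ : (CohB1.ProjSpace n k).affineOpens))
    (eq_top_iff.2 fun x _ => Opens.mem_iSup.2 (Groth.L21.PlaneCurve.exists_mem_chart x)) h

/-- Multiplication by a nonzero form is injective on a chart. -/
theorem dehom_cancel {d : ℕ} (F : LefPen.Form n k d) (hF : F ≠ 0) (i : Fin (n + 1))
    {z : Γ(𝐏, LefPen.chart n k i)} (h : LefPen.dehom F i * z = 0) : z = 0 := by
  let G : ∀ j : Fin 0, LefPen.Form n k ((fun _ => 1) j) := fun j => j.elim0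
  have e : Ideal.span (Set.range (pols G)) = ⊥ := by
    rw [Set.range_eq_empty, Ideal.span_empty]
  have := mem_of_mul_deh i (I := (⊥ : Ideal Rk)) F
    (fun y hy => (Ideal.mem_bot).2 ((mul_eq_zero.1 (Ideal.mem_bot.1 hy)).resolve_left fun h' => hF (Subtype.ext h')))
    (z := z) (by rw [Ideal.map_bot, h]; exact Submodule.zero_mem _) ⟨0, _, G, e.symm⟩
  rwa [Ideal.map_bot, Ideal.mem_bot] at this

/-- A form regular modulo another one, on a chart. -/
theorem dvd_of_mul {a b : ℕ} (F : LefPen.Form n k a) (G : LefPen.Form n k b) (i : Fin (n + 1))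
    (hreg : ∀ y, G.1 * y ∈ Ideal.span {F.1} → y ∈ Ideal.span {F.1})
    {z : Γ(𝐏, LefPen.chart n k i)} (h : LefPen.dehom G i * z ∈ Ideal.span {LefPen.dehom F i}) :
    z ∈ Ideal.span {LefPen.dehom F i} := by
  let H : ∀ j : Fin 1, LefPen.Form n k ((fun _ => a) j) := fun _ => F
  have e : Ideal.span (Set.range (pols H)) = Ideal.span {F.1} := by
    show Ideal.span (Set.range fun _ : Fin 1 => F.1) = _
    rw [Set.range_const]
  have e' : (Ideal.span {F.1}).map (deh i) = Ideal.span {LefPen.dehom F i} := by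
    rw [Ideal.map_span, Set.image_singleton, deh_form]
  rw [← e'] at h ⊢
  exact mem_of_mul_deh i G hreg h ⟨1, _, H, e.symm⟩

/-- Two coprime hypersurfaces meet in their product. -/
theorem hyp_inf {a b : ℕ} (F : LefPen.Form n k a) (G : LefPen.Form n k b)
    (hreg : ∀ y, G.1 * y ∈ Ideal.span {F.1} → y ∈ Ideal.span {F.1}) :
    LefPen.hypIdeal F ⊓ LefPen.hypIdeal G = LefPen.hypIdeal (fmul F G) := by
  refine ext_charts fun i => ?_
  rw [Scheme.IdealSheafData.ideal_inf, Pi.inf_apply]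
  simp only [Groth.L21.PlaneCurve.hypIdeal_chart, dehom_fmul]
  refine le_antisymm ?_ ?_
  · rintro x ⟨hxF, hxG⟩
    obtain ⟨c, rfl⟩ := Ideal.mem_span_singleton'.1 hxG
    obtain ⟨e, rfl⟩ := Ideal.mem_span_singleton'.1 (dvd_of_mul F G i hreg (by rwa [mul_comm] at hxF))
    exact Ideal.mem_span_singleton'.2 ⟨e, by ring⟩
  · rw [Ideal.span_singleton_le_iff_mem]
    exact ⟨Ideal.mem_span_singleton'.2 ⟨LefPen.dehom G i, mul_comm _ _⟩, Ideal.mem_span_singleton'.2 ⟨_, rfl⟩⟩

/-- Two hypersurfaces with a common component meet in the triple product. -/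
theorem hyp_inf_mul {a b c : ℕ} (F : LefPen.Form n k a) (G : LefPen.Form n k b) (M : LefPen.Form n k c) (hM : M ≠ 0)
    (hreg : ∀ y, G.1 * y ∈ Ideal.span {F.1} → y ∈ Ideal.span {F.1}) :
    LefPen.hypIdeal (fmul F M) ⊓ LefPen.hypIdeal (fmul G M) = LefPen.hypIdeal (fmul (fmul F G) M) := by
  refine ext_charts fun i => ?_
  rw [Scheme.IdealSheafData.ideal_inf, Pi.inf_apply]
  simp only [Groth.L21.PlaneCurve.hypIdeal_chart, dehom_fmul]
  refine le_antisymm ?_ ?_
  · rintro x ⟨hxF, hxG⟩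
    obtain ⟨c₁, hc₁⟩ := Ideal.mem_span_singleton'.1 hxF
    obtain ⟨c₂, rfl⟩ := Ideal.mem_span_singleton'.1 hxG
    have h0 : c₁ * LefPen.dehom F i - c₂ * LefPen.dehom G i = 0 :=
      dehom_cancel M hM i (by linear_combination hc₁)
    obtain ⟨e, rfl⟩ := Ideal.mem_span_singleton'.1
      (dvd_of_mul F G i hreg (z := c₂) (Ideal.mem_span_singleton'.2 ⟨c₁, by linear_combination h0⟩))
    exact Ideal.mem_span_singleton'.2 ⟨e, by ring⟩
  · rw [Ideal.span_singleton_le_iff_mem]
    exact ⟨Ideal.mem_span_singleton'.2 ⟨LefPen.dehom G i, by ring⟩,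
      Ideal.mem_span_singleton'.2 ⟨LefPen.dehom F i, by ring⟩⟩

/-- A hypersurface and an intersection of two. -/
theorem sup_inf_hyp {a b c : ℕ} (F : LefPen.Form n k a) (G : LefPen.Form n k b) (M : LefPen.Form n k c)
    (hreg : ∀ y, M.1 * y ∈ Ideal.span ({F.1, G.1} : Set Rk) → y ∈ Ideal.span ({F.1, G.1} : Set Rk)) :
    (LefPen.hypIdeal F ⊔ LefPen.hypIdeal G) ⊓ LefPen.hypIdeal M =
      LefPen.hypIdeal (fmul F M) ⊔ LefPen.hypIdeal (fmul G M) := by
  refine ext_charts fun i => ?_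
  rw [Scheme.IdealSheafData.ideal_inf, Pi.inf_apply, Scheme.IdealSheafData.ideal_sup, Pi.sup_apply,
    Scheme.IdealSheafData.ideal_sup, Pi.sup_apply]
  simp only [Groth.L21.PlaneCurve.hypIdeal_chart, dehom_fmul]
  rw [← Ideal.span_insert, ← Ideal.span_insert]
  refine le_antisymm ?_ ?_
  · rintro x ⟨hxF, hxM⟩
    obtain ⟨w, rfl⟩ := Ideal.mem_span_singleton'.1 hxM
    let H : ∀ j : Fin 2, LefPen.Form n k (![a, b] j) := Fin.cons F (Fin.cons G fun j => j.elim0)
    have e : Ideal.span (Set.range (pols H)) = Ideal.span ({F.1, G.1} : Set Rk) := by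
      refine congrArg Ideal.span (Set.ext fun y => ?_)
      rw [Set.mem_range, Fin.exists_fin_two, Set.mem_insert_iff, Set.mem_singleton_iff]
      exact or_congr eq_comm eq_comm
    have e' : (Ideal.span ({F.1, G.1} : Set Rk)).map (deh i) =
        Ideal.span {LefPen.dehom F i, LefPen.dehom G i} := by
      rw [Ideal.map_span, Set.image_insert_eq, Set.image_singleton, deh_form, deh_form]
    have hw := mem_of_mul_deh i M hreg (z := w) (by rw [e', mul_comm]; exact hxF) ⟨2, _, H, e.symm⟩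
    rw [e', Ideal.mem_span_pair] at hw
    obtain ⟨p, q, rfl⟩ := hw
    exact Ideal.mem_span_pair.2 ⟨p, q, by ring⟩
  · intro x hx
    obtain ⟨p, q, rfl⟩ := Ideal.mem_span_pair.1 hx
    exact ⟨Ideal.mem_span_pair.2 ⟨p * LefPen.dehom M i, q * LefPen.dehom M i, by ring⟩,
      Ideal.mem_span_singleton'.2 ⟨p * LefPen.dehom F i + q * LefPen.dehom G i, by ring⟩⟩

/-- Outside the span of linear forms, forms are regular modulo them. -/
theorem reg_linear {s : ℕ} (L : Fin s → LefPen.Form n k 1) {g : Rk}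
    (hg : g ∉ Ideal.span (Set.range fun j => (L j).1)) (y : Rk)
    (h : g * y ∈ Ideal.span (Set.range fun j => (L j).1)) : y ∈ Ideal.span (Set.range fun j => (L j).1) := by
  set I := Ideal.span (Set.range fun j => (L j).1) with hI
  let V := MvPolynomial.homogeneousSubmodule (Fin (n + 1)) k 1
  let W : Submodule k V := Submodule.span k (Set.range fun j => (⟨(L j).1, (L j).2⟩ : V))
  obtain ⟨s', hs'⟩ := W.mkQ.exists_rightInverse_of_surjective W.range_mkQ
  let p : V →ₗ[k] V := s' ∘ₗ W.mkQ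
  have hpW : ∀ v : V, v - p v ∈ W := fun v => by
    rw [← Submodule.Quotient.eq]
    exact (congr($hs' (W.mkQ v))).symm
  have hWI : ∀ v : V, v ∈ W → (v : Rk) ∈ I := fun v hv => by
    induction hv using Submodule.span_induction with
    | mem x hx => obtain ⟨j, rfl⟩ := hx; exact Ideal.subset_span ⟨j, rfl⟩
    | zero => exact Submodule.zero_mem _
    | add x y _ _ hx hy => exact add_mem hx hy
    | smul c x _ hx => rw [SetLike.val_smul, MvPolynomial.smul_eq_C_mul]; exact Ideal.mul_mem_left _ _ hx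
  let Xv : Fin (n + 1) → V := fun j => ⟨X j, MvPolynomial.isHomogeneous_X k j⟩
  let φ : Rk →ₐ[k] Rk := aeval fun j => (p (Xv j) : Rk)
  have hφV : ∀ v : V, φ v = (p v : Rk) := by
    have : φ.toLinearMap ∘ₗ V.subtype = V.subtype ∘ₗ p := by
      refine LinearMap.ext fun v => ?_
      obtain ⟨v, hv⟩ := v
      have hv' : v ∈ Submodule.span k (Set.range (X : Fin (n + 1) → Rk)) := by
        rw [← MvPolynomial.homogeneousSubmodule_one_eq_span_X]; exact hv
      obtain ⟨c, hc⟩ := (Submodule.mem_span_range_iff_exists_fun k).1 hv'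
      have e : (⟨v, hv⟩ : V) = ∑ j, c j • Xv j := Subtype.ext (by simp [Xv, hc])
      rw [e]
      simp only [map_sum, map_smul, LinearMap.comp_apply, Submodule.subtype_apply, AlgHom.toLinearMap_apply, φ, Xv,
        aeval_X]
    exact fun v => congr($this v)
  have hker : ∀ z : Rk, z - φ z ∈ I := fun z => by
    induction z using MvPolynomial.induction_on with
    | C c => rw [show φ (C c) = C c from aeval_C _ c, sub_self]; exact Submodule.zero_mem _
    | add z w hz hw => rw [map_add, add_sub_add_comm]; exact add_mem hz hw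
    | mul_X z j hz =>
      rw [map_mul, show z * X j - φ z * φ (X j) = (z - φ z) * X j + φ z * (X j - φ (X j)) by ring]
      refine add_mem (Ideal.mul_mem_right _ _ hz) (Ideal.mul_mem_left _ _ ?_)
      rw [show φ (X j) = (p (Xv j) : Rk) from aeval_X _ j]
      exact hWI _ (hpW (Xv j))
  have hle : ∀ z ∈ I, φ z = 0 := fun z hz => by
    refine (RingHom.mem_ker (f := φ.toRingHom)).1 (Ideal.span_le.2 ?_ hz)
    rintro _ ⟨j, rfl⟩
    refine RingHom.mem_ker.2 ((hφV ⟨(L j).1, (L j).2⟩).trans ?_)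
    have hmem : (⟨(L j).1, (L j).2⟩ : V) ∈ W := Submodule.subset_span ⟨j, rfl⟩
    show ((s' (W.mkQ _) : V) : Rk) = 0
    rw [show W.mkQ (⟨(L j).1, (L j).2⟩ : V) = 0 from (Submodule.Quotient.mk_eq_zero W).2 hmem, map_zero]
    rfl
  have h0 := hle _ h
  rw [map_mul] at h0
  rcases mul_eq_zero.1 h0 with h0 | h0
  · exact absurd (by simpa [h0] using hker g) hg
  · simpa [h0] using hker y

/-- A linear form in the ideal of linear forms is in their linear span. -/
theorem mem_span_of_mem_ideal {s : ℕ} (L : Fin s → LefPen.Form n k 1) (v : LefPen.Form n k 1)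
    (h : v.1 ∈ Ideal.span (Set.range fun j => (L j).1)) : v ∈ Submodule.span k (Set.range L) := by
  obtain ⟨c, hc⟩ := Ideal.mem_span_range_iff_exists_fun.1 h
  refine (Submodule.mem_span_range_iff_exists_fun k).2 ⟨fun j => constantCoeff (c j), Subtype.ext ?_⟩
  have h1 := congrArg (homogeneousComponent 1) hc
  rw [map_sum, homogeneousComponent_of_mem v.2, if_pos rfl] at h1
  rw [AddSubmonoidClass.coe_finsetSum, ← h1]
  refine Finset.sum_congr rfl fun j _ => ?_
  rw [SetLike.val_smul]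
  have hL : ((L j).1).IsHomogeneous 1 := (mem_homogeneousSubmodule _ _).1 (L j).2
  have hsum : c j * (L j).1 = ∑ d ∈ Finset.range ((c j).totalDegree + 1), homogeneousComponent d (c j) * (L j).1 := by
    rw [← Finset.sum_mul, sum_homogeneousComponent]
  rw [hsum, map_sum, Finset.sum_eq_single 0]
  · rw [homogeneousComponent_zero, smul_eq_C_mul, constantCoeff_eq]
    exact (homogeneousComponent_of_mem (hL.C_mul _)).trans (if_pos rfl) |>.symm
  · intro d _ hd
    rw [homogeneousComponent_of_mem ((homogeneousComponent_isHomogeneous d _).mul hL), if_neg (by omega)]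
  · intro h; simp at h

/-- The vanishing. -/
theorem vanish (hn : n = 4) (l₁ l₂ m : LefPen.Form n k 1) (hlin : LinearIndependent k ![l₁, l₂, m])
    (q : LefPen.Form n k 2) (a b c : LefPen.Form n k 1) (hq : q.1 = a.1 * l₁.1 + b.1 * l₂.1 + c.1 * m.1) (i : ℕ) :
    Z ((LefPen.hypIdeal l₁ ⊔ LefPen.hypIdeal l₂) ⊓ (LefPen.hypIdeal m ⊔ LefPen.hypIdeal q)) 2 (i + 1) := by
  have hne : ∀ j, ![l₁, l₂, m] j ≠ 0 := fun j => hlin.ne_zero j
  have h1 : l₁ ≠ 0 := hne 0
  have h2 : l₂ ≠ 0 := hne 1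
  have hm : m ≠ 0 := hne 2
  have hin : ∀ {s : ℕ} (L : Fin s → LefPen.Form n k 1) (j : Fin 3) (S : Set (Fin 3)),
      Set.range L ⊆ ![l₁, l₂, m] '' S → j ∉ S → (![l₁, l₂, m] j).1 ∉ Ideal.span (Set.range fun x => (L x).1) :=
    fun L j S hL hj h => hlin.notMem_span_image hj (Submodule.span_mono hL (mem_span_of_mem_ideal L _ h))
  have r12 : ∀ y, l₂.1 * y ∈ Ideal.span {l₁.1} → y ∈ Ideal.span {l₁.1} := by
    have e : Ideal.span {l₁.1} = Ideal.span (Set.range fun x : Fin 1 => ((![l₁]) x).1) := by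
      congr 1; ext y; simp [eq_comm]
    intro y
    rw [e]
    exact reg_linear ![l₁] (hin ![l₁] 1 {0} (by rintro _ ⟨x, rfl⟩; exact ⟨0, rfl, by fin_cases x; rfl⟩) (by simp)) y
  have r3 : ∀ y, m.1 * y ∈ Ideal.span ({l₁.1, l₂.1} : Set Rk) → y ∈ Ideal.span ({l₁.1, l₂.1} : Set Rk) := by
    have e : Ideal.span ({l₁.1, l₂.1} : Set Rk) = Ideal.span (Set.range fun x : Fin 2 => ((![l₁, l₂]) x).1) := by
      congr 1; ext y; simp [Fin.exists_fin_two, eq_comm]
    intro y
    rw [e]
    refine reg_linear ![l₁, l₂] (hin ![l₁, l₂] 2 {0, 1} ?_ (by simp)) y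
    rintro _ ⟨x, rfl⟩
    fin_cases x
    · exact ⟨0, by simp, rfl⟩
    · exact ⟨1, by simp, rfl⟩
  let A := LefPen.hypIdeal l₁ ⊔ LefPen.hypIdeal l₂
  let H := LefPen.hypIdeal m
  let B := H ⊔ LefPen.hypIdeal q
  have hA : ∀ j, Z A 2 (j + 1) := fun j => by
    refine Z_sup (Z_hyp _ h1 (by omega)) (Z_hyp _ h2 (by omega)) ?_
    rw [hyp_inf _ _ r12]
    exact Z_hyp _ (fmul_ne_zero h1 h2) (by omega)
  have hAH : ∀ j, Z (A ⊓ H) 2 (j + 1) := fun j => by
    show Z ((LefPen.hypIdeal l₁ ⊔ LefPen.hypIdeal l₂) ⊓ H) 2 (j + 1)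
    rw [sup_inf_hyp _ _ _ r3]
    refine Z_sup (Z_hyp _ (fmul_ne_zero h1 hm) (by omega)) (Z_hyp _ (fmul_ne_zero h2 hm) (by omega)) ?_
    rw [hyp_inf_mul _ _ _ hm r12]
    exact Z_hyp _ (fmul_ne_zero (fmul_ne_zero h1 h2) hm) (by omega)
  have hqL : LefPen.hypIdeal q ≤ A ⊔ H := by
    rw [← sup_eq_left]
    refine ext_charts fun i => ?_
    simp only [A, H, Scheme.IdealSheafData.ideal_sup, Pi.sup_apply, Groth.L21.PlaneCurve.hypIdeal_chart]
    rw [sup_eq_left, Ideal.span_singleton_le_iff_mem, ← deh_form q, hq, map_add, map_add, map_mul, map_mul, map_mul,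
      deh_form, deh_form, deh_form, deh_form, deh_form, deh_form]
    exact Ideal.add_mem _ (Ideal.add_mem _ (Ideal.mem_sup_left (Ideal.mem_sup_left
      (Ideal.mul_mem_left _ _ (Ideal.mem_span_singleton_self _))))
      (Ideal.mem_sup_left (Ideal.mem_sup_right (Ideal.mul_mem_left _ _ (Ideal.mem_span_singleton_self _)))))
      (Ideal.mem_sup_right (Ideal.mul_mem_left _ _ (Ideal.mem_span_singleton_self _)))
  have hL : A ⊔ H = A ⊔ B :=
    le_antisymm (sup_le_sup_left le_sup_left _) (sup_le le_sup_left (sup_le le_sup_right hqL))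
  have hB : ∀ j, Z B 2 (j + 1) := fun j => by
    by_cases hqm : q.1 ∈ Ideal.span {m.1}
    · have : B = H := sup_eq_left.2 <| by
        rw [← sup_eq_left]
        refine ext_charts fun i => ?_
        simp only [H, Scheme.IdealSheafData.ideal_sup, Pi.sup_apply, Groth.L21.PlaneCurve.hypIdeal_chart]
        obtain ⟨e, he⟩ := Ideal.mem_span_singleton'.1 hqm
        rw [sup_eq_left, Ideal.span_singleton_le_iff_mem, ← deh_form q, ← he, map_mul, deh_form]
        exact Ideal.mul_mem_left _ _ (Ideal.mem_span_singleton_self _)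
      rw [this]
      exact Z_hyp _ hm (by omega)
    · have hq0 : q ≠ 0 := fun h => hqm (by rw [h]; exact Submodule.zero_mem _)
      refine Z_sup (Z_hyp _ hm (by omega)) (Z_hyp _ hq0 (by omega)) ?_
      have e : Ideal.span {m.1} = Ideal.span (Set.range fun x : Fin 1 => ((![m]) x).1) := by
        congr 1; ext y; simp [eq_comm]
      rw [hyp_inf _ _ (fun y hy => by rw [e] at hy ⊢; exact reg_linear ![m] (by rwa [e] at hqm) y hy)]
      exact Z_hyp _ (fmul_ne_zero hm hq0) (by omega)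
  refine Z_inf (hA i) (hB i) ?_
  rcases i with _ | j
  · refine Or.inr ⟨rfl, ?_⟩
    exact ((gen_of_Z (hAH 0)).cast hL).mono le_sup_left le_sup_right
  · refine Or.inl ?_
    rw [← hL]
    exact Z_sup (hA j) (Z_hyp _ hm (by omega)) (hAH (j + 1))

end Groth.L18.PlaneQuadric
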