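import Groth.Agent.L18.MulMap
import Groth.Agent.L18.SegreOver
import Mathlib.CategoryTheory.Limits.Shapes.WidePullbacks

/-!
# A finite surjective map `(P^1_S)^n ⟶ P^n_S`
-/

set_option autoImplicit false
universe u

open CategoryTheory CategoryTheory.Limits AlgebraicGeometry

namespace Groth.L18.PS

open CohB1

variable (S : Scheme.{u})

lemma exists_step (n : ℕ) :
    ∃ φ : pullback (ProjSpaceOver.toBase n S) (ProjSpaceOver.toBase 1 S) ⟶ ProjSpaceOver (n + 1) S,
      IsFinite φ ∧ Surjective φ ∧
        φ ≫ ProjSpaceOver.toBase (n + 1) S = pullback.fst _ _ ≫ ProjSpaceOver.toBase n S := by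
  obtain ⟨φ, h1, h2⟩ := exists_baseChange _ _ (specULiftZIsTerminal.from S)
    (ProjSpace.toSpec (n + 1) (ULift.{u} ℤ)) (mulMap n (ULift.{u} ℤ)) (mulMap_toSpec n _)
  exact ⟨φ, MorphismProperty.of_isPullback (P := @IsFinite) h2.flip (isFinite_mulMap n _),
    MorphismProperty.of_isPullback (P := @Surjective) h2.flip (surjective_mulMap n _), h1⟩

theorem exists_finite_surjective (n : ℕ) :
    ∃ φ : widePullback S (fun _ : Fin n => ProjSpaceOver 1 S) (fun _ => ProjSpaceOver.toBase 1 S) ⟶
        ProjSpaceOver n S,
      IsFinite φ ∧ Surjective φ ∧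
        φ ≫ ProjSpaceOver.toBase n S = WidePullback.base (fun _ => ProjSpaceOver.toBase 1 S) := by
  induction n with
  | zero =>
    haveI : IsIso (ProjSpaceOver.toBase 0 S) := by
      haveI := isIso_toSpec_zero (ULift.{u} ℤ)
      exact inferInstanceAs (IsIso (pullback.snd (ProjSpace.toSpec 0 (ULift.{u} ℤ)) (specULiftZIsTerminal.from S)))
    haveI : IsIso (WidePullback.base (fun _ : Fin 0 => ProjSpaceOver.toBase 1 S)) := by
      refine ⟨WidePullback.lift (𝟙 S) (fun i => i.elim0) (fun i => i.elim0), ?_, ?_⟩
      · apply WidePullback.hom_ext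
        · exact fun i => i.elim0
        · rw [Category.assoc, WidePullback.lift_base, Category.comp_id, Category.id_comp]
      · rw [WidePullback.lift_base]
    haveI : IsIso (WidePullback.base (fun _ : Fin 0 => ProjSpaceOver.toBase 1 S) ≫
        inv (ProjSpaceOver.toBase 0 S)) := inferInstance
    refine ⟨WidePullback.base (fun _ => ProjSpaceOver.toBase 1 S) ≫ inv (ProjSpaceOver.toBase 0 S),
      inferInstance, inferInstance, ?_⟩
    rw [Category.assoc, IsIso.inv_hom_id, Category.comp_id]
  | succ n ih =>
    obtain ⟨ψ, hψf, hψs, hψ⟩ := ih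
    obtain ⟨φ, hφf, hφs, hφ⟩ := exists_step S n
    let arr : ∀ k : ℕ, Fin k → (ProjSpaceOver 1 S ⟶ S) := fun k _ => ProjSpaceOver.toBase 1 S
    let P := pullback (WidePullback.base (arr n)) (ProjSpaceOver.toBase 1 S)
    let fwd : widePullback S (fun _ : Fin (n + 1) => ProjSpaceOver 1 S) (arr (n + 1)) ⟶ P :=
      pullback.lift (WidePullback.lift (WidePullback.base (arr (n + 1)))
          (fun i : Fin n => WidePullback.π (arr (n + 1)) i.castSucc)
          (fun i => WidePullback.π_arrow (arr (n + 1)) i.castSucc))
        (WidePullback.π (arr (n + 1)) (Fin.last n))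
        (by rw [WidePullback.lift_base]; exact (WidePullback.π_arrow (arr (n + 1)) (Fin.last n)).symm)
    let bwd : P ⟶ widePullback S (fun _ : Fin (n + 1) => ProjSpaceOver 1 S) (arr (n + 1)) :=
      WidePullback.lift (pullback.fst _ _ ≫ WidePullback.base (arr n))
        (Fin.lastCases (pullback.snd _ _) (fun i => pullback.fst _ _ ≫ WidePullback.π (arr n) i))
        (fun i => by
          refine Fin.lastCases ?_ (fun i => ?_) i
          · rw [Fin.lastCases_last]; exact pullback.condition.symm
          · rw [Fin.lastCases_castSucc, Category.assoc, WidePullback.π_arrow])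
    haveI : IsIso fwd := by
      refine ⟨bwd, ?_, ?_⟩
      · apply WidePullback.hom_ext
        · intro j
          refine Fin.lastCases ?_ (fun i => ?_) j
          · simp only [bwd, fwd, Category.assoc, WidePullback.lift_π, Fin.lastCases_last,
              pullback.lift_snd, Category.id_comp]
          · simp only [bwd, fwd, Category.assoc, WidePullback.lift_π, Fin.lastCases_castSucc,
              pullback.lift_fst_assoc, Category.id_comp]
        · simp only [bwd, fwd, Category.assoc, WidePullback.lift_base, pullback.lift_fst_assoc,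
            Category.id_comp]
      · apply pullback.hom_ext
        · apply WidePullback.hom_ext
          · intro i
            simp only [bwd, fwd, Category.assoc, WidePullback.lift_π, Fin.lastCases_castSucc,
              pullback.lift_fst_assoc, Category.id_comp]
          · simp only [bwd, fwd, Category.assoc, WidePullback.lift_base, pullback.lift_fst_assoc,
              Category.id_comp]
        · simp only [bwd, fwd, Category.assoc, WidePullback.lift_π, Fin.lastCases_last,
            pullback.lift_snd, Category.id_comp]
    let μ : P ⟶ pullback (ProjSpaceOver.toBase n S) (ProjSpaceOver.toBase 1 S) :=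
      pullback.map _ _ _ _ ψ (𝟙 _) (𝟙 S) (by rw [Category.comp_id, hψ]) (by simp)
    have hμ : IsPullback μ (pullback.fst (WidePullback.base (arr n)) (ProjSpaceOver.toBase 1 S))
        (pullback.fst (ProjSpaceOver.toBase n S) (ProjSpaceOver.toBase 1 S)) ψ := by
      refine IsPullback.of_right ?_ (pullback.lift_fst _ _ _)
        (IsPullback.of_hasPullback (ProjSpaceOver.toBase n S) (ProjSpaceOver.toBase 1 S)).flip
      rw [show μ ≫ pullback.snd _ _ = pullback.snd _ _ ≫ 𝟙 _ from pullback.lift_snd _ _ _,
        Category.comp_id, hψ]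
      exact (IsPullback.of_hasPullback _ _).flip
    haveI := MorphismProperty.of_isPullback (P := @IsFinite) hμ.flip hψf
    haveI := MorphismProperty.of_isPullback (P := @Surjective) hμ.flip hψs
    refine ⟨fwd ≫ μ ≫ φ, inferInstance, inferInstance, ?_⟩
    rw [Category.assoc, Category.assoc, hφ, show μ ≫ pullback.fst _ _ ≫ _ = _ from pullback.lift_fst_assoc _ _ _ _]
    rw [Category.assoc, hψ]
    simp only [fwd, arr, pullback.lift_fst_assoc, WidePullback.lift_base]

end Groth.L18.PS
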