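import Groth.Agent.L18.ProjMap
import Mathlib.AlgebraicGeometry.Pullbacks
import Mathlib.RingTheory.IsTensorProduct

/-!
# `Proj` commutes with base change
-/

set_option autoImplicit false
universe u

open CategoryTheory CategoryTheory.Limits AlgebraicGeometry HomogeneousLocalization TensorProduct

namespace Groth.L18.ProjBC

variable {R R' A B : Type u} [CommRing R'] [CommRing R] [Algebra R' R]
  [CommRing B] [Algebra R' B] {ℬ : ℕ → Submodule R' B} [GradedAlgebra ℬ]
  [CommRing A] [Algebra R A] [Algebra R' A] [IsScalarTower R' R A] {𝒜 : ℕ → Submodule R A} [GradedAlgebra 𝒜]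
  [Algebra B A] [IsScalarTower R' B A] [Algebra.IsPushout R' R B A]
  (φ : ℬ →+*ᵍ 𝒜) (hφA : ∀ b : B, φ b = algebraMap B A b)

/-- `R → S_(f)`. -/
noncomputable def coeff {S C : Type u} [CommRing S] [CommRing C] [Algebra S C] (𝒞 : ℕ → Submodule S C)
    [GradedAlgebra 𝒞] (f : C) : S →+* Away 𝒞 f :=
  (fromZeroRingHom 𝒞 _).comp (algebraMap S (𝒞 0))

lemma coeff_val {S C : Type u} [CommRing S] [CommRing C] [Algebra S C] (𝒞 : ℕ → Submodule S C)
    [GradedAlgebra 𝒞] (f : C) (r : S) :
    (coeff 𝒞 f r).val = Localization.mk (algebraMap S C r) 1 := rfl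

-- use only the algebra structures introduced below
attribute [-instance] HomogeneousLocalization.instSMul

include hφA

theorem isPushout_away {m : ℕ} {f : B} (hf : f ∈ ℬ m) :
    IsPushout (CommRingCat.ofHom (algebraMap R' R)) (CommRingCat.ofHom (coeff ℬ f))
      (CommRingCat.ofHom (coeff 𝒜 (φ f))) (CommRingCat.ofHom (Away.map φ f)) := by
  classical
  letI : Algebra R' (Away ℬ f) := (coeff ℬ f).toAlgebra
  letI : Algebra R (Away 𝒜 (φ f)) := (coeff 𝒜 (φ f)).toAlgebra
  letI : Algebra R' (Away 𝒜 (φ f)) := ((coeff 𝒜 (φ f)).comp (algebraMap R' R)).toAlgebra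
  letI : Algebra (Away ℬ f) (Away 𝒜 (φ f)) := (Away.map φ f).toAlgebra
  haveI : IsScalarTower R' R (Away 𝒜 (φ f)) := IsScalarTower.of_algebraMap_eq' (R := R') (S := R) (A := Away 𝒜 (φ f)) rfl
  have hfA : φ f ∈ 𝒜 m := GradedFunLike.map_mem φ hf
  have hproj : ∀ (b : B) (n : ℕ), φ ((DirectSum.decompose ℬ b n : B)) = (DirectSum.decompose 𝒜 (φ b) n : A) := by
    intro b n
    induction b using DirectSum.Decomposition.inductionOn ℬ with
    | zero => simp
    | @homogeneous i x =>
      rcases eq_or_ne i n with rfl | h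
      · rw [DirectSum.decompose_of_mem_same ℬ x.2, DirectSum.decompose_of_mem_same 𝒜 (GradedFunLike.map_mem φ x.2)]
      · rw [DirectSum.decompose_of_mem_ne ℬ x.2 h, DirectSum.decompose_of_mem_ne 𝒜 (GradedFunLike.map_mem φ x.2) h,
          map_zero]
    | add x y hx hy => simp [hx, hy]
  have hR' : ∀ r : R', φ (algebraMap R' B r) = algebraMap R A (algebraMap R' R r) := fun r => by
    rw [hφA, ← IsScalarTower.algebraMap_apply, ← IsScalarTower.algebraMap_apply]
  haveI : IsScalarTower R' (Away ℬ f) (Away 𝒜 (φ f)) := by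
    refine IsScalarTower.of_algebraMap_eq (R := R') (S := Away ℬ f) (A := Away 𝒜 (φ f)) fun r => val_injective (Submonoid.powers (φ f)) ?_
    show (coeff 𝒜 (φ f) (algebraMap R' R r)).val = (Away.map φ f (coeff ℬ f r)).val
    have e : coeff ℬ f r = Away.mk ℬ hf 0 (algebraMap R' B r)
        (by rw [zero_smul]; exact SetLike.algebraMap_mem_graded ℬ r) := val_injective _ (by
      rw [coeff_val, Away.val_mk]
      simp only [pow_zero]
      rfl)
    rw [e, Away.map_mk, Away.val_mk, coeff_val, hR']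
    simp only [pow_zero]
    rfl
  -- the coefficient projections
  let q : ℕ → B →ₗ[R'] Away ℬ f := fun k =>
    { toFun := fun b => Away.mk ℬ hf k _ (SetLike.coe_mem (DirectSum.decompose ℬ b (k • m)))
      map_add' := fun x y => val_injective _ (by
        rw [val_add, Away.val_mk, Away.val_mk, Away.val_mk, Localization.add_mk_self]
        simp)
      map_smul' := fun r x => val_injective _ (by
        rw [RingHom.id_apply, Algebra.smul_def (A := Away ℬ f) r, val_mul, Away.val_mk, Away.val_mk, RingHom.algebraMap_toAlgebra, coeff_val, Localization.mk_mul, one_mul, ← Algebra.smul_def]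
        simp
        rfl) }
  have hA : IsBaseChange R (IsScalarTower.toAlgHom R' B A).toLinearMap := Algebra.IsPushout.out
  let L : ℕ → A →ₗ[R] R ⊗[R'] Away ℬ f := fun k => hA.lift ((TensorProduct.mk R' R (Away ℬ f) 1).comp (q k))
  have hL : ∀ k b, L k (φ b) = (1 : R) ⊗ₜ[R'] q k b := fun k b => by
    rw [hφA]; exact hA.lift_eq _ b
  have hext : ∀ {M : Type u} [AddCommGroup M] [Module R M] (g₁ g₂ : A →ₗ[R] M),
      (∀ b, g₁ (φ b) = g₂ (φ b)) → ∀ a, g₁ a = g₂ a := by
    intro M _ _ g₁ g₂ h a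
    exact LinearMap.congr_fun (hA.algHom_ext g₁ g₂ fun b => by
      show g₁ (algebraMap B A b) = g₂ (algebraMap B A b); rw [← hφA]; exact h b) a
  have hshift : ∀ (j k : ℕ) (a : A), L (k + j) (φ f ^ j * a) = L k a := by
    intro j k
    refine hext ((L (k + j)).comp (LinearMap.mulLeft R (φ f ^ j))) (L k) fun b => ?_
    show L (k + j) (φ f ^ j * φ b) = L k (φ b)
    rw [← map_pow, ← map_mul, hL, hL]
    congr 1
    refine val_injective _ ?_
    show (Away.mk ℬ hf (k + j) _ _).val = (Away.mk ℬ hf k _ _).val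
    rw [Away.val_mk, Away.val_mk]
    have hfj : f ^ j ∈ ℬ (j • m) := SetLike.pow_mem_graded j hf
    rw [show ((DirectSum.decompose ℬ (f ^ j * b) ((k + j) • m) : ℬ _) : B) =
      f ^ j * (DirectSum.decompose ℬ b (k • m) : B) by
        rw [DirectSum.coe_decompose_mul_of_left_mem_of_le ℬ hfj (show j • m ≤ (k + j) • m by rw [add_smul]; exact Nat.le_add_left _ _),
          add_smul, Nat.add_sub_cancel]]
    rw [Localization.mk_eq_mk_iff, Localization.r_iff_exists]
    exact ⟨1, by simp only [OneMemClass.coe_one, one_mul, pow_add]; ring⟩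
  let g : Away ℬ f →ₗ[R'] Away 𝒜 (φ f) := (IsScalarTower.toAlgHom R' (Away ℬ f) (Away 𝒜 (φ f))).toLinearMap
  let Φ : R ⊗[R'] Away ℬ f →ₗ[R] Away 𝒜 (φ f) := g.liftBaseChange R
  have hΦ : ∀ k a, (Φ (L k a)).val =
      Localization.mk (DirectSum.decompose 𝒜 a (k • m) : A) ⟨φ f ^ k, pow_mem (Submonoid.mem_powers (φ f)) k⟩ := by
    intro k a
    let T : A →ₗ[R] Away 𝒜 (φ f) :=
      { toFun := fun a => Away.mk 𝒜 hfA k _ (SetLike.coe_mem (DirectSum.decompose 𝒜 a (k • m)))
        map_add' := fun x y => val_injective _ (by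
          rw [val_add, Away.val_mk, Away.val_mk, Away.val_mk, Localization.add_mk_self]
          simp)
        map_smul' := fun r x => val_injective _ (by
          rw [RingHom.id_apply, Algebra.smul_def (A := Away 𝒜 (φ f)) r, val_mul, Away.val_mk, Away.val_mk,
            RingHom.algebraMap_toAlgebra, coeff_val, Localization.mk_mul, one_mul, ← Algebra.smul_def]
          simp
          rfl) }
    have h : Φ (L k a) = T a := hext (Φ.comp (L k)) T (fun b => by
      show Φ (L k (φ b)) = T (φ b)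
      rw [hL, LinearMap.liftBaseChange_tmul, one_smul]
      refine val_injective _ ?_
      show (Away.map φ f (Away.mk ℬ hf k _ _)).val = (Away.mk 𝒜 hfA k _ _).val
      rw [Away.map_mk, Away.val_mk, Away.val_mk, hproj]) a
    rw [h]
    show (Away.mk 𝒜 hfA k _ _).val = _
    rw [Away.val_mk]
  have hproj2 : ∀ k a, L k (DirectSum.decompose 𝒜 a (k • m) : A) = L k a := by
    intro k
    let P : A →ₗ[R] A := (𝒜 (k • m)).subtype.comp
      ((DFinsupp.lapply (k • m)).comp (DirectSum.decomposeLinearEquiv 𝒜).toLinearMap)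
    refine hext ((L k).comp P) (L k) fun b => ?_
    show L k (DirectSum.decompose 𝒜 (φ b) (k • m) : A) = L k (φ b)
    rw [← hproj, hL, hL]
    congr 1
    refine val_injective _ ?_
    show (Away.mk ℬ hf k _ _).val = (Away.mk ℬ hf k _ _).val
    rw [Away.val_mk, Away.val_mk, DirectSum.decompose_of_mem_same ℬ (SetLike.coe_mem _)]
  have hall : ∀ x, ∃ k a, x = L k a := by
    intro x
    induction x with
    | zero => exact ⟨0, 0, (map_zero _).symm⟩
    | tmul r z =>
      obtain ⟨k, b, hb, rfl⟩ := Away.mk_surjective ℬ hf z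
      refine ⟨k, r • φ b, ?_⟩
      rw [map_smul, hL, TensorProduct.smul_tmul', smul_eq_mul, mul_one]
      congr 1
      refine val_injective _ ?_
      show _ = (Away.mk ℬ hf k _ _).val
      rw [Away.val_mk, Away.val_mk, DirectSum.decompose_of_mem_same ℬ hb]
    | add x y hx hy =>
      obtain ⟨k, a, rfl⟩ := hx
      obtain ⟨l, c, rfl⟩ := hy
      refine ⟨k + l, φ f ^ l * a + φ f ^ k * c, ?_⟩
      rw [map_add, hshift, add_comm k l, hshift]
  have hbij : Function.Bijective Φ := by
    constructor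
    · rw [injective_iff_map_eq_zero]
      intro x hx
      obtain ⟨k, a, rfl⟩ := hall x
      have h := congrArg HomogeneousLocalization.val hx
      rw [hΦ, val_zero, Localization.mk_eq_mk', IsLocalization.mk'_eq_zero_iff] at h
      obtain ⟨⟨_, j, rfl⟩, hj⟩ := h
      rw [← hproj2, ← hshift j k]
      change φ f ^ j * _ = 0 at hj
      rw [hj, map_zero]
    · intro y
      obtain ⟨k, a, ha, rfl⟩ := Away.mk_surjective 𝒜 hfA y
      exact ⟨L k a, val_injective _ (by rw [hΦ, Away.val_mk, DirectSum.decompose_of_mem_same 𝒜 ha])⟩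
  haveI : Algebra.IsPushout R' R (Away ℬ f) (Away 𝒜 (φ f)) :=
    ⟨IsBaseChange.of_equiv (LinearEquiv.ofBijective Φ hbij) fun x => by
      show Φ ((1 : R) ⊗ₜ[R'] x) = _
      rw [LinearMap.liftBaseChange_tmul, one_smul]⟩
  exact (CommRingCat.isPushout_iff_isPushout (R := R') (S := Away ℬ f) (R' := R) (S' := Away 𝒜 (φ f))).2 inferInstance

theorem isPullback_map (hφ : HomogeneousIdeal.irrelevant 𝒜 ≤ (HomogeneousIdeal.irrelevant ℬ).map φ) :
    IsPullback (Proj.map φ hφ)
      (Proj.toSpecZero 𝒜 ≫ Spec.map (CommRingCat.ofHom (algebraMap R (𝒜 0))))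
      (Proj.toSpecZero ℬ ≫ Spec.map (CommRingCat.ofHom (algebraMap R' (ℬ 0))))
      (Spec.map (CommRingCat.ofHom (algebraMap R' R))) := by
  refine Scheme.isPullback_of_openCover _ _ _ _ (Proj.affineOpenCover ℬ).openCover fun j => ?_
  obtain ⟨m, f, hf⟩ := j
  have hm : 0 < (m : ℕ) := m.pos
  have hpb := Groth.L18.isPullback_awayι φ hφ hm f hf
  have hp := isPullback_SpecMap_of_isPushout _ _ _ _ (isPushout_away φ hφA hf)
  have hB : Proj.awayι ℬ f hf hm ≫ Proj.toSpecZero ℬ ≫ Spec.map (CommRingCat.ofHom (algebraMap R' (ℬ 0))) =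
      Spec.map (CommRingCat.ofHom (coeff ℬ f)) := by
    rw [Proj.awayι_toSpecZero_assoc, ← Spec.map_comp]; rfl
  have hA : Proj.awayι 𝒜 (φ f) (GradedFunLike.map_mem φ hf) hm ≫ Proj.toSpecZero 𝒜 ≫
      Spec.map (CommRingCat.ofHom (algebraMap R (𝒜 0))) = Spec.map (CommRingCat.ofHom (coeff 𝒜 (φ f))) := by
    rw [Proj.awayι_toSpecZero_assoc, ← Spec.map_comp]; rfl
  show IsPullback (pullback.snd (Proj.map φ hφ) (Proj.awayι ℬ f hf hm))
    (pullback.fst (Proj.map φ hφ) (Proj.awayι ℬ f hf hm) ≫ _) (Proj.awayι ℬ f hf hm ≫ _) _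
  refine IsPullback.of_iso (hA ▸ hB ▸ hp.flip) hpb.flip.isoPullback (Iso.refl _) (Iso.refl _) (Iso.refl _) ?_ ?_ ?_ ?_
  · exact (Category.comp_id _).trans hpb.flip.isoPullback_hom_snd.symm
  · simp
  · simp
  · simp

end Groth.L18.ProjBC
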