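import Groth.Agent.L18.GammaStar
import Groth.Agent.L16.ProjSpace.Twist
import Groth.Prelude.Def_ProjUP

/-!
Points of `Proj 𝒮` given by graded evaluations `S →+* C`; frames `t` of `O(1)`.
-/

set_option autoImplicit false
universe u

open CategoryTheory CategoryTheory.Limits AlgebraicGeometry TopologicalSpace Opposite HomogeneousLocalization

noncomputable section

namespace Groth.L18.ProjPt

open Groth.L18.Frame (rs ro rs_rs IsFrame pull pull_rs pull_smul rs_smul)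
open Groth.L18.ClosedSub (sec sec_val)

variable {R S : Type u} [CommRing R] [CommRing S] [Algebra R S] {𝒮 : ℕ → Submodule R S} [GradedAlgebra 𝒮]
variable {C : Type u} [CommRing C]

variable (𝒮) in
/-- Evaluation of homogeneous fractions. -/
def awayHom (Φ : S →+* C) (t : S) (ht : IsUnit (Φ t)) : Away 𝒮 t →+* C :=
  (IsLocalization.Away.lift (S := Localization.Away t) t ht).comp (algebraMap (Away 𝒮 t) (Localization.Away t))

theorem awayHom_mk (Φ : S →+* C) {t : S} (ht : IsUnit (Φ t)) {e : ℕ} (hte : t ∈ 𝒮 e) (k : ℕ) (x : S)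
    (hx : x ∈ 𝒮 (k • e)) : awayHom 𝒮 Φ t ht (Away.mk 𝒮 hte k x hx) * Φ t ^ k = Φ x := by
  rw [awayHom, RingHom.comp_apply, HomogeneousLocalization.algebraMap_apply, Away.val_mk,
    Localization.mk_eq_mk']
  conv_lhs => rw [← map_pow, ← IsLocalization.Away.lift_eq (S := Localization.Away t) t ht]
  rw [← map_mul, IsLocalization.mk'_spec, IsLocalization.Away.lift_eq]

theorem awayHom_comp {D : Type u} [CommRing D] (g : C →+* D) (Φ : S →+* C) {t : S} (ht : IsUnit (Φ t)) :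
    g.comp (awayHom 𝒮 Φ t ht) = awayHom 𝒮 (g.comp Φ) t (ht.map g) := by
  rw [awayHom, awayHom, ← RingHom.comp_assoc]
  congr 1
  refine IsLocalization.ringHom_ext (Submonoid.powers t) ?_
  rw [IsLocalization.Away.lift_comp, RingHom.comp_assoc, IsLocalization.Away.lift_comp]

theorem awayHom_awayMap (Φ : S →+* C) {p q x : S} {e : ℕ} (hq : q ∈ 𝒮 e) (hx : x = p * q) (hp : IsUnit (Φ p))
    (hxu : IsUnit (Φ x)) : (awayHom 𝒮 Φ x hxu).comp (awayMap 𝒮 hq hx) = awayHom 𝒮 Φ p hp := by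
  ext z
  simp only [awayHom, RingHom.comp_apply, HomogeneousLocalization.algebraMap_apply, val_awayMap]
  rw [← RingHom.comp_apply (IsLocalization.Away.lift (S := Localization.Away x) x hxu)]
  congr 1
  refine IsLocalization.ringHom_ext (Submonoid.powers p) ?_
  rw [IsLocalization.Away.lift_comp, RingHom.comp_assoc]
  unfold Localization.awayLift
  rw [IsLocalization.Away.lift_comp, IsLocalization.Away.lift_comp]

/-- Scaling degree `d` by `c ^ d` does not change the evaluation of fractions. -/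
theorem awayHom_scale (Φ Φ' : S →+* C) (c : C) (h : ∀ (d : ℕ) (x : S), x ∈ 𝒮 d → Φ' x = c ^ d * Φ x)
    {t : S} {e : ℕ} (hte : t ∈ 𝒮 e) (ht : IsUnit (Φ t)) (ht' : IsUnit (Φ' t)) :
    awayHom 𝒮 Φ' t ht' = awayHom 𝒮 Φ t ht := by
  ext z
  obtain ⟨k, x, hx, rfl⟩ := Away.mk_surjective 𝒮 hte z
  refine ((ht'.pow k).mul_left_inj).1 ?_
  rw [awayHom_mk Φ' ht' hte k x hx, h _ x hx, h e t hte, mul_pow, mul_left_comm, awayHom_mk Φ ht hte k x hx,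
    ← pow_mul, smul_eq_mul, mul_comm k e]

variable (𝒮) in
/-- The point with evaluation `Φ` on the chart of `t`. -/
def pt {C : CommRingCat.{u}} (Φ : S →+* C) {t : S} {e : ℕ} (hte : t ∈ 𝒮 e) (he : 0 < e) (ht : IsUnit (Φ t)) :
    Spec C ⟶ Proj 𝒮 :=
  Spec.map (CommRingCat.ofHom (awayHom 𝒮 Φ t ht)) ≫ Proj.awayι 𝒮 t hte he

theorem pt_mul_right {C : CommRingCat.{u}} (Φ : S →+* C) {p q x : S} {e e' : ℕ} (hp : p ∈ 𝒮 e) (he : 0 < e)
    (hq : q ∈ 𝒮 e') (hx : x = p * q) (hxe : x ∈ 𝒮 (e + e')) (hpu : IsUnit (Φ p)) (hxu : IsUnit (Φ x)) :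
    pt 𝒮 Φ hp he hpu = pt 𝒮 Φ hxe (Nat.add_pos_left he e') hxu := by
  rw [pt, pt, ← awayHom_awayMap Φ hq hx hpu hxu, CommRingCat.ofHom_comp, Spec.map_comp, Category.assoc,
    Proj.SpecMap_awayMap_awayι (𝒜 := 𝒮) hp he hq hx]

theorem pt_eq_of_scale {C : CommRingCat.{u}} (Φ Φ' : S →+* C) (c : C)
    (h : ∀ (d : ℕ) (x : S), x ∈ 𝒮 d → Φ' x = c ^ d * Φ x)
    {p q : S} (hp : p ∈ 𝒮 1) (hq : q ∈ 𝒮 1) (hpu : IsUnit (Φ p)) (hqu : IsUnit (Φ' q)) :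
    pt 𝒮 Φ hp one_pos hpu = pt 𝒮 Φ' hq one_pos hqu := by
  have hc : IsUnit c := isUnit_of_mul_isUnit_left (y := Φ q) (by simpa [h 1 q hq] using hqu)
  have hqu0 : IsUnit (Φ q) := isUnit_of_mul_isUnit_right (x := c) (by simpa [h 1 q hq] using hqu)
  have hx : IsUnit (Φ (p * q)) := by rw [map_mul]; exact hpu.mul hqu0
  have hpu' : IsUnit (Φ' p) := by rw [h 1 p hp, pow_one]; exact hc.mul hpu
  have hx' : IsUnit (Φ' (p * q)) := by rw [map_mul]; exact hpu'.mul hqu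
  have hm : p * q ∈ 𝒮 (1 + 1) := SetLike.mul_mem_graded hp hq
  rw [pt_mul_right Φ hp one_pos hq rfl hm hpu hx, pt_mul_right Φ' hq one_pos hp (mul_comm p q) hm hqu hx',
    pt, pt, awayHom_scale Φ Φ' c h hm hx hx']

theorem SpecMap_pt {C D : CommRingCat.{u}} (g : C ⟶ D) (Φ : S →+* C) {t : S} {e : ℕ} (hte : t ∈ 𝒮 e) (he : 0 < e)
    (ht : IsUnit (Φ t)) : Spec.map g ≫ pt 𝒮 Φ hte he ht = pt 𝒮 (g.hom.comp Φ) hte he (ht.map g.hom) := by
  rw [pt, pt, ← Spec.map_comp_assoc, ← awayHom_comp g.hom Φ ht]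
  rfl

theorem pt_toBase {C : CommRingCat.{u}} (Φ : S →+* C) {t : S} (hte : t ∈ 𝒮 1) (ht : IsUnit (Φ t)) :
    pt 𝒮 Φ hte one_pos ht ≫ Proj.toSpecZero 𝒮 ≫ Spec.map (CommRingCat.ofHom (algebraMap R (𝒮 0))) =
      Spec.map (CommRingCat.ofHom (Φ.comp (algebraMap R S))) := by
  rw [pt, Category.assoc, Proj.awayι_toSpecZero_assoc, ← Spec.map_comp, ← Spec.map_comp]
  congr 1
  ext r
  show awayHom 𝒮 Φ t ht (fromZeroRingHom 𝒮 _ (algebraMap R (𝒮 0) r)) = Φ (algebraMap R S r)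
  rw [awayHom, RingHom.comp_apply, HomogeneousLocalization.algebraMap_apply,
    ← IsLocalization.Away.lift_eq (S := Localization.Away t) t ht (algebraMap R S r)]
  congr 1

/-- Gluing points. -/
theorem exists_hom {Z : Scheme.{u}} (𝒰 : Z.AffineOpenCover) (Φ : ∀ k, S →+* 𝒰.X k) (t : 𝒰.I₀ → S)
    (ht1 : ∀ k, t k ∈ 𝒮 1) (htu : ∀ k, IsUnit (Φ k (t k)))
    (hΦ : ∀ (k l : 𝒰.I₀) (C : CommRingCat.{u}) (f : 𝒰.X k ⟶ C) (g : 𝒰.X l ⟶ C),
      Spec.map f ≫ 𝒰.f k = Spec.map g ≫ 𝒰.f l →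
        ∃ c : C, ∀ (d : ℕ) (x : S), x ∈ 𝒮 d → g.hom (Φ l x) = c ^ d * f.hom (Φ k x)) :
    ∃ r : Z ⟶ Proj 𝒮, ∀ k, 𝒰.f k ≫ r = pt 𝒮 (Φ k) (ht1 k) one_pos (htu k) := by
  refine ⟨𝒰.openCover.glueMorphisms (fun k => pt 𝒮 (Φ k) (ht1 k) one_pos (htu k)) ?_,
    fun k => Scheme.Cover.ι_glueMorphisms 𝒰.openCover _ _ k⟩
  intro k l
  refine Scheme.Cover.hom_ext (pullback (𝒰.f k) (𝒰.f l)).affineOpenCover.openCover _ _ fun q => ?_
  set C := (pullback (𝒰.f k) (𝒰.f l)).affineOpenCover.X q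
  set w : Spec C ⟶ pullback (𝒰.f k) (𝒰.f l) := (pullback (𝒰.f k) (𝒰.f l)).affineOpenCover.f q
  show w ≫ pullback.fst (𝒰.f k) (𝒰.f l) ≫ _ = w ≫ pullback.snd (𝒰.f k) (𝒰.f l) ≫ _
  obtain ⟨f, hf⟩ := Spec.map_surjective (w ≫ pullback.fst (𝒰.f k) (𝒰.f l))
  obtain ⟨g, hg⟩ := Spec.map_surjective (w ≫ pullback.snd (𝒰.f k) (𝒰.f l))
  obtain ⟨c, hc⟩ := hΦ k l C f g (by rw [hf, hg, Category.assoc, Category.assoc, pullback.condition])
  rw [← Category.assoc, ← hf, ← Category.assoc, ← hg, SpecMap_pt, SpecMap_pt]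
  exact pt_eq_of_scale _ _ c hc _ _ _ _

section O1

/-- A degree-one element as a section of `O(1)`. -/
abbrev gl {t : S} (ht : t ∈ 𝒮 1) : Γ(Twist.twist 𝒮 1, ⊤) := Twist.globalOf 𝒮 (i := 1) ⟨t, ht⟩

theorem gl_frame {t : S} (ht : t ∈ 𝒮 1) :
    IsFrame (Twist.twist 𝒮 1) (Proj.basicOpen 𝒮 t) (rs (Twist.twist 𝒮 1) le_top (gl ht)) := by
  intro V h
  rw [rs_rs]
  let one' : 𝒮 0 := ⟨1, SetLike.GradedOne.one_mem⟩
  let a : 𝒮 1 := ⟨t, ht⟩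
  have hN : (((1 : ℕ) : ℤ)) = ((0 : ℕ) : ℤ) + (1 : ℤ) := by norm_num
  have ha : ∀ x : (V : Opens (ProjectiveSpectrum.top 𝒮)), a.1 ∉ x.1.asHomogeneousIdeal :=
    fun x => (Proj.mem_basicOpen _ _ _).1 (h x.2)
  have hb : ∀ x : (V : Opens (ProjectiveSpectrum.top 𝒮)), one'.1 ∉ x.1.asHomogeneousIdeal :=
    fun x hx => x.1.isPrime.ne_top ((Ideal.eq_top_iff_one _).mpr hx)
  exact ⟨Groth.L16.ProjTwist.smul_gen_injective a one' hN V hb ha,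
    Groth.L16.ProjTwist.smul_gen_surjective a one' hN V ha hb⟩

theorem sec_smul_gl {t u : S} (ht : t ∈ 𝒮 1) (hu : u ∈ 𝒮 1) :
    sec 𝒮 ht u hu • rs (Twist.twist 𝒮 1) (le_top : Proj.basicOpen 𝒮 t ≤ ⊤) (gl ht) =
      rs (Twist.twist 𝒮 1) le_top (gl hu) := by
  refine Subtype.ext (funext fun x => Subtype.ext ?_)
  erw [Twist.coe_smul_val]
  show HomogeneousLocalization.val ((sec 𝒮 ht u hu).1 x) * Localization.mk _ _ = Localization.mk _ _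
  rw [sec_val ht hu x.1 x.2, Localization.mk_mul, Localization.mk_eq_mk_iff, Localization.r_iff_exists]
  refine ⟨1, ?_⟩
  simp only [OneMemClass.coe_one, one_mul, Submonoid.coe_mul, pow_one, mul_one]
  exact mul_comm _ _

variable {Z : Scheme.{u}} (r : Z ⟶ Proj 𝒮)

/-- `r^* t`. -/
abbrev rgl {t : S} (ht : t ∈ 𝒮 1) : Γ((Scheme.Modules.pullback r).obj (Twist.twist 𝒮 1), ⊤) :=
  ProjUP.pullSec r (Twist.twist 𝒮 1) (gl ht)

theorem rs_rgl {t : S} (ht : t ∈ 𝒮 1) (V : (Proj 𝒮).Opens) :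
    rs ((Scheme.Modules.pullback r).obj (Twist.twist 𝒮 1)) (le_top : r ⁻¹ᵁ V ≤ ⊤) (rgl r ht) =
      pull r (Twist.twist 𝒮 1) V (rs (Twist.twist 𝒮 1) le_top (gl ht)) :=
  pull_rs r (Twist.twist 𝒮 1) (le_top : V ≤ ⊤) (gl ht)

theorem rgl_frame_le {t : S} (ht : t ∈ 𝒮 1) {W : Z.Opens} (h : W ≤ r ⁻¹ᵁ Proj.basicOpen 𝒮 t) :
    IsFrame ((Scheme.Modules.pullback r).obj (Twist.twist 𝒮 1)) W (rs _ le_top (rgl r ht)) := by
  have h1 : IsFrame ((Scheme.Modules.pullback r).obj (Twist.twist 𝒮 1)) (r ⁻¹ᵁ Proj.basicOpen 𝒮 t)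
      (rs _ le_top (rgl r ht)) := by
    rw [rs_rgl]
    exact IsFrame.pullback r (Twist.twist 𝒮 1) (gl_frame ht)
  have h2 := h1.mono h
  rwa [rs_rs] at h2

theorem rgl_smul_le {t u : S} (ht : t ∈ 𝒮 1) (hu : u ∈ 𝒮 1) {W : Z.Opens} (h : W ≤ r ⁻¹ᵁ Proj.basicOpen 𝒮 t) :
    r.appLE (Proj.basicOpen 𝒮 t) W h (sec 𝒮 ht u hu) •
        rs ((Scheme.Modules.pullback r).obj (Twist.twist 𝒮 1)) (le_top : W ≤ ⊤) (rgl r ht) =
      rs _ le_top (rgl r hu) := by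
  have h1 : r.app (Proj.basicOpen 𝒮 t) (sec 𝒮 ht u hu) •
      rs ((Scheme.Modules.pullback r).obj (Twist.twist 𝒮 1)) (le_top : r ⁻¹ᵁ Proj.basicOpen 𝒮 t ≤ ⊤) (rgl r ht) =
      rs _ le_top (rgl r hu) := by
    rw [rs_rgl, rs_rgl, ← pull_smul, sec_smul_gl]
  have := congrArg (rs ((Scheme.Modules.pullback r).obj (Twist.twist 𝒮 1)) h) h1
  rw [rs_smul, rs_rs, rs_rs] at this
  exact this

end O1

end Groth.L18.ProjPt
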