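import Groth.Agent.S1496
import Groth.Agent.L16.ProjSpace.BaseChange
import Groth.Agent.L18.ClosedSub
import Groth.Agent.L18.GradedGen
import Groth.Agent.L18.AmpleOps
import Groth.Agent.L18.RelProj.ProjHom

/-!
A proper scheme with an ample sheaf over an affine base is `Proj` of a graded algebra generated in degree one.
-/

set_option autoImplicit false
set_option linter.style.haveILetI false
set_option backward.isDefEq.respectTransparency false
set_option backward.isDefEq.respectTransparency.types false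

noncomputable section

universe u

open CategoryTheory CategoryTheory.Limits AlgebraicGeometry MvPolynomial

namespace Groth.L18.ProperAmpleProj

variable {A : Type u} [CommRing A]

theorem irrelevant_eq_span (n : ℕ) :
    (HomogeneousIdeal.irrelevant (CohB1.polyGrading n A)).toIdeal =
      Ideal.span (Set.range (X : Fin (n + 1) → MvPolynomial (Fin (n + 1)) A)) := by
  refine (Groth.L18.irrelevant_eq_span_iff (CohB1.polyGrading n A) _ ?_).2 ?_
  · rintro _ ⟨i, rfl⟩
    exact ⟨1, one_pos, isHomogeneous_X A i⟩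
  · refine eq_top_iff.2 fun p hp => ?_
    clear hp
    induction p using MvPolynomial.induction_on with
    | C a =>
      exact Subalgebra.algebraMap_mem _ (⟨C a, isHomogeneous_C (Fin (n + 1)) a⟩ : CohB1.polyGrading n A 0)
    | add p q hp hq => exact add_mem hp hq
    | mul_X p i hp => exact mul_mem hp (Algebra.subset_adjoin ⟨i, rfl⟩)

theorem exists_proj {Z : Scheme.{u}} (f : Z ⟶ Spec (CommRingCat.of A)) [IsProper f]
    (L : Z.Modules) (hamp : RelAmple.IsRelAmple f L) :
    ∃ (S : Type u) (_ : CommRing S) (_ : Algebra A S) (𝒮 : ℕ → Submodule A S) (_ : GradedAlgebra 𝒮) (s : Finset S),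
      Function.Surjective (algebraMap A (𝒮 0)) ∧ (∀ g ∈ s, g ∈ 𝒮 1) ∧
      (HomogeneousIdeal.irrelevant 𝒮).toIdeal = Ideal.span (s : Set S) ∧
      ∃ e : Z ≅ Proj 𝒮, e.hom ≫ Proj.toSpecZero 𝒮 ≫ Spec.map (CommRingCat.ofHom (algebraMap A (𝒮 0))) = f := by
  classical
  have h := Groth.Agent.S1496.result (S := Spec (CommRingCat.of A))
    ⟨_, Groth.L18.Ample.isAmple_structureModule⟩ f
  obtain ⟨n, i, hi, hif⟩ := h.1.2 (h.2.2 ⟨inferInstance, L, hamp⟩)
  haveI := hi
  let j : Z ⟶ CohB1.ProjSpace n A := i ≫ (Groth.L16.ProjSpace.isoOver n A).inv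
  haveI : IsClosedImmersion j := inferInstance
  have hj : j ≫ CohB1.ProjSpace.toSpec n A = f := by
    rw [← Groth.L16.ProjSpace.isoOver_hom_toBase, Category.assoc, Iso.inv_hom_id_assoc]
    exact hif
  let 𝒜 := CohB1.polyGrading n A
  let sX : Finset (MvPolynomial (Fin (n + 1)) A) := Finset.univ.image X
  have hsX : (sX : Set (MvPolynomial (Fin (n + 1)) A)) = Set.range X := by
    rw [Finset.coe_image, Finset.coe_univ, Set.image_univ]
  have hs1 : ∀ g ∈ sX, g ∈ 𝒜 1 := fun g hg => by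
    obtain ⟨k, -, rfl⟩ := Finset.mem_image.1 hg
    exact isHomogeneous_X A k
  have hirr : (HomogeneousIdeal.irrelevant 𝒜).toIdeal = Ideal.span (sX : Set (MvPolynomial (Fin (n + 1)) A)) := by
    rw [hsX]; exact irrelevant_eq_span n
  let I := Groth.L18.ClosedSub.vanishIdeal (𝒜 := 𝒜) j sX
  letI gr := Groth.L18.ClosedSub.quotGradedAlgebra 𝒜 I
    (fun x hx d => Groth.L18.ClosedSub.decompose_mem_vanishIdeal j sX hx d)
  let φ := Groth.L18.ClosedSub.quotHom 𝒜 I
  have hφ := Groth.L18.ClosedSub.irrelevant_le_map 𝒜 I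
  have hsurj : Function.Surjective φ := Ideal.Quotient.mk_surjective
  obtain ⟨e, he⟩ := Groth.L18.ClosedSub.exists_iso j sX hs1 hirr.le φ hsurj hφ fun d F hF => by
    rw [Groth.L18.ClosedSub.quotHom_apply, Ideal.Quotient.eq_zero_iff_mem,
      Groth.L18.ClosedSub.mem_vanishIdeal_iff j sX hF]
  refine ⟨_, inferInstance, inferInstance, Groth.L18.ClosedSub.quotGrading 𝒜 I, gr, sX.image φ, ?_, ?_, ?_, e, ?_⟩
  · rintro ⟨_, p, hp, rfl⟩
    refine ⟨coeff 0 p, Subtype.ext ?_⟩
    show algebraMap A _ (coeff 0 p) = Ideal.Quotient.mk I p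
    exact congrArg (Ideal.Quotient.mk I)
      (totalDegree_eq_zero_iff_eq_C.1 (Nat.le_zero.1 (IsHomogeneous.totalDegree_le hp))).symm
  · intro g hg
    obtain ⟨x, hx, rfl⟩ := Finset.mem_image.1 hg
    exact φ.map_mem (hs1 x hx)
  · refine le_antisymm ?_ (Ideal.span_le.2 ?_)
    · refine le_trans (show (HomogeneousIdeal.irrelevant (Groth.L18.ClosedSub.quotGrading 𝒜 I)).toIdeal ≤
        ((HomogeneousIdeal.irrelevant 𝒜).map φ).toIdeal from hφ) ?_
      show (HomogeneousIdeal.irrelevant 𝒜).toIdeal.map _ ≤ _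
      rw [hirr, Ideal.map_span]
      exact Ideal.span_mono fun y ⟨x, hx, e⟩ => Finset.mem_coe.2 (Finset.mem_image.2 ⟨x, hx, e⟩)
    · intro g hg
      obtain ⟨x, hx, rfl⟩ := Finset.mem_image.1 hg
      exact HomogeneousIdeal.mem_irrelevant_of_mem _ one_pos (φ.map_mem (hs1 x hx))
  · rw [← hj, ← he, Category.assoc]
    refine congrArg (e.hom ≫ ·) ?_
    refine Eq.trans ?_ (Groth.L18.RPLoc.map_toSpecZero φ hφ
      (CommRingCat.ofHom (algebraMap A (𝒜 0)))
      (CommRingCat.ofHom (algebraMap A (Groth.L18.ClosedSub.quotGrading 𝒜 I 0))) (𝟙 _) fun r => rfl).symm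
    rw [Spec.map_id, Category.comp_id]

end Groth.L18.ProperAmpleProj
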