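import Groth.Agent.L18.AffineAlgExtend
import Groth.Agent.L18.RelSpecGlue
import Mathlib.Algebra.Category.Ring.FilteredColimits
import Mathlib.Algebra.Category.Ring.Colimits
import Mathlib.AlgebraicGeometry.GammaSpecAdjunction
import Mathlib.CategoryTheory.Limits.ConcreteCategory.Basic

/-! Filtered colimits of quasi-coherent algebras, and the limit property of their relative spectra. -/

set_option autoImplicit false
set_option backward.isDefEq.respectTransparency false

universe u

open CategoryTheory CategoryTheory.Limits AlgebraicGeometry TopologicalSpace Opposite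

noncomputable section

namespace Groth.L18.QCColim

variable {S : Scheme.{u}} {J : Type u} [SmallCategory J] [IsFiltered J]

/-- Sections of a quasi-coherent algebra over an open. -/
def ev (U : S.Opens) : RelSpec.QCAlg S ⥤ CommRingCat.{u} where
  obj A := A.presheaf.obj (op U)
  map φ := φ.hom.app (op U)
  map_id _ := rfl
  map_comp _ _ := rfl

variable (A : J ⥤ RelSpec.QCAlg S)

/-- The restriction transformation. -/
def resNat {U V : S.Opens} (h : V ≤ U) : A ⋙ ev U ⟶ A ⋙ ev V where
  app j := (A.obj j).presheaf.map (homOfLE h).op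
  naturality j j' φ := ((A.map φ).hom.naturality (homOfLE h).op).symm

theorem str_ι (U : S.Opens) (j j' : J) :
    (A.obj j).str.app (op U) ≫ colimit.ι (A ⋙ ev U) j = (A.obj j').str.app (op U) ≫ colimit.ι (A ⋙ ev U) j' := by
  have key : ∀ {a b : J} (φ : a ⟶ b),
      (A.obj a).str.app (op U) ≫ colimit.ι (A ⋙ ev U) a = (A.obj b).str.app (op U) ≫ colimit.ι (A ⋙ ev U) b := by
    intro a b φ
    rw [← colimit.w (A ⋙ ev U) φ, ← Category.assoc]
    congr 1
    exact congrArg (fun α => α.app (op U)) (A.map φ).comm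
  exact (key (IsFiltered.leftToMax j j')).trans (key (IsFiltered.rightToMax j j')).symm

/-- An index. -/
def j₀ (J : Type u) [SmallCategory J] [IsFiltered J] : J := (IsFiltered.nonempty (C := J)).some

/-- The structure map of the colimit. -/
def strC (U : S.Opens) : Γ(S, U) ⟶ colimit (A ⋙ ev U) :=
  (A.obj (j₀ J)).str.app (op U) ≫ colimit.ι (A ⋙ ev U) (j₀ J)

theorem strC_eq (U : S.Opens) (j : J) : strC A U = (A.obj j).str.app (op U) ≫ colimit.ι (A ⋙ ev U) j :=
  str_ι A U _ _

theorem isLoc (U : S.Opens) (hU : IsAffineOpen U) (r : Γ(S, U)) :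
    letI := (colimMap (resNat A (S.basicOpen_le r))).hom.toAlgebra
    IsLocalization.Away ((strC A U).hom r) (colimit (A ⋙ ev (S.basicOpen r)) : CommRingCat) := by
  letI := (colimMap (resNat A (S.basicOpen_le r))).hom.toAlgebra
  have hres : ∀ j (a : (A.obj j).presheaf.obj (op U)),
      (colimMap (resNat A (S.basicOpen_le r))).hom ((colimit.ι (A ⋙ ev U) j).hom a) =
        (colimit.ι (A ⋙ ev (S.basicOpen r)) j).hom (((A.obj j).presheaf.map (homOfLE (S.basicOpen_le r)).op).hom a) :=
    fun j a => ConcreteCategory.congr_hom (ι_colimMap (resNat A (S.basicOpen_le r)) j) a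
  refine IsLocalization.Away.mk _ ?_ ?_ ?_
  · show IsUnit ((colimMap (resNat A (S.basicOpen_le r))).hom ((strC A U).hom r))
    rw [strC]
    show IsUnit ((colimMap (resNat A (S.basicOpen_le r))).hom
      ((colimit.ι (A ⋙ ev U) (j₀ J)).hom (((A.obj (j₀ J)).str.app (op U)).hom r)))
    rw [hres (j₀ J) (((A.obj (j₀ J)).str.app (op U)).hom r)]
    letI := ((A.obj (j₀ J)).presheaf.map (homOfLE (S.basicOpen_le r)).op).hom.toAlgebra
    haveI := (A.obj (j₀ J)).isQC U hU r
    exact (IsLocalization.Away.algebraMap_isUnit (S := (A.obj (j₀ J)).presheaf.obj (op (S.basicOpen r)))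
      (((A.obj (j₀ J)).str.app (op U)).hom r)).map _
  · intro z
    obtain ⟨j, y, rfl⟩ := Concrete.colimit_exists_rep (A ⋙ ev (S.basicOpen r)) z
    letI := ((A.obj j).presheaf.map (homOfLE (S.basicOpen_le r)).op).hom.toAlgebra
    haveI := (A.obj j).isQC U hU r
    obtain ⟨n, a, ha⟩ := IsLocalization.Away.surj (S := (A.obj j).presheaf.obj (op (S.basicOpen r)))
      (((A.obj j).str.app (op U)).hom r) y
    refine ⟨n, (colimit.ι (A ⋙ ev U) j).hom a, ?_⟩
    show _ * (colimMap (resNat A (S.basicOpen_le r))).hom ((strC A U).hom r) ^ n =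
      (colimMap (resNat A (S.basicOpen_le r))).hom ((colimit.ι (A ⋙ ev U) j).hom a)
    rw [strC_eq A U j]
    refine (congrArg₂ (fun s t => _ * s ^ n = t) (hres j (((A.obj j).str.app (op U)).hom r)) (hres j a)).mpr ?_
    rw [← map_pow, ← map_mul]
    exact congrArg _ ha
  · intro x y h
    obtain ⟨i, a, rfl⟩ := Concrete.colimit_exists_rep (A ⋙ ev U) x
    obtain ⟨i', b, rfl⟩ := Concrete.colimit_exists_rep (A ⋙ ev U) y
    change (colimMap (resNat A (S.basicOpen_le r))).hom ((colimit.ι (A ⋙ ev U) i).hom a) =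
      (colimMap (resNat A (S.basicOpen_le r))).hom ((colimit.ι (A ⋙ ev U) i').hom b) at h
    rw [hres, hres] at h
    obtain ⟨k, f, g, hk⟩ := (Concrete.colimit_rep_eq_iff_exists (A ⋙ ev (S.basicOpen r)) _ _).1 h
    letI := ((A.obj k).presheaf.map (homOfLE (S.basicOpen_le r)).op).hom.toAlgebra
    haveI := (A.obj k).isQC U hU r
    have hk' : algebraMap _ ((A.obj k).presheaf.obj (op (S.basicOpen r))) (((A.map f).hom.app (op U)).hom a) =
        algebraMap _ _ (((A.map g).hom.app (op U)).hom b) :=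
      ((ConcreteCategory.congr_hom ((resNat A (S.basicOpen_le r)).naturality f) a).trans hk).trans
        (ConcreteCategory.congr_hom ((resNat A (S.basicOpen_le r)).naturality g) b).symm
    obtain ⟨⟨_, n, rfl⟩, hn⟩ := IsLocalization.exists_of_eq (M := Submonoid.powers (((A.obj k).str.app (op U)).hom r)) hk'
    refine ⟨n, ?_⟩
    rw [strC_eq A U k, CommRingCat.comp_apply, ← colimit.w (A ⋙ ev U) f, ← colimit.w (A ⋙ ev U) g,
      CommRingCat.comp_apply, CommRingCat.comp_apply, ← map_pow]
    erw [← map_mul, ← map_mul]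
    exact congrArg _ hn

theorem res_hom_ext {U : S.Opens} {R : CommRingCat.{u}} {f g : colimit (A ⋙ ev U) ⟶ R}
    (h : ∀ j, colimit.ι (A ⋙ ev U) j ≫ f = colimit.ι (A ⋙ ev U) j ≫ g) : f = g := colimit.hom_ext h

/-- The colimit on affine opens. -/
def data : Groth.L18.AlgExt.Data S where
  obj U _ := colimit (A ⋙ ev U)
  res _ _ h := colimMap (resNat A h)
  res_id {U} _ := by
    refine res_hom_ext A fun j => ?_
    rw [ι_colimMap, Category.comp_id]
    show (A.obj j).presheaf.map (homOfLE le_rfl).op ≫ _ = _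
    rw [show (homOfLE (le_refl U)).op = 𝟙 (op U) from Subsingleton.elim _ _, CategoryTheory.Functor.map_id]
    exact Category.id_comp _
  res_comp _ _ _ h h' := by
    refine res_hom_ext A fun j => ?_
    rw [ι_colimMap_assoc, ι_colimMap, ι_colimMap, ← Category.assoc]
    congr 1
    exact Groth.L18.RSGlue.map_map (A.obj j) h h'
  str U _ := strC A U
  str_res {U V} _ _ h := by
    simp only [strC, Category.assoc]
    rw [ι_colimMap, ← Category.assoc, ← Category.assoc]
    congr 1
    exact ((A.obj (j₀ J)).str.naturality (homOfLE h).op).symm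
  isLoc := isLoc A

/-- The colimit algebra. -/
abbrev alg : RelSpec.QCAlg S := (data A).alg

/-- Homomorphisms are determined on affine opens. -/
theorem hom_ext_affine {B B' : RelSpec.QCAlg S} {f g : B ⟶ B'}
    (h : ∀ U : S.Opens, IsAffineOpen U → f.hom.app (op U) = g.hom.app (op U)) : f = g := by
  refine RelSpec.QCAlg.hom_ext ((Functor.IsCoverDense.restrictHomEquivHom
    (G := Scheme.AffineZariskiSite.toOpensFunctor S) (K := Opens.grothendieckTopology S) (ℱ := B.presheaf)
    (ℱ' := (⟨B'.presheaf, B'.isSheaf⟩ : TopCat.Sheaf CommRingCat.{u} S.carrier))).symm.injective ?_)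
  ext U : 2
  exact h U.unop.1 U.unop.2

/-- A homomorphism from its components on affine opens. -/
theorem exists_hom (B B' : RelSpec.QCAlg S)
    (φ : ∀ U : S.Opens, IsAffineOpen U → (B.presheaf.obj (op U) ⟶ B'.presheaf.obj (op U)))
    (hφ : ∀ {U V : S.Opens} (hU : IsAffineOpen U) (hV : IsAffineOpen V) (h : V ≤ U),
      B.presheaf.map (homOfLE h).op ≫ φ V hV = φ U hU ≫ B'.presheaf.map (homOfLE h).op)
    (hstr : ∀ (U : S.Opens) (hU : IsAffineOpen U), B.str.app (op U) ≫ φ U hU = B'.str.app (op U)) :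
    ∃ f : B ⟶ B', ∀ (U : S.Opens) (hU : IsAffineOpen U), f.hom.app (op U) = φ U hU := by
  let e := Functor.IsCoverDense.restrictHomEquivHom
    (G := Scheme.AffineZariskiSite.toOpensFunctor S) (K := Opens.grothendieckTopology S) (ℱ := B.presheaf)
    (ℱ' := (⟨B'.presheaf, B'.isSheaf⟩ : TopCat.Sheaf CommRingCat.{u} S.carrier))
  let α : (Scheme.AffineZariskiSite.toOpensFunctor S).op ⋙ B.presheaf ⟶
      (Scheme.AffineZariskiSite.toOpensFunctor S).op ⋙ B'.presheaf :=
    { app := fun U => φ U.unop.1 U.unop.2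
      naturality := fun U V i =>
        hφ U.unop.2 V.unop.2 (Scheme.AffineZariskiSite.toOpens_mono i.unop.le) }
  have hev : ∀ (U : S.Opens) (hU : IsAffineOpen U), (e α).app (op U) = φ U hU := fun U hU =>
    NatTrans.congr_app (e.symm_apply_apply α) (op ⟨U, hU⟩)
  refine ⟨⟨e α, ?_⟩, hev⟩
  apply (Functor.IsCoverDense.restrictHomEquivHom (G := Scheme.AffineZariskiSite.toOpensFunctor S)
    (K := Opens.grothendieckTopology S) (ℱ := S.presheaf)
    (ℱ' := (⟨B'.presheaf, B'.isSheaf⟩ : TopCat.Sheaf CommRingCat.{u} S.carrier))).symm.injective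
  ext U : 2
  change B.str.app (op U.unop.1) ≫ (e α).app (op U.unop.1) = B'.str.app (op U.unop.1)
  rw [hev U.unop.1 U.unop.2]
  exact hstr _ _

theorem ev_res {U V : S.Opens} (hU : IsAffineOpen U) (hV : IsAffineOpen V) (h : V ≤ U) :
    (alg A).presheaf.map (homOfLE h).op ≫ (data A).ev V hV = (data A).ev U hU ≫ colimMap (resNat A h) :=
  CommRingCat.hom_ext (RingHom.ext fun a => (data A).ev_res hU hV h a)

theorem exists_inj (j : J) :
    ∃ f : A.obj j ⟶ alg A, ∀ (U : S.Opens) (hU : IsAffineOpen U),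
      f.hom.app (op U) ≫ (data A).ev U hU = colimit.ι (A ⋙ ev U) j := by
  obtain ⟨f, hf⟩ := exists_hom (A.obj j) (alg A) (fun U hU => colimit.ι (A ⋙ ev U) j ≫ inv ((data A).ev U hU))
    (fun {U V} hU hV h => by
      rw [← cancel_mono ((data A).ev V hV)]
      simp only [Category.assoc, IsIso.inv_hom_id, Category.comp_id]
      rw [ev_res A hU hV h, IsIso.inv_hom_id_assoc]
      exact (ι_colimMap (resNat A h) j).symm)
    (fun U hU => by
      rw [← cancel_mono ((data A).ev U hU), Category.assoc, Category.assoc, IsIso.inv_hom_id, Category.comp_id,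
        (data A).str_ev U hU]
      exact (strC_eq A U j).symm)
  exact ⟨f, fun U hU => by rw [hf U hU, Category.assoc, IsIso.inv_hom_id]; exact Category.comp_id _⟩

/-- The colimit cocone. -/
def cocone : Cocone A where
  pt := alg A
  ι :=
    { app := fun j => (exists_inj A j).choose
      naturality := fun j j' φ => by
        refine hom_ext_affine fun U hU => ?_
        rw [← cancel_mono ((data A).ev U hU)]
        show ((A.map φ).hom.app (op U) ≫ (exists_inj A j').choose.hom.app (op U)) ≫ _ =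
          ((exists_inj A j).choose.hom.app (op U) ≫ 𝟙 _) ≫ _
        rw [Category.assoc, Category.comp_id, (exists_inj A j').choose_spec U hU, (exists_inj A j).choose_spec U hU]
        exact colimit.w (A ⋙ ev U) φ }

theorem cocone_ι (j : J) (U : S.Opens) (hU : IsAffineOpen U) :
    ((cocone A).ι.app j).hom.app (op U) ≫ (data A).ev U hU = colimit.ι (A ⋙ ev U) j :=
  (exists_inj A j).choose_spec U hU

theorem exists_desc (s : Cocone A) : ∃ f : alg A ⟶ s.pt, ∀ j, (cocone A).ι.app j ≫ f = s.ι.app j := by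
  let d := fun U : S.Opens => colimit.desc (A ⋙ ev U) ((ev U).mapCocone s)
  obtain ⟨f, hf⟩ := exists_hom (alg A) s.pt (fun U hU => (data A).ev U hU ≫ d U)
    (fun {U V} hU hV h => by
      rw [← Category.assoc, ev_res A hU hV h, Category.assoc, Category.assoc]
      refine congrArg ((data A).ev U hU ≫ ·) (colimit.hom_ext fun j => ?_)
      rw [ι_colimMap_assoc, colimit.ι_desc, colimit.ι_desc_assoc]
      exact (s.ι.app j).hom.naturality (homOfLE h).op)
    (fun U hU => by
      rw [← Category.assoc, (data A).str_ev U hU]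
      show ((A.obj (j₀ J)).str.app (op U) ≫ colimit.ι (A ⋙ ev U) (j₀ J)) ≫ d U = _
      rw [Category.assoc, colimit.ι_desc]
      exact congrArg (fun α => α.app (op U)) (s.ι.app (j₀ J)).comm)
  refine ⟨f, fun j => hom_ext_affine fun U hU => ?_⟩
  show ((cocone A).ι.app j).hom.app (op U) ≫ f.hom.app (op U) = _
  rw [hf U hU, ← Category.assoc, cocone_ι A j U hU]
  exact colimit.ι_desc _ _

/-- It is a colimit. -/
def isColimit : IsColimit (cocone A) where
  desc s := (exists_desc A s).choose
  fac s j := (exists_desc A s).choose_spec j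
  uniq s m hm := by
    refine hom_ext_affine fun U hU => ?_
    rw [← cancel_epi (inv ((data A).ev U hU))]
    refine colimit.hom_ext (F := A ⋙ ev U) fun j => ?_
    rw [← cocone_ι A j U hU]
    simp only [Category.assoc, IsIso.hom_inv_id_assoc]
    exact congrArg (fun α : A.obj j ⟶ s.pt => α.hom.app (op U))
      ((hm j).trans ((exists_desc A s).choose_spec j).symm)

/-- Sections over affine opens commute with filtered colimits of quasi-coherent algebras. -/
def isColimitEv {c : Cocone A} (hc : IsColimit c) {U : S.Opens} (hU : IsAffineOpen U) :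
    IsColimit ((ev U).mapCocone c) :=
  (colimit.isColimit (A ⋙ ev U)).ofIsoColimit
    ((Cocone.ext (asIso ((data A).ev U hU)) (fun j => cocone_ι A j U hU) :
        (ev U).mapCocone (cocone A) ≅ colimit.cocone (A ⋙ ev U)).symm ≪≫
      (Cocones.functoriality A (ev U)).mapIso (IsColimit.uniqueUpToIso (isColimit A) hc))

/-- The relative spectrum of a filtered colimit is the limit of the relative spectra. -/
theorem existsUnique_lift {c : Cocone A} (hc : IsColimit c) (T : Scheme.{u}) (v : ∀ j : J, T ⟶ (A.obj j).spec)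
    (hv : ∀ (j j' : J) (φ : j ⟶ j'), v j' ≫ RelSpec.QCAlg.specMap (A.map φ) = v j) :
    ∃! w : T ⟶ c.pt.spec, ∀ j : J, w ≫ RelSpec.QCAlg.specMap (c.ι.app j) = v j := by
  let g : T ⟶ S := v (j₀ J) ≫ (A.obj (j₀ J)).π
  have hg : ∀ j, v j ≫ (A.obj j).π = g := by
    have key : ∀ {a b : J} (φ : a ⟶ b), v a ≫ (A.obj a).π = v b ≫ (A.obj b).π := fun {a b} φ => by
      rw [← hv a b φ, Category.assoc, RelSpec.QCAlg.specMap_π]
    intro j
    exact (key (IsFiltered.leftToMax j (j₀ J))).trans (key (IsFiltered.rightToMax j (j₀ J))).symm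
  -- the statement over an affine open of the base
  have hloc : ∀ (U : S.Opens) (_ : IsAffineOpen U) (T' : Scheme.{u}) (a : T' ⟶ T),
      Set.range (a ≫ g).base ⊆ (U : Set S) →
        ∃! w : T' ⟶ c.pt.spec, ∀ j : J, w ≫ RelSpec.QCAlg.specMap (c.ι.app j) = a ≫ v j := by
    intro U hU T' a ha
    have hr : ∀ (B : RelSpec.QCAlg S) (m : T' ⟶ B.spec), m ≫ B.π = a ≫ g →
        Set.range m.base ⊆ Set.range (B.ι U hU).base := fun B m hm => by
      rintro _ ⟨t, rfl⟩
      exact Groth.L18.RSGlue.exists_ι_eq B U hU _ (by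
        rw [← Scheme.Hom.comp_apply, hm]; exact ha ⟨t, rfl⟩)
    have hva : ∀ j, (a ≫ v j) ≫ (A.obj j).π = a ≫ g := fun j => by rw [Category.assoc, hg]
    let l : ∀ j, T' ⟶ Spec ((A.obj j).presheaf.obj (op U)) := fun j =>
      IsOpenImmersion.lift ((A.obj j).ι U hU) (a ≫ v j) (hr _ _ (hva j))
    have hl : ∀ j, l j ≫ (A.obj j).ι U hU = a ≫ v j := fun j => IsOpenImmersion.lift_fac _ _ _
    let κ : Cone ((A ⋙ ev U).op ⋙ Scheme.Spec) :=
      { pt := T'
        π :=
          { app := fun j => l j.unop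
            naturality := fun i k φ => by
              show 𝟙 _ ≫ l k.unop = l i.unop ≫ Spec.map ((A.map φ.unop).hom.app (op U))
              rw [Category.id_comp, ← cancel_mono ((A.obj k.unop).ι U hU), hl, Category.assoc,
                ← RelSpec.QCAlg.ι_specMap U hU (A.map φ.unop), reassoc_of% (hl i.unop), hv] } }
    have hlim := isLimitOfPreserves Scheme.Spec (isColimitEv A hc hU).op
    refine ⟨hlim.lift κ ≫ c.pt.ι U hU, fun j => ?_, fun w hw => ?_⟩
    · have := hlim.fac κ (op j)
      show (hlim.lift κ ≫ c.pt.ι U hU) ≫ RelSpec.QCAlg.specMap (c.ι.app j) = a ≫ v j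
      rw [Category.assoc, RelSpec.QCAlg.ι_specMap U hU, ← hl j]
      exact (Category.assoc _ _ _).symm.trans (congrArg (· ≫ _) this)
    · have hwπ : w ≫ c.pt.π = a ≫ g := by
        refine (congrArg (w ≫ ·) (RelSpec.QCAlg.specMap_π (c.ι.app (j₀ J))).symm).trans ?_
        refine (Category.assoc _ _ _).symm.trans ((congrArg (· ≫ _) (hw (j₀ J))).trans ?_)
        exact Category.assoc _ _ _
      obtain ⟨w', rfl⟩ : ∃ w', w' ≫ c.pt.ι U hU = w := ⟨_, IsOpenImmersion.lift_fac _ w (hr _ _ hwπ)⟩
      congr 1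
      refine hlim.uniq κ w' fun j => ?_
      show w' ≫ Spec.map ((c.ι.app j.unop).hom.app (op U)) = l j.unop
      rw [← cancel_mono ((A.obj j.unop).ι U hU), hl, Category.assoc, ← RelSpec.QCAlg.ι_specMap U hU]
      exact (Category.assoc _ _ _).symm.trans (hw j.unop)
  -- gluing
  have hcov : ∀ t : T, ∃ U : S.Opens, IsAffineOpen U ∧ g.base t ∈ U := fun t => by
    obtain ⟨U, hU, ht, -⟩ := exists_isAffineOpen_mem_and_subset (U := (⊤ : S.Opens)) (x := g.base t) trivial
    exact ⟨U, hU, ht⟩
  choose U hU ht using hcov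
  let 𝒰 : T.OpenCover := T.openCoverOfIsOpenCover (fun t => g ⁻¹ᵁ U t)
    (top_le_iff.1 fun t _ => Opens.mem_iSup.2 ⟨t, ht t⟩)
  have hrange : ∀ i, Set.range (𝒰.f i ≫ g).base ⊆ (U i : Set S) := by
    rintro i _ ⟨z, rfl⟩
    exact z.2
  choose w hw huniq using fun i => hloc (U i) (hU i) _ (𝒰.f i) (hrange i)
  have hcompat : ∀ i k, pullback.fst (𝒰.f i) (𝒰.f k) ≫ w i = pullback.snd (𝒰.f i) (𝒰.f k) ≫ w k := by
    intro i k
    refine (hloc (U i) (hU i) _ (pullback.fst (𝒰.f i) (𝒰.f k) ≫ 𝒰.f i) ?_).unique (fun j => ?_) (fun j => ?_)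
    · rintro _ ⟨z, rfl⟩
      exact (pullback.fst (𝒰.f i) (𝒰.f k) z).2
    · rw [Category.assoc, hw i j, Category.assoc]
    · rw [Category.assoc, hw k j, ← Category.assoc, pullback.condition]
  refine ⟨𝒰.glueMorphisms w hcompat, fun j => ?_, fun m hm => ?_⟩
  · refine 𝒰.hom_ext _ _ fun i => ?_
    rw [← Category.assoc, Scheme.Cover.ι_glueMorphisms]
    exact hw i j
  · refine 𝒰.hom_ext _ _ fun i => ?_
    rw [Scheme.Cover.ι_glueMorphisms]
    exact huniq i _ fun j => by rw [Category.assoc, hm]

end Groth.L18.QCColim
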