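import Groth.Agent.L18.TildeFunctor
import Groth.Prelude.Def_CohB1
import Mathlib.AlgebraicGeometry.Modules.Tilde

/-!
# Sections on affine opens commute with colimits of quasi-coherent modules
-/

set_option autoImplicit false
set_option linter.style.haveILetI false
set_option backward.isDefEq.respectTransparency false
set_option backward.isDefEq.respectTransparency.types false

noncomputable section

universe u

open CategoryTheory CategoryTheory.Limits AlgebraicGeometry TopologicalSpace Opposite

namespace Groth.L18.QCohColim

/-- Sections on an open. -/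
abbrev secF {X : Scheme.{u}} (W : X.Opens) : X.Modules ⥤ AddCommGrpCat.{u} :=
  Scheme.Modules.toPresheaf X ⋙ (evaluation _ _).obj (op W)

variable {R : CommRingCat.{u}} {J : Type u} [SmallCategory J]

/-- Global sections on an affine scheme preserve colimits of quasi-coherent modules. -/
theorem preservesColimit_specΓ (K : J ⥤ (Spec R).Modules) (hK : ∀ j, (K.obj j).IsQuasicoherent) :
    PreservesColimit K (moduleSpecΓFunctor (R := R)) := by
  let T := tilde.functor R
  let Γ' := moduleSpecΓFunctor (R := R)
  let e : (K ⋙ Γ') ⋙ T ≅ K :=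
    NatIso.ofComponents (fun j => haveI := hK j; TildeF.counitIso (K.obj j))
      (fun g => by exact tilde.adjunction.counit.naturality (K.map g))
  haveI : IsIso (tilde.adjunction (R := R)).unit := inferInstance
  haveI h1 : PreservesColimit ((K ⋙ Γ') ⋙ T) Γ' := by
    refine preservesColimit_of_preserves_colimit_cocone
      (isColimitOfPreserves T (colimit.isColimit (K ⋙ Γ'))) ?_
    let η := asIso (tilde.adjunction (R := R)).unit
    exact (IsColimit.precomposeHomEquiv (Functor.isoWhiskerLeft (K ⋙ Γ') η) _).1
      (IsColimit.ofIsoColimit (colimit.isColimit (K ⋙ Γ'))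
        (Cocone.ext (η.app (colimit (K ⋙ Γ'))) fun j => (η.hom.naturality _).symm ▸ rfl))
  exact preservesColimit_of_iso_diagram Γ' e

/-- Sections on an affine open preserve colimits of quasi-coherent modules. -/
theorem preservesColimit_secF {X : Scheme.{u}} {W : X.Opens} (hW : IsAffineOpen W) (D : J ⥤ X.Modules)
    (hD : ∀ j, Coh.IsQCoh (D.obj j)) : PreservesColimit D (secF W) := by
  let r := Scheme.Modules.restrictFunctor hW.fromSpec
  haveI : PreservesColimit D r :=
    preservesColimit_of_natIso D (Scheme.Modules.restrictFunctorIsoPullback hW.fromSpec).symm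
  haveI hΓ := preservesColimit_specΓ (D ⋙ r) fun j => by
    haveI := hD j
    show ((D.obj j).restrict hW.fromSpec).IsQuasicoherent
    infer_instance
  let e1 : moduleSpecΓFunctor (R := Γ(X, W)) ⋙ forget₂ (ModuleCat Γ(X, W)) AddCommGrpCat ≅ secF ⊤ :=
    NatIso.ofComponents (fun M => Iso.refl _) fun _ => rfl
  have hW' : hW.fromSpec ''ᵁ (⊤ : (Spec Γ(X, W)).Opens) = W := by simp
  let e2 : r ⋙ secF ⊤ ≅ secF W :=
    NatIso.ofComponents (fun M => (M.presheaf.mapIso (eqToIso hW'.symm).op)) fun f => by
      exact (f.mapPresheaf.naturality _).symm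
  haveI : PreservesColimit (D ⋙ r) (secF (⊤ : (Spec Γ(X, W)).Opens)) := by
    haveI : PreservesColimit (D ⋙ r) (moduleSpecΓFunctor (R := Γ(X, W)) ⋙ forget₂ (ModuleCat Γ(X, W)) AddCommGrpCat) :=
      inferInstance
    exact preservesColimit_of_natIso (D ⋙ r) e1
  exact preservesColimit_of_natIso D e2

end Groth.L18.QCohColim
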