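import Groth.Agent.L18.RelCone
import Groth.Agent.L18.ProjConeInfinity
import Mathlib.RingTheory.GradedAlgebra.Radical

/-!
# Pointed cones and everywhere defined q-morphisms
-/

noncomputable section

namespace Groth.L18.Cone

open CategoryTheory CategoryTheory.Limits AlgebraicGeometry TopologicalSpace Opposite HomogeneousIdeal
open Groth.L18

universe u

variable {S : Scheme.{u}} (𝒮 : RelProj.QCGrAlg S)

theorem vertexCompl_res {U V : S.Opens} (hU : IsAffineOpen U) (hV : IsAffineOpen V)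
    (h : ∃ r : Γ(S, U), S.basicOpen r = V) (i : V ≤ U) (w : (Spec (𝒮.presheaf.obj (op V)) :)) :
    (Spec.map (𝒮.presheaf.map (homOfLE i).op)).base w ∈ RelCone.vertexCompl (𝒮.deg U hU) ↔
      w ∈ RelCone.vertexCompl (𝒮.deg V hV) := by
  refine ⟨mem_vertexCompl_of_comap _ (𝒮.res hU hV i) (fun _ => rfl) w, fun hw hsub => hw ?_⟩
  obtain ⟨r, rfl⟩ := h
  intro x hx
  have hle : Ideal.map (𝒮.res hU hV i) ((𝒮.deg U hU)₊.toIdeal) ≤ w.asIdeal :=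
    Ideal.map_le_iff_le_comap.mpr fun a ha => hsub ha
  exact hle (𝒮.irrelevant_le_map U hU r hx)

theorem ι_mem_pointedCone_iff (U : S.Opens) (hU : IsAffineOpen U) (z : (Spec (𝒮.presheaf.obj (op U)) :)) :
    (𝒮.toQCAlg.ι U hU).base z ∈ RelCone.pointedCone 𝒮 ↔ z ∈ RelCone.vertexCompl (𝒮.deg U hU) := by
  refine ⟨fun h => ?_, fun h => Opens.mem_iSup.mpr ⟨⟨U, hU⟩, z, h, rfl⟩⟩
  obtain ⟨⟨V, hV⟩, v, hv, e⟩ := Opens.mem_iSup.mp h
  have e' : (𝒮.toQCAlg.ι V hV).base v = (𝒮.toQCAlg.ι U hU).base z := e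
  have hxU := RSGlue.π_mem 𝒮.toQCAlg U hU z
  have hxV : 𝒮.toQCAlg.π.base ((𝒮.toQCAlg.ι U hU).base z) ∈ V := e' ▸ RSGlue.π_mem 𝒮.toQCAlg V hV v
  obtain ⟨f, g, eW, hx⟩ := exists_basicOpen_le_affine_inter hU hV _ ⟨hxU, hxV⟩
  obtain ⟨w, hw⟩ := RSGlue.exists_ι_eq 𝒮.toQCAlg (S.basicOpen f) (hU.basicOpen f) _ hx
  have hWV : S.basicOpen f ≤ V := eW.trans_le (S.basicOpen_le g)
  have hz : (Spec.map (𝒮.presheaf.map (homOfLE (S.basicOpen_le f)).op)).base w = z := by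
    refine (𝒮.toQCAlg.ι U hU).isOpenEmbedding.injective ?_
    rw [← Scheme.Hom.comp_apply, RSGlue.ι_res 𝒮.toQCAlg hU (hU.basicOpen f) (S.basicOpen_le f)]
    exact hw
  have hv' : (Spec.map (𝒮.presheaf.map (homOfLE hWV).op)).base w = v := by
    refine (𝒮.toQCAlg.ι V hV).isOpenEmbedding.injective ?_
    rw [← Scheme.Hom.comp_apply, RSGlue.ι_res 𝒮.toQCAlg hV (hU.basicOpen f) hWV]
    exact hw.trans e'.symm
  rw [← hv'] at hv
  rw [← hz]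
  exact (vertexCompl_res 𝒮 hU (hU.basicOpen f) ⟨f, rfl⟩ (S.basicOpen_le f) w).mpr
    ((vertexCompl_res 𝒮 hV (hU.basicOpen f) ⟨g, eW.symm⟩ hWV w).mp hv)

variable {S' : Scheme.{u}} (q : S' ⟶ S) (𝒯 : RelProj.QCGrAlg S')
  (u : 𝒮.presheaf ⟶ q.base _* 𝒯.presheaf)
  (φ : ∀ (U : S.Opens) (hU : IsAffineOpen U) (U' : S'.Opens) (hU' : IsAffineOpen U') (_ : U' ≤ q ⁻¹ᵁ U),
      𝒮.deg U hU →+*ᵍ 𝒯.deg U' hU')
  (hφ : ∀ (U : S.Opens) (hU : IsAffineOpen U) (U' : S'.Opens) (hU' : IsAffineOpen U') (hle : U' ≤ q ⁻¹ᵁ U),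
      (φ U hU U' hU' hle).toRingHom =
        ((u.app (op U) : 𝒮.presheaf.obj (op U) ⟶ 𝒯.presheaf.obj (op (q ⁻¹ᵁ U))) ≫
          𝒯.presheaf.map (homOfLE hle).op).hom)

include hφ in
theorem preimage_pointedCone_eq_iff (hu : 𝒮.str ≫ u = q.c ≫ (TopCat.Presheaf.pushforward CommRingCat.{u} q.base).map 𝒯.str)
    (Φ : 𝒯.toQCAlg.spec ⟶ 𝒮.toQCAlg.spec)
    (hΦ : ∀ (U : S.Opens) (hU : IsAffineOpen U) (U' : S'.Opens) (hU' : IsAffineOpen U') (hle : U' ≤ q ⁻¹ᵁ U),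
      𝒯.toQCAlg.ι U' hU' ≫ Φ =
        Spec.map ((u.app (op U) : 𝒮.presheaf.obj (op U) ⟶ 𝒯.presheaf.obj (op (q ⁻¹ᵁ U))) ≫
          𝒯.presheaf.map (homOfLE hle).op) ≫ 𝒮.toQCAlg.ι U hU) :
    (∀ (U : S.Opens) (hU : IsAffineOpen U) (U' : S'.Opens) (hU' : IsAffineOpen U') (hle : U' ≤ q ⁻¹ᵁ U),
        RelCone.domOpen (φ U hU U' hU' hle) = ⊤) ↔
      Φ ⁻¹ᵁ RelCone.pointedCone 𝒮 = RelCone.pointedCone 𝒯 := by
  have hchart : ∀ (U : S.Opens) (hU : IsAffineOpen U) (U' : S'.Opens) (hU' : IsAffineOpen U') (hle : U' ≤ q ⁻¹ᵁ U)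
      (w : (Spec (𝒯.presheaf.obj (op U')) :)),
      (𝒯.toQCAlg.ι U' hU').base w ∈ Φ ⁻¹ᵁ RelCone.pointedCone 𝒮 ↔
        ∃ f ∈ (HomogeneousIdeal.irrelevant (𝒮.deg U hU)).toIdeal, φ U hU U' hU' hle f ∉ w.asIdeal := by
    intro U hU U' hU' hle w
    show Φ.base ((𝒯.toQCAlg.ι U' hU').base w) ∈ RelCone.pointedCone 𝒮 ↔ _
    rw [← Scheme.Hom.comp_apply, hΦ U hU U' hU' hle, Scheme.Hom.comp_apply, ι_mem_pointedCone_iff 𝒮 U hU]
    refine (Set.not_subset : _ ↔ ∃ f ∈ _, f ∉ _).trans ?_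
    refine exists_congr fun f => and_congr_right fun _ => ?_
    show ¬ _ ∈ w.asIdeal ↔ _
    rw [← hφ U hU U' hU' hle]
    rfl
  constructor
  · intro hdom
    refine le_antisymm (preimage_pointedCone_le q 𝒯 u hu φ hφ Φ hΦ) fun x hx => ?_
    obtain ⟨p, hp, -, -⟩ := RSGlue.exists_pair_le q (𝒯.toQCAlg.π.base x) ⊤ ⊤ trivial trivial
    obtain ⟨w, rfl⟩ := RSGlue.exists_ι_eq 𝒯.toQCAlg p.U' p.hU' x hp
    rw [hchart p.U p.hU p.U' p.hU' p.hle w]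
    have hw : ∃ g ∈ (HomogeneousIdeal.irrelevant (𝒯.deg p.U' p.hU')).toIdeal, g ∉ w.asIdeal :=
      (Set.not_subset : _ ↔ _).mp ((ι_mem_pointedCone_iff 𝒯 p.U' p.hU' w).mp hx)
    obtain ⟨n, hn, g, hg, hgw⟩ := PConeImm.exists_homogeneous_not_mem.mp hw
    let x' : ProjectiveSpectrum (𝒯.deg p.U' p.hU') :=
      { asHomogeneousIdeal := w.asIdeal.homogeneousCore (𝒯.deg p.U' p.hU')
        isPrime := w.isPrime.homogeneousCore
        not_irrelevant_le := fun h => hgw (Ideal.toIdeal_homogeneousCore_le _ _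
          (h (HomogeneousIdeal.mem_irrelevant_of_mem _ hn hg))) }
    have hx' : x' ∈ RelCone.domOpen (φ p.U p.hU p.U' p.hU' p.hle) := by rw [hdom]; trivial
    obtain ⟨f, hf, hfx⟩ := (RelCone.mem_domOpen (φ p.U p.hU p.U' p.hU' p.hle) x').mp hx'
    obtain ⟨m, hm, f', hf', hfw⟩ := (PConeImm.exists_homogeneous_not_mem
      (p := x'.asHomogeneousIdeal.toIdeal.comap (φ p.U p.hU p.U' p.hU' p.hle))).mp ⟨f, hf, hfx⟩
    refine ⟨f', HomogeneousIdeal.mem_irrelevant_of_mem _ hm hf', fun h => hfw ?_⟩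
    exact Ideal.mem_homogeneousCore_of_homogeneous_of_mem ⟨m, (φ p.U p.hU p.U' p.hU' p.hle).2 hf'⟩ h
  · intro heq U hU U' hU' hle
    refine top_le_iff.mp fun x _ => ?_
    rw [RelCone.mem_domOpen]
    let w : (Spec (𝒯.presheaf.obj (op U')) :) := ⟨x.asHomogeneousIdeal.toIdeal, x.isPrime⟩
    have hw : (𝒯.toQCAlg.ι U' hU').base w ∈ RelCone.pointedCone 𝒯 :=
      (ι_mem_pointedCone_iff 𝒯 U' hU' w).mpr fun h => x.not_irrelevant_le h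
    rw [← heq] at hw
    exact (hchart U hU U' hU' hle w).mp hw

end Groth.L18.Cone
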