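import Groth.Agent.L19.BalFixed
import Groth.Agent.L24.Tors.SchemeTors
import Groth.Agent.L09.StkLift
import Groth.Agent.L24.St.Calc
import Groth.Agent.L16.TorsComp
import Groth.Prelude.Def_ChGrp

/-!
# The quotient stack of a balanced product
-/

set_option autoImplicit false
set_option linter.style.haveILetI false
set_option backward.isDefEq.respectTransparency.types false
set_option backward.isDefEq.respectTransparency false

universe u

open CategoryTheory MonoidalCategory CartesianMonoidalCategory MonObj AlgebraicGeometry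

noncomputable section

namespace Groth.L18.QuotStkBal

open Groth.L28.Ext (Cov cov_of_isLocallyTrivialFor descend cancel)

variable {S : Scheme.{u}} {G X : Over S} [GrpObj G]

/-- An action given by its laws on points. -/
def mkAct (act : G ⊗ X ⟶ X) (h1 : ∀ (V : Over S) (x : V ⟶ X), lift (1 : V ⟶ G) x ≫ act = x)
    (hm : ∀ (V : Over S) (g g' : V ⟶ G) (x : V ⟶ X), lift (g * g') x ≫ act = lift g (lift g' x ≫ act) ≫ act) :
    AlgGrp.Action G X where
  act := act
  one_act := by
    apply AlgGrp.Action.hom_ext_lift₂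
    intro V u x
    have hu : u ≫ η[G] = 1 := by rw [Hom.one_def, toUnit_unique (toUnit V) u]
    rw [lift_whiskerRight_assoc, hu, h1, leftUnitor_hom, lift_snd]
  mul_act := by
    apply AlgGrp.Action.hom_ext_lift₃
    intro V g g' x
    rw [lift_whiskerRight_assoc, ← Hom.mul_def, hm, lift_lift_associator_hom_assoc, lift_whiskerLeft_assoc]

theorem lift_pair {A B V : Over S} (w : V ⟶ A ⊗ B) : lift (w ≫ fst A B) (w ≫ snd A B) = w := by
  apply CartesianMonoidalCategory.hom_ext <;> simp

section torsor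

variable {aX : AlgGrp.Action G X} (A B : AlgSt.QuotObj Scheme.fppfPrecoverage G aX)

theorem π_act {V : Over S} (g : V ⟶ G) (x : V ⟶ A.P) : (lift g x ≫ A.act.act) ≫ A.π = x ≫ A.π := by
  have := lift g x ≫= A.cart.w
  rwa [← Category.assoc, lift_snd_assoc] at this

theorem φ_act {V : Over S} (g : V ⟶ G) (x : V ⟶ A.P) :
    (lift g x ≫ A.act.act) ≫ A.φ = lift g (x ≫ A.φ) ≫ aX.act := by
  rw [Category.assoc, A.eqv, lift_whiskerLeft_assoc]

theorem tors_exists {V : Over S} {x y : V ⟶ A.P} (h : x ≫ A.π = y ≫ A.π) :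
    ∃ g : V ⟶ G, lift g x ≫ A.act.act = y := by
  obtain ⟨w, h₁, h₂⟩ := A.cart.exists_lift y x h.symm
  refine ⟨w ≫ fst G A.P, ?_⟩
  rw [← h₂, lift_pair]
  exact h₁

theorem tors_inj {V : Over S} {g g' : V ⟶ G} {x : V ⟶ A.P}
    (h : lift g x ≫ A.act.act = lift g' x ≫ A.act.act) : g = g' := by
  have := A.cart.hom_ext h (by simp)
  simpa using congrArg (· ≫ fst G A.P) this

theorem cov_π : Cov A.π := cov_of_isLocallyTrivialFor A.π A.loc

/-- An equivariant map of torsors is cartesian over the map of bases. -/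
theorem isPullback_of_eqv (b : A.base ⟶ B.base) (t : A.P ⟶ B.P)
    (he : A.act.act ≫ t = (G ◁ t) ≫ B.act.act) (w : t ≫ B.π = A.π ≫ b) : IsPullback t A.π B.π b := by
  have hept : ∀ {V : Over S} (g : V ⟶ G) (x : V ⟶ A.P),
      (lift g x ≫ A.act.act) ≫ t = lift g (x ≫ t) ≫ B.act.act := fun g x => by
    rw [Category.assoc, he, lift_whiskerLeft_assoc]
  have huniq : ∀ {V : Over S} (l l' : V ⟶ A.P), l ≫ A.π = l' ≫ A.π → l ≫ t = l' ≫ t → l = l' := by
    intro V l l' hπ ht
    obtain ⟨g, rfl⟩ := tors_exists A hπ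
    rw [hept] at ht
    have : g = 1 := tors_inj B (ht.symm.trans (AlgGrp.Action.lift_one_act B.act _).symm)
    rw [this, AlgGrp.Action.lift_one_act]
  have hex : ∀ {V : Over S} (x : V ⟶ B.P) (v : V ⟶ A.base), x ≫ B.π = v ≫ b →
      ∃ l : V ⟶ A.P, l ≫ t = x ∧ l ≫ A.π = v := by
    intro V x v hxv
    let q := Limits.pullback.fst v A.π
    let l₀ := Limits.pullback.snd v A.π
    have hq : Cov q := Groth.L19.BalFixed.cov_pullback (cov_π A) v
    have hc : q ≫ v = l₀ ≫ A.π := Limits.pullback.condition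
    have hh : (l₀ ≫ t) ≫ B.π = (q ≫ x) ≫ B.π := by
      rw [Category.assoc, w, Category.assoc, hxv, reassoc_of% hc]
    obtain ⟨g, hg⟩ := tors_exists B hh
    let d := lift g l₀ ≫ A.act.act
    have hdt : d ≫ t = q ≫ x := (hept g l₀).trans hg
    have hdπ : d ≫ A.π = q ≫ v := (π_act A g l₀).trans hc.symm
    obtain ⟨l, hl⟩ := descend hq d fun W c c' hcc => huniq _ _
      (by simp only [Category.assoc, hdπ]; rw [reassoc_of% hcc])
      (by simp only [Category.assoc, hdt]; rw [reassoc_of% hcc])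
    exact ⟨l, cancel hq (by rw [reassoc_of% hl, hdt]), cancel hq (by rw [reassoc_of% hl, hdπ])⟩
  refine IsPullback.of_isLimit' ⟨w⟩ (Limits.PullbackCone.IsLimit.mk _
    (fun s => (hex s.fst s.snd s.condition).choose) (fun s => (hex s.fst s.snd s.condition).choose_spec.1)
    (fun s => (hex s.fst s.snd s.condition).choose_spec.2) fun s m h₁ h₂ => huniq _ _ ?_ ?_)
  · exact h₂.trans (hex s.fst s.snd s.condition).choose_spec.2.symm
  · exact h₁.trans (hex s.fst s.snd s.condition).choose_spec.1.symm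

end torsor

variable {H Z Y : Over S} [GrpObj H] {i : H ⟶ G} [IsMonHom i] {aZ : AlgGrp.Action H Z}
  {aY : AlgGrp.Action G Y} {j : G ⊗ Z ⟶ Y} (hY : ChGrp.IsBalProd Scheme.fppfPrecoverage i aZ aY j)

section points

variable (j)

/-- The canonical map of `Z` into the balanced product. -/
def unitMap : Z ⟶ Y := lift (toUnit Z ≫ η[G]) (𝟙 Z) ≫ j

theorem comp_unitMap {V : Over S} (z : V ⟶ Z) : z ≫ unitMap j = lift (1 : V ⟶ G) z ≫ j := by
  rw [unitMap, ← Category.assoc, comp_lift, Category.comp_id, ← Category.assoc,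
    toUnit_unique (z ≫ toUnit Z) (toUnit V), Hom.one_def]

variable {j}

include hY

theorem act_unitMap {V : Over S} (g : V ⟶ G) (z : V ⟶ Z) :
    lift g (z ≫ unitMap j) ≫ aY.act = lift g z ≫ j := by
  rw [comp_unitMap, Groth.L19.BalFixed.act_j hY, _root_.mul_one]

theorem unitMap_act {V : Over S} (h : V ⟶ H) (z : V ⟶ Z) :
    (lift h z ≫ aZ.act) ≫ unitMap j = lift (h ≫ i) (z ≫ unitMap j) ≫ aY.act := by
  rw [act_unitMap hY, comp_unitMap]
  have := Groth.L19.BalFixed.twist_j hY h (h ≫ i) z
  rwa [mul_inv_cancel] at this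

theorem exists_H {V : Over S} {g : V ⟶ G} {z z' : V ⟶ Z}
    (e : lift g z ≫ j = z' ≫ unitMap j) : ∃ h : V ⟶ H, h ≫ i = g ∧ lift h z ≫ aZ.act = z' := by
  rw [comp_unitMap] at e
  obtain ⟨h, h₁, h₂⟩ := Groth.L19.BalFixed.exists_of_j_eq hY e.symm
  exact ⟨h, (mul_inv_eq_one.mp h₁).symm, h₂⟩

end points

section obj

variable (A : AlgSt.QuotObj Scheme.fppfPrecoverage G aY)

variable (j) in
/-- The total space of the associated `H`-torsor. -/
abbrev tot : Over S := Limits.pullback A.φ (unitMap j)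

variable (j) in
/-- Its map to the `G`-torsor. -/
abbrev toG : tot j A ⟶ A.P := Limits.pullback.fst _ _

variable (j) in
/-- Its map to `Z`. -/
abbrev toZ : tot j A ⟶ Z := Limits.pullback.snd _ _

/-- The action map on the associated torsor. -/
def totActMap : H ⊗ tot j A ⟶ tot j A :=
  Limits.pullback.lift (lift (fst H (tot j A) ≫ i) (snd H (tot j A) ≫ toG j A) ≫ A.act.act)
    (lift (fst H (tot j A)) (snd H (tot j A) ≫ toZ j A) ≫ aZ.act)
    (by rw [φ_act, unitMap_act hY, Category.assoc, Category.assoc, Limits.pullback.condition])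

theorem totActMap_toG {V : Over S} (h : V ⟶ H) (q : V ⟶ tot j A) :
    (lift h q ≫ totActMap hY A) ≫ toG j A = lift (h ≫ i) (q ≫ toG j A) ≫ A.act.act := by
  rw [totActMap, Category.assoc, Limits.pullback.lift_fst, comp_lift_assoc, lift_fst_assoc, lift_snd_assoc]

theorem totActMap_toZ {V : Over S} (h : V ⟶ H) (q : V ⟶ tot j A) :
    (lift h q ≫ totActMap hY A) ≫ toZ j A = lift h (q ≫ toZ j A) ≫ aZ.act := by
  rw [totActMap, Category.assoc, Limits.pullback.lift_snd, comp_lift_assoc, lift_fst, lift_snd_assoc]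

/-- The action on the associated torsor. -/
def totAct : AlgGrp.Action H (tot j A) :=
  mkAct (totActMap hY A)
    (fun V x => Limits.pullback.hom_ext
      (by rw [totActMap_toG, MonObj.one_comp, AlgGrp.Action.lift_one_act])
      (by rw [totActMap_toZ, AlgGrp.Action.lift_one_act]))
    (fun V g g' x => Limits.pullback.hom_ext
      (by rw [totActMap_toG, totActMap_toG, totActMap_toG, MonObj.mul_comp, AlgGrp.Action.lift_mul_act])
      (by rw [totActMap_toZ, totActMap_toZ, totActMap_toZ, AlgGrp.Action.lift_mul_act]))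

theorem totAct_act : (totAct hY A).act = totActMap hY A := rfl

theorem totAct_eqv : (totAct hY A).act ≫ toZ j A = (H ◁ toZ j A) ≫ aZ.act := by
  apply AlgGrp.Action.hom_ext_lift₂
  intro V h q
  rw [totAct_act, ← Category.assoc, totActMap_toZ, lift_whiskerLeft_assoc]

theorem totAct_exists {V : Over S} {a b : V ⟶ tot j A} (hab : a ≫ toG j A ≫ A.π = b ≫ toG j A ≫ A.π) :
    ∃ h : V ⟶ H, lift h b ≫ totActMap hY A = a := by
  obtain ⟨g, hg⟩ := tors_exists A (x := b ≫ toG j A) (y := a ≫ toG j A)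
    (by rw [Category.assoc, Category.assoc, hab])
  have hb : b ≫ toG j A ≫ A.φ = b ≫ toZ j A ≫ unitMap j := congrArg (b ≫ ·) Limits.pullback.condition
  have ha : a ≫ toG j A ≫ A.φ = a ≫ toZ j A ≫ unitMap j := congrArg (a ≫ ·) Limits.pullback.condition
  have h1 := φ_act A g (b ≫ toG j A)
  rw [hg, Category.assoc, ha, Category.assoc, hb, ← Category.assoc, ← Category.assoc b,
    act_unitMap hY] at h1
  obtain ⟨h, hh, hz⟩ := exists_H hY h1.symm
  exact ⟨h, Limits.pullback.hom_ext (by rw [totActMap_toG, hh, hg]) (by rw [totActMap_toZ, hz])⟩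

theorem totAct_inj [Mono i] {V : Over S} {h h' : V ⟶ H} {b : V ⟶ tot j A}
    (e : lift h b ≫ totActMap hY A = lift h' b ≫ totActMap hY A) : h = h' := by
  have := congrArg (· ≫ toG j A) e
  simp only [totActMap_toG] at this
  exact (cancel_mono i).1 (tors_inj A this)

theorem totAct_cart [Mono i] :
    IsPullback (totAct hY A).act (snd H (tot j A)) (toG j A ≫ A.π) (toG j A ≫ A.π) := by
  have w : (totAct hY A).act ≫ toG j A ≫ A.π = snd H (tot j A) ≫ toG j A ≫ A.π := by
    apply AlgGrp.Action.hom_ext_lift₂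
    intro V h q
    rw [totAct_act, ← Category.assoc, ← Category.assoc (_ ≫ _), totActMap_toG, π_act, lift_snd_assoc,
      Category.assoc]
  have hex : ∀ {V : Over S} (a b : V ⟶ tot j A), a ≫ toG j A ≫ A.π = b ≫ toG j A ≫ A.π →
      ∃ l : V ⟶ H ⊗ tot j A, l ≫ (totAct hY A).act = a ∧ l ≫ snd H (tot j A) = b := by
    intro V a b hab
    obtain ⟨h, hh⟩ := totAct_exists hY A hab
    exact ⟨lift h b, hh, lift_snd _ _⟩
  refine IsPullback.of_isLimit' ⟨w⟩ (Limits.PullbackCone.IsLimit.mk _
    (fun s => (hex s.fst s.snd s.condition).choose) (fun s => (hex s.fst s.snd s.condition).choose_spec.1)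
    (fun s => (hex s.fst s.snd s.condition).choose_spec.2) fun s m h₁ h₂ => ?_)
  obtain ⟨e₁, e₂⟩ := (hex s.fst s.snd s.condition).choose_spec
  generalize (hex s.fst s.snd s.condition).choose = l at e₁ e₂
  rw [← lift_pair m, h₂, ← lift_pair l, e₂]
  refine congrArg (lift · _) (totAct_inj hY A (b := s.snd) ?_)
  rw [← totAct_act hY A]
  conv_lhs => rw [← h₂, lift_pair, h₁]
  conv_rhs => rw [← e₂, lift_pair, e₁]

/-- The comparison from the pullback of `j`. -/
def fromPull : Limits.pullback A.φ j ⟶ tot j A :=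
  Limits.pullback.lift
    (lift ((Limits.pullback.snd A.φ j ≫ fst G Z)⁻¹) (Limits.pullback.fst A.φ j) ≫ A.act.act)
    (Limits.pullback.snd A.φ j ≫ snd G Z)
    (by rw [φ_act, Limits.pullback.condition, comp_unitMap, ← lift_pair (Limits.pullback.snd A.φ j),
          Groth.L19.BalFixed.act_j hY, lift_pair, inv_mul_cancel])

theorem fromPull_π : fromPull hY A ≫ toG j A ≫ A.π = Limits.pullback.fst A.φ j ≫ A.π := by
  rw [fromPull, ← Category.assoc, Limits.pullback.lift_fst, π_act]

theorem locallyTrivial_fst (hY : ChGrp.IsBalProd Scheme.fppfPrecoverage i aZ aY j) :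
    NonAbH1.IsLocallyTrivialFor Scheme.fppfPrecoverage
      (Over.mk (Limits.pullback.fst A.φ j).left : Over A.P.left) := by
  obtain ⟨R, hR, hsec⟩ := hY.2.2
  obtain ⟨κ, W, w, rfl⟩ := R.exists_eq_ofArrows
  choose s hs using fun m => hsec (w m) (Presieve.ofArrows.mk m)
  refine ⟨_, Precoverage.mem_coverings_of_isPullback _ hR A.φ.left
    (fun m => Limits.pullback.snd (w m) A.φ.left) (fun m => Limits.pullback.fst (w m) A.φ.left)
    fun m => (IsPullback.of_hasPullback (w m) A.φ.left).flip, ?_⟩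
  rintro T f ⟨m⟩
  have hsm : s m ≫ j.left = w m := hs m
  let T' : Over S := Over.mk (Limits.pullback.snd (w m) A.φ.left ≫ A.P.hom)
  let a : T' ⟶ A.P := Over.homMk (Limits.pullback.snd (w m) A.φ.left)
  let b : T' ⟶ G ⊗ Z := Over.homMk (Limits.pullback.fst (w m) A.φ.left ≫ s m) (by
    change (_ ≫ s m) ≫ (G ⊗ Z).hom = Limits.pullback.snd (w m) A.φ.left ≫ A.P.hom
    rw [← Over.w j, ← Over.w A.φ, Category.assoc, reassoc_of% hsm, Limits.pullback.condition_assoc])
  have e : a ≫ A.φ = b ≫ j := by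
    ext1
    change Limits.pullback.snd (w m) A.φ.left ≫ A.φ.left = (_ ≫ s m) ≫ j.left
    rw [Category.assoc, hsm, Limits.pullback.condition]
  exact ⟨(Limits.pullback.lift a b e).left, congrArg CommaMorphism.left (Limits.pullback.lift_fst a b e)⟩

include hY in
theorem totAct_loc : NonAbH1.IsLocallyTrivialFor Scheme.fppfPrecoverage
    (Over.mk (toG j A ≫ A.π).left : Over A.base.left) := by
  obtain ⟨R, hR, hsec⟩ := Groth.L16.TorsComp.isLocallyTrivialFor_comp
    (Limits.pullback.fst A.φ j).left A.π.left Scheme.fppfPrecoverage (locallyTrivial_fst A hY) A.loc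
  refine ⟨R, hR, fun T f hf => ?_⟩
  obtain ⟨s, hs⟩ := hsec f hf
  have hs' : s ≫ (Limits.pullback.fst A.φ j).left ≫ A.π.left = f := hs
  refine ⟨s ≫ (fromPull hY A).left, ?_⟩
  show (s ≫ (fromPull hY A).left) ≫ (toG j A ≫ A.π).left = f
  have h2 := congrArg CommaMorphism.left (fromPull_π hY A)
  simp only [Over.comp_left, Category.assoc] at h2 ⊢
  rw [h2, hs']

/-- The associated object of the quotient stack of `Z`. -/
def objH [Mono i] : AlgSt.QuotObj Scheme.fppfPrecoverage H aZ where
  base := A.base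
  P := tot j A
  act := totAct hY A
  π := toG j A ≫ A.π
  cart := totAct_cart hY A
  loc := totAct_loc hY A
  φ := toZ j A
  eqv := totAct_eqv hY A

/-- The translation map onto the torsor. -/
def spread : G ⊗ tot j A ⟶ A.P := (G ◁ toG j A) ≫ A.act.act

theorem lift_spread {V : Over S} (g : V ⟶ G) (q : V ⟶ tot j A) :
    lift g q ≫ spread (j := j) A = lift g (q ≫ toG j A) ≫ A.act.act := by
  rw [spread, lift_whiskerLeft_assoc]

include hY in
theorem cov_spread : Cov (spread (j := j) A) := by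
  let g := Limits.pullback.snd A.φ j ≫ fst G Z
  have hfac : lift g (fromPull hY A) ≫ spread A = Limits.pullback.fst A.φ j := by
    rw [lift_spread, fromPull, Limits.pullback.lift_fst, ← AlgGrp.Action.lift_mul_act, mul_inv_cancel,
      AlgGrp.Action.lift_one_act]
  refine Scheme.fppfTopology.superset_covering ?_
    (Groth.L19.BalFixed.cov_pullback (Groth.L19.BalFixed.cov_j hY) A.φ)
  rintro T f ⟨_, s, _, ⟨⟩, hs⟩
  exact ⟨_, s ≫ (lift g (fromPull hY A)).left, (spread A).left, Presieve.singleton_self _, by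
    rw [Category.assoc, ← Over.comp_left, hfac]; exact hs⟩

end obj

variable [Mono i]

/-- The map on morphisms. -/
def mapTop {A B : AlgSt.QuotObj Scheme.fppfPrecoverage G aY} (f : A ⟶ B) : tot j A ⟶ tot j B :=
  Limits.pullback.lift (toG j A ≫ f.top) (toZ j A) (by rw [Category.assoc, f.wφ, Limits.pullback.condition])

omit [Mono i] in
theorem mapTop_toG {A B : AlgSt.QuotObj Scheme.fppfPrecoverage G aY} (f : A ⟶ B) :
    mapTop (j := j) f ≫ toG j B = toG j A ≫ f.top := Limits.pullback.lift_fst _ _ _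

omit [Mono i] in
theorem mapTop_toZ {A B : AlgSt.QuotObj Scheme.fppfPrecoverage G aY} (f : A ⟶ B) :
    mapTop (j := j) f ≫ toZ j B = toZ j A := Limits.pullback.lift_snd _ _ _

/-- The functor to the quotient stack of `Z`. -/
def restrictFun :
    AlgSt.QuotSt Scheme.fppfPrecoverage G aY ⥤ᵇ AlgSt.QuotSt Scheme.fppfPrecoverage H aZ where
  toFunctor :=
    { obj := fun A => objH hY A
      map := fun {A B} f =>
        { base := f.base
          top := mapTop f
          eqv := by
            show (totAct hY A).act ≫ mapTop f = (H ◁ mapTop f) ≫ (totAct hY B).act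
            apply AlgGrp.Action.hom_ext_lift₂
            intro V h q
            rw [totAct_act, totAct_act, lift_whiskerLeft_assoc]
            refine Limits.pullback.hom_ext ?_ ?_
            · rw [totActMap_toG, Category.assoc, Category.assoc, mapTop_toG, ← Category.assoc (lift h q),
                ← Category.assoc (lift h q ≫ _), totActMap_toG, Category.assoc, f.eqv, lift_whiskerLeft_assoc,
                Category.assoc, Category.assoc, mapTop_toG]
            · rw [totActMap_toZ, Category.assoc, Category.assoc, mapTop_toZ, ← Category.assoc (lift h q),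
                totActMap_toZ, Category.assoc, mapTop_toZ]
          cart := by
            show IsPullback (mapTop f) (toG j A ≫ A.π) (toG j B ≫ B.π) f.base
            refine IsPullback.paste_vert ?_ f.cart
            refine IsPullback.of_right ?_ (mapTop_toG f) (IsPullback.of_hasPullback B.φ (unitMap j)).flip
            rw [mapTop_toZ, f.wφ]
            exact (IsPullback.of_hasPullback A.φ (unitMap j)).flip
          wφ := mapTop_toZ f }
      map_id := fun A => AlgSt.QuotObj.hom_ext rfl (Limits.pullback.hom_ext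
        (by show mapTop (𝟙 A) ≫ toG j A = 𝟙 _ ≫ toG j A; rw [mapTop_toG]; simp)
        (by show mapTop (𝟙 A) ≫ toZ j A = 𝟙 _ ≫ toZ j A; rw [mapTop_toZ]; simp))
      map_comp := fun {A B C} f g => AlgSt.QuotObj.hom_ext rfl (Limits.pullback.hom_ext
        (by show mapTop (f ≫ g) ≫ toG j C = (mapTop f ≫ mapTop g) ≫ toG j C
            rw [mapTop_toG, Category.assoc, mapTop_toG, ← Category.assoc, mapTop_toG]; simp)
        (by show mapTop (f ≫ g) ≫ toZ j C = (mapTop f ≫ mapTop g) ≫ toZ j C
            rw [mapTop_toZ, Category.assoc, mapTop_toZ, mapTop_toZ])) }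
  w := rfl

theorem faithful_restrictFun : (restrictFun hY).toFunctor.Faithful := ⟨fun {A B f g} h => by
  have hb : f.base = g.base := congrArg (fun z => z.base) h
  have ht : mapTop (j := j) f = mapTop g := congrArg (fun z => z.top) h
  refine AlgSt.QuotObj.hom_ext hb (cancel (cov_spread hY A) ?_)
  rw [spread, Category.assoc, Category.assoc, f.eqv, g.eqv, ← MonoidalCategory.whiskerLeft_comp_assoc,
    ← MonoidalCategory.whiskerLeft_comp_assoc, ← mapTop_toG, ← mapTop_toG, ht]⟩

theorem full_restrictFun : (restrictFun hY).toFunctor.Full := ⟨fun {A B} m => by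
  let t' : tot j A ⟶ tot j B := m.top
  have he' : totActMap hY A ≫ t' = (H ◁ t') ≫ totActMap hY B := m.eqv
  have hw' : t' ≫ toG j B ≫ B.π = (toG j A ≫ A.π) ≫ m.base := m.cart.w
  have hz' : t' ≫ toZ j B = toZ j A := m.wφ
  let d : G ⊗ tot j A ⟶ B.P := (G ◁ (t' ≫ toG j B)) ≫ B.act.act
  have hd : ∀ {V : Over S} (g : V ⟶ G) (q : V ⟶ tot j A),
      lift g q ≫ d = lift g (q ≫ t' ≫ toG j B) ≫ B.act.act := fun g q => lift_whiskerLeft_assoc _ _ _ _
  obtain ⟨t, ht⟩ : ∃ t : A.P ⟶ B.P, spread A ≫ t = d := by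
    refine descend (cov_spread hY A) d fun V a b hab => ?_
    rw [← lift_pair a, ← lift_pair b] at hab ⊢
    generalize a ≫ fst G _ = g₁, a ≫ snd G _ = q₁, b ≫ fst G _ = g₂, b ≫ snd G _ = q₂ at hab ⊢
    rw [lift_spread, lift_spread] at hab
    have h1 : lift (g₁⁻¹ * g₂) (q₂ ≫ toG j A) ≫ A.act.act = q₁ ≫ toG j A := by
      rw [AlgGrp.Action.lift_mul_act, ← hab, ← AlgGrp.Action.lift_mul_act, inv_mul_cancel,
        AlgGrp.Action.lift_one_act]
    obtain ⟨h, hh⟩ := totAct_exists hY A (a := q₁) (b := q₂) (by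
      rw [← Category.assoc, ← h1, π_act, Category.assoc])
    have hg : h ≫ i = g₁⁻¹ * g₂ := tors_inj A (by rw [h1, ← totActMap_toG hY, hh])
    rw [hd, hd, ← hh]
    have : (lift h q₂ ≫ totActMap hY A) ≫ t' ≫ toG j B =
        lift (h ≫ i) (q₂ ≫ t' ≫ toG j B) ≫ B.act.act := by
      rw [Category.assoc, reassoc_of% he', lift_whiskerLeft_assoc, ← Category.assoc, totActMap_toG,
        Category.assoc]
    rw [this, ← AlgGrp.Action.lift_mul_act, hg, mul_inv_cancel_left]
  have hlift : ∀ {V : Over S} (g : V ⟶ G) (q : V ⟶ tot j A),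
      (lift g (q ≫ toG j A) ≫ A.act.act) ≫ t = lift g (q ≫ t' ≫ toG j B) ≫ B.act.act := fun g q => by
    rw [← lift_spread, Category.assoc, ht, hd]
  have heqv : A.act.act ≫ t = (G ◁ t) ≫ B.act.act := by
    refine cancel (Groth.L19.BalFixed.cov_pullback (cov_spread hY A) (snd G A.P)) ?_
    let c := Limits.pullback.fst (snd G A.P) (spread (j := j) A)
    let r := Limits.pullback.snd (snd G A.P) (spread (j := j) A)
    have hc : c ≫ snd G A.P = lift (r ≫ fst _ _) (r ≫ snd G (tot j A)) ≫ spread A := by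
      rw [lift_pair]; exact Limits.pullback.condition
    show c ≫ _ = c ≫ _
    rw [← lift_pair c]
    rw [lift_spread] at hc
    simp only [← Category.assoc]
    rw [lift_whiskerLeft, hc, ← AlgGrp.Action.lift_mul_act, hlift, hlift, AlgGrp.Action.lift_mul_act]
  have hπ : t ≫ B.π = A.π ≫ m.base := by
    refine cancel (cov_spread hY A) ?_
    rw [reassoc_of% ht]
    apply AlgGrp.Action.hom_ext_lift₂
    intro V g q
    rw [← Category.assoc, hd, π_act, Category.assoc, Category.assoc, hw', ← Category.assoc (lift g q),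
      lift_spread, ← Category.assoc (lift g (q ≫ toG j A) ≫ A.act.act), π_act]
    simp only [Category.assoc]
  have hφ : t ≫ B.φ = A.φ := by
    refine cancel (cov_spread hY A) ?_
    rw [reassoc_of% ht]
    apply AlgGrp.Action.hom_ext_lift₂
    intro V g q
    rw [← Category.assoc, hd, φ_act, Category.assoc, Category.assoc, Limits.pullback.condition, reassoc_of% hz',
      ← Limits.pullback.condition, ← Category.assoc (lift g q), lift_spread, φ_act, Category.assoc]
  refine ⟨⟨m.base, t, heqv, isPullback_of_eqv A B m.base t heqv hπ, hφ⟩,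
    AlgSt.QuotObj.hom_ext rfl (Limits.pullback.hom_ext ?_ ?_)⟩
  · show mapTop _ ≫ toG j B = t' ≫ toG j B
    rw [mapTop_toG]
    have := hlift (1 : tot j A ⟶ G) (𝟙 _)
    rwa [AlgGrp.Action.lift_one_act, AlgGrp.Action.lift_one_act, Category.id_comp, Category.id_comp] at this
  · show mapTop _ ≫ toZ j B = t' ≫ toZ j B
    rw [mapTop_toZ, hz']⟩

theorem locally_surjective (y : AlgSt.QuotObj Scheme.fppfPrecoverage H aZ) :
    ∃ R ∈ AlgSp.J S y.base, ∀ ⦃V : Over S⦄ (f : V ⟶ y.base), R f →
      ∃ (x : (AlgSt.QuotSt Scheme.fppfPrecoverage G aY).obj) (φ : (restrictFun hY).obj x ⟶ y),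
        (AlgSt.QuotSt Scheme.fppfPrecoverage H aZ).p.IsHomLift f φ := by
  refine ⟨Sieve.generate (Presieve.singleton y.π), ?_, ?_⟩
  · rw [AlgSp.J_eq, GrothendieckTopology.mem_over_iff]
    refine Scheme.fppfTopology.superset_covering ?_ (cov_π y)
    rintro T f ⟨_, s, _, ⟨⟩, hs⟩
    rw [Sieve.overEquiv_iff]
    refine ⟨y.P, Over.homMk s (by
      change s ≫ y.P.hom = f ≫ y.base.hom
      rw [← Over.w y.π, ← Category.assoc, hs]), y.π, Presieve.singleton_self _, ?_⟩
    ext1
    exact hs
  rintro V f ⟨_, s, _, ⟨⟩, rfl⟩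
  haveI : Scheme.fppfPrecoverage.HasIsos := inferInstance
  let x := (AlgSt.quotMap Scheme.fppfPrecoverage G aY).obj ⟨V, ⟨s ≫ y.φ ≫ unitMap j⟩⟩
  let P' := tot j x
  let g : P' ⟶ G := toG j x ≫ fst G V
  let v : P' ⟶ V := toG j x ≫ snd G V
  have hg : lift g (v ≫ s ≫ y.φ) ≫ j = toZ j x ≫ unitMap j := by
    rw [← act_unitMap hY, ← Limits.pullback.condition]
    show _ = toG j x ≫ (G ◁ (s ≫ y.φ ≫ unitMap j)) ≫ aY.act
    rw [← lift_pair (toG j x), lift_whiskerLeft_assoc]
    simp only [g, v, Category.assoc]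
  obtain ⟨h, hh, hz⟩ := exists_H hY hg
  let top : P' ⟶ y.P := lift h (v ≫ s) ≫ y.act.act
  have hxπ : (restrictFun hY).obj x = objH hY x := rfl
  have w : top ≫ y.π = (toG j x ≫ x.π) ≫ (s ≫ y.π) := by
    rw [π_act]
    show (v ≫ s) ≫ y.π = (toG j x ≫ snd G V) ≫ s ≫ y.π
    simp only [v, Category.assoc]
  have heqv : (totAct hY x).act ≫ top = (H ◁ top) ≫ y.act.act := by
    apply AlgGrp.Action.hom_ext_lift₂
    intro U k q
    rw [totAct_act, lift_whiskerLeft_assoc]
    have hG : (lift k q ≫ totActMap hY x) ≫ toG j x =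
        lift (k ≫ i) (q ≫ toG j x) ≫ (AlgSt.leftMul G V).act := totActMap_toG hY x k q
    have hgk : (lift k q ≫ totActMap hY x) ≫ g = (k ≫ i) * (q ≫ g) := by
      rw [← Category.assoc, hG, Category.assoc]
      simp [g, AlgSt.leftMul, comp_mul]
      erw [lift_fst, lift_snd_assoc]
      simp only [Category.assoc]
    have hvk : (lift k q ≫ totActMap hY x) ≫ v = q ≫ v := by
      rw [← Category.assoc, hG, Category.assoc]
      simp [v, AlgSt.leftMul]
      erw [lift_snd_assoc]
      simp only [Category.assoc]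
    have hhk : (lift k q ≫ totActMap hY x) ≫ h = k * (q ≫ h) := by
      rw [← cancel_mono i, Category.assoc, hh, hgk, MonObj.mul_comp, Category.assoc, hh]
    simp only [top]
    simp only [Category.assoc] at hhk hvk
    simp only [Category.assoc, comp_lift_assoc, hhk, reassoc_of% hvk, AlgGrp.Action.lift_mul_act]
  have hwφ : top ≫ y.φ = toZ j x := by
    rw [φ_act, Category.assoc, hz]
  refine ⟨x, ⟨s ≫ y.π, top, heqv, isPullback_of_eqv (objH hY x) y _ top heqv w, hwφ⟩, ?_⟩
  exact IsHomLift.map (AlgSt.QuotSt Scheme.fppfPrecoverage H aZ).p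
    (show (restrictFun hY).obj x ⟶ y from ⟨s ≫ y.π, top, heqv, isPullback_of_eqv (objH hY x) y _ top heqv w, hwφ⟩)

include hY in
theorem isQuotientOf [IsAffineHom G.hom] [IsAffineHom H.hom] :
    AlgSt.IsQuotientOf Scheme.fppfPrecoverage H aZ (AlgSt.QuotSt Scheme.fppfPrecoverage G aY) := by
  haveI := faithful_restrictFun hY
  haveI := full_restrictFun hY
  have hF := Groth.L09.Stk.isEquivOver_of_locally (AlgSp.J S) Groth.L24.Tors.isStack_quotSt_fppf
    Groth.L24.Tors.isStack_quotSt_fppf (restrictFun hY) (locally_surjective hY)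
  obtain ⟨e, he, -⟩ := Groth.L24.St.exists_inverse hF
  exact ⟨e, he⟩

end Groth.L18.QuotStkBal
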