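import Groth.Agent.L18.QuotStkBal

/-!
# A homogeneous space times a scheme is a balanced product
-/

set_option autoImplicit false
set_option linter.style.haveILetI false
set_option backward.isDefEq.respectTransparency.types false
set_option backward.isDefEq.respectTransparency false

universe u

open CategoryTheory MonoidalCategory CartesianMonoidalCategory MonObj AlgebraicGeometry

noncomputable section

namespace Groth.L18.QuotStkBal

variable {S : Scheme.{u}} {G H X Q : Over S} [GrpObj G] [GrpObj H] {i : H ⟶ G} [IsMonHom i]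

/-- `G ×^H X = G/H × X` for a `G`-scheme `X`. -/
theorem isBalProd_homog [Mono i] (aX : AlgGrp.Action G X) (aQ : AlgGrp.Action G Q) (q₀ : 𝟙_ (Over S) ⟶ Q)
    (hQ : ChGrp.IsHomog Scheme.fppfPrecoverage i aQ q₀) :
    ChGrp.IsBalProd Scheme.fppfPrecoverage i (aX.restrict i) (aQ.prod aX)
      (lift (fst G X ≫ aQ.orbitMap q₀) aX.act) := by
  obtain ⟨-, sq, R, hR, hsec⟩ := hQ
  set j := lift (fst G X ≫ aQ.orbitMap q₀) aX.act with hj
  have hjp : ∀ {V : Over S} (g : V ⟶ G) (x : V ⟶ X),
      lift g x ≫ j = lift (lift g (toUnit V ≫ q₀) ≫ aQ.act) (lift g x ≫ aX.act) := fun g x => by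
    rw [hj, comp_lift, lift_fst_assoc, AlgGrp.Action.comp_orbitMap]
  have hstab : ∀ {V : Over S} (g : V ⟶ G) (h : V ⟶ H),
      lift (g * (h ≫ i)) (toUnit V ≫ q₀) ≫ aQ.act = lift g (toUnit V ≫ q₀) ≫ aQ.act := fun {V} g h => by
    have := lift g h ≫= sq.w
    rw [lift_fst_assoc, ← Category.assoc (lift g h), lift_whiskerLeft_assoc, ← Hom.mul_def] at this
    rw [← AlgGrp.Action.comp_orbitMap, ← AlgGrp.Action.comp_orbitMap]
    exact this.symm
  refine ⟨?_, ?_, ?_⟩
  · apply AlgGrp.Action.hom_ext_lift₂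
    intro V g p
    rw [← lift_pair p, ← Category.assoc (lift g _), AlgGrp.Action.lift_prod_act, lift_whiskerLeft_assoc]
    simp only [AlgGrp.Action.lift_trivial_act]
    rw [show lift g (p ≫ fst G X) ≫ (NonAbH1.trivialAction G).act = g * (p ≫ fst G X) from
      (Hom.mul_def g (p ≫ fst G X)).symm]
    rw [hjp, hjp, AlgGrp.Action.lift_prod_act, AlgGrp.Action.lift_mul_act, AlgGrp.Action.lift_mul_act]
  · have w : (ChGrp.twist i (aX.restrict i)).act ≫ j = snd H (G ⊗ X) ≫ j := by
      apply AlgGrp.Action.hom_ext_lift₂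
      intro V h p
      rw [← lift_pair p, ← Category.assoc, ChGrp.lift_twist_act, lift_snd_assoc, hjp, hjp,
        AlgGrp.Action.lift_restrict_act, ← GrpObj.inv_comp, hstab, ← AlgGrp.Action.lift_mul_act,
        GrpObj.inv_comp, inv_mul_cancel_right]
    have hex : ∀ {V : Over S} (a b : V ⟶ G ⊗ X), a ≫ j = b ≫ j →
        ∃ l : V ⟶ H ⊗ (G ⊗ X), l ≫ (ChGrp.twist i (aX.restrict i)).act = a ∧ l ≫ snd H (G ⊗ X) = b := by
      intro V a b hab
      rw [← lift_pair a, ← lift_pair b, hjp, hjp] at hab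
      have e₁ := congrArg (· ≫ fst Q X) hab
      have e₂ := congrArg (· ≫ snd Q X) hab
      simp only [lift_fst, lift_snd] at e₁ e₂
      obtain ⟨w, hw₁, hw₂⟩ := sq.exists_lift (b ≫ fst G X) (a ≫ fst G X)
        (by rw [AlgGrp.Action.comp_orbitMap, AlgGrp.Action.comp_orbitMap, e₁])
      have hw : a ≫ fst G X = (b ≫ fst G X) * (w ≫ snd G H ≫ i) := by
        rw [← hw₂, ← lift_pair w, lift_whiskerLeft_assoc, ← Hom.mul_def, lift_pair, hw₁, Category.assoc]
      refine ⟨lift ((w ≫ snd G H)⁻¹) b, ?_, lift_snd _ _⟩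
      conv_lhs => rw [← lift_pair b]
      rw [ChGrp.lift_twist_act, AlgGrp.Action.lift_restrict_act, GrpObj.inv_comp, inv_inv, Category.assoc,
        ← hw]
      conv_rhs => rw [← lift_pair a]
      refine congrArg (lift _) ?_
      have h3 := congrArg (fun y => lift ((w ≫ snd G H ≫ i)⁻¹ * (b ≫ fst G X)⁻¹) y ≫ aX.act) e₂
      simp only [← AlgGrp.Action.lift_mul_act] at h3
      rw [hw] at h3
      simp only [_root_.mul_assoc, inv_mul_cancel_left, inv_mul_cancel, _root_.mul_one,
        AlgGrp.Action.lift_one_act] at h3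
      exact h3.symm
    refine IsPullback.of_isLimit' ⟨w⟩ (Limits.PullbackCone.IsLimit.mk _
      (fun s => (hex s.fst s.snd s.condition).choose) (fun s => (hex s.fst s.snd s.condition).choose_spec.1)
      (fun s => (hex s.fst s.snd s.condition).choose_spec.2) fun s m h₁ h₂ => ?_)
    obtain ⟨e₁, e₂⟩ := (hex s.fst s.snd s.condition).choose_spec
    generalize (hex s.fst s.snd s.condition).choose = l at e₁ e₂
    have h4 : (m ≫ (ChGrp.twist i (aX.restrict i)).act) ≫ fst G X =
        (l ≫ (ChGrp.twist i (aX.restrict i)).act) ≫ fst G X := congrArg (· ≫ fst G X) (h₁.trans e₁.symm)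
    rw [← lift_pair m, h₂, ← lift_pair l, e₂] at h4 ⊢
    rw [← lift_pair s.snd, ChGrp.lift_twist_act, ChGrp.lift_twist_act, lift_fst, lift_fst,
      mul_right_inj, inv_inj, cancel_mono] at h4
    rw [h4]
  · obtain ⟨κ, W, w, rfl⟩ := R.exists_eq_ofArrows
    choose σ hσ using fun m => hsec (w m) (Presieve.ofArrows.mk m)
    refine ⟨_, Precoverage.mem_coverings_of_isPullback _ hR (fst Q X).left
      (fun m => Limits.pullback.snd (w m) (fst Q X).left) (fun m => Limits.pullback.fst (w m) (fst Q X).left)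
      fun m => (IsPullback.of_hasPullback (w m) (fst Q X).left).flip, ?_⟩
    rintro T f ⟨m⟩
    have hsm : σ m ≫ (aQ.orbitMap q₀).left = w m := hσ m
    let T' : Over S := Over.mk (Limits.pullback.snd (w m) (fst Q X).left ≫ (Q ⊗ X).hom)
    let a : T' ⟶ Q ⊗ X := Over.homMk (Limits.pullback.snd (w m) (fst Q X).left)
    let g : T' ⟶ G := Over.homMk (Limits.pullback.fst (w m) (fst Q X).left ≫ σ m) (by
      change (_ ≫ σ m) ≫ G.hom = Limits.pullback.snd (w m) (fst Q X).left ≫ (Q ⊗ X).hom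
      rw [← Over.w (aQ.orbitMap q₀), ← Over.w (fst Q X), Category.assoc, reassoc_of% hsm,
        Limits.pullback.condition_assoc])
    have hg : g ≫ aQ.orbitMap q₀ = a ≫ fst Q X := by
      ext1
      change (_ ≫ σ m) ≫ (aQ.orbitMap q₀).left = Limits.pullback.snd (w m) (fst Q X).left ≫ (fst Q X).left
      rw [Category.assoc, hsm, Limits.pullback.condition]
    let b : T' ⟶ G ⊗ X := lift g (lift g⁻¹ (a ≫ snd Q X) ≫ aX.act)
    have hb : b ≫ j = a := by
      rw [hjp, ← AlgGrp.Action.comp_orbitMap, hg, ← AlgGrp.Action.lift_mul_act, mul_inv_cancel,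
        AlgGrp.Action.lift_one_act, lift_pair]
    exact ⟨b.left, congrArg CommaMorphism.left hb⟩

end Groth.L18.QuotStkBal
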