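import Groth.Agent.L29.Formal.FreeLevelsCrit

/-!
# Formal modules along a regular element

The criterion for canonical extension of `Groth.L29.FreeLevels`, for systems on which the element is regular.
-/

set_option autoImplicit false
set_option backward.isDefEq.respectTransparency false
set_option backward.isDefEq.respectTransparency.types false
set_option linter.style.haveILetI false

universe u

open CategoryTheory CategoryTheory.Limits AlgebraicGeometry TopologicalSpace Opposite

noncomputable section

namespace Groth.L18.RegLevels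

open Groth.L29.FreeLevels
open _root_.Formal (smulMod smulFamily modPow modPowπ)
open Groth.L16 Groth.L16.Rees
open Groth.L16.Existence (tr)
open Groth.L16.CohLinear (hmap overLin delta)

attribute [local instance] Groth.L29.FreeLevels.overS

variable {A : Type u} [CommRing A] [IsNoetherianRing A] {U : (Spec (CommRingCat.of A)).Opens} {f : A}
  {G : ℕᵒᵖ ⥤ (U : Scheme.{u}).Modules} (hG : _root_.Formal.IsCohFormal (Ideal.span {f}) G)
  (hk : ∀ n : ℕ, kernel.ι (smulMod A (G.obj (op (n + 1))) f) ≫ tr G n (n + 1) (Nat.le_succ n) = 0)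

include hk in
theorem mono_eMap (n : ℕ) : Mono (eMap hG n) :=
  mono_e f hG n (hk n) (eMap hG n) (tr_eMap hG n)

/-- the sequence towards the bottom level -/
abbrev bot (n : ℕ) : ShortComplex (U : Scheme.{u}).Modules := ShortComplex.mk _ _ (eMap_tr_zero hG n)

include hk in
theorem bot_shortExact (n : ℕ) : (bot hG n).ShortExact := by
  haveI := mono_eMap hG hk n
  haveI hepi : Epi (bot hG n).g := Existence.epi_tr hG (Nat.zero_le _)
  have hd : ∀ {T : (U : Scheme.{u}).Modules} (g : G.obj (op (n + 1)) ⟶ T), eMap hG n ≫ g = 0 →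
      ∃ g', tr G 0 (n + 1) (Nat.zero_le _) ≫ g' = g := fun {T} g hg => by
    refine Existence.exists_desc hG (Nat.zero_le _) g fun a ha => ?_
    rw [pow_one, Ideal.mem_span_singleton'] at ha
    obtain ⟨b, rfl⟩ := ha
    rw [mul_comm, smulMod_mul, Category.assoc, ← tr_eMap hG n, Category.assoc, hg, comp_zero, comp_zero]
  choose d hd' using @hd
  exact ⟨ShortComplex.exact_of_g_is_cokernel _ (CokernelCofork.IsColimit.ofπ _ _
    (fun g hg => d g hg) (fun g hg => hd' g hg)
    (fun g hg b hb => hepi.left_cancellation _ _ (hb.trans (hd' g hg).symm)))⟩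

/-- the embedding of the bottom level -/
def jMap : ∀ n, G.obj (op 0) ⟶ G.obj (op (n + 1))
  | 0 => eMap hG 0
  | n + 1 => jMap n ≫ eMap hG (n + 1)

theorem jMap_tr : ∀ n, jMap hG n ≫ tr G n (n + 1) (Nat.le_succ n) = 0
  | 0 => eMap_tr_zero hG 0
  | n + 1 => by rw [jMap, Category.assoc, eMap_comm, ← Category.assoc, jMap_tr n, zero_comp]

/-- the sequence of successive levels -/
abbrev step (n : ℕ) : ShortComplex (U : Scheme.{u}).Modules := ShortComplex.mk _ _ (jMap_tr hG n)

include hk in
theorem step_shortExact : ∀ n, (step hG n).ShortExact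
  | 0 => bot_shortExact hG hk 0
  | n + 1 => by
    haveI hm : Mono (jMap hG n) := (step_shortExact n).mono_f
    haveI := mono_eMap hG hk (n + 1)
    haveI : Mono (step hG (n + 1)).f := mono_comp (jMap hG n) (eMap hG (n + 1))
    haveI : Epi (step hG (n + 1)).g := Existence.epi_tr hG (Nat.le_succ (n + 1))
    haveI := mono_eMap hG hk n
    refine ⟨(ShortComplex.exact_iff_exact_up_to_refinements _).2 fun T z hz => ?_⟩
    change z ≫ tr G (n + 1) (n + 1 + 1) _ = 0 at hz
    obtain ⟨T₁, p, hp, w, hw⟩ := (bot_shortExact hG hk (n + 1)).exact.exact_up_to_refinements z (by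
      change z ≫ tr G 0 (n + 1 + 1) _ = 0
      rw [← Existence.tr_comp G (Nat.zero_le (n + 1)) (Nat.le_succ (n + 1)), reassoc_of% hz, zero_comp])
    change p ≫ z = w ≫ eMap hG (n + 1) at hw
    have h1 : w ≫ tr G n (n + 1) (Nat.le_succ n) = 0 := by
      rw [← cancel_mono (eMap hG n), Category.assoc, ← eMap_comm, ← reassoc_of% hw, hz, comp_zero, zero_comp]
    obtain ⟨T₂, q, hq, v, hv⟩ := (step_shortExact n).exact.exact_up_to_refinements w h1
    refine ⟨T₂, q ≫ p, epi_comp _ _, v, ?_⟩
    change (q ≫ p) ≫ z = v ≫ jMap hG n ≫ eMap hG (n + 1)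
    rw [Category.assoc, hw, reassoc_of% hv]

/-- morphism between the step sequences -/
def stepHom (n : ℕ) : step hG n ⟶ step hG (n + 1) :=
  ShortComplex.homMk (𝟙 _) (eMap hG (n + 1)) (eMap hG n) (by rw [Category.id_comp]; rfl) (eMap_comm hG n)

/-- obstruction to lifting one level -/
def obs (h : ∀ n, (step hG n).ShortExact) (n : ℕ) :
    ((Sec U).obj (G.obj (op n)) : Type u) →ₗ[A] Coh.HH (U : Scheme.{u}) (G.obj (op 0)) 1 :=
  obsOf U (S := step hG n) (h n)

theorem obs_eMap (h : ∀ n, (step hG n).ShortExact) (n : ℕ) (y : (Sec U).obj (G.obj (op n))) :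
    obs hG h (n + 1) (((Sec U).map (eMap hG n)).hom y) = obs hG h n y :=
  (obsOf_natural U (S := step hG n) (S' := step hG (n + 1)) (h n) (h (n + 1)) (stepHom hG n) y).trans (CohLinear.hmap_id 1 _)

theorem exists_lift_of_obs (h : ∀ n, (step hG n).ShortExact) (n : ℕ) (y : (Sec U).obj (G.obj (op n)))
    (hy : obs hG h n y = 0) : ∃ z, ((Sec U).map (tr G n (n + 1) (Nat.le_succ n))).hom z = y :=
  exists_lift_of_obsOf U (S := step hG n) (h n) y hy

/-- the system of sections has the shape `Levels` -/
def levels : Levels (_root_.Algz.sectMod A U G) f (Coh.HH (U : Scheme.{u}) (G.obj (op 0)) 1) where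
  e n := ((Sec U).map (eMap hG n)).hom
  e_injective n := haveI := mono_eMap hG hk n; injective_of_mono U (eMap hG n)
  tr_e n x := by
    change ((Sec U).map (eMap hG n)).hom (((Sec U).map (tr G n (n + 1) (Nat.le_succ n))).hom x) = f • x
    rw [← ConcreteCategory.comp_apply, ← Functor.map_comp, tr_eMap]
    exact Sec_smulMod U _ f x
  e_tr n x := by
    change ((Sec U).map (tr G n (n + 1) (Nat.le_succ n))).hom (((Sec U).map (eMap hG n)).hom x) = f • x
    rw [← ConcreteCategory.comp_apply, ← Functor.map_comp, eMap_tr]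
    exact Sec_smulMod U _ f x
  exact_bot n y := by
    refine ⟨fun hy => exists_of_exact U (bot hG n) (bot_shortExact hG hk n) y hy, ?_⟩
    rintro ⟨x, rfl⟩
    change ((Sec U).map (tr G 0 (n + 1) (Nat.zero_le _))).hom (((Sec U).map (eMap hG n)).hom x) = 0
    rw [← ConcreteCategory.comp_apply, ← Functor.map_comp, eMap_tr_zero]
    haveI : (Scheme.Modules.pushforward U.ι).Additive :=
      (Scheme.Modules.pullbackPushforwardAdjunction U.ι).right_adjoint_additive
    haveI : (moduleSpecΓFunctor (R := CommRingCat.of A)).Additive :=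
      (tilde.adjunction (R := CommRingCat.of A)).right_adjoint_additive
    haveI : (Sec U).Additive := inferInstance
    exact congrArg (fun g : (Sec U).obj (G.obj (op n)) ⟶ (Sec U).obj (G.obj (op 0)) => g.hom x) ((Sec U).map_zero _ _)
  obs n := obs hG (step_shortExact hG hk) n
  obs_e n x := obs_eMap hG (step_shortExact hG hk) n x
  lift n x hx := exists_lift_of_obs hG (step_shortExact hG hk) n x hx

include hG hk in
/-- Formal modules along a nonzerodivisor canonically extend once `H⁰` and `H¹` of the bottom level are finite. -/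
theorem canonicallyExtends [Module.Finite A ((Sec U).obj (G.obj (op 0)))]
    [Module.Finite A (Coh.HH (U : Scheme.{u}) (G.obj (op 0)) 1)] :
    _root_.Algz.CanonicallyExtends A (Ideal.span {f}) U G := by
  let L := levels hG hk
  haveI : Module.Finite A ((_root_.Algz.sectMod A U G).obj (op 0)) := ‹Module.Finite A ((Sec U).obj (G.obj (op 0)))›
  refine Groth.L12.Algz.canonicallyExtends_of U G hG L.isML (fun k => ⟨k, (L.ker_π_le k).trans ?_⟩) fun n => ?_
  · exact Submodule.smul_mono_left (Ideal.pow_le_pow_right (Nat.le_succ k))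
  · haveI := L.finite_obj n
    haveI := isNoetherian_of_isNoetherianRing_of_finite A ((_root_.Algz.sectMod A U G).obj (op n))
    exact Module.IsNoetherian.finite _ _

end Groth.L18.RegLevels
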