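import Groth.Agent.L18.RegLevels
import Groth.Agent.L18.ModSysAlgz
import Groth.Agent.L29.Formal.FreeLevelsFinite
import Groth.Agent.L29.Formal.OpenDepth
import Groth.Agent.L17.ClosedPush
import Groth.Agent.L02.FibDepth.Semi
import Groth.Agent.L04.LC.Codim

/-!
# Systems on completions along a regular element with depth two
-/

set_option autoImplicit false
set_option linter.style.haveILetI false
set_option linter.unusedSectionVars false
set_option backward.isDefEq.respectTransparency.types false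
set_option backward.isDefEq.respectTransparency false
universe u

open CategoryTheory CategoryTheory.Limits AlgebraicGeometry Opposite TopologicalSpace

noncomputable section

namespace Groth.L18.RegModSys

open _root_.Formal (smulMod smulModΓ)
open Groth.L16.Existence (tr)
open Groth.L04.PunctLin (tM)

variable {A : Type u} [CommRing A]

/-- The image condition passes to the direct image along a closed immersion. -/
theorem exists_refine_push {Z X : Scheme.{u}} (i : Z ⟶ X) [IsClosedImmersion i] (F : Z.Modules)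
    (r s : Coh.Γtop Z) (h : kernelSubobject (smulModΓ F s) = imageSubobject (smulModΓ F r))
    {W : X.Modules} (z : W ⟶ (Coh.push i).obj F) (hz : z ≫ (Coh.push i).map (smulModΓ F s) = 0) :
    ∃ (W' : X.Modules) (p : W' ⟶ W) (_ : Epi p) (w : W' ⟶ (Coh.push i).obj F),
      p ≫ z = w ≫ (Coh.push i).map (smulModΓ F r) := by
  haveI : PreservesColimitsOfSize.{u, u} (Coh.push i) := Groth.L17.ClosedPush.preservesColimits_push i
  haveI : PreservesColimitsOfSize.{0, 0} (Coh.push i) := preservesColimitsOfSize_shrink.{0, u, 0, u} _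
  haveI : (Coh.push i).IsRightAdjoint := (Scheme.Modules.pullbackPushforwardAdjunction i).isRightAdjoint
  haveI : (Coh.push i).Additive := (Scheme.Modules.pullbackPushforwardAdjunction i).right_adjoint_additive
  let e : Subobject.underlying.obj (imageSubobject (smulModΓ F r)) ≅
      Subobject.underlying.obj (kernelSubobject (smulModΓ F s)) :=
    Subobject.isoOfEq _ _ h.symm
  let q := factorThruImageSubobject (smulModΓ F r) ≫ e.hom
  haveI : Epi (factorThruImageSubobject (smulModΓ F r)) := inferInstance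
  haveI : Epi q := epi_comp _ _
  have hq : q ≫ (kernelSubobject (smulModΓ F s)).arrow = smulModΓ F r := by
    simp [q, e, Subobject.isoOfEq]
  let j := (kernelSubobject (smulModΓ F s)).arrow
  have hj : j ≫ smulModΓ F s = 0 := kernelSubobject_arrow_comp _
  have hlim : IsLimit (KernelFork.ofι j hj) :=
    IsKernel.isoKernel _ _ (kernelIsKernel (smulModΓ F s)) (kernelSubobjectIso _) (kernelSubobject_arrow _)
  have hlim' := (KernelFork.isLimitMapConeEquiv (KernelFork.ofι j hj) (Coh.push i))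
    (isLimitOfPreserves (Coh.push i) hlim)
  obtain ⟨z', hz'⟩ := KernelFork.IsLimit.lift' hlim' z hz
  obtain ⟨W', p, hp, w, hw⟩ := surjective_up_to_refinements_of_epi ((Coh.push i).map q) z'
  refine ⟨W', p, hp, w, ?_⟩
  rw [← hz', ← hq, Functor.map_comp, ← Category.assoc, hw, Category.assoc]
  rfl

variable [IsNoetherianRing A]

/-- Algebraization of a system on which the element is regular, with depth two near the boundary. -/
theorem exists_algebraization {R : Type u} [CommRing R] [IsRegularRing R] (π : R →+* A) (hπ : Function.Surjective π)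
    (t : A) [IsAdicComplete (Ideal.span {t}) A] (𝔟 : Ideal A) (U : (Spec (CommRingCat.of A)).Opens)
    (hU : U = LocCoh.puncturedOpen A 𝔟)
    (𝓘 : (U : Scheme.{u}).IdealSheafData) (h𝓘 : 𝓘 = (FSch.idealSpec A (Ideal.span {t})).comap U.ι)
    (𝔐 : FSch.ModSys (FSch.completionAlong (U : Scheme.{u}) 𝓘)) (hcoh : 𝔐.IsCoh)
    (hreg : ∀ N : ℕ, 1 ≤ N → kernelSubobject (Formal.smulModΓ (𝔐.F N)
        ((((FSch.completionToX (U : Scheme.{u}) 𝓘 N) ≫ U.ι).appTop.hom
          ((Scheme.ΓSpecIso (CommRingCat.of A)).inv t)) ^ N)) =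
      imageSubobject (Formal.smulModΓ (𝔐.F N) (((FSch.completionToX (U : Scheme.{u}) 𝓘 N) ≫ U.ι).appTop.hom
          ((Scheme.ΓSpecIso (CommRingCat.of A)).inv t))))
    (hdepth : ∀ y : ↥((FSch.completionAlong (U : Scheme.{u}) 𝓘).X 0),
      (∃ q : PrimeSpectrum A, 𝔟 ≤ q.asIdeal ∧
        @CovBy (PrimeSpectrum A) _ ((FSch.completionToX (U : Scheme.{u}) 𝓘 0 ≫ U.ι).base y) q) →
      (2 : ℕ∞) ≤ LocCoh.depth (((FSch.completionAlong (U : Scheme.{u}) 𝓘).X 0).presheaf.stalk y)
        ((𝔐.F 0).presheaf.stalk y)) :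
    ∃ F : (U : Scheme.{u}).Modules, Coh.IsCoh F ∧ Nonempty (FSch.completionMod 𝓘 F ≅ 𝔐) := by
  haveI : AlgebraicGeometry.IsNoetherian (Spec (CommRingCat.of A)) := inferInstance
  haveI : IsNoetherianRing (CommRingCat.of A) := ‹IsNoetherianRing A›
  haveI : CompactSpace ↥(U : Scheme.{u}) :=
    isCompact_iff_compactSpace.1 (NoetherianSpace.isCompact (α := PrimeSpectrum A) _)
  haveI : AlgebraicGeometry.IsNoetherian (U : Scheme.{u}) := { }
  let J : Ideal A := Ideal.span {t}
  have hcl : ∀ k, IsClosedImmersion (FSch.completionToX (U : Scheme.{u}) 𝓘 k) :=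
    Groth.L17.FSheaf.isClosedImmersion_completionToX 𝓘
  have hcut : Groth.L17.FSheaf.CutOver J (FSch.completionAlong (U : Scheme.{u}) 𝓘)
      (FSch.completionToX (U : Scheme.{u}) 𝓘) :=
    Groth.L17.FSheaf.cutOver_completion J U.ι 𝓘 h𝓘
  let G := Groth.L17.FSheaf.gSys (FSch.completionAlong (U : Scheme.{u}) 𝓘) (FSch.completionToX (U : Scheme.{u}) 𝓘)
    (FSch.completionToX_comm (U : Scheme.{u}) 𝓘) 𝔐
  have hG : Formal.IsCohFormal J G :=
    Groth.L17.FSheaf.isCohFormal_gSys (FSch.completionToX_comm (U : Scheme.{u}) 𝓘) 𝔐 hcl hcut hcoh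
  -- powers of the element on the levels
  let i := FSch.completionToX (U : Scheme.{u}) 𝓘
  let c : ∀ N, Coh.Γtop ((FSch.completionAlong (U : Scheme.{u}) 𝓘).X N) := fun N =>
    ((i N) ≫ U.ι).appTop.hom ((Scheme.ΓSpecIso (CommRingCat.of A)).inv t)
  have hsm : ∀ N k, smulMod A (G.obj (op N)) (t ^ k) = (Coh.push (i N)).map (smulModΓ (𝔐.F N) (c N ^ k)) := by
    intro N k
    refine (Groth.L16.Rees.smulModΓ_push (i N) (𝔐.F N) _).trans ?_
    refine congrArg (fun r => (Coh.push (i N)).map (smulModΓ (𝔐.F N) r)) ?_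
    show (i N).appTop (U.ι.appTop ((Scheme.ΓSpecIso (CommRingCat.of A)).inv (t ^ k))) = _
    simp only [map_pow]
    rfl
  have hker : ∀ n : ℕ, kernel.ι (smulMod A (G.obj (op (n + 1))) t) ≫ tr G n (n + 1) (Nat.le_succ n) = 0 := by
    intro n
    have step : ∀ (d j : ℕ), 1 ≤ j → j + d = n + 2 → ∀ {W : (U : Scheme.{u}).Modules} (z : W ⟶ G.obj (op (n + 1))),
        z ≫ smulMod A (G.obj (op (n + 1))) (t ^ j) = 0 →
          ∃ (W' : (U : Scheme.{u}).Modules) (p : W' ⟶ W) (_ : Epi p) (w : W' ⟶ G.obj (op (n + 1))),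
            p ≫ z = w ≫ smulMod A (G.obj (op (n + 1))) (t ^ d) := by
      intro d
      induction d with
      | zero =>
        intro j _ _ W z _
        refine ⟨W, 𝟙 _, inferInstance, z, ?_⟩
        rw [pow_zero, Groth.L16.Rees.smulMod_one, Category.id_comp, Category.comp_id]
      | succ d ih =>
        intro j hj hjd W z hz
        have hzN : z ≫ (Coh.push (i (n + 1))).map (smulModΓ (𝔐.F (n + 1)) (c (n + 1) ^ (n + 1))) = 0 := by
          obtain ⟨e, he⟩ : ∃ e, n + 1 = e + j := ⟨n + 1 - j, by omega⟩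
          rw [← hsm, show t ^ (n + 1) = t ^ e * t ^ j by rw [← pow_add, ← he], Groth.L16.Rees.smulMod_mul,
            reassoc_of% hz, zero_comp]
        obtain ⟨W₁, p, hp, y, hy⟩ := exists_refine_push (i (n + 1)) (𝔐.F (n + 1)) (c (n + 1))
          (c (n + 1) ^ (n + 1)) (hreg (n + 1) (Nat.succ_pos n)) z hzN
        have hy' : p ≫ z = y ≫ smulMod A (G.obj (op (n + 1))) (t ^ 1) := by
          rw [hsm, pow_one]
          exact hy
        have hy0 : y ≫ smulMod A (G.obj (op (n + 1))) (t ^ (j + 1)) = 0 := by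
          rw [show t ^ (j + 1) = t ^ j * t ^ 1 by rw [← pow_add], Groth.L16.Rees.smulMod_mul,
            ← Category.assoc, ← hy', Category.assoc, hz, comp_zero]
        obtain ⟨W₂, p', hp', w, hw⟩ := ih (j + 1) (by omega) (by omega) y hy0
        refine ⟨W₂, p' ≫ p, epi_comp _ _, w, ?_⟩
        rw [Category.assoc, hy', reassoc_of% hw, ← Groth.L16.Rees.smulMod_mul, ← pow_add, add_comm 1 d]
    obtain ⟨W', p, hp, w, hw⟩ := step (n + 1) 1 le_rfl (by omega) (kernel.ι (smulMod A (G.obj (op (n + 1))) t))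
      (by rw [pow_one]; exact kernel.condition _)
    haveI := hp
    rw [← cancel_epi p, comp_zero, ← Category.assoc, hw, Category.assoc,
      Groth.L16.Existence.smul_tr hG (Nat.le_succ n) (Ideal.pow_mem_pow (Ideal.mem_span_singleton_self t) (n + 1)),
      comp_zero]
  -- finiteness of the bottom level
  subst hU
  have hfin : Module.Finite A (Coh.HH (LocCoh.puncturedOpen A 𝔟 : Scheme.{u}) (G.obj (op 0)) 0) ∧
      Module.Finite A (Coh.HH (LocCoh.puncturedOpen A 𝔟 : Scheme.{u}) (G.obj (op 0)) 1) := by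
    haveI : Coh.IsQCoh (G.obj (op 0)) := (hG.1 0).1
    obtain ⟨N, hN, ⟨e⟩⟩ := Groth.L14.PicSurj.exists_tilde_extension' (LocCoh.puncturedOpen A 𝔟) (G.obj (op 0)) (hG.1 0).2
    haveI : Module.Finite A N := hN
    have hkN : (Groth.L12.ZarPair.modOn (LocCoh.puncturedOpen A 𝔟)).map (Groth.L29.Formal.sc t N) = 0 := by
      change Groth.L04.PunctLin.tg (LocCoh.puncturedOpen A 𝔟) (Groth.L29.Formal.sc t N) = 0
      rw [← Groth.L29.Formal.smulMod_tM, ← cancel_mono e.hom, zero_comp, Groth.L16.Rees.smulMod_naturality,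
        hG.2.1 0 t (by rw [zero_add, pow_one]; exact Ideal.mem_span_singleton_self t), comp_zero]
    have hH := (Groth.L04.LC.finite_H_below_iff_depth π hπ 𝔟 N 2).2 fun p q hp hq hpq => by
      let x : (LocCoh.puncturedOpen A 𝔟 : Scheme.{u}) := ⟨p, hp⟩
      by_cases htp : t ∈ p.asIdeal
      · -- a point of the special fibre
        have hx : x ∈ Set.range (i 0) := by
          show x ∈ Set.range (𝓘 ^ (0 + 1)).subschemeι
          rw [Scheme.IdealSheafData.range_subschemeι, zero_add, pow_one, h𝓘, Scheme.IdealSheafData.support_comap]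
          show (p : Spec (CommRingCat.of A)) ∈ ((FSch.idealSpec A J).support : Set (Spec (CommRingCat.of A)))
          rw [show FSch.idealSpec A J = (Spec.map (CommRingCat.ofHom (Ideal.Quotient.mk J))).ker from rfl,
            Scheme.Hom.support_ker]
          refine subset_closure ?_
          rw [show Set.range (Spec.map (CommRingCat.ofHom (Ideal.Quotient.mk J))) =
            Set.range (PrimeSpectrum.comap (Ideal.Quotient.mk J)) from rfl,
            range_comap_of_surjective _ _ Ideal.Quotient.mk_surjective, Ideal.mk_ker]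
          exact Ideal.span_le.2 (Set.singleton_subset_iff.2 htp)
        obtain ⟨y, hy⟩ := hx
        haveI := hcl 0
        have hyp : (i 0 ≫ (LocCoh.puncturedOpen A 𝔟).ι).base y = p := congrArg Subtype.val hy
        have h1 := hdepth y ⟨q, hq, hyp.symm ▸ hpq⟩
        have h2 : LocCoh.depth (((LocCoh.puncturedOpen A 𝔟 : Scheme.{u})).presheaf.stalk (i 0 y))
            ((G.obj (op 0)).presheaf.stalk (i 0 y)) =
            LocCoh.depth (((FSch.completionAlong (LocCoh.puncturedOpen A 𝔟 : Scheme.{u}) 𝓘).X 0).presheaf.stalk y)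
              ((𝔐.F 0).presheaf.stalk y) :=
          L02.FibDepth.Semi.depth_eq
            { φ := ((i 0).stalkMap y).hom
              surj := (i 0).stalkMap_surjective y
              e := AddEquiv.ofBijective _ (Groth.L17.ClosedPush.c₀_bijective (i 0) (𝔐.F 0) y)
              map_smul := fun r m => Groth.L17.ClosedPush.c₀_smul (i 0) (𝔐.F 0) y r m }
        have h3 : (2 : ℕ∞) ≤ LocCoh.depth ((LocCoh.puncturedOpen A 𝔟 : Scheme.{u}).presheaf.stalk (i 0 y))
            ((tM (LocCoh.puncturedOpen A 𝔟) N).presheaf.stalk (i 0 y)) := by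
          let el : (tM (LocCoh.puncturedOpen A 𝔟) N).presheaf.stalk (i 0 y) ≃ₗ[(LocCoh.puncturedOpen A 𝔟 : Scheme.{u}).presheaf.stalk (i 0 y)]
              (G.obj (op 0)).presheaf.stalk (i 0 y) :=
            ((Groth.L00.Stk.F (LocCoh.puncturedOpen A 𝔟 : Scheme.{u}) (i 0 y)).mapIso e).toLinearEquiv
          exact (h1.trans h2.ge).trans (Groth.L04.idealDepth_congr el).ge
        rw [Groth.L29.OpenDepth.depth_tilde_restrict (LocCoh.puncturedOpen A 𝔟) N (i 0 y), hy] at h3
        exact h3
      · -- away from the special fibre the module vanishes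
        haveI : Subsingleton (LocalizedModule p.asIdeal.primeCompl N) := by
          refine LocalizedModule.subsingleton_iff.2 fun m => ?_
          obtain ⟨g, hg𝔟, hgp⟩ := SetLike.not_le_iff_exists.1 hp
          have hD : Groth.L29.CechSect.D g ≤ LocCoh.puncturedOpen A 𝔟 := fun r hr hr' => hr (hr' hg𝔟)
          obtain ⟨k, hk⟩ := Groth.L29.FreeLevels.exists_pow_smul_smul_eq_zero 𝔟 N t hkN g hD m
          refine ⟨g ^ k * t, p.asIdeal.primeCompl.mul_mem ?_ htp, ?_⟩
          · exact fun h => hgp (p.2.mem_of_pow_mem k h)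
          · rw [mul_smul]
            exact hk _ (Ideal.pow_mem_pow (Ideal.mem_span_singleton_self g) k)
        rw [LocCoh.depth, Groth.L04.idealDepth_eq_top (Subsingleton.elim _ _)]
        exact le_top
    haveI : Module.Finite A ((localCohomology 𝔟 1).obj N) := hH 1 (by omega)
    haveI : Module.Finite A ((localCohomology 𝔟 2).obj N) := hH 2 le_rfl
    haveI : Module.Finite A (Coh.HH (LocCoh.puncturedOpen A 𝔟 : Scheme.{u}) (tM (LocCoh.puncturedOpen A 𝔟) N) 1) := by
      obtain ⟨ee⟩ := Groth.L04.PunctLin.nonempty_equiv 𝔟 0 N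
      exact Module.Finite.equiv ee.symm
    haveI : Module.Finite A (Coh.HH (LocCoh.puncturedOpen A 𝔟 : Scheme.{u}) (tM (LocCoh.puncturedOpen A 𝔟) N) 0) := by
      obtain ⟨-, ⟨c⟩⟩ := Groth.L04.Koszul.Cech.exists_toOpen_punctured 𝔟 N
      let t := (tilde.toOpen (R := CommRingCat.of A) N (LocCoh.puncturedOpen A 𝔟)).hom
      haveI : Module.Finite A ((Groth.L04.PunctLin.sect (LocCoh.puncturedOpen A 𝔟) N : Type u) ⧸ LinearMap.range t) :=
        Module.Finite.equiv c.symm
      haveI : Module.Finite A (LinearMap.range t) := Module.Finite.range t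
      haveI : Module.Finite A (Groth.L04.PunctLin.sect (LocCoh.puncturedOpen A 𝔟) N : Type u) :=
        Module.Finite.of_submodule_quotient (LinearMap.range t)
      exact Module.Finite.equiv (Groth.L04.PunctLin.gamma (LocCoh.puncturedOpen A 𝔟) N).symm
    exact ⟨Groth.L16.CohLinear.finite_of_iso A e 0, Groth.L16.CohLinear.finite_of_iso A e 1⟩
  haveI := hfin.1
  haveI := hfin.2
  haveI : Module.Finite A ((Groth.L29.FreeLevels.Sec (LocCoh.puncturedOpen A 𝔟)).obj (G.obj (op 0))) :=
    Module.Finite.equiv (Groth.L29.FreeLevels.Φ (LocCoh.puncturedOpen A 𝔟) (G.obj (op 0)))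
  have hC := Groth.L18.RegLevels.canonicallyExtends hG hker
  -- algebraization
  letI : (Spec (CommRingCat.of A)).Over (Spec (CommRingCat.of A)) := ⟨𝟙 (Spec (CommRingCat.of A))⟩
  haveI : IsProper ((Spec (CommRingCat.of A)) ↘ Spec (CommRingCat.of A)) :=
    show IsProper (𝟙 (Spec (CommRingCat.of A))) from inferInstance
  obtain ⟨G', hG', ⟨j⟩⟩ := Groth.L12.Algz.extends_of_canonicallyExtends A (LocCoh.puncturedOpen A 𝔟) hG hC
  obtain ⟨E, hE, ⟨ε⟩⟩ := Groth.L16.Exist.algebraisable J (Spec (CommRingCat.of A)) G' hG'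
  obtain ⟨g⟩ := Groth.L12.Algz.nonempty_restrict_completion_iso A (LocCoh.puncturedOpen A 𝔟) J E
  have hF : Coh.IsCoh (E.restrict (LocCoh.puncturedOpen A 𝔟).ι) :=
    Groth.L03.QcOpenExtend.isCoh_of_iso
      ((Scheme.Modules.restrictFunctorIsoPullback (LocCoh.puncturedOpen A 𝔟).ι).app E)
      (Groth.L16.AffineBC.isCoh_pullback (LocCoh.puncturedOpen A 𝔟).ι hE)
  have θ : Formal.completion J (E.restrict (LocCoh.puncturedOpen A 𝔟).ι) ≅ G :=
    g.symm ≪≫ CategoryTheory.Functor.isoWhiskerRight ε _ ≪≫ j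
  obtain ⟨e⟩ := Groth.L17.FSheaf.nonempty_iso_pullSys_of_completion
    (FSch.completionToX_comm _ 𝓘) 𝔐 hcl hcut hF θ
  refine ⟨_, hF, ⟨eqToIso (Groth.L18.ModSysAlgz.completionMod_eq 𝓘 _) ≪≫ ?_⟩⟩
  exact eqToIso (Groth.L17.FSheaf.pullSys_completion 𝓘 _).symm ≪≫ e.symm

end Groth.L18.RegModSys
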