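import Groth.Agent.L18.ValCrit2

/-!
Sections of closed separated morphisms over valuation rings.
-/

noncomputable section

namespace Groth.L18

open CategoryTheory AlgebraicGeometry Limits IsLocalRing

universe u

set_option maxHeartbeats 800000 in
theorem existsUnique_section (A : Type u) [CommRing A] [IsDomain A] [ValuationRing A] (K : Type u)
    [Field K] [Algebra A K] [IsFractionRing A K] {X : Scheme.{u}}
    (f : X ⟶ Spec (CommRingCat.of A)) [IsSeparated f] (hf : IsClosedMap f.base)
    (x : Spec (CommRingCat.of K) ⟶ X)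
    (hx : x ≫ f = Spec.map (CommRingCat.ofHom (algebraMap A K))) :
    ∃! s : Spec (CommRingCat.of A) ⟶ X,
      s ≫ f = 𝟙 _ ∧ Spec.map (CommRingCat.ofHom (algebraMap A K)) ≫ s = x := by
  refine existsUnique_of_exists_of_unique ?_ fun s₁ s₂ h₁ h₂ => ?_
  swap
  · let S : ValuativeCommSq f := ⟨A, K, x, 𝟙 _, ⟨hx.trans (Category.comp_id _).symm⟩⟩
    exact congrArg CommSq.LiftStruct.l ((IsSeparated.valuativeCriterion f S).elim
      ⟨s₁, h₁.2, h₁.1⟩ ⟨s₂, h₂.2, h₂.1⟩)
  let c : ↥(Spec (CommRingCat.of A)) := closedPoint A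
  let x₀ : X := x (closedPoint (CommRingCat.of K))
  obtain ⟨x', hsp, hx'⟩ : ∃ x' : X, x₀ ⤳ x' ∧ f x' = c := by
    have hcl : IsClosed (f '' closure {x₀}) := hf _ isClosed_closure
    have hmem : f x₀ ∈ f '' closure {x₀} := ⟨x₀, subset_closure rfl, rfl⟩
    have hspc : f x₀ ⤳ c := specializes_closedPoint _
    obtain ⟨x', hx', e⟩ := hspc.mem_closed hcl hmem
    exact ⟨x', specializes_iff_mem_closure.mpr hx', e⟩
  let g : X.presheaf.stalk x' ⟶ CommRingCat.of K :=
    X.presheaf.stalkSpecializes hsp ≫ Scheme.stalkClosedPointTo x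
  have hg : Spec.map g ≫ X.fromSpecStalk x' = x := by
    rw [Spec.map_comp, Category.assoc, Scheme.SpecMap_stalkSpecializes_fromSpecStalk]
    exact Scheme.Spec_stalkClosedPointTo_fromSpecStalk x
  obtain ⟨ρ, hρ⟩ : ∃ ρ : CommRingCat.of A ⟶ X.presheaf.stalk x',
      Spec.map ρ = X.fromSpecStalk x' ≫ f := ⟨Spec.preimage _, Spec.map_preimage _⟩
  have hgρ : g.hom.comp ρ.hom = algebraMap A K := by
    have : Spec.map (ρ ≫ g) = Spec.map (CommRingCat.ofHom (algebraMap A K)) := by
      rw [Spec.map_comp, hρ, ← Category.assoc, hg, hx]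
    exact CommRingCat.hom_ext_iff.mp (Spec.map_injective this)
  have hloc : IsLocalHom ρ.hom := by
    refine ((IsLocalRing.local_hom_TFAE ρ.hom).out 0 4).mpr ?_
    let pt : ↥(Spec (X.presheaf.stalk x')) := closedPoint (X.presheaf.stalk x')
    have h1 : Spec.map ρ pt = c := by
      rw [hρ, Scheme.Hom.comp_apply, Scheme.fromSpecStalk_closedPoint, hx']
    exact congrArg PrimeSpectrum.asIdeal h1
  have hbij := bijective_rangeRestrict_comp_of_valuationRing (R := A) (K := K) ρ.hom g.hom hgρ
  let e := RingEquiv.ofBijective _ hbij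
  let γ : X.presheaf.stalk x' ⟶ CommRingCat.of A :=
    CommRingCat.ofHom (e.symm.toRingHom.comp g.hom.rangeRestrict)
  have hγ : γ ≫ CommRingCat.ofHom (algebraMap A K) = g := by
    ext a
    have h1 : ((e (γ.hom a)) : K) = g.hom a :=
      congrArg Subtype.val (e.apply_symm_apply (g.hom.rangeRestrict a))
    exact (RingHom.congr_fun hgρ (γ.hom a)).symm.trans h1
  refine ⟨Spec.map γ ≫ X.fromSpecStalk x', ?_, ?_⟩
  · rw [Category.assoc, ← hρ, ← Spec.map_comp, ← Spec.map_id]
    congr 1
    ext a
    exact IsFractionRing.injective A K ((congr($hγ (ρ.hom a))).trans (RingHom.congr_fun hgρ a))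
  · rw [← Spec.map_comp_assoc, hγ, hg]

/-- A closed birational morphism from an integral separated scheme to the spectrum of a valuation ring
is an isomorphism. -/
theorem isIso_of_closed_birational (A : Type u) [CommRing A] [IsDomain A] [ValuationRing A]
    (X : Scheme.{u}) [IsIntegral X] [X.IsSeparated] (f : X ⟶ Spec (CommRingCat.of A))
    (hf : IsClosedMap f.base) (x : X)
    (hx : f.base ⁻¹' {genericPoint (Spec (CommRingCat.of A))} = {x})
    (hres : Function.Bijective (f.residueFieldMap x).hom) : IsIso f := by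
  have : IsSeparated (f ≫ terminal.from _) := by rw [terminal.comp_from]; infer_instance
  have : IsSeparated f := IsSeparated.of_comp f (terminal.from _)
  set η := genericPoint (Spec (CommRingCat.of A))
  have hfx : f x = η := hx.ge (Set.mem_singleton x)
  set ξ := genericPoint X
  have hξ : ξ = x := by
    refine (Set.ext_iff.mp hx ξ).mp ?_
    show f ξ = η
    have h1 : f ξ ⤳ η := hfx ▸ ((genericPoint_spec X).specializes trivial).map f.continuous
    exact (h1.antisymm ((genericPoint_spec (Spec (CommRingCat.of A))).specializes trivial)).eq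
  subst hξ
  obtain ⟨φ, hφ⟩ : ∃ φ : CommRingCat.of A ⟶ X.residueField ξ,
      Spec.map φ = X.fromSpecResidueField ξ ≫ f := ⟨Spec.preimage _, Spec.map_preimage _⟩
  let _ : Algebra A (X.residueField ξ) := φ.hom.toAlgebra
  have hsurj : ∀ z : X.residueField ξ, ∃ a b : A, z = φ.hom a / φ.hom b := by
    intro z
    have hU : IsAffineOpen (⊤ : (Spec (CommRingCat.of A)).Opens) := isAffineOpen_top _
    obtain ⟨w, rfl⟩ := hres.2 z
    obtain ⟨a, b, -, rfl⟩ := exists_evaluation_div_eq hU (f ξ) trivial w
    obtain ⟨a', rfl⟩ : ∃ a', (Scheme.ΓSpecIso (CommRingCat.of A)).inv.hom a' = a :=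
      ⟨(Scheme.ΓSpecIso (CommRingCat.of A)).hom.hom a, by simp⟩
    obtain ⟨b', rfl⟩ : ∃ b', (Scheme.ΓSpecIso (CommRingCat.of A)).inv.hom b' = b :=
      ⟨(Scheme.ΓSpecIso (CommRingCat.of A)).hom.hom b, by simp⟩
    have hev : (Scheme.ΓSpecIso (CommRingCat.of A)).inv ≫ (Spec (CommRingCat.of A)).evaluation ⊤ (f ξ) trivial ≫
        f.residueFieldMap ξ = φ := by
      apply Spec.map_injective
      rw [hφ, ← f.SpecMap_residueFieldMap_fromSpecResidueField, ← SpecMap_evaluation_fromSpec hU (f ξ) trivial]
      simp [IsAffineOpen.fromSpec_top, Scheme.isoSpec_Spec_inv]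
    refine ⟨a', b', ?_⟩
    rw [map_div₀]
    exact congrArg₂ (· / ·) congr($hev a') congr($hev b')
  have hinj : Function.Injective φ.hom := by
    rw [RingHom.injective_iff_ker_eq_bot]
    let pt : ↥(Spec (X.residueField ξ)) := closedPoint (X.residueField ξ)
    have h1 : Spec.map φ pt = η := by
      rw [hφ, Scheme.Hom.comp_apply, Scheme.fromSpecResidueField_apply, hfx]
    have h2 := congrArg PrimeSpectrum.asIdeal h1
    simp only [η, genericPoint_eq_bot_of_affine] at h2
    refine Eq.trans ?_ h2
    show RingHom.ker φ.hom = (maximalIdeal (X.residueField ξ)).comap φ.hom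
    rw [IsLocalRing.isField_iff_maximalIdeal_eq.mp (Field.toIsField _)]
    rfl
  have : FaithfulSMul A (X.residueField ξ) :=
    (faithfulSMul_iff_algebraMap_injective _ _).mpr hinj
  have : IsFractionRing A (X.residueField ξ) := IsFractionRing.of_field A (X.residueField ξ)
    fun z => by obtain ⟨a, b, e⟩ := hsurj z; exact ⟨a, b, e⟩
  obtain ⟨s, ⟨hs, hs'⟩, -⟩ := existsUnique_section A (X.residueField ξ) f hf
    (X.fromSpecResidueField ξ) hφ.symm
  have : IsClosedImmersion (s ≫ f) := by rw [hs]; infer_instance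
  have : IsClosedImmersion s := IsClosedImmersion.of_comp s f
  have : Surjective s := by
    constructor
    intro y
    have hξs : ξ ∈ Set.range s := by
      let pt : ↥(Spec (X.residueField ξ)) := closedPoint (X.residueField ξ)
      refine ⟨Spec.map φ pt, ?_⟩
      rw [← Scheme.Hom.comp_apply]
      erw [hs']
      exact Scheme.fromSpecResidueField_apply _ _
    exact ((genericPoint_spec X).specializes trivial).mem_closed s.isClosedEmbedding.isClosed_range hξs
  have : IsIso s := isIso_of_isClosedImmersion_of_surjective s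
  have : IsIso (s ≫ f) := by rw [hs]; infer_instance
  exact IsIso.of_isIso_comp_left s f

end Groth.L18
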