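import Groth.Agent.L23.EtaleLift
import Groth.Agent.L18.AlgebraizeH2
import Mathlib.AlgebraicGeometry.Morphisms.Smooth
import Mathlib.RingTheory.RingHom.LocallyStandardSmooth

/-!
# Local smooth formal liftings
-/

set_option autoImplicit false
set_option linter.style.haveILetI false
set_option backward.isDefEq.respectTransparency false
set_option backward.isDefEq.respectTransparency.types false
universe u

open CategoryTheory CategoryTheory.Limits AlgebraicGeometry TopologicalSpace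

noncomputable section

namespace Groth.L18.SmoothFormalLift

/-- A standard smooth algebra over a quotient lifts to a smooth algebra. -/
theorem exists_smooth_lift {R B₀ C : Type u} [CommRing R] [CommRing B₀] [CommRing C] (ρ : R →+* B₀)
    (hρ : Function.Surjective ρ) (a : B₀ →+* C) (ha : a.IsStandardSmooth) :
    ∃ (A' : Type u) (_ : CommRing A') (φ : R →+* A') (ψ : A' →+* C),
      φ.Smooth ∧ Function.Surjective ψ ∧ RingHom.ker ψ = (RingHom.ker ρ).map φ ∧ ψ.comp φ = a.comp ρ := by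
  obtain ⟨n, g, hg, hge⟩ := ha.exists_etale_mvPolynomial
  letI : Algebra (MvPolynomial (Fin n) R) (MvPolynomial (Fin n) B₀) := (MvPolynomial.map ρ).toAlgebra
  letI : Algebra (MvPolynomial (Fin n) B₀) C := g.toAlgebra
  letI : Algebra (MvPolynomial (Fin n) R) C := (g.comp (MvPolynomial.map ρ)).toAlgebra
  haveI : IsScalarTower (MvPolynomial (Fin n) R) (MvPolynomial (Fin n) B₀) C :=
    IsScalarTower.of_algebraMap_eq' rfl
  haveI : Algebra.Etale (MvPolynomial (Fin n) B₀) C := hge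
  obtain ⟨A', iA, iP, ψ, hA', hψs, hψk⟩ := Groth.L23.exists_etale_lift
    (P := MvPolynomial (Fin n) R) (B := MvPolynomial (Fin n) B₀) (C := C) (MvPolynomial.map_surjective ρ hρ)
  haveI := hA'
  letI : Algebra R A' := ((algebraMap (MvPolynomial (Fin n) R) A').comp MvPolynomial.C).toAlgebra
  haveI : IsScalarTower R (MvPolynomial (Fin n) R) A' := IsScalarTower.of_algebraMap_eq' rfl
  haveI : Algebra.Smooth R (MvPolynomial (Fin n) R) := ⟨inferInstance, inferInstance⟩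
  haveI : Algebra.Smooth R A' := Algebra.Smooth.comp R (MvPolynomial (Fin n) R) A'
  refine ⟨A', iA, algebraMap R A', ψ.toRingHom, RingHom.smooth_algebraMap.2 inferInstance, hψs, ?_, ?_⟩
  · refine hψk.trans ?_
    rw [show algebraMap (MvPolynomial (Fin n) R) (MvPolynomial (Fin n) B₀) = MvPolynomial.map ρ from rfl,
      MvPolynomial.ker_map, Ideal.map_map]
    rfl
  · refine RingHom.ext fun r => ?_
    show ψ (algebraMap (MvPolynomial (Fin n) R) A' (MvPolynomial.C r)) = a (ρ r)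
    rw [AlgHom.commutes, ← hg]
    show g (MvPolynomial.map ρ (MvPolynomial.C r)) = g (MvPolynomial.C (ρ r))
    rw [MvPolynomial.map_C]

theorem isNilpotent_ker_factor {A' : Type u} [CommRing A'] (J : Ideal A') (n : ℕ) :
    IsNilpotent (RingHom.ker (Ideal.Quotient.factor (Ideal.pow_le_pow_right (I := J) (show n + 1 ≤ n + 1 + 1 from Nat.le_succ _)))) := by
  refine ⟨2, ?_⟩
  rw [Ideal.Quotient.factor_ker, ← Ideal.map_pow, Ideal.zero_eq_bot, Ideal.map_eq_bot_iff_le_ker, Ideal.mk_ker,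
    ← pow_mul]
  exact Ideal.pow_le_pow_right (by omega)

/-- Compatible liftings through a tower of nilpotent extensions. -/
theorem exists_lifts_tower {R B' : Type u} [CommRing R] [CommRing B'] (φB : R →+* B') (hB : φB.Smooth)
    (C : ℕ → Type u) [∀ n, CommRing (C n)] (γ : ∀ n, R →+* C n) (f : ∀ n, C (n + 1) →+* C n)
    (hf : ∀ n, (f n).comp (γ (n + 1)) = γ n) (hs : ∀ n, Function.Surjective (f n))
    (hnil : ∀ n, IsNilpotent (RingHom.ker (f n))) (θ₀ : B' →+* C 0) (h₀ : θ₀.comp φB = γ 0) :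
    ∃ θ : ∀ n, B' →+* C n, θ 0 = θ₀ ∧ (∀ n, (θ n).comp φB = γ n) ∧ ∀ n, (f n).comp (θ (n + 1)) = θ n := by
  letI : Algebra R B' := φB.toAlgebra
  letI : ∀ n, Algebra R (C n) := fun n => (γ n).toAlgebra
  haveI : Algebra.Smooth R B' := hB
  let fac : ∀ n : ℕ, C (n + 1) →ₐ[R] C n := fun n =>
    { f n with commutes' := fun r => RingHom.congr_fun (hf n) r }
  have step : ∀ (n : ℕ) (t : B' →ₐ[R] C n), ∃ t' : B' →ₐ[R] C (n + 1), (fac n).comp t' = t := fun n t =>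
    ⟨Algebra.FormallySmooth.liftOfSurjective t (fac n) (hs n) (hnil n),
      Algebra.FormallySmooth.comp_liftOfSurjective t (fac n) (hs n) (hnil n)⟩
  choose nxt hnxt using step
  let t₀ : B' →ₐ[R] C 0 := { θ₀ with commutes' := fun r => RingHom.congr_fun h₀ r }
  let ts : ∀ n, B' →ₐ[R] C n := fun n => n.rec t₀ fun k t => nxt k t
  refine ⟨fun n => (ts n).toRingHom, rfl, fun n => RingHom.ext fun r => (ts n).commutes r, fun n => ?_⟩
  exact congrArg (fun t : B' →ₐ[R] C n => t.toRingHom) (hnxt n (ts n))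

theorem exists_lifts_ideals {R A' B' : Type u} [CommRing R] [CommRing A'] [CommRing B'] (φA : R →+* A')
    (φB : R →+* B') (hB : φB.Smooth) (I : ℕ → Ideal A') (hI : ∀ n, I (n + 1) ≤ I n)
    (hnil : ∀ n, IsNilpotent (RingHom.ker (Ideal.Quotient.factor (hI n))))
    (θ₀ : B' →+* A' ⧸ I 0) (h₀ : θ₀.comp φB = (Ideal.Quotient.mk (I 0)).comp φA) :
    ∃ θ : ∀ n, B' →+* A' ⧸ I n, θ 0 = θ₀ ∧ (∀ n, (θ n).comp φB = (Ideal.Quotient.mk (I n)).comp φA) ∧
      ∀ n, (Ideal.Quotient.factor (hI n)).comp (θ (n + 1)) = θ n :=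
  exists_lifts_tower φB hB (fun n => A' ⧸ I n) (fun n => (Ideal.Quotient.mk (I n)).comp φA)
    (fun n => Ideal.Quotient.factor (hI n))
    (fun n => by rw [← RingHom.comp_assoc, Ideal.Quotient.factor_comp_mk])
    (fun n => Ideal.Quotient.factor_surjective _) hnil θ₀ h₀

/-- Compatible liftings through all thickenings. -/
theorem exists_lifts {R A' B' : Type u} [CommRing R] [CommRing A'] [CommRing B'] (φA : R →+* A') (φB : R →+* B')
    (hB : φB.Smooth) (J : Ideal A') (θ₀ : B' →+* A' ⧸ J ^ (0 + 1))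
    (h₀ : θ₀.comp φB = (Ideal.Quotient.mk (J ^ (0 + 1))).comp φA) :
    ∃ θ : ∀ n, B' →+* A' ⧸ J ^ (n + 1), θ 0 = θ₀ ∧
      (∀ n, (θ n).comp φB = (Ideal.Quotient.mk (J ^ (n + 1))).comp φA) ∧
      ∀ n, (Ideal.Quotient.factor (Ideal.pow_le_pow_right (I := J) (show n + 1 ≤ n + 1 + 1 from Nat.le_succ _))).comp (θ (n + 1)) = θ n :=
  exists_lifts_ideals φA φB hB (fun n => J ^ (n + 1)) (fun n => Ideal.pow_le_pow_right (show n + 1 ≤ n + 1 + 1 from Nat.le_succ _))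
    (fun n => isNilpotent_ker_factor J n) θ₀ h₀

variable {S : Scheme.{u}} (𝒥 : S.IdealSheafData) {W : S.Opens} (hW : IsAffineOpen W)
  {A' : Type u} [CommRing A'] (φ : Γ(S, W) →+* A')

/-- The model over the affine open `W`. -/
def modelMap : Spec (CommRingCat.of A') ⟶ S := Spec.map (CommRingCat.ofHom φ) ≫ hW.fromSpec

theorem comap_modelMap :
    𝒥.comap (modelMap hW φ) = FSch.idealSpec A' ((𝒥.ideal ⟨W, hW⟩).map φ) := by
  refine Scheme.IdealSheafData.ext_of_isAffine ?_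
  have hle : (⊤ : (Spec (CommRingCat.of A')).Opens) ≤ modelMap hW φ ⁻¹ᵁ W := by
    rw [modelMap, Scheme.Hom.comp_preimage, hW.fromSpec_preimage_self]
    exact le_rfl
  rw [Groth.L22.Ideals.comap_ideal (modelMap hW φ) 𝒥 ⟨W, hW⟩ ⟨⊤, isAffineOpen_top _⟩ hle,
    Groth.L17.FSheaf.idealSpec_ideal_top, Ideal.map_map]
  congr 1
  have h : (modelMap hW φ).appLE W ⊤ hle =
      CommRingCat.ofHom φ ≫ (Scheme.ΓSpecIso (CommRingCat.of A')).inv := by
    simp only [modelMap, Scheme.Hom.appLE, Scheme.Hom.comp_app, hW.fromSpec_app_self, Category.assoc,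
      Scheme.Hom.naturality_assoc]
    rw [← Scheme.ΓSpecIso_inv_naturality_assoc]
    simp only [← Functor.map_comp]
    exact congrArg _ ((congrArg _ (congrArg _ (Subsingleton.elim _ (𝟙 _)))).trans (by simp))
  exact congrArg CommRingCat.Hom.hom h

/-- The levels of the completion of an affine scheme along an ideal. -/
theorem exists_level_iso' {A : Type u} [CommRing A] (J : Ideal A) (K : (Spec (CommRingCat.of A)).IdealSheafData)
    (hK : K = FSch.idealSpec A J) :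
    ∃ σ : ∀ n, (FSch.completionAlong (Spec (CommRingCat.of A)) K).X n ≅ Spec (CommRingCat.of (A ⧸ J ^ (n + 1))),
      (∀ n, (σ n).hom ≫ CohB1.specQuot J n = FSch.completionToX _ K n) ∧
      ∀ n, IsPullback ((FSch.completionAlong (Spec (CommRingCat.of A)) K).ι n) (σ n).hom
        (σ (n + 1)).hom (CohB1.specQuotTrans J n) := by
  subst hK
  exact Groth.L18.AlgebraizeH2.exists_level_iso J

theorem powCompat_comap {X Y : Scheme.{u}} (f : X ⟶ Y) (K : Y.IdealSheafData) :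
    FSch.PowCompat f (K.comap f) K := fun n => (Groth.L17.Thick.comap_pow f K (n + 1)).le

theorem smooth_level {X Y : Scheme.{u}} (f : X ⟶ Y) [Smooth f] (K : Y.IdealSheafData) (n : ℕ) :
    Smooth ((FSch.completionMap f (K.comap f) K (powCompat_comap f K) : FSch.Hom _ _).app n) :=
  MorphismProperty.of_isPullback (P := @Smooth) (Groth.L17.ComplSquare.isPullback_level f K _ n) inferInstance

theorem smooth_modelMap (hφ : φ.Smooth) : Smooth (modelMap hW φ) := by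
  haveI : Smooth (Spec.map (CommRingCat.ofHom φ)) := HasRingHomProperty.Spec_iff.2 hφ
  exact MorphismProperty.comp_mem _ _ _ ‹Smooth _› inferInstance

/-- Local smooth lifting of a scheme smooth over `V(𝒥)`. -/
theorem exists_local_lift {X₀ : Scheme.{u}} (a : X₀ ⟶ (FSch.completionAlong S 𝒥).X 0) [Smooth a] (x : X₀)
    (O : X₀.Opens) (hxO : x ∈ O) (hxW : FSch.completionToX S 𝒥 0 (a x) ∈ W) :
    ∃ (U : X₀.Opens) (_ : x ∈ U) (_ : U ≤ O) (_ : IsAffineOpen U)
      (e : U ≤ (a ≫ FSch.completionToX S 𝒥 0) ⁻¹ᵁ W)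
      (A' : Type u) (_ : CommRing A') (φ : Γ(S, W) →+* A') (ψ : A' →+* Γ(X₀, U)),
      φ.Smooth ∧ Function.Surjective ψ ∧ RingHom.ker ψ = (𝒥.ideal ⟨W, hW⟩).map φ ∧
      ψ.comp φ = ((a ≫ FSch.completionToX S 𝒥 0).appLE W U e).hom := by
  set ι₀ := FSch.completionToX S 𝒥 0
  haveI : IsClosedImmersion ι₀ := inferInstanceAs (IsClosedImmersion (𝒥 ^ (0 + 1)).subschemeι)
  have hW₀ : IsAffineOpen (ι₀ ⁻¹ᵁ W) := hW.preimage ι₀
  obtain ⟨Q, hQ, hxQ, hQle⟩ := exists_isAffineOpen_mem_and_subset (x := x)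
    (U := O ⊓ a ⁻¹ᵁ (ι₀ ⁻¹ᵁ W)) ⟨hxO, hxW⟩
  have hQa : Q ≤ a ⁻¹ᵁ (ι₀ ⁻¹ᵁ W) := fun z hz => (hQle hz).2
  have hsm : (a.appLE (ι₀ ⁻¹ᵁ W) Q hQa).hom.Smooth :=
    HasRingHomProperty.appLE (P := @Smooth) a ‹_› ⟨_, hW₀⟩ ⟨Q, hQ⟩ hQa
  obtain ⟨s, hs, hloc⟩ := hsm.locally_isStandardSmooth
  obtain ⟨t, hts, hxt⟩ : ∃ t ∈ s, x ∈ X₀.basicOpen t := by
    have hcov := (IsAffineOpen.iSup_basicOpen_eq_self_iff hQ).2 hs
    obtain ⟨⟨t, ht⟩, hxt⟩ := Opens.mem_iSup.1 (hcov.ge hxQ)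
    exact ⟨t, ht, hxt⟩
  have hle : X₀.basicOpen t ≤ Q := X₀.basicOpen_le t
  haveI := hQ.isLocalization_basicOpen t
  let E : Localization.Away t ≃ₐ[Γ(X₀, Q)] Γ(X₀, X₀.basicOpen t) :=
    IsLocalization.algEquiv (Submonoid.powers t) _ _
  have hstd : (a.appLE (ι₀ ⁻¹ᵁ W) (X₀.basicOpen t) (hle.trans hQa)).hom.IsStandardSmooth := by
    have h1 := RingHom.isStandardSmooth_respectsIso.1 _ E.toRingEquiv (hloc t hts)
    convert h1 using 1
    rw [← Scheme.Hom.appLE_map a hQa (homOfLE hle).op]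
    refine RingHom.ext fun r => ?_
    exact (E.commutes _).symm
  obtain ⟨A', iA, φ, ψ, hφ, hψ, hk, hc⟩ := exists_smooth_lift (ι₀.app W).hom (ι₀.app_surjective W hW)
    (a.appLE (ι₀ ⁻¹ᵁ W) (X₀.basicOpen t) (hle.trans hQa)).hom hstd
  refine ⟨X₀.basicOpen t, hxt, fun z hz => (hQle (hle hz)).1, hQ.basicOpen t,
    fun z hz => hQa (hle hz), A', iA, φ, ψ, hφ, hψ, ?_, ?_⟩
  · rw [hk, ← ι₀.ker_apply ⟨W, hW⟩]
    congr 1
    show ((𝒥 ^ (0 + 1)).subschemeι.ker).ideal ⟨W, hW⟩ = _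
    rw [Scheme.IdealSheafData.ker_subschemeι, pow_one]
  · rw [hc]
    refine (congrArg CommRingCat.Hom.hom ?_ : (ι₀.app W ≫ a.appLE (ι₀ ⁻¹ᵁ W) (X₀.basicOpen t) _).hom = _)
    rw [Scheme.Hom.app_eq_appLE, Scheme.Hom.appLE_comp_appLE]

/-- The bottom level of the model is the given open. -/
theorem exists_zero_iso {X₀ : Scheme.{u}} (a : X₀ ⟶ S) {U : X₀.Opens} (hU : IsAffineOpen U)
    (e : U ≤ a ⁻¹ᵁ W) (J : Ideal A') (ψ : A' →+* Γ(X₀, U)) (hψ : Function.Surjective ψ)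
    (hk : RingHom.ker ψ = J) (hc : ψ.comp φ = (a.appLE W U e).hom) :
    ∃ (ψ₀ : A' ⧸ J ^ (0 + 1) ≃+* Γ(X₀, U)),
      ψ₀.toRingHom.comp (Ideal.Quotient.mk (J ^ (0 + 1))) = ψ ∧
      hU.fromSpec ≫ a = Spec.map (CommRingCat.ofHom ψ₀.toRingHom) ≫ CohB1.specQuot J 0 ≫ modelMap hW φ := by
  let ψ₀ : A' ⧸ J ^ (0 + 1) ≃+* Γ(X₀, U) :=
    (Ideal.quotEquivOfEq (show J ^ (0 + 1) = RingHom.ker ψ by rw [hk, zero_add, pow_one])).trans
      (RingHom.quotientKerEquivOfSurjective hψ)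
  have h1 : ψ₀.toRingHom.comp (Ideal.Quotient.mk (J ^ (0 + 1))) = ψ := RingHom.ext fun r => rfl
  refine ⟨ψ₀, h1, ?_⟩
  rw [← hW.SpecMap_appLE_fromSpec a hU e, modelMap, CohB1.specQuot, ← Category.assoc, ← Category.assoc,
    ← Spec.map_comp, ← Spec.map_comp, ← CommRingCat.ofHom_comp, ← CommRingCat.ofHom_comp,
    h1, hc]
  rfl

end Groth.L18.SmoothFormalLift
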