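import Groth.Agent.L18.SmoothFormalLift

/-!
# Local smooth formal lifting of a morphism
-/

set_option autoImplicit false
set_option linter.style.haveILetI false
set_option backward.isDefEq.respectTransparency false
set_option backward.isDefEq.respectTransparency.types false
universe u

open CategoryTheory CategoryTheory.Limits AlgebraicGeometry TopologicalSpace

noncomputable section

namespace Groth.L18.SmoothFormalLift

theorem specMap_factor_trans {A B : Type u} [CommRing A] [CommRing B] (I : Ideal A) (J : Ideal B) (n : ℕ)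
    (θ : A →+* B ⧸ J ^ (n + 1 + 1)) (θ' : A →+* B ⧸ J ^ (n + 1))
    (h : (Ideal.Quotient.factor (Ideal.pow_le_pow_right (I := J) (show n + 1 ≤ n + 1 + 1 from Nat.le_succ _))).comp θ = θ')
    (l : A ⧸ I ^ (n + 1 + 1) →+* B ⧸ J ^ (n + 1 + 1)) (l' : A ⧸ I ^ (n + 1) →+* B ⧸ J ^ (n + 1))
    (hl : l.comp (Ideal.Quotient.mk _) = θ) (hl' : l'.comp (Ideal.Quotient.mk _) = θ') :
    Spec.map (CommRingCat.ofHom l') ≫ CohB1.specQuotTrans I n =
      CohB1.specQuotTrans J n ≫ Spec.map (CommRingCat.ofHom l) := by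
  rw [CohB1.specQuotTrans, CohB1.specQuotTrans, ← Spec.map_comp, ← Spec.map_comp, ← CommRingCat.ofHom_comp,
    ← CommRingCat.ofHom_comp]
  congr 2
  refine Ideal.Quotient.ringHom_ext ?_
  rw [RingHom.comp_assoc, RingHom.comp_assoc, Ideal.Quotient.factor_comp_mk, hl', hl, h]

theorem exists_local_formal_lifting (S : Scheme.{u})
    (𝒥 : S.IdealSheafData) {X₀ Y₀ : Scheme.{u}}
    (a : X₀ ⟶ (FSch.completionAlong S 𝒥).X 0) (b : Y₀ ⟶ (FSch.completionAlong S 𝒥).X 0)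
    [AlgebraicGeometry.Smooth a] [AlgebraicGeometry.Smooth b] (f : X₀ ⟶ Y₀) (w : f ≫ b = a) (x : X₀) :
    ∃ (U₀ : X₀.Opens) (V₀ : Y₀.Opens) (_ : x ∈ U₀) (hUV : U₀ ≤ f ⁻¹ᵁ V₀)
      (𝔘 𝔙 : FSch.Sys.{u}) (p : 𝔘 ⟶ FSch.completionAlong S 𝒥) (q : 𝔙 ⟶ FSch.completionAlong S 𝒥)
      (Φ : 𝔘 ⟶ 𝔙) (eU : 𝔘.X 0 ≅ U₀.toScheme) (eV : 𝔙.X 0 ≅ V₀.toScheme),
      Φ ≫ q = p ∧ FSch.IsAdicHom p ∧ FSch.IsAdicHom q ∧
      (∀ n : ℕ, AlgebraicGeometry.Smooth ((p : FSch.Hom 𝔘 _).app n)) ∧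
      (∀ n : ℕ, AlgebraicGeometry.Smooth ((q : FSch.Hom 𝔙 _).app n)) ∧
      eU.hom ≫ U₀.ι ≫ a = (p : FSch.Hom 𝔘 _).app 0 ∧
      eV.hom ≫ V₀.ι ≫ b = (q : FSch.Hom 𝔙 _).app 0 ∧
      (Φ : FSch.Hom 𝔘 𝔙).app 0 ≫ eV.hom = eU.hom ≫ f.resLE V₀ U₀ hUV := by
  subst w
  set c := FSch.completionToX S 𝒥 0
  obtain ⟨W, hW, hxW, -⟩ := exists_isAffineOpen_mem_and_subset (x := c ((f ≫ b) x)) (U := (⊤ : S.Opens)) trivial
  obtain ⟨V, hfV, -, hV, eV', B', iB, φB, ψB, hφB, hψB, hkB, hcB⟩ :=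
    exists_local_lift 𝒥 hW b (f x) ⊤ trivial hxW
  obtain ⟨U, hxU, hUf, hU, eU', A', iA, φA, ψA, hφA, hψA, hkA, hcA⟩ :=
    exists_local_lift 𝒥 hW (f ≫ b) x (f ⁻¹ᵁ V) hfV hxW
  let JA := (𝒥.ideal ⟨W, hW⟩).map φA
  let JB := (𝒥.ideal ⟨W, hW⟩).map φB
  let πA := modelMap hW φA
  let πB := modelMap hW φB
  haveI : Smooth πA := smooth_modelMap hW φA hφA
  haveI : Smooth πB := smooth_modelMap hW φB hφB
  obtain ⟨σA, hσA, hσA'⟩ := exists_level_iso' JA (𝒥.comap πA) (comap_modelMap 𝒥 hW φA)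
  obtain ⟨σB, hσB, hσB'⟩ := exists_level_iso' JB (𝒥.comap πB) (comap_modelMap 𝒥 hW φB)
  obtain ⟨zA, hzA, hzA'⟩ := exists_zero_iso hW φA ((f ≫ b) ≫ c) hU eU' JA ψA hψA hkA hcA
  obtain ⟨zB, hzB, hzB'⟩ := exists_zero_iso hW φB (b ≫ c) hV eV' JB ψB hψB hkB hcB
  let θ₀ : B' →+* A' ⧸ JA ^ (0 + 1) := zA.symm.toRingHom.comp ((f.appLE V U hUf).hom.comp ψB)
  have h₀ : θ₀.comp φB = (Ideal.Quotient.mk (JA ^ (0 + 1))).comp φA := by
    have h1 : (f.appLE V U hUf).hom.comp (ψB.comp φB) = ψA.comp φA := by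
      rw [hcA, hcB]
      refine (congrArg CommRingCat.Hom.hom ?_ : ((b ≫ c).appLE W V eV' ≫ f.appLE V U hUf).hom = _)
      rw [Scheme.Hom.appLE_comp_appLE]
      rfl
    simp only [θ₀, RingHom.comp_assoc, h1, ← hzA]
    exact RingHom.ext fun r => zA.symm_apply_apply _
  obtain ⟨θ, hθ0, hθR, hθc⟩ := exists_lifts φA φB hφB JA θ₀ h₀
  have hJ : ∀ n, ∀ z ∈ JB ^ (n + 1), θ n z = 0 := fun n z hz => by
    have h := Ideal.mem_map_of_mem (θ n) hz
    have he : JB.map (θ n) = JA.map (Ideal.Quotient.mk (JA ^ (n + 1))) := by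
      show Ideal.map _ (Ideal.map φB _) = _
      rw [Ideal.map_map, hθR n, ← Ideal.map_map]
    rw [Ideal.map_pow, he, ← Ideal.map_pow (Ideal.Quotient.mk (JA ^ (n + 1))) JA, Ideal.map_quotient_self, Ideal.mem_bot] at h
    exact h
  let l : ∀ n, B' ⧸ JB ^ (n + 1) →+* A' ⧸ JA ^ (n + 1) := fun n => Ideal.Quotient.lift _ (θ n) (hJ n)
  have hl : ∀ n, (l n).comp (Ideal.Quotient.mk _) = θ n := fun n => Ideal.Quotient.lift_comp_mk _ _ _
  let Φ : FSch.completionAlong (Spec (CommRingCat.of A')) (𝒥.comap πA) ⟶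
      FSch.completionAlong (Spec (CommRingCat.of B')) (𝒥.comap πB) :=
    ⟨fun n => (σA n).hom ≫ Spec.map (CommRingCat.ofHom (l n)) ≫ (σB n).inv, fun n => by
      have h1 := specMap_factor_trans JB JA n _ _ (hθc n) _ _ (hl (n + 1)) (hl n)
      have h2 : (σB n).inv ≫ (FSch.completionAlong (Spec (CommRingCat.of B')) (𝒥.comap πB)).ι n =
          CohB1.specQuotTrans JB n ≫ (σB (n + 1)).inv := by
        rw [Iso.inv_comp_eq, ← Category.assoc, Iso.eq_comp_inv]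
        exact (hσB' n).w
      simp only [Category.assoc]
      rw [h2, reassoc_of% h1, ← Category.assoc, ← Category.assoc, ← (hσA' n).w]
      simp only [Category.assoc]⟩
  let eU : (FSch.completionAlong (Spec (CommRingCat.of A')) (𝒥.comap πA)).X 0 ≅ U.toScheme :=
    σA 0 ≪≫ Scheme.Spec.mapIso (zA.toCommRingCatIso.symm.op) ≪≫ hU.isoSpec.symm
  let eV : (FSch.completionAlong (Spec (CommRingCat.of B')) (𝒥.comap πB)).X 0 ≅ V.toScheme :=
    σB 0 ≪≫ Scheme.Spec.mapIso (zB.toCommRingCatIso.symm.op) ≪≫ hV.isoSpec.symm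
  have heU : eU.hom = (σA 0).hom ≫ Spec.map (CommRingCat.ofHom zA.symm.toRingHom) ≫ hU.isoSpec.inv := rfl
  have heV : eV.hom = (σB 0).hom ≫ Spec.map (CommRingCat.ofHom zB.symm.toRingHom) ≫ hV.isoSpec.inv := rfl
  refine ⟨U, V, hxU, hUf, _, _, FSch.completionMap πA _ 𝒥 (powCompat_comap πA 𝒥),
    FSch.completionMap πB _ 𝒥 (powCompat_comap πB 𝒥), Φ, eU, eV, ?_,
    Groth.L17.ComplSquare.isAdicHom πA 𝒥 _, Groth.L17.ComplSquare.isAdicHom πB 𝒥 _,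
    smooth_level πA 𝒥, smooth_level πB 𝒥, ?_, ?_, ?_⟩
  · refine FSch.Hom.ext (funext fun n => ?_)
    haveI : Mono (FSch.completionToX S 𝒥 n) := inferInstanceAs (Mono (𝒥 ^ (n + 1)).subschemeι)
    rw [← cancel_mono (FSch.completionToX S 𝒥 n)]
    refine (Category.assoc _ _ _).trans ?_
    refine (congrArg ((Φ : FSch.Hom _ _).app n ≫ ·) (Groth.L17.ComplSquare.app_toX πB 𝒥 _ _ n)).trans ?_
    rw [Groth.L17.ComplSquare.app_toX πA 𝒥 _ _ n, ← hσB n, ← hσA n]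
    show ((σA n).hom ≫ Spec.map (CommRingCat.ofHom (l n)) ≫ (σB n).inv) ≫ ((σB n).hom ≫ CohB1.specQuot JB n) ≫ πB = _
    simp only [Category.assoc, Iso.inv_hom_id_assoc, πA, πB, modelMap, CohB1.specQuot, ← Spec.map_comp_assoc,
      ← CommRingCat.ofHom_comp]
    rw [← RingHom.comp_assoc, hl, hθR]
  · haveI : Mono c := inferInstanceAs (Mono (𝒥 ^ (0 + 1)).subschemeι)
    rw [← cancel_mono c, Groth.L17.ComplSquare.app_toX πA 𝒥 _ _ 0, ← hσA 0, heU]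
    simp only [Category.assoc, IsAffineOpen.isoSpec_inv_ι_assoc]
    rw [Category.assoc] at hzA'
    rw [hzA', ← Spec.map_comp_assoc, ← CommRingCat.ofHom_comp, RingEquiv.toRingHom_eq_coe,
      RingEquiv.toRingHom_eq_coe, RingEquiv.symm_comp, CommRingCat.ofHom_id, Spec.map_id, Category.id_comp]
  · haveI : Mono c := inferInstanceAs (Mono (𝒥 ^ (0 + 1)).subschemeι)
    rw [← cancel_mono c, Groth.L17.ComplSquare.app_toX πB 𝒥 _ _ 0, ← hσB 0, heV]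
    simp only [Category.assoc, IsAffineOpen.isoSpec_inv_ι_assoc]
    rw [hzB', ← Spec.map_comp_assoc, ← CommRingCat.ofHom_comp, RingEquiv.toRingHom_eq_coe,
      RingEquiv.toRingHom_eq_coe, RingEquiv.symm_comp, CommRingCat.ofHom_id, Spec.map_id, Category.id_comp]
  · rw [← cancel_mono V.ι]
    simp only [Category.assoc, Scheme.Hom.resLE_comp_ι]
    rw [heU, heV]
    show ((σA 0).hom ≫ Spec.map (CommRingCat.ofHom (l 0)) ≫ (σB 0).inv) ≫ _ = _
    simp only [Category.assoc, Iso.inv_hom_id_assoc, IsAffineOpen.isoSpec_inv_ι,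
      IsAffineOpen.isoSpec_inv_ι_assoc]
    rw [← hV.SpecMap_appLE_fromSpec f hU hUf, ← Spec.map_comp_assoc, ← Spec.map_comp_assoc]
    congr 2
    refine congrArg Spec.map (CommRingCat.hom_ext (RingHom.ext fun v => ?_))
    obtain ⟨r, rfl⟩ := hψB v
    show l 0 (zB.symm (ψB r)) = zA.symm ((f.appLE V U hUf) (ψB r))
    rw [show zB.symm (ψB r) = Ideal.Quotient.mk _ r from
      zB.symm_apply_eq.2 (RingHom.congr_fun hzB r).symm]
    show θ 0 r = _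
    rw [hθ0]
    rfl

end Groth.L18.SmoothFormalLift
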