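import Groth.Agent.L18.SymGraded
import Groth.Agent.L16.AffineBC.Pullback
import Groth.Prelude.Def_RelProj4
import Mathlib.Algebra.Category.Ring.Constructions

/-!
The symmetric algebra commutes with base change.
-/

set_option autoImplicit false
set_option linter.style.haveILetI false
set_option backward.isDefEq.respectTransparency false
set_option backward.isDefEq.respectTransparency.types false

noncomputable section

universe u

open CategoryTheory CategoryTheory.Limits AlgebraicGeometry TopologicalSpace Opposite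

namespace Groth.L18.SymBaseChange

open Groth.L18.SymSheaf (exists_equiv smul_toModule)
open Groth.L16.AffineBC (pullRes)

variable {S S' : Scheme.{u}} (g : S' ⟶ S) (E : S.Modules) [Coh.IsQCoh E] (A : RelSpec.QCAlg S)
  (j : E ⟶ A.toModule) (B : RelSpec.QCAlg S') (j' : (Scheme.Modules.pullback g).obj E ⟶ B.toModule)
  (u : RelSpec.QHom g A B)

omit [Coh.IsQCoh E] in
theorem appLE_j
    (hu : ∀ (U : S.Opens) (x : Γ(E, U)), (u.app U).hom ((j.app U) x) =
      (j'.app (g ⁻¹ᵁ U)) (((Scheme.Modules.pullbackPushforwardAdjunction g).unit.app E).app U x))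
    (U : S.Opens) (U' : S'.Opens) (hle : U' ≤ g ⁻¹ᵁ U) (x : Γ(E, U)) :
    (u.appLE U U' hle).hom (j.app U x) = j'.app U' (pullRes g E hle x) := by
  show (B.presheaf.map (homOfLE hle).op).hom ((u.app U).hom (j.app U x)) = _
  rw [hu]
  exact (ConcreteCategory.congr_hom (j'.mapPresheaf.naturality (homOfLE hle).op) _).symm

theorem isQBaseChange (hA : RelSpec.IsSymAlg E A j) (hB : RelSpec.IsSymAlg ((Scheme.Modules.pullback g).obj E) B j')
    (hu : ∀ (U : S.Opens) (x : Γ(E, U)), (u.app U).hom ((j.app U) x) =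
      (j'.app (g ⁻¹ᵁ U)) (((Scheme.Modules.pullbackPushforwardAdjunction g).unit.app E).app U x)) :
    RelSpec.IsQBaseChange u := by
  classical
  haveI : Coh.IsQCoh ((Scheme.Modules.pullback g).obj E) := Groth.L16.AffineBC.isQCoh_pullback g E
  intro U hU U' hU' hle
  obtain ⟨ΦA, hA0, hA1, -⟩ := exists_equiv hA
  obtain ⟨ΦB, hB0, hB1, -⟩ := exists_equiv hB
  have hbase := Groth.L16.AffineBC.isBaseChange_pull g E hU hU' hle
  have hstr : ∀ r, (u.appLE U U' hle).hom ((A.str.app (op U)).hom r) =
      (B.str.app (op U')).hom ((g.appLE U U' hle).hom r) := fun r =>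
    ConcreteCategory.congr_hom (u.str_appLE U U' hle) r
  have hgen : ∀ x, (u.appLE U U' hle).hom (j.app U x) = j'.app U' (pullRes g E hle x) :=
    appLE_j g E A j B j' u hu U U' hle
  have hsq : g.appLE U U' hle ≫ B.str.app (op U') = A.str.app (op U) ≫ u.appLE U U' hle :=
    (u.str_appLE U U' hle).symm
  have key : ∀ (T : CommRingCat.{u}) (α : Γ(S', U') →+* T) (β : A.presheaf.obj (op U) →+* T),
      (∀ r, α ((g.appLE U U' hle).hom r) = β ((A.str.app (op U)).hom r)) →
      ∃ γ : B.presheaf.obj (op U') →+* T,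
        γ.comp (B.str.app (op U')).hom = α ∧ γ.comp (u.appLE U U' hle).hom = β := by
    intro T α β hαβ
    letI : Algebra Γ(S, U) Γ(S', U') := (g.appLE U U' hle).hom.toAlgebra
    letI := Module.compHom Γ((Scheme.Modules.pullback g).obj E, U') (g.appLE U U' hle).hom
    haveI : IsScalarTower Γ(S, U) Γ(S', U') Γ((Scheme.Modules.pullback g).obj E, U') := IsScalarTower.of_algebraMap_smul fun _ _ => rfl
    letI : Algebra Γ(S', U') T := α.toAlgebra
    letI : Algebra Γ(S, U) T := (α.comp (g.appLE U U' hle).hom).toAlgebra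
    haveI : IsScalarTower Γ(S, U) Γ(S', U') T := IsScalarTower.of_algebraMap_eq fun _ => rfl
    let l₀ : Γ(E, U) →ₗ[Γ(S, U)] T :=
      { toFun := fun x => β (j.app U x)
        map_add' := fun x y => by rw [map_add]; exact map_add β _ _
        map_smul' := fun r x => by
          rw [Scheme.Modules.Hom.app_smul, smul_toModule, RingHom.id_apply, Algebra.smul_def]
          exact (map_mul β _ _).trans (congrArg (· * _) (hαβ r).symm) }
    let γ : B.presheaf.obj (op U') →+* T :=
      (SymmetricAlgebra.lift (hbase.lift l₀)).toRingHom.comp (ΦB U' hU').symm.toRingHom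
    refine ⟨γ, RingHom.ext fun r => ?_, ?_⟩
    · show SymmetricAlgebra.lift (hbase.lift l₀) ((ΦB U' hU').symm ((B.str.app (op U')).hom r)) = α r
      rw [← hB0 U' hU', RingEquiv.symm_apply_apply, AlgHom.commutes]
      rfl
    · suffices h : (γ.comp (u.appLE U U' hle).hom).comp (ΦA U hU).toRingHom = β.comp (ΦA U hU).toRingHom from
        RingHom.ext fun x => by
          obtain ⟨y, rfl⟩ := (ΦA U hU).surjective x
          exact RingHom.congr_fun h y
      refine Groth.L18.SymRing.ringHom_ext (fun r => ?_) (fun x => ?_)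
      · show SymmetricAlgebra.lift (hbase.lift l₀) ((ΦB U' hU').symm ((u.appLE U U' hle).hom (ΦA U hU (algebraMap _ _ r)))) =
          β (ΦA U hU (algebraMap _ _ r))
        rw [hA0, hstr, ← hB0 U' hU', RingEquiv.symm_apply_apply, AlgHom.commutes]
        exact hαβ r
      · show SymmetricAlgebra.lift (hbase.lift l₀) ((ΦB U' hU').symm ((u.appLE U U' hle).hom (ΦA U hU (SymmetricAlgebra.ι _ _ x)))) =
          β (ΦA U hU (SymmetricAlgebra.ι _ _ x))
        rw [hA1, hgen, ← hB1 U' hU', RingEquiv.symm_apply_apply, SymmetricAlgebra.lift_ι_apply]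
        exact IsBaseChange.lift_eq hbase l₀ x
  have uniq : ∀ (T : CommRingCat.{u}) (γ γ' : B.presheaf.obj (op U') →+* T),
      γ.comp (B.str.app (op U')).hom = γ'.comp (B.str.app (op U')).hom →
      γ.comp (u.appLE U U' hle).hom = γ'.comp (u.appLE U U' hle).hom → γ = γ' := by
    intro T γ γ' e0 e1
    suffices h : γ.comp (ΦB U' hU').toRingHom = γ'.comp (ΦB U' hU').toRingHom from RingHom.ext fun x => by
      obtain ⟨y, rfl⟩ := (ΦB U' hU').surjective x
      exact RingHom.congr_fun h y
    refine Groth.L18.SymRing.ringHom_ext (fun r => ?_) (fun m => ?_)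
    · show γ (ΦB U' hU' _) = γ' (ΦB U' hU' _)
      rw [hB0]
      exact RingHom.congr_fun e0 r
    · show γ (ΦB U' hU' _) = γ' (ΦB U' hU' _)
      rw [hB1]
      letI : Algebra Γ(S, U) Γ(S', U') := (g.appLE U U' hle).hom.toAlgebra
      letI := Module.compHom Γ((Scheme.Modules.pullback g).obj E, U') (g.appLE U U' hle).hom
      haveI : IsScalarTower Γ(S, U) Γ(S', U') Γ((Scheme.Modules.pullback g).obj E, U') := IsScalarTower.of_algebraMap_smul fun _ _ => rfl
      refine hbase.inductionOn m (fun m => γ (j'.app U' m) = γ' (j'.app U' m)) ?_ (fun x => ?_) (fun b z hz => ?_)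
        (fun y z hy hz => ?_)
      · rw [map_zero]
        exact (map_zero γ).trans (map_zero γ').symm
      · rw [← hgen]
        exact RingHom.congr_fun e1 _
      · rw [Scheme.Modules.Hom.app_smul, smul_toModule]
        refine (map_mul γ _ _).trans (Eq.trans ?_ (map_mul γ' _ _).symm)
        exact congrArg₂ (· * ·) (RingHom.congr_fun e0 b) hz
      · rw [map_add]
        exact (map_add γ _ _).trans ((congrArg₂ (· + ·) hy hz).trans (map_add γ' _ _).symm)
  choose γ hγ0 hγ1 using key
  refine ⟨⟨hsq⟩, ⟨PushoutCocone.IsColimit.mk hsq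
    (fun s => CommRingCat.ofHom (γ s.pt s.inl.hom s.inr.hom
      (fun r => ConcreteCategory.congr_hom s.condition r)))
    (fun s => CommRingCat.hom_ext (hγ0 _ _ _ _))
    (fun s => CommRingCat.hom_ext (hγ1 _ _ _ _))
    (fun s m h₁ h₂ => CommRingCat.hom_ext (uniq _ _ _ ?_ ?_))⟩⟩
  · rw [CommRingCat.hom_ofHom, hγ0, ← h₁]; rfl
  · rw [CommRingCat.hom_ofHom, hγ1, ← h₂]; rfl

end Groth.L18.SymBaseChange
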