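import Groth.Prelude.Def_SymProd
import Groth.Prelude.Def_SymTen
import Groth.Agent.L16.SymProd.Chart
import Groth.Agent.L27.Quot.Affine
import Groth.Agent.L27.Quot.Restrict

/-! Affine charts of symmetric products: sections of a fibre power over a box are a tensor power, and
sections of the symmetric product are the symmetric tensors. -/

set_option autoImplicit false
set_option backward.isDefEq.respectTransparency false

universe u

open CategoryTheory CategoryTheory.Limits AlgebraicGeometry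
open scoped TensorProduct

noncomputable section

namespace Groth.L18.SymPow

variable {X S Y : Scheme.{u}} (f : X ⟶ S) {d : ℕ}

/-- Affine charts of a symmetric product, any degree. -/
theorem exists_chart (hAF : SymProd.IsAF f) (q : SymProd.fibPow f d ⟶ Y) (g : Y ⟶ S)
    (hq : SymProd.IsSymProd f d q g) (y : Y) :
    ∃ (V : S.Opens) (U : X.Opens) (W' : Y.Opens), IsAffineOpen V ∧ IsAffineOpen U ∧ U ≤ f ⁻¹ᵁ V ∧
      y ∈ W' ∧ IsAffineOpen W' ∧ W' ≤ g ⁻¹ᵁ V ∧ q ⁻¹ᵁ W' = Groth.L16.SymProd.box f d U V := by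
  haveI : Finite (ULift.{u} (Equiv.Perm (Fin d))) := inferInstance
  obtain ⟨x, hx⟩ := Groth.L27.Quot.surjective hq.isQuot y
  obtain ⟨V, hV, hxV, -⟩ := exists_isAffineOpen_mem_and_subset
    (x := (WidePullback.base (fun _ : Fin d => f)).base x) (U := ⊤) trivial
  obtain ⟨U, hU, hUV, hxW⟩ := Groth.L16.SymProd.exists_box f d hAF x hV hxV
  haveI := Groth.L27.Quot.isIntegralHom hq.isQuot
  let W := Groth.L16.SymProd.box f d U V
  let W' : Y.Opens := ⟨(q.base '' (W : Set ↥(SymProd.fibPow f d))ᶜ)ᶜ,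
    (q.isClosedMap _ W.2.isClosed_compl).isOpen_compl⟩
  have hstab : ∀ a b, q.base a = q.base b → a ∈ W → b ∈ W := by
    intro a b hab ha
    obtain ⟨σ, rfl⟩ := Groth.L27.Quot.exists_eq_of_map_eq hq.isQuot hab
    rw [SymProd.permActU_hom]
    show a ∈ SymProd.permHom f d σ.down ⁻¹ᵁ W
    rw [Groth.L16.SymProd.preimage_box]; exact ha
  have hpre : q ⁻¹ᵁ W' = W := by
    ext a
    refine ⟨fun h => ?_, fun ha => ?_⟩
    · by_contra hna
      exact h ⟨a, hna, rfl⟩
    · rintro ⟨b, hb, hba⟩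
      exact hb (hstab a b hba.symm ha)
  refine ⟨V, U, W', hV, hU, hUV, ?_, ?_, ?_, hpre⟩
  · rintro ⟨b, hb, hby⟩
    exact hb (hstab x b (hx.trans hby.symm) hxW)
  · haveI : IsAffine (q ⁻¹ᵁ W').toScheme := by
      rw [hpre]; exact Groth.L16.SymProd.isAffineOpen_box f d hU hV hUV
    exact Groth.L27.Quot.isAffine_of_isQuot (Groth.L27.Quot.isQuot_restrict hq.isQuot W'
      (Groth.L27.Quot.restrictAction hq.isQuot.inv W') (Groth.L27.Quot.restrictAction_ι hq.isQuot.inv W'))
  · intro z hz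
    obtain ⟨a, rfl⟩ := Groth.L27.Quot.surjective hq.isQuot z
    have ha : a ∈ W := hpre ▸ hz
    show g.base (q.base a) ∈ V
    rw [← Scheme.Hom.comp_apply, hq.over]
    exact ((Groth.L16.SymProd.mem_box f d).1 ha).1

section Box

variable {V : S.Opens} (hV : IsAffineOpen V) {U : X.Opens} (hU : IsAffineOpen U) (e : U ≤ f ⁻¹ᵁ V)
  {W : (SymProd.fibPow f d).Opens} (hW : IsAffineOpen W) (hbox : W = Groth.L16.SymProd.box f d U V)

include hbox in
theorem le_pi (i : Fin d) : W ≤ (WidePullback.π (fun _ : Fin d => f) i) ⁻¹ᵁ U := fun p hp =>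
  ((Groth.L16.SymProd.mem_box f d).1 (hbox ▸ hp)).2 i

include hbox in
theorem le_base : W ≤ (WidePullback.base (fun _ : Fin d => f)) ⁻¹ᵁ V := fun p hp =>
  ((Groth.L16.SymProd.mem_box f d).1 (hbox ▸ hp)).1

include hbox in
theorem le_perm (σ : Equiv.Perm (Fin d)) : W ≤ (SymProd.permHom f d σ) ⁻¹ᵁ W := by
  subst hbox
  rw [Groth.L16.SymProd.preimage_box]

include hV hU hW in
/-- The sections of the fibre power over a box are the tensor power, equivariantly. -/
theorem exists_boxRingEquiv :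
    letI := (f.appLE V U e).hom.toAlgebra
    ∃ φ : (⨂[↑Γ(S, V)] _ : Fin d, ↑Γ(X, U)) ≃+* Γ(SymProd.fibPow f d, W),
      (∀ a : Γ(S, V), φ (algebraMap _ _ a) =
        ((WidePullback.base (fun _ : Fin d => f)).appLE V W (le_base f hbox)).hom a) ∧
      (∀ i b, φ (PiTensorProduct.singleAlgHom i b) =
        ((WidePullback.π (fun _ : Fin d => f) i).appLE U W (le_pi f hbox i)).hom b) ∧
      ∀ (σ : Equiv.Perm (Fin d)) (t : ⨂[↑Γ(S, V)] _ : Fin d, ↑Γ(X, U)),
        ((SymProd.permHom f d σ).appLE W W (le_perm f hbox σ)).hom (φ t) =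
          φ (SymTen.perm ↑Γ(S, V) ↑Γ(X, U) d σ.symm t) := by
  letI := (f.appLE V U e).hom.toAlgebra
  let A : Type u := Γ(S, V)
  let B : Type u := Γ(X, U)
  let T : Type u := ⨂[↑Γ(S, V)] _ : Fin d, ↑Γ(X, U)
  let sh : CommRingCat.{u} := Γ(SymProd.fibPow f d, W)
  let bs := WidePullback.base (fun _ : Fin d => f)
  let pr := fun i => WidePullback.π (fun _ : Fin d => f) i
  letI : Algebra ↑Γ(S, V) sh := (bs.appLE V W (le_base f hbox)).hom.toAlgebra
  let pA : Fin d → (↑Γ(X, U) →ₐ[↑Γ(S, V)] sh) := fun i =>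
    { ((pr i).appLE U W (le_pi f hbox i)).hom with
      commutes' := fun a => by
        show (f.appLE V U e ≫ (pr i).appLE U W (le_pi f hbox i)).hom a = (bs.appLE V W (le_base f hbox)).hom a
        rw [Scheme.Hom.appLE_comp_appLE]
        congr 3
        exact WidePullback.π_arrow _ i }
  let φ : T →ₐ[↑Γ(S, V)] sh := PiTensorProduct.liftAlgHom
    ((MultilinearMap.mkPiAlgebra ↑Γ(S, V) (Fin d) sh).compLinearMap fun i => (pA i).toLinearMap)
    (by show ∏ i, pA i 1 = 1; simp only [map_one, Finset.prod_const_one])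
    (fun x y => by
      show ∏ i, pA i (x i * y i) = (∏ i, pA i (x i)) * ∏ i, pA i (y i)
      simp only [map_mul, Finset.prod_mul_distrib])
  let single : Fin d → (↑Γ(X, U) →ₐ[↑Γ(S, V)] T) := fun i =>
    PiTensorProduct.singleAlgHom (R := ↑Γ(S, V)) (A := fun _ : Fin d => ↑Γ(X, U)) i
  have hφs : ∀ i b, φ (PiTensorProduct.singleAlgHom i b) = pA i b := by
    intro i b
    show PiTensorProduct.lift _ (PiTensorProduct.tprod _ (Pi.mulSingle i b : Fin d → ↑Γ(X, U))) = _
    rw [PiTensorProduct.lift.tprod]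
    show ∏ j, pA j ((Pi.mulSingle i b : Fin d → ↑Γ(X, U)) j) = _
    rw [Finset.prod_eq_single i (fun j _ hj => by rw [Pi.mulSingle_eq_of_ne hj, map_one]) (by simp),
      Pi.mulSingle_eq_same]
  -- the morphism from the spectrum of the tensor power
  let Tc : CommRingCat.{u} := CommRingCat.of T
  let bT : Γ(S, V) ⟶ Tc := CommRingCat.ofHom (algebraMap _ _)
  let sT : Fin d → (Γ(X, U) ⟶ Tc) := fun i => CommRingCat.ofHom (single i).toRingHom
  let m : Spec Tc ⟶ SymProd.fibPow f d :=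
    WidePullback.lift (Spec.map bT ≫ hV.fromSpec) (fun i => Spec.map (sT i) ≫ hU.fromSpec) fun i => by
      rw [Category.assoc, ← IsAffineOpen.SpecMap_appLE_fromSpec f hV hU e, ← Spec.map_comp_assoc]
      congr 2
      ext a
      exact (single i).commutes a
  have hm : Set.range m.base ⊆ Set.range hW.fromSpec.base := by
    rintro _ ⟨p, rfl⟩
    rw [hW.range_fromSpec, SetLike.mem_coe, hbox, Groth.L16.SymProd.mem_box]
    refine ⟨?_, fun i => ?_⟩
    · rw [← Scheme.Hom.comp_apply, WidePullback.lift_base, Scheme.Hom.comp_apply]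
      exact hV.range_fromSpec.subset ⟨_, rfl⟩
    · rw [← Scheme.Hom.comp_apply, WidePullback.lift_π, Scheme.Hom.comp_apply]
      exact hU.range_fromSpec.subset ⟨_, rfl⟩
  let ψ : sh ⟶ Tc := Spec.preimage (IsOpenImmersion.lift hW.fromSpec m hm)
  have hψ : Spec.map ψ ≫ hW.fromSpec = m := by
    rw [Spec.map_preimage, IsOpenImmersion.lift_fac]
  let φc : Tc ⟶ sh := CommRingCat.ofHom φ.toRingHom
  have h1 : Spec.map φc ≫ Spec.map ψ = 𝟙 _ := by
    rw [← cancel_mono hW.fromSpec, Category.assoc, hψ, Category.id_comp]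
    apply WidePullback.hom_ext
    · intro i
      rw [Category.assoc, WidePullback.lift_π, ← Spec.map_comp_assoc,
        show sT i ≫ φc = (pr i).appLE U W (le_pi f hbox i) from by ext b; exact hφs i b,
        IsAffineOpen.SpecMap_appLE_fromSpec]
    · rw [Category.assoc, WidePullback.lift_base, ← Spec.map_comp_assoc,
        show bT ≫ φc = bs.appLE V W (le_base f hbox) from by ext a; exact φ.commutes a,
        IsAffineOpen.SpecMap_appLE_fromSpec]
  have hφψ : ψ ≫ φc = 𝟙 sh := Spec.map_injective (by rw [Spec.map_comp, h1, Spec.map_id])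
  have hψp : ∀ i, (pr i).appLE U W (le_pi f hbox i) ≫ ψ = sT i := fun i => Spec.map_injective (by
    rw [← cancel_mono hU.fromSpec, Spec.map_comp, Category.assoc, IsAffineOpen.SpecMap_appLE_fromSpec _ hU hW,
      ← Category.assoc, hψ, WidePullback.lift_π])
  have hψb : bs.appLE V W (le_base f hbox) ≫ ψ = bT := Spec.map_injective (by
    rw [← cancel_mono hV.fromSpec, Spec.map_comp, Category.assoc, IsAffineOpen.SpecMap_appLE_fromSpec _ hV hW,
      ← Category.assoc, hψ, WidePullback.lift_base])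
  let ψA : sh →ₐ[↑Γ(S, V)] T := { ψ.hom with commutes' := fun a => congr($hψb a) }
  have hψφ : ψA.comp φ = AlgHom.id _ _ := by
    refine PiTensorProduct.algHom_ext fun i => AlgHom.ext fun b => ?_
    show ψA (φ (PiTensorProduct.singleAlgHom i b)) = PiTensorProduct.singleAlgHom i b
    rw [hφs]
    exact congr($(hψp i) b)
  let φe : T ≃+* sh := RingEquiv.ofRingHom φ.toRingHom ψ.hom (congrArg CommRingCat.Hom.hom hφψ)
    (RingHom.ext fun t => AlgHom.congr_fun hψφ t)
  refine ⟨φe, fun a => φ.commutes a, hφs, fun σ t => ?_⟩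
  let σA : sh →ₐ[↑Γ(S, V)] sh :=
    { ((SymProd.permHom f d σ).appLE W W (le_perm f hbox σ)).hom with
      commutes' := fun a => by
        show (bs.appLE V W (le_base f hbox) ≫ (SymProd.permHom f d σ).appLE W W (le_perm f hbox σ)).hom a =
          (bs.appLE V W (le_base f hbox)).hom a
        rw [Scheme.Hom.appLE_comp_appLE]
        congr 3
        exact SymProd.permHom_base f d σ }
  have key : σA.comp φ = φ.comp (SymTen.perm ↑Γ(S, V) ↑Γ(X, U) d σ.symm) := by
    refine PiTensorProduct.algHom_ext fun i => AlgHom.ext fun b => ?_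
    show σA (φ (PiTensorProduct.singleAlgHom i b)) =
      φ (SymTen.perm ↑Γ(S, V) ↑Γ(X, U) d σ.symm (PiTensorProduct.singleAlgHom i b))
    have hperm : SymTen.perm ↑Γ(S, V) ↑Γ(X, U) d σ.symm (PiTensorProduct.singleAlgHom i b) =
        PiTensorProduct.singleAlgHom (σ.symm i) b := by
      rw [PiTensorProduct.singleAlgHom_apply, SymTen.perm_tprod, PiTensorProduct.singleAlgHom_apply]
      congr 1
      funext j
      simp only [MonoidHom.mulSingle_apply, Pi.mulSingle_apply, Equiv.symm_symm, Equiv.eq_symm_apply]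
    rw [hperm, hφs, hφs]
    show ((pr i).appLE U W (le_pi f hbox i) ≫ (SymProd.permHom f d σ).appLE W W (le_perm f hbox σ)).hom b = _
    rw [Scheme.Hom.appLE_comp_appLE]
    congr 3
    exact SymProd.permHom_π f d σ i
  exact AlgHom.congr_fun key t

end Box

/-- The sections of the symmetric product over a chart are the symmetric tensors. -/
theorem exists_quotEquiv (q : SymProd.fibPow f d ⟶ Y) (g : Y ⟶ S) (hq : SymProd.IsSymProd f d q g)
    {V : S.Opens} (hV : IsAffineOpen V) {U : X.Opens} (hU : IsAffineOpen U) (e : U ≤ f ⁻¹ᵁ V)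
    {W' : Y.Opens} (e' : W' ≤ g ⁻¹ᵁ V) (hbox : q ⁻¹ᵁ W' = Groth.L16.SymProd.box f d U V) :
    letI := (f.appLE V U e).hom.toAlgebra
    letI := (g.appLE V W' e').hom.toAlgebra
    Nonempty (SymTen.TS ↑Γ(S, V) ↑Γ(X, U) d ≃ₐ[↑Γ(S, V)] ↑Γ(Y, W')) := by
  letI := (f.appLE V U e).hom.toAlgebra
  letI := (g.appLE V W' e').hom.toAlgebra
  have hW : IsAffineOpen (q ⁻¹ᵁ W') := hbox ▸ Groth.L16.SymProd.isAffineOpen_box f d hU hV e
  obtain ⟨φ, hφa, -, hφσ⟩ := exists_boxRingEquiv f hV hU e hW hbox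
  let ι : ↑Γ(Y, W') →+* (⨂[↑Γ(S, V)] _ : Fin d, ↑Γ(X, U)) := φ.symm.toRingHom.comp (q.app W').hom
  have hιa : ∀ a : Γ(S, V), ι (algebraMap ↑Γ(S, V) ↑Γ(Y, W') a) = algebraMap _ _ a := fun a => by
    show φ.symm ((g.appLE V W' e' ≫ q.app W').hom a) = _
    rw [RingEquiv.symm_apply_eq, hφa, Scheme.Hom.app_eq_appLE, Scheme.Hom.appLE_comp_appLE]
    congr 3
    exact hq.over
  have hinj : Function.Injective ι := φ.symm.injective.comp (hq.isQuot.injective W')
  let ιA : ↑Γ(Y, W') →ₐ[↑Γ(S, V)] (⨂[↑Γ(S, V)] _ : Fin d, ↑Γ(X, U)) := { ι with commutes' := hιa }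
  have hrange : ιA.range = SymTen.TS ↑Γ(S, V) ↑Γ(X, U) d := by
    ext t
    have hmem : t ∈ ιA.range ↔ φ t ∈ Set.range (q.app W').hom :=
      ⟨fun ⟨y, hy⟩ => ⟨y, by rw [← hy]; exact (φ.apply_symm_apply _).symm⟩,
        fun ⟨y, hy⟩ => ⟨y, show φ.symm ((q.app W').hom y) = t by rw [hy, RingEquiv.symm_apply_apply]⟩⟩
    rw [hmem, hq.isQuot.range_iff, SymTen.mem_TS_iff]
    constructor
    · intro h σ
      have h1 := h ⟨σ.symm⟩
      simp only [SymProd.permActU_hom] at h1
      rw [hφσ σ.symm t, Equiv.symm_symm] at h1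
      rw [← SymTen.perm_apply]
      exact φ.injective h1
    · intro h g'
      simp only [SymProd.permActU_hom]
      rw [hφσ g'.down t, SymTen.perm_apply, h]
  exact ⟨((AlgEquiv.ofInjective ιA hinj).trans (Subalgebra.equivOfEq _ _ hrange)).symm⟩

end Groth.L18.SymPow
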