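import Groth.Agent.L18.ProjPt
import Groth.Agent.L18.ProjSpaceUP
import Mathlib.LinearAlgebra.SymmetricAlgebra.Basic

/-!
Universal property of `Proj (Sym M)` over an affine base: existence.
-/

set_option autoImplicit false
universe u

open CategoryTheory CategoryTheory.Limits AlgebraicGeometry TopologicalSpace Opposite HomogeneousLocalization

noncomputable section

namespace Groth.L18.SymUP

open Groth.L18.Frame Groth.L18.ProjPt
open Groth.L18.ClosedSub (sec)

variable {A : Type u} [CommRing A] {S : Type u} [CommRing S] [Algebra A S] (𝒮 : ℕ → Submodule A S) [GradedAlgebra 𝒮]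
variable {M : Type u} [AddCommGroup M] [Module A M] (ι : M →ₗ[A] S) (hι : ∀ m : M, ι m ∈ 𝒮 1)
variable (hsym : IsSymmetricAlgebra ι)

include hsym in
theorem exists_sub_mem_span (x : S) : ∃ a : A, x - algebraMap A S a ∈ Ideal.span (Set.range ι) := by
  induction x using hsym.induction with
  | algebraMap a => exact ⟨a, by rw [sub_self]; exact zero_mem _⟩
  | ι m => exact ⟨0, by rw [map_zero, sub_zero]; exact Ideal.subset_span ⟨m, rfl⟩⟩
  | mul x y hx hy =>
    obtain ⟨a, ha⟩ := hx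
    obtain ⟨b, hb⟩ := hy
    refine ⟨a * b, ?_⟩
    rw [map_mul, show x * y - algebraMap A S a * algebraMap A S b =
      x * (y - algebraMap A S b) + algebraMap A S b * (x - algebraMap A S a) by ring]
    exact add_mem (Ideal.mul_mem_left _ _ hb) (Ideal.mul_mem_left _ _ ha)
  | add x y hx hy =>
    obtain ⟨a, ha⟩ := hx
    obtain ⟨b, hb⟩ := hy
    refine ⟨a + b, ?_⟩
    rw [map_add, add_sub_add_comm]
    exact add_mem ha hb

include hι hsym in
/-- A ring map out of `Sym M` is determined up to scaling by degree one. -/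
theorem scale_of_degree_one {C : Type u} [CommRing C] (Φ Φ' : S →+* C) (c : C)
    (h0 : ∀ a : A, Φ' (algebraMap A S a) = Φ (algebraMap A S a)) (h1 : ∀ m, Φ' (ι m) = c * Φ (ι m)) :
    ∀ (d : ℕ) (x : S), x ∈ 𝒮 d → Φ' x = c ^ d * Φ x := by
  intro d
  induction d using Nat.strong_induction_on with
  | _ d IH =>
    intro x hx
    obtain ⟨a, ha⟩ := exists_sub_mem_span ι hsym x
    have key : ∀ y ∈ Ideal.span (Set.range ι), ∀ r : S,
        Φ' (GradedRing.proj 𝒮 d (r * y)) = c ^ d * Φ (GradedRing.proj 𝒮 d (r * y)) := by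
      intro y hy
      refine Submodule.span_induction ?_ ?_ ?_ ?_ hy
      · rintro _ ⟨m, rfl⟩ r
        rw [proj_mul_of_right_mem 𝒮 (hι m)]
        split
        · next hd =>
          rw [map_mul, map_mul, IH (d - 1) (by omega) _ (proj_mem 𝒮 _ _), h1, ← Nat.sub_add_cancel hd, pow_succ,
            Nat.add_sub_cancel]
          ring
        · rw [map_zero, map_zero, mul_zero]
      · intro r; rw [mul_zero, map_zero, map_zero, map_zero, mul_zero]
      · intro y z _ _ hy hz r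
        rw [mul_add, map_add, map_add, map_add, hy r, hz r, mul_add]
      · intro r' y _ hy r
        rw [smul_eq_mul, ← mul_assoc]
        exact hy _
    have hk := key _ ha 1
    rw [one_mul, map_sub, proj_of_mem 𝒮 hx] at hk
    rcases Nat.eq_zero_or_pos d with rfl | hd
    · rw [proj_of_mem 𝒮 (SetLike.algebraMap_mem_graded 𝒮 a), map_sub, map_sub, pow_zero, one_mul, h0] at hk
      rw [pow_zero, one_mul]
      exact sub_left_inj.mp hk
    · rw [proj_of_mem_ne 𝒮 (SetLike.algebraMap_mem_graded 𝒮 a) hd.ne, sub_zero] at hk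
      exact hk

include hι hsym in
theorem exists_hom {X : Scheme.{u}} (q : X ⟶ Spec (CommRingCat.of A)) (L : X.Modules) (hL : PicF.IsInvertible L)
    (v : M →+ ProjUP.Γm L) (hv : ∀ (a : A) (m : M), v (a • m) = ProjUP.toGlobal q a • v m)
    (hgen : ProjUP.GeneratedBy L v) :
    ∃ (r : X ⟶ Proj 𝒮) (_ : r ≫ Proj.toSpecZero 𝒮 ≫ Spec.map (CommRingCat.ofHom (algebraMap A (𝒮 0))) = q)
      (τ : (Scheme.Modules.pullback r).obj (Twist.twist 𝒮 1) ≅ L),
      ∀ m : M, τ.hom.app ⊤ (ProjUP.pullSec r (Twist.twist 𝒮 1) (Twist.globalOf 𝒮 ⟨ι m, hι m⟩)) = v m := by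
  choose W ix hW hzW hfr using exists_frame_of_generated hL (fun m => (v m : Γ(L, ⊤))) hgen
  let 𝒰 : X.AffineOpenCover :=
    { I₀ := X
      X := fun z => Γ(X, W z)
      f := fun z => (hW z).fromSpec
      idx := fun z => z
      covers := fun z => by rw [(hW z).range_fromSpec]; exact hzW z }
  let σ : ∀ z, A →+* Γ(X, W z) := fun z =>
    (X.presheaf.map (homOfLE (le_top : W z ≤ ⊤)).op).hom.comp (ProjUP.toGlobal q)
  choose a ha using fun z (m : M) => (hfr z).exists_coeff le_rfl (rs L (le_top : W z ≤ ⊤) (v m))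
  simp only [rs_self] at ha
  have huniq : ∀ z m (b : Γ(X, W z)), b • rs L (le_top : W z ≤ ⊤) (v (ix z)) = rs L le_top (v m) → b = a z m :=
    fun z m b hb => (hfr z).inj le_rfl (by rw [rs_self]; exact hb.trans (ha z m).symm)
  have haone : ∀ z, a z (ix z) = 1 := fun z => (huniq z _ 1 (one_smul _ _)).symm
  have haadd : ∀ z m m', a z (m + m') = a z m + a z m' := fun z m m' => (huniq z _ _ (by
    rw [add_smul, ha, ha, map_add]
    exact (map_add (L.presheaf.map (homOfLE (le_top : W z ≤ ⊤)).op).hom _ _).symm)).symm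
  have hasmul : ∀ z (c : A) m, a z (c • m) = σ z c * a z m := fun z c m => (huniq z _ _ (by
    rw [mul_smul, ha, hv]
    exact (rs_smul L (le_top : W z ≤ ⊤) (ProjUP.toGlobal q c) (v m)).symm)).symm
  have hlift : ∀ z, ∃ Φ : S →+* Γ(X, W z), (∀ c, Φ (algebraMap A S c) = σ z c) ∧ ∀ m, Φ (ι m) = a z m := fun z => by
    letI : Algebra A Γ(X, W z) := (σ z).toAlgebra
    let g : M →ₗ[A] Γ(X, W z) := { toFun := a z, map_add' := haadd z, map_smul' := fun c m => hasmul z c m }
    exact ⟨(hsym.lift g).toRingHom, fun c => (hsym.lift g).commutes c, fun m => hsym.lift_eq g m⟩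
  choose Φ hΦ0 hΦ1 using hlift
  have hu : ∀ z, IsUnit (Φ z (ι (ix z))) := fun z => by rw [hΦ1, haone]; exact isUnit_one
  obtain ⟨r, hr⟩ := ProjPt.exists_hom 𝒰 Φ (fun z => ι (ix z)) (fun z => hι _) hu (fun k l C f g hfg => by
    refine ⟨g.hom (a l (ix k)), scale_of_degree_one 𝒮 ι hι hsym (f.hom.comp (Φ k)) (g.hom.comp (Φ l))
      (g.hom (a l (ix k))) (fun c => ?_) (fun m => ?_)⟩
    · show g.hom (Φ l (algebraMap A S c)) = f.hom (Φ k (algebraMap A S c))
      rw [hΦ0, hΦ0]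
      have h1 := congrArg (· ≫ q) hfg
      simp only [Category.assoc] at h1
      rw [show 𝒰.f k = (hW k).fromSpec from rfl, show 𝒰.f l = (hW l).fromSpec from rfl,
        PUP.toGlobal_fromSpec q (hW k), PUP.toGlobal_fromSpec q (hW l), ← Spec.map_comp, ← Spec.map_comp] at h1
      exact (congr($(Spec.map_injective h1) c)).symm
    · show g.hom (Φ l (ι m)) = g.hom (a l (ix k)) * f.hom (Φ k (ι m))
      rw [hΦ1, hΦ1]
      set p := Spec.map f ≫ 𝒰.f k with hp
      have ek : ⊤ ≤ p ⁻¹ᵁ W k := fun x _ => by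
        show (hW k).fromSpec _ ∈ W k
        rw [← SetLike.mem_coe, ← (hW k).range_fromSpec]; exact ⟨_, rfl⟩
      have el : ⊤ ≤ p ⁻¹ᵁ W l := fun x _ => by
        rw [hfg]
        show (hW l).fromSpec _ ∈ W l
        rw [← SetLike.mem_coe, ← (hW l).range_fromSpec]; exact ⟨_, rfl⟩
      have eO : ⊤ ≤ p ⁻¹ᵁ (W k ⊓ W l) := fun x hx => ⟨ek hx, el hx⟩
      let E : Γ(X, W k ⊓ W l) ⟶ C := p.appLE (W k ⊓ W l) ⊤ eO ≫ (Scheme.ΓSpecIso C).hom
      have hf : ∀ b, f.hom b = E.hom (ro inf_le_left b) := fun b => by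
        conv_lhs => rw [PUP.hom_eq_appLE (hW k) f p hp.symm ek]
        show _ = (X.presheaf.map (homOfLE inf_le_left).op ≫ p.appLE (W k ⊓ W l) ⊤ eO ≫ _).hom b
        rw [Scheme.Hom.map_appLE_assoc]
      have hg : ∀ b, g.hom b = E.hom (ro inf_le_right b) := fun b => by
        conv_lhs => rw [PUP.hom_eq_appLE (hW l) g p hfg.symm el]
        show _ = (X.presheaf.map (homOfLE inf_le_right).op ≫ p.appLE (W k ⊓ W l) ⊤ eO ≫ _).hom b
        rw [Scheme.Hom.map_appLE_assoc]
      rw [hf, hg, hg, ← map_mul]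
      congr 1
      refine (hfr l).inj inf_le_right ?_
      have h1 := congrArg (rs L (inf_le_left : W k ⊓ W l ≤ W k)) (ha k m)
      have h2 := congrArg (rs L (inf_le_right : W k ⊓ W l ≤ W l)) (ha l m)
      have h3 := congrArg (rs L (inf_le_right : W k ⊓ W l ≤ W l)) (ha l (ix k))
      simp only [rs_smul, rs_rs] at h1 h2 h3 ⊢
      rw [h2, mul_comm, mul_smul, h3, h1])
  have hpre : ∀ z, W z ≤ r ⁻¹ᵁ Proj.basicOpen 𝒮 (ι (ix z)) := fun z x hx => by
    obtain ⟨x', rfl⟩ : x ∈ Set.range (hW z).fromSpec := by rw [(hW z).range_fromSpec]; exact hx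
    show ((hW z).fromSpec ≫ r) x' ∈ Proj.basicOpen 𝒮 (ι (ix z))
    rw [show (hW z).fromSpec ≫ r = _ from hr z, ← Proj.opensRange_awayι 𝒮 (ι (ix z)) (hι _) one_pos]
    exact ⟨_, rfl⟩
  have hval : ∀ z m, r.appLE (Proj.basicOpen 𝒮 (ι (ix z))) (W z) (hpre z) (sec 𝒮 (hι (ix z)) (ι m) (hι m)) =
      a z m := fun z m => by
    have h0 : (hW z).fromSpec ≫ r = Spec.map (Proj.awayToSection 𝒮 (ι (ix z)) ≫
        r.appLE (Proj.basicOpen 𝒮 (ι (ix z))) (W z) (hpre z)) ≫ Proj.awayι 𝒮 (ι (ix z)) (hι _) one_pos := by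
      rw [Spec.map_comp, Category.assoc, ← GammaStar.fromSpec_basicOpen (hι (ix z))]
      exact ((Proj.isAffineOpen_basicOpen 𝒮 _ (hι (ix z)) one_pos).SpecMap_appLE_fromSpec r (hW z) (hpre z)).symm
    have h1 := h0.symm.trans (hr z)
    rw [pt, cancel_mono] at h1
    have h2 := congr($(Spec.map_injective h1) (Away.mk 𝒮 (hι (ix z)) 1 (ι m) (by simpa using hι m)))
    refine h2.trans ?_
    show awayHom 𝒮 (Φ z) (ι (ix z)) (hu z) _ = _
    have h3 := awayHom_mk (𝒮 := 𝒮) (Φ z) (hu z) (hι (ix z)) 1 (ι m) (by simpa using hι m)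
    rw [pow_one, hΦ1, hΦ1, haone, mul_one] at h3
    exact h3
  refine ⟨r, ?_, ?_⟩
  · refine 𝒰.openCover.hom_ext _ _ fun z => ?_
    show (hW z).fromSpec ≫ r ≫ _ = (hW z).fromSpec ≫ q
    rw [← Category.assoc, PUP.toGlobal_fromSpec q (hW z), show (hW z).fromSpec ≫ r = _ from hr z, pt_toBase]
    congr 2
    ext c
    exact hΦ0 z c
  · exact PUP.exists_iso (ι := M) (W := W) (ix := ix) (m := fun m => rgl r (hι m)) (s := fun m => (v m : Γ(L, ⊤)))
      (fun z => ⟨z, hzW z⟩) (fun z => rgl_frame_le r (hι _) (hpre z)) hfr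
      (fun z m => ⟨a z m, by rw [← hval z m]; exact rgl_smul_le r (hι _) (hι m) (hpre z), ha z m⟩)

end Groth.L18.SymUP
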