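import Groth.Agent.L18.SymUP
import Groth.Agent.L18.Dehom

/-!
Universal property of `Proj (Sym M)` over an affine base: uniqueness.
-/

set_option autoImplicit false
universe u

open CategoryTheory CategoryTheory.Limits AlgebraicGeometry TopologicalSpace Opposite HomogeneousLocalization

noncomputable section

namespace Groth.L18.SymUP

open Groth.L18.Frame Groth.L18.ProjPt
open Groth.L18.ClosedSub (sec)

variable {A : Type u} [CommRing A] {S : Type u} [CommRing S] [Algebra A S] (𝒮 : ℕ → Submodule A S) [GradedAlgebra 𝒮]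
variable {M : Type u} [AddCommGroup M] [Module A M] (ι : M →ₗ[A] S) (hι : ∀ m : M, ι m ∈ 𝒮 1)
variable (hsym : IsSymmetricAlgebra ι)

include hι hsym in
theorem iSup_basicOpen_eq_top : ⨆ m : M, Proj.basicOpen 𝒮 (ι m) = ⊤ := by
  refine Proj.iSup_basicOpen_eq_top 𝒮 (fun m => ι m) fun x hx => ?_
  obtain ⟨a, ha⟩ := exists_sub_mem_span ι hsym x
  have h0 : GradedRing.proj 𝒮 0 x = 0 := (HomogeneousIdeal.mem_irrelevant_iff _ _).1 hx
  have hle : Ideal.span (Set.range ι) ≤ (HomogeneousIdeal.irrelevant 𝒮).toIdeal := by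
    rw [Ideal.span_le]
    rintro _ ⟨m, rfl⟩
    exact HomogeneousIdeal.mem_irrelevant_of_mem 𝒮 one_pos (hι m)
  have h1 : GradedRing.proj 𝒮 0 (x - algebraMap A S a) = 0 :=
    (HomogeneousIdeal.mem_irrelevant_iff _ _).1 (hle ha)
  rw [map_sub, h0, proj_of_mem 𝒮 (SetLike.algebraMap_mem_graded 𝒮 a), sub_eq_zero] at h1
  rwa [← h1, sub_zero] at ha

include hsym in
theorem away_ringHom_ext {t : S} (ht : t ∈ 𝒮 1) {C : Type u} [CommRing C] {f g : Away 𝒮 t →+* C}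
    (h0 : ∀ a : A, f (fromZeroRingHom 𝒮 _ (algebraMap A (𝒮 0) a)) = g (fromZeroRingHom 𝒮 _ (algebraMap A (𝒮 0) a)))
    (h1 : ∀ (m : M) (h : ι m ∈ 𝒮 (1 • 1)), f (Away.mk 𝒮 ht 1 (ι m) h) = g (Away.mk 𝒮 ht 1 (ι m) h))
    (hι : ∀ m : M, ι m ∈ 𝒮 1) : f = g := by
  suffices H : ∀ x, f (Groth.L18.dehom 𝒮 ht x) = g (Groth.L18.dehom 𝒮 ht x) by
    ext z
    obtain ⟨x, rfl⟩ := Groth.L18.dehom_surjective 𝒮 ht z
    exact H x
  intro x
  induction x using hsym.induction with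
  | algebraMap a =>
    have e : Groth.L18.dehom 𝒮 ht (algebraMap A S a) = fromZeroRingHom 𝒮 _ (algebraMap A (𝒮 0) a) := by
      apply HomogeneousLocalization.val_injective
      rw [Groth.L18.dehom_val 𝒮 ht (SetLike.algebraMap_mem_graded 𝒮 a)]
      refine Eq.trans ?_ (HomogeneousLocalization.val_mk _).symm
      congr 1
      exact Subtype.ext (pow_zero t)
    rw [e]; exact h0 a
  | ι m =>
    have e : Groth.L18.dehom 𝒮 ht (ι m) = Away.mk 𝒮 ht 1 (ι m) (by simpa using hι m) := by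
      apply HomogeneousLocalization.val_injective
      rw [Groth.L18.dehom_val 𝒮 ht (hι m), Away.val_mk]
    rw [e]; exact h1 m _
  | mul x y hx hy => rw [map_mul, map_mul, map_mul, hx, hy]
  | add x y hx hy => rw [map_add, map_add, map_add, hx, hy]

theorem fromSpec_comp {X : Scheme.{u}} (r : X ⟶ Proj 𝒮) {W : X.Opens} (hW : IsAffineOpen W) {t : S} (ht : t ∈ 𝒮 1)
    (h : W ≤ r ⁻¹ᵁ Proj.basicOpen 𝒮 t) :
    hW.fromSpec ≫ r = Spec.map (Proj.awayToSection 𝒮 t ≫ r.appLE (Proj.basicOpen 𝒮 t) W h) ≫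
      Proj.awayι 𝒮 t ht one_pos := by
  rw [Spec.map_comp, Category.assoc, ← GammaStar.fromSpec_basicOpen ht]
  exact ((Proj.isAffineOpen_basicOpen 𝒮 t ht one_pos).SpecMap_appLE_fromSpec r hW h).symm

include hι hsym in
theorem le_preimage_of_frame {X : Scheme.{u}} (r : X ⟶ Proj 𝒮) {W : X.Opens} (i : M)
    (h : IsFrame ((Scheme.Modules.pullback r).obj (Twist.twist 𝒮 1)) W (rs _ le_top (rgl r (hι i)))) :
    W ≤ r ⁻¹ᵁ Proj.basicOpen 𝒮 (ι i) := by
  intro z hz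
  obtain ⟨j, hj⟩ := Opens.mem_iSup.mp ((iSup_basicOpen_eq_top 𝒮 ι hι hsym).ge (trivial : r.base z ∈ ⊤))
  have hO : W ⊓ r ⁻¹ᵁ Proj.basicOpen 𝒮 (ι j) ≤ r ⁻¹ᵁ Proj.basicOpen 𝒮 (ι j) := inf_le_right
  have h1 := h.mono (inf_le_left : W ⊓ r ⁻¹ᵁ Proj.basicOpen 𝒮 (ι j) ≤ W)
  rw [rs_rs, ← rgl_smul_le r (hι j) (hι i) hO] at h1
  have hu := isUnit_of_isFrame (rgl_frame_le r (hι j) hO) h1
  have h2 := X.basicOpen_of_isUnit hu
  rw [Scheme.basicOpen_appLE] at h2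
  exact ((GammaStar.basicOpen_sec (hι j) (hι i)).le (h2.ge (x := z) ⟨hz, hj⟩).2).2

include hι hsym in
theorem hom_ext {X : Scheme.{u}} (r r' : X ⟶ Proj 𝒮)
    (hrr' : r ≫ Proj.toSpecZero 𝒮 ≫ Spec.map (CommRingCat.ofHom (algebraMap A (𝒮 0))) =
      r' ≫ Proj.toSpecZero 𝒮 ≫ Spec.map (CommRingCat.ofHom (algebraMap A (𝒮 0))))
    (τ : (Scheme.Modules.pullback r).obj (Twist.twist 𝒮 1) ≅ (Scheme.Modules.pullback r').obj (Twist.twist 𝒮 1))
    (hτ : ∀ m : M, τ.hom.app ⊤ (rgl r (hι m)) = rgl r' (hι m)) : r = r' := by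
  have hmap : ∀ (W : X.Opens) (i : M), τ.hom.app W (rs _ le_top (rgl r (hι i))) = rs _ le_top (rgl r' (hι i)) :=
    fun W i => by
      rw [← hτ i]
      exact congr($(τ.hom.mapPresheaf.naturality (homOfLE (le_top : W ≤ ⊤)).op) (rgl r (hι i)))
  have hframe : ∀ (W : X.Opens) (i : M), W ≤ r ⁻¹ᵁ Proj.basicOpen 𝒮 (ι i) →
      IsFrame ((Scheme.Modules.pullback r').obj (Twist.twist 𝒮 1)) W (rs _ le_top (rgl r' (hι i))) := fun W i h V hV => by
    have e : (fun b : Γ(X, V) => b • rs ((Scheme.Modules.pullback r').obj (Twist.twist 𝒮 1)) hV (rs _ le_top (rgl r' (hι i)))) =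
        τ.hom.app V ∘ fun b => b • rs ((Scheme.Modules.pullback r).obj (Twist.twist 𝒮 1)) hV (rs _ le_top (rgl r (hι i))) := by
      funext b
      simp only [rs_rs, Function.comp_apply, Scheme.Modules.Hom.app_smul, hmap]
    rw [e]
    exact (ConcreteCategory.bijective_of_isIso (τ.hom.app V)).comp (rgl_frame_le r (hι i) h V hV)
  have loc : ∀ z : X, ∃ (W : X.Opens) (i : M), IsAffineOpen W ∧ z ∈ W ∧ W ≤ r ⁻¹ᵁ Proj.basicOpen 𝒮 (ι i) := fun z => by
    obtain ⟨i, hi⟩ := Opens.mem_iSup.mp ((iSup_basicOpen_eq_top 𝒮 ι hι hsym).ge (trivial : r.base z ∈ ⊤))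
    obtain ⟨_, ⟨W, hW, rfl⟩, hzW, hWr⟩ := X.isBasis_affineOpens.exists_subset_of_mem_open
      (show z ∈ r ⁻¹ᵁ Proj.basicOpen 𝒮 (ι i) from hi) (r ⁻¹ᵁ Proj.basicOpen 𝒮 (ι i)).2
    exact ⟨W, i, hW, hzW, hWr⟩
  choose W ix hW hzW hle using loc
  let 𝒰 : X.AffineOpenCover :=
    { I₀ := X
      X := fun z => Γ(X, W z)
      f := fun z => (hW z).fromSpec
      idx := fun z => z
      covers := fun z => by rw [(hW z).range_fromSpec]; exact hzW z }
  refine 𝒰.openCover.hom_ext _ _ fun z => ?_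
  show (hW z).fromSpec ≫ r = (hW z).fromSpec ≫ r'
  have hle' := le_preimage_of_frame 𝒮 ι hι hsym r' (ix z) (hframe _ _ (hle z))
  rw [fromSpec_comp 𝒮 r (hW z) (hι _) (hle z), fromSpec_comp 𝒮 r' (hW z) (hι _) hle']
  congr 2
  ext : 1
  refine away_ringHom_ext 𝒮 ι hsym (hι (ix z)) (fun a => ?_) (fun j hj => ?_) hι
  · have h1 := congrArg ((hW z).fromSpec ≫ ·) hrr'
    simp only [← Category.assoc] at h1
    rw [fromSpec_comp 𝒮 r (hW z) (hι _) (hle z), fromSpec_comp 𝒮 r' (hW z) (hι _) hle'] at h1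
    simp only [Category.assoc, Proj.awayι_toSpecZero_assoc, ← Spec.map_comp] at h1
    exact congr($(Spec.map_injective h1) a)
  · refine (rgl_frame_le r' (hι (ix z)) hle').inj le_rfl ?_
    rw [rs_self]
    refine Eq.trans ?_ (rgl_smul_le r' (hι (ix z)) (hι j) hle').symm
    rw [← hmap (W z) (ix z), ← Scheme.Modules.Hom.app_smul]
    exact (congrArg _ (rgl_smul_le r (hι (ix z)) (hι j) (hle z))).trans (hmap _ _)

end Groth.L18.SymUP
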