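/-
Dimension shifting along a finite exact sequence: the syzygy is projective.
-/
import Mathlib.Algebra.Homology.ExactSequence
import Mathlib.CategoryTheory.Abelian.Projective.Dimension

set_option autoImplicit false

universe v u v' u'

open CategoryTheory CategoryTheory.Limits

namespace Groth.L18.Syzygy

variable {C : Type u} [Category.{v} C] [Abelian C]

/-- the image of a composable sequence under an exact functor is exact -/
theorem exact_comp {D : Type u'} [Category.{v'} D] [Abelian D] (F : C ⥤ D) [F.Additive]
    [PreservesFiniteLimits F] [PreservesFiniteColimits F] {n : ℕ} {S : ComposableArrows C n}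
    (hS : S.Exact) : ComposableArrows.Exact (S ⋙ F) where
  zero i hi := by
    show F.map _ ≫ F.map _ = 0
    rw [← F.map_comp, hS.toIsComplex.zero i hi, F.map_zero]
  exact i hi := (hS.exact i hi).map F

theorem shortExact_kernel {A B D : C} (f : A ⟶ B) (g : B ⟶ D) (w : f ≫ g = 0)
    (h : (ShortComplex.mk f g w).Exact) :
    (ShortComplex.mk (kernel.ι f) (kernel.lift g f w) (by
      rw [← cancel_mono (kernel.ι g)]
      simp)).ShortExact := by
  haveI : Epi (kernel.lift g f w) := (ShortComplex.exact_iff_epi_kernel_lift _).1 h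
  refine ShortComplex.ShortExact.mk' ?_ inferInstance inferInstance
  refine ShortComplex.exact_of_f_is_kernel _ (KernelFork.IsLimit.ofι _ _ (fun k hk => kernel.lift f k ?_)
    (fun k hk => kernel.lift_ι _ _ _) (fun k hk b hb => ?_))
  · rw [← cancel_mono (kernel.ι g)] at hk
    simpa using hk
  · rw [← cancel_mono (kernel.ι f), hb, kernel.lift_ι]

/-- an exact sequence `G → E_m → ⋯ → E_1 → M` with projective middle, mono first, epi last and
`pd M ≤ m` has projective first term -/
theorem projective_of_exact (m : ℕ) (S : ComposableArrows C (m + 1)) (hS : S.Exact)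
    (hmono : Mono (S.map' 0 1))
    (hP : ∀ i (h : i < m + 2), 1 ≤ i → i ≤ m → Projective (S.obj' i (by omega)))
    (hepi : Epi (S.map' m (m + 1)))
    (hd : HasProjectiveDimensionLT (S.obj' (m + 1) (by omega)) (m + 1)) :
    Projective (S.obj' 0 (by omega)) := by
  rcases Nat.eq_zero_or_pos m with rfl | hm
  · haveI := hmono
    haveI : Epi (S.map' 0 1) := hepi
    haveI hi : IsIso (S.map' 0 1) := isIso_of_mono_of_epi _
    haveI : HasProjectiveDimensionLT (S.obj' 1 (by omega)) 1 := hd
    rw [projective_iff_hasProjectiveDimensionLT_one]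
    exact hasProjectiveDimensionLT_of_iso (@asIso _ _ _ _ _ hi).symm 1
  suffices key : ∀ j k (h : k ≤ m), 1 ≤ k → k + j = m →
      HasProjectiveDimensionLT (kernel (S.map' k (k + 1))) k by
    have h1 := key (m - 1) 1 (by omega) le_rfl (by omega)
    haveI := hmono
    have w := hS.toIsComplex.zero 0 (by omega)
    have h2 := hS.exact 0 (by omega)
    haveI : Epi (kernel.lift (S.map' 1 2) (S.map' 0 1) w) :=
      (ShortComplex.exact_iff_epi_kernel_lift _).1 h2
    haveI : Mono (kernel.lift (S.map' 1 2) (S.map' 0 1) w) :=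
      mono_of_mono_fac (kernel.lift_ι _ _ _)
    have hi : IsIso (kernel.lift (S.map' 1 2) (S.map' 0 1) w) := isIso_of_mono_of_epi _
    haveI : HasProjectiveDimensionLT (kernel (S.map' 1 2)) 1 := h1
    rw [projective_iff_hasProjectiveDimensionLT_one]
    exact hasProjectiveDimensionLT_of_iso
      (@asIso _ _ _ _ _ hi).symm 1
  intro j
  induction j with
  | zero =>
    intro k hk hk1 hkm
    obtain rfl : k = m := by omega
    haveI := hepi
    have hse : (ShortComplex.mk (kernel.ι (S.map' k (k + 1)))
        (S.map' k (k + 1)) (kernel.condition _)).ShortExact :=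
      ShortComplex.ShortExact.mk' (ShortComplex.exact_kernel _) inferInstance hepi
    obtain ⟨n, rfl⟩ : ∃ n, k = n + 1 := ⟨k - 1, by omega⟩
    exact (hse.hasProjectiveDimensionLT_X₃_iff n (hP (n + 1) (by omega) (by omega) le_rfl)).1 hd
  | succ j ih =>
    intro k hk hk1 hkm
    have h3 := ih (k + 1) (by omega) (by omega) (by omega)
    obtain ⟨n, rfl⟩ : ∃ n, k = n + 1 := ⟨k - 1, by omega⟩
    have hse := shortExact_kernel _ _ (hS.toIsComplex.zero (n + 1) (by omega)) (hS.exact (n + 1) (by omega))
    exact (hse.hasProjectiveDimensionLT_X₃_iff n (hP (n + 1) (by omega) (by omega) hk)).1 h3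

end Groth.L18.Syzygy
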