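import Groth.Agent.L17.IdealMulExtend
import Groth.Agent.L16.DevissageKilled
import Groth.Agent.L16.ProjSpace.Twist
import Groth.Agent.L18.KRRAmple
import Groth.Agent.L20.ModStalk
import Groth.Agent.L21.Mod.Stalks

/-!
# Coherent modules on Noetherian integral schemes are quotients of torsion-free ones

The torsion-free modules are finite sums of powers of ideal sheaves (Deligne's extension).
-/

set_option autoImplicit false
set_option linter.style.haveILetI false
set_option backward.isDefEq.respectTransparency false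
universe u

open CategoryTheory CategoryTheory.Limits AlgebraicGeometry TopologicalSpace Opposite

noncomputable section

namespace Groth.L18.TFCover

open Groth.L18.Frame (rs ro rs_rs)
open Groth.L22.CurveDeg.Det (IsBasisS)
open Groth.L21.Mod (stalkF)

variable {X : Scheme.{u}}

/-- The stalks of the structure sheaf as a module are torsion free on an integral scheme. -/
theorem smul_eq_zero_structureModule [IsIntegral X] (x : X) (r : X.presheaf.stalk x)
    (v : (Coh.structureModule X).presheaf.stalk x) (h : r • v = 0) : r = 0 ∨ v = 0 := by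
  obtain ⟨U, hxU, ⟨i⟩⟩ := Groth.L18.KRRAmple.isRankOne_of_isInvertible
    (Groth.L18.Ample.isInvertible_structureModule X) x
  obtain ⟨s, hs⟩ := Groth.L17.FinLocBases.exists_isBasis (Coh.structureModule X) i
  have hη : x ∈ U.ι ''ᵁ ⊤ := ((Scheme.Hom.image_top_eq_opensRange U.ι).trans U.opensRange_ι).symm ▸ hxU
  have hb := IsBasisS.stalk (E := Coh.structureModule X) (e := s) (fun V h => hs V (homOfLE h)) _ hη
  let e := LinearEquiv.ofBijective (Fintype.linearCombination (X.presheaf.stalk x)
      fun j => (Coh.structureModule X).presheaf.germ (U.ι ''ᵁ ⊤) x hη (s j)) hb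
  obtain ⟨w, rfl⟩ := e.surjective v
  rw [← map_smul, ← map_zero e, e.injective.eq_iff] at h
  by_cases hr : r = 0
  · exact Or.inl hr
  · refine Or.inr ?_
    rw [(smul_eq_zero.1 h).resolve_left hr, map_zero]

/-- Coherent modules are quotients of coherent torsion-free modules. -/
theorem exists_torsionFree_cover [IsNoetherian X] [IsIntegral X] (F : X.Modules) (hF : Coh.IsCoh F) :
    ∃ (F' : X.Modules) (π : F' ⟶ F), Coh.IsCoh F' ∧
      (∀ y : X, NoZeroSMulDivisors ↥(X.presheaf.stalk y) ↥(F'.presheaf.stalk y)) ∧ Epi π := by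
  classical
  haveI := hF.1
  obtain ⟨S, hS⟩ := Groth.L17.IdealMulExtend.exists_cover X
  choose gen hgen using fun V : X.affineOpens => (Groth.L20.ModStalk.finite_sections F hF V.2).fg_top
  let ι' := Σ V : S, (gen V.1 : Set Γ(F, V.1.1))
  let N := Fintype.card ι'
  let q : Fin N → ι' := (Fintype.equivFin ι').symm
  let O := Coh.structureModule X
  have hO : Coh.IsCoh O := Groth.L18.Ample.isCoh_of_isInvertible (Groth.L18.Ample.isInvertible_structureModule X)
  haveI := hO.1
  let I : X.affineOpens → X.IdealSheafData := fun V =>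
    Scheme.IdealSheafData.vanishingIdeal ⟨(V.1 : Set X)ᶜ, V.1.2.isClosed_compl⟩
  have hI : ∀ V : X.affineOpens, (V.1 : Set X) = ((I V).support : Set X)ᶜ := fun V => by
    rw [Scheme.IdealSheafData.coe_support_vanishingIdeal]
    exact (compl_compl _).symm
  let sec : ∀ i : Fin N, Γ(F, (q i).1.1.1) := fun i => (q i).2.1
  let φ : ∀ i : Fin N, (Scheme.Modules.restrictFunctor (q i).1.1.1.ι).obj O ⟶
      (Scheme.Modules.restrictFunctor (q i).1.1.1.ι).obj F := fun i =>
    (Scheme.Modules.restrictUnitIso _).hom ≫ Groth.L16.homOfSection _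
      (rs F (show (q i).1.1.1.ι ''ᵁ ⊤ ≤ (q i).1.1.1 from
        ((Scheme.Hom.image_top_eq_opensRange _).trans (Scheme.Opens.opensRange_ι _)).le) (sec i))
  choose n ψ hψ using fun i : Fin N =>
    Groth.L17.IdealMulExtend.exists_extend F O hO (I (q i).1.1) (q i).1.1.1 (hI _) (φ i)
  let J : Fin N → X.Modules := fun i => (Dual3.idealMul (I (q i).1.1 ^ n i)).obj O
  have hJ : ∀ i, Coh.IsCoh (J i) := fun i => Groth.L17.IdealMulSec.isCoh_idealMul _ _ hO
  refine ⟨∐ J, Sigma.desc ψ, Groth.L16.Devissage.isCoh_sigma J hJ, fun y => ⟨fun {r v} hrv => ?_⟩, ?_⟩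
  · by_cases hr : r = 0
    · exact Or.inl hr
    refine Or.inr ?_
    have hcomp : ∀ i, (stalkF X y).map (Sigma.π J i) v = 0 := by
      intro i
      let m := Sigma.π J i ≫ Dual3.idealMulι (I (q i).1.1 ^ n i) O
      have h1 : ((Groth.L00.Stk.F X y).map m).hom (r • v) = 0 := (congrArg _ hrv).trans (map_zero _)
      rw [map_smul] at h1
      have h2 : (stalkF X y).map m v = 0 := (smul_eq_zero_structureModule y r _ h1).resolve_left hr
      refine (Groth.L21.Mod.mono_iff_stalk_injective (Dual3.idealMulι (I (q i).1.1 ^ n i) O)).1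
        inferInstance y ?_
      rw [map_zero, ← ConcreteCategory.comp_apply, ← Functor.map_comp]
      exact h2
    have hid : 𝟙 (∐ J) = ∑ i, Sigma.π J i ≫ Sigma.ι J i := by
      refine Sigma.hom_ext _ _ fun k => ?_
      rw [Category.comp_id, Preadditive.comp_sum, Finset.sum_eq_single k, Sigma.ι_π_eq_id_assoc]
      · intro b _ hb
        rw [Sigma.ι_π_of_ne_assoc _ (Ne.symm hb), zero_comp]
      · intro hk
        exact absurd (Finset.mem_univ k) hk
    haveI : (stalkF X y).Additive := inferInstance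
    have h3 := congrArg (fun g : ∐ J ⟶ ∐ J => (stalkF X y).map g v) hid
    simp only [CategoryTheory.Functor.map_id, Functor.map_sum] at h3
    refine h3.trans ?_
    rw [← AddCommGrpCat.homAddEquiv_apply, map_sum, AddMonoidHom.finsetSum_apply]
    refine Finset.sum_eq_zero fun i _ => ?_
    rw [AddCommGrpCat.homAddEquiv_apply, Functor.map_comp]
    exact (congrArg ((stalkF X y).map (Sigma.ι J i)) (hcomp i)).trans (map_zero _)
  · refine (Groth.L21.Mod.epi_iff_stalk_surjective (Sigma.desc ψ)).2 fun x => ?_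
    obtain ⟨V, hVS, hxV⟩ := hS x
    let Φ := ((Groth.L00.Stk.F X x).map (Sigma.desc ψ)).hom
    suffices h : ∀ z : F.presheaf.stalk x, z ∈ LinearMap.range Φ from fun z => h z
    have hg : ∀ g ∈ gen V, F.presheaf.germ V.1 x hxV g ∈ LinearMap.range Φ := by
      intro g hgV
      obtain ⟨i, hi⟩ : ∃ i, q i = (⟨⟨V, hVS⟩, g, hgV⟩ : ι') := (Fintype.equivFin ι').symm.surjective _
      have key : ∀ (p : ι') (k : ℕ) (σ : (Dual3.idealMul (I p.1.1 ^ k)).obj O ⟶ F),
          (Scheme.Modules.restrictFunctor p.1.1.1.ι).map σ =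
            (Scheme.Modules.restrictFunctor p.1.1.1.ι).map (Dual3.idealMulι (I p.1.1 ^ k) O) ≫
            ((Scheme.Modules.restrictUnitIso _).hom ≫ Groth.L16.homOfSection _
              (rs F (show p.1.1.1.ι ''ᵁ ⊤ ≤ p.1.1.1 from
                ((Scheme.Hom.image_top_eq_opensRange _).trans (Scheme.Opens.opensRange_ι _)).le) p.2.1)) →
          ∀ (hxp : x ∈ p.1.1.1), ∃ w, (stalkF X x).map σ w = F.presheaf.germ p.1.1.1 x hxp p.2.1 := by
        intro p k σ hσ hxp
        set U := p.1.1.1
        have hU : IsAffineOpen U := p.1.1.2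
        have htop : (I p.1.1 ^ k).ideal ⟨U, hU⟩ = ⊤ := by
          rw [Scheme.IdealSheafData.ideal_pow, Pi.pow_apply]
          have : (I p.1.1).ideal ⟨U, hU⟩ = ⊤ := by
            rw [Scheme.IdealSheafData.vanishingIdeal_ideal]
            refine (congrArg PrimeSpectrum.vanishingIdeal ?_).trans PrimeSpectrum.vanishingIdeal_empty
            exact Set.eq_empty_of_forall_notMem fun z hz => hz (hU.range_fromSpec.le ⟨z, rfl⟩)
          rw [this, Ideal.top_pow]
        obtain ⟨m, hm⟩ := (Groth.L17.IdealMulSec.exists_app_eq_iff (I p.1.1 ^ k) O hU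
          (show Γ(O, U) from (1 : Γ(X, U)))).2 (by rw [htop, Submodule.top_smul]; trivial)
        refine ⟨((Dual3.idealMul (I p.1.1 ^ k)).obj O).presheaf.germ U x hxp m, ?_⟩
        rw [Groth.L21.Mod.stalkF_map_germ]
        refine congrArg (F.presheaf.germ U x hxp) ?_
        have e : U.ι ''ᵁ ⊤ = U := (Scheme.Hom.image_top_eq_opensRange _).trans (Scheme.Opens.opensRange_ι _)
        have h2 := congr(($hσ).app ⊤ (rs ((Dual3.idealMul (I p.1.1 ^ k)).obj O) e.le m))
        change σ.app (U.ι ''ᵁ ⊤) (rs ((Dual3.idealMul (I p.1.1 ^ k)).obj O) e.le m) = _ at h2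
        rw [show σ.app (U.ι ''ᵁ ⊤) (rs ((Dual3.idealMul (I p.1.1 ^ k)).obj O) e.le m) = rs F e.le (σ.app U m) from
          congr($(σ.mapPresheaf.naturality (homOfLE e.le).op) m)] at h2
        have hι : (Dual3.idealMulι (I p.1.1 ^ k) O).app (U.ι ''ᵁ ⊤) (rs ((Dual3.idealMul (I p.1.1 ^ k)).obj O) e.le m) =
            (show Γ(O, U.ι ''ᵁ ⊤) from (1 : Γ(X, U.ι ''ᵁ ⊤))) := by
          refine (congr($((Dual3.idealMulι (I p.1.1 ^ k) O).mapPresheaf.naturality (homOfLE e.le).op) m)).trans ?_
          exact (congrArg (rs O e.le) hm).trans (map_one (X.presheaf.map (homOfLE e.le).op).hom)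
        have h4 : rs F e.le (σ.app U m) = rs F e.le p.2.1 := by
          refine h2.trans ?_
          refine (congrArg (fun t => ((Scheme.Modules.restrictUnitIso U.ι).hom ≫ Groth.L16.homOfSection ((Scheme.Modules.restrictFunctor U.ι).obj F)
            (rs F e.le p.2.1)).app ⊤ t) hι).trans ?_
          refine Eq.trans ?_ (Groth.L18.GenLoc.secOf_homOfSection _)
          show (Groth.L16.homOfSection ((Scheme.Modules.restrictFunctor U.ι).obj F) (rs F e.le p.2.1)).app ⊤
            ((Scheme.Modules.restrictUnitIso U.ι).hom.app ⊤ _) = _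
          refine congrArg ((Groth.L16.homOfSection ((Scheme.Modules.restrictFunctor U.ι).obj F) (rs F e.le p.2.1)).app ⊤) ?_
          exact map_one (U.ι.appIso ⊤).hom.hom
        have h5 := congrArg (rs F e.ge) h4
        rwa [rs_rs, rs_rs, Groth.L18.Frame.rs_self, Groth.L18.Frame.rs_self] at h5
      obtain ⟨w, hw⟩ := key (q i) (n i) (ψ i) (hψ i) (by rw [hi]; exact hxV)
      refine ⟨(stalkF X x).map (Sigma.ι J i) w, ?_⟩
      show (stalkF X x).map (Sigma.desc ψ) ((stalkF X x).map (Sigma.ι J i) w) = _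
      rw [← ConcreteCategory.comp_apply, ← Functor.map_comp, Sigma.ι_desc, hw]
      have heq : ∀ (p : ι'), p = (⟨⟨V, hVS⟩, g, hgV⟩ : ι') → ∀ h : x ∈ p.1.1.1,
          F.presheaf.germ p.1.1.1 x h p.2.1 = F.presheaf.germ V.1 x hxV g := by
        rintro _ rfl _
        rfl
      exact heq _ hi _
    have hspan : ∀ m : Γ(F, V.1), F.presheaf.germ V.1 x hxV m ∈ LinearMap.range Φ := fun m => by
      have : m ∈ Submodule.span Γ(X, V.1) (gen V : Set Γ(F, V.1)) := by rw [hgen V]; trivial
      induction this using Submodule.span_induction with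
      | mem g hg' => exact hg g hg'
      | zero => rw [map_zero]; exact zero_mem _
      | add a b _ _ ha hb => rw [map_add]; exact add_mem ha hb
      | smul a b _ hb =>
        rw [Groth.L20.ModStalk.germ_smul]
        exact Submodule.smul_mem _ _ hb
    intro z
    letI := Groth.L20.ModStalk.stalkModule F hxV
    letI := X.presheaf.algebra_section_stalk ⟨x, hxV⟩
    haveI := Groth.L20.ModStalk.isLocalizedModule_germ F V.2 hxV
    obtain ⟨⟨m, c⟩, hc⟩ := IsLocalizedModule.surj (V.2.primeIdealOf ⟨x, hxV⟩).asIdeal.primeCompl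
      (Groth.L20.ModStalk.germₗ F hxV) z
    have hm := hspan m
    haveI := V.2.isLocalization_stalk ⟨x, hxV⟩
    obtain ⟨u, hu⟩ : IsUnit (algebraMap Γ(X, V.1) (X.presheaf.stalk x) (c : Γ(X, V.1))) :=
      IsLocalization.map_units (M := (V.2.primeIdealOf ⟨x, hxV⟩).asIdeal.primeCompl) _ c
    have hz : (u : X.presheaf.stalk x) • z = F.presheaf.germ V.1 x hxV m := by
      rw [hu]
      exact hc
    have := Submodule.smul_mem (LinearMap.range Φ) (↑u⁻¹ : X.presheaf.stalk x) hm
    rwa [← hz, smul_smul, Units.inv_mul, one_smul] at this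

end Groth.L18.TFCover
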