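import Groth.Prelude.Def_Tors
import Mathlib.CategoryTheory.Sites.SheafCohomology.Basic
import Mathlib.CategoryTheory.Sites.Subsheaf
import Mathlib.CategoryTheory.Sites.EpiMono
import Mathlib.Algebra.Homology.DerivedCategory.Ext.ExactSequences
import Mathlib.CategoryTheory.Abelian.GrothendieckCategory.EnoughInjectives
import Mathlib.Algebra.Homology.ShortComplex.Ab

/-! `H¹(G) = 0` iff every `G`-torsor has a section, via an embedding of `G` into an injective sheaf. -/

set_option autoImplicit false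
set_option backward.isDefEq.respectTransparency false
set_option backward.isDefEq.respectTransparency.types false

universe u

open CategoryTheory CategoryTheory.Limits CategoryTheory.Abelian Opposite

noncomputable section

namespace Groth.L18.TorsorH1

variable {C : Type u} [SmallCategory C] {J : GrothendieckTopology C}

variable (J) in
/-- The constant sheaf `ℤ`. -/
abbrev ZS : Sheaf J AddCommGrpCat.{u} :=
  (constantSheaf J AddCommGrpCat.{u}).obj (AddCommGrpCat.of (ULift.{u} ℤ))

/-- The morphism of presheaves attached to a morphism out of the constant sheaf. -/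
abbrev adjHom {F : Sheaf J AddCommGrpCat.{u}} (g : ZS J ⟶ F) :
    (Functor.const Cᵒᵖ).obj (AddCommGrpCat.of (ULift.{u} ℤ)) ⟶ F.obj :=
  (sheafificationAdjunction J AddCommGrpCat.{u}).homEquiv _ F g

/-- The value at `U` of a morphism out of the constant sheaf. -/
def eval {F : Sheaf J AddCommGrpCat.{u}} (g : ZS J ⟶ F) (U : Cᵒᵖ) : F.obj.obj U :=
  (adjHom g).app U (ULift.up 1 : ULift.{u} ℤ)

theorem map_eval {F : Sheaf J AddCommGrpCat.{u}} (g : ZS J ⟶ F) {U V : Cᵒᵖ} (f : U ⟶ V) :
    F.obj.map f (eval g U) = eval g V :=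
  (congr($((adjHom g).naturality f) (ULift.up 1 : ULift.{u} ℤ))).symm

theorem eval_comp {F F' : Sheaf J AddCommGrpCat.{u}} (g : ZS J ⟶ F) (φ : F ⟶ F') (U : Cᵒᵖ) :
    eval (g ≫ φ) U = φ.hom.app U (eval g U) := by
  unfold eval adjHom
  erw [Adjunction.homEquiv_naturality_right]
  rfl

theorem hom_ext {F : Sheaf J AddCommGrpCat.{u}} {g g' : ZS J ⟶ F} (h : ∀ U, eval g U = eval g' U) : g = g' := by
  refine ((sheafificationAdjunction J AddCommGrpCat.{u}).homEquiv _ F).injective ?_
  refine NatTrans.ext (funext fun U => AddCommGrpCat.hom_ext (AddMonoidHom.ext fun z => ?_))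
  obtain ⟨n⟩ := z
  have : (ULift.up n : ULift.{u} ℤ) = n • (ULift.up 1 : ULift.{u} ℤ) := by ext; simp
  rw [this, map_zsmul, map_zsmul]
  exact congrArg (n • ·) (h U)

/-- The morphism out of the constant sheaf attached to a compatible family of sections. -/
def ofSec {F : Sheaf J AddCommGrpCat.{u}} (s : ∀ U, F.obj.obj U)
    (hs : ∀ ⦃U V : Cᵒᵖ⦄ (f : U ⟶ V), F.obj.map f (s U) = s V) : ZS J ⟶ F :=
  ((sheafificationAdjunction J AddCommGrpCat.{u}).homEquiv _ F).symm
    { app := fun U => AddCommGrpCat.ofHom ((zmultiplesHom _ (s U)).comp AddEquiv.ulift.toAddMonoidHom)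
      naturality := fun U V f => by
        ext z
        show _ = F.obj.map f (z.down • s U)
        rw [map_zsmul, hs f]
        rfl }

theorem eval_ofSec {F : Sheaf J AddCommGrpCat.{u}} (s : ∀ U, F.obj.obj U)
    (hs : ∀ ⦃U V : Cᵒᵖ⦄ (f : U ⟶ V), F.obj.map f (s U) = s V) (U : Cᵒᵖ) : eval (ofSec s hs) U = s U := by
  unfold eval ofSec adjHom
  erw [Equiv.apply_symm_apply]
  exact one_zsmul (s U)

/-- The underlying sheaf of types. -/
abbrev uSh (F : Sheaf J AddCommGrpCat.{u}) : Sheaf J (Type u) :=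
  (sheafCompose J (forget AddCommGrpCat.{u})).obj F

theorem isSheafT (P : Sheaf J (Type u)) : Presieve.IsSheaf J P.obj :=
  (isSheaf_iff_isSheaf_of_type J _).1 P.property

theorem sep {F : Sheaf J AddCommGrpCat.{u}} {U : C} {S : Sieve U} (hS : S ∈ J U) {s t : F.obj.obj (op U)}
    (h : ∀ ⦃V : C⦄ (f : V ⟶ U), S f → F.obj.map f.op s = F.obj.map f.op t) : s = t :=
  (isSheafT (uSh F) S hS).isSeparatedFor.ext fun _ _ hf => h _ hf

variable {G : Sheaf J AddCommGrpCat.{u}} {I Q : Sheaf J AddCommGrpCat.{u}}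

/-- An equivariant map from a torsor to an injective sheaf containing the group. -/
theorem exists_equivariant [Injective I] (ι : G ⟶ I) (T : Tors.Torsor G) :
    ∃ f : ∀ U : Cᵒᵖ, T.P.obj.obj U → I.obj.obj U,
      (∀ ⦃U V : Cᵒᵖ⦄ (a : U ⟶ V) (p : T.P.obj.obj U), I.obj.map a (f U p) = f V (T.P.obj.map a p)) ∧
      ∀ (U : Cᵒᵖ) (g : G.obj.obj U) (p : T.P.obj.obj U), f U (T.vadd g p) = ι.hom.app U g + f U p := by
  classical
  -- the free presheaves on `P` and `P × P`
  let X : Cᵒᵖ ⥤ AddCommGrpCat.{u} := T.P.obj ⋙ AddCommGrpCat.free.{u}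
  let W : Cᵒᵖ ⥤ AddCommGrpCat.{u} :=
    { obj := fun U => AddCommGrpCat.of (FreeAbelianGroup (T.P.obj.obj U × T.P.obj.obj U))
      map := fun {U V} a => AddCommGrpCat.ofHom (FreeAbelianGroup.map fun pq =>
        (T.P.obj.map a pq.1, T.P.obj.map a pq.2))
      map_id := fun U => by
        ext pq
        simp [FreeAbelianGroup.map_of_apply]
      map_comp := fun {U V V'} a b => by
        ext pq
        simp [FreeAbelianGroup.map_of_apply] }
  let δ : ∀ {U : Cᵒᵖ}, T.P.obj.obj U → T.P.obj.obj U → G.obj.obj U := fun p q => (T.free_transitive q p).choose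
  have hδ : ∀ {U : Cᵒᵖ} (p q : T.P.obj.obj U), T.vadd (δ p q) q = p := fun p q =>
    (T.free_transitive q p).choose_spec.1
  have hδu : ∀ {U : Cᵒᵖ} (p q : T.P.obj.obj U) (g : G.obj.obj U), T.vadd g q = p → g = δ p q := fun p q g h =>
    (T.free_transitive q p).choose_spec.2 g h
  have hXmap : ∀ {U V : Cᵒᵖ} (a : U ⟶ V) (p : T.P.obj.obj U),
      X.map a (FreeAbelianGroup.of p) = FreeAbelianGroup.of (T.P.obj.map a p) := fun a p =>
    FreeAbelianGroup.map_of_apply p
  let a : W ⟶ X :=
    { app := fun U => AddCommGrpCat.ofHom (FreeAbelianGroup.lift fun pq : T.P.obj.obj U × T.P.obj.obj U =>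
        (FreeAbelianGroup.of pq.1 - FreeAbelianGroup.of pq.2 : FreeAbelianGroup (T.P.obj.obj U)))
      naturality := fun U V f => AddCommGrpCat.hom_ext (FreeAbelianGroup.lift_ext _ _ fun pq => by
        show FreeAbelianGroup.lift _ (FreeAbelianGroup.map _ (FreeAbelianGroup.of pq)) =
          X.map f (FreeAbelianGroup.lift _ (FreeAbelianGroup.of pq))
        rw [FreeAbelianGroup.map_of_apply, FreeAbelianGroup.lift_apply_of, FreeAbelianGroup.lift_apply_of]
        exact (by rw [map_sub, hXmap, hXmap] : _ = X.map f (FreeAbelianGroup.of pq.1 - FreeAbelianGroup.of pq.2))) }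
  let b : W ⟶ G.obj :=
    { app := fun U => AddCommGrpCat.ofHom (FreeAbelianGroup.lift fun pq : T.P.obj.obj U × T.P.obj.obj U =>
        δ pq.1 pq.2)
      naturality := fun U V f => AddCommGrpCat.hom_ext (FreeAbelianGroup.lift_ext _ _ fun pq => by
        show FreeAbelianGroup.lift _ (FreeAbelianGroup.map _ (FreeAbelianGroup.of pq)) =
          G.obj.map f (FreeAbelianGroup.lift _ (FreeAbelianGroup.of pq))
        rw [FreeAbelianGroup.map_of_apply, FreeAbelianGroup.lift_apply_of, FreeAbelianGroup.lift_apply_of]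
        refine (hδu _ _ _ ?_).symm
        rw [← T.map_vadd, hδ]) }
  have hker : ∀ (U : Cᵒᵖ) (x : W.obj U), a.app U x = 0 → b.app U x = 0 := fun U x hx => by
    by_cases hP : Nonempty (T.P.obj.obj U)
    · obtain ⟨p₀⟩ := hP
      let h : FreeAbelianGroup (T.P.obj.obj U) →+ G.obj.obj U := FreeAbelianGroup.lift fun p => δ p p₀
      have : h.comp (a.app U).hom = (b.app U).hom := FreeAbelianGroup.lift_ext _ _ fun pq => by
        show h (FreeAbelianGroup.lift _ (FreeAbelianGroup.of pq)) = FreeAbelianGroup.lift _ (FreeAbelianGroup.of pq)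
        rw [FreeAbelianGroup.lift_apply_of, FreeAbelianGroup.lift_apply_of, map_sub]
        show FreeAbelianGroup.lift _ _ - FreeAbelianGroup.lift _ _ = _
        rw [FreeAbelianGroup.lift_apply_of, FreeAbelianGroup.lift_apply_of]
        refine hδu _ _ _ ?_
        calc T.vadd (δ pq.1 p₀ - δ pq.2 p₀) pq.2
            = T.vadd (δ pq.1 p₀ - δ pq.2 p₀) (T.vadd (δ pq.2 p₀) p₀) := by rw [hδ]
          _ = pq.1 := by rw [← T.add_vadd, sub_add_cancel, hδ]
      rw [← congr($this x)]
      exact (congrArg h hx).trans (map_zero h)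
    · haveI : IsEmpty (T.P.obj.obj U) := not_nonempty_iff.1 hP
      have : x = 0 := Subsingleton.elim (α := FreeAbelianGroup (T.P.obj.obj U × T.P.obj.obj U)) x 0
      rw [this, map_zero]
  haveI : Injective I.obj := Injective.injective_of_adjoint (sheafificationAdjunction J AddCommGrpCat.{u}) I
  let S : ShortComplex (Cᵒᵖ ⥤ AddCommGrpCat.{u}) := ShortComplex.mk (kernel.ι a) a (kernel.condition a)
  have hS : S.Exact := ShortComplex.exact_of_f_is_kernel _ (kernelIsKernel a)
  have hf0 : S.f ≫ b ≫ ι.hom = 0 := by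
    refine NatTrans.ext (funext fun U => AddCommGrpCat.hom_ext (AddMonoidHom.ext fun x => ?_))
    show ι.hom.app U (b.app U ((kernel.ι a).app U x)) = 0
    erw [hker U _ congr(($(kernel.condition a)).app U x)]
    exact map_zero _
  let φ : X ⟶ I.obj := hS.descToInjective (b ≫ ι.hom) hf0
  have hφ : a ≫ φ = b ≫ ι.hom := hS.comp_descToInjective (b ≫ ι.hom) hf0
  let ofX : ∀ {U : Cᵒᵖ}, T.P.obj.obj U → X.obj U := fun p => FreeAbelianGroup.of p
  refine ⟨fun U p => φ.app U (ofX p), fun U V f p => ?_, fun U g p => ?_⟩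
  · refine (congr($(φ.naturality f) (ofX p))).symm.trans ?_
    exact congrArg (φ.app V) (hXmap f p)
  · have h : φ.app U (FreeAbelianGroup.lift _ (FreeAbelianGroup.of (T.vadd g p, p))) =
        ι.hom.app U (FreeAbelianGroup.lift _ (FreeAbelianGroup.of (T.vadd g p, p))) :=
      congr(($hφ).app U (FreeAbelianGroup.of (T.vadd g p, p)))
    rw [FreeAbelianGroup.lift_apply_of, FreeAbelianGroup.lift_apply_of, ← hδu _ _ g rfl] at h
    exact sub_eq_iff_eq_add.1 ((map_sub (φ.app U).hom _ _).symm.trans h)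

section Seq

variable {ι : G ⟶ I} {π : I ⟶ Q}
  (hinj : ∀ U, Function.Injective (ι.hom.app U))
  (hexact : ∀ U (x : I.obj.obj U), π.hom.app U x = 0 ↔ ∃ g, ι.hom.app U g = x)

include hinj hexact in
/-- If compatible families lift along `π` then torsors have sections. -/
theorem hasSection_of_lift [Injective I]
    (hlift : ∀ c : ZS J ⟶ Q, ∃ a : ZS J ⟶ I, a ≫ π = c) (T : Tors.Torsor G) : T.HasSection := by
  classical
  obtain ⟨f, fnat, feq⟩ := exists_equivariant ι T
  have hf_inj : ∀ U, Function.Injective (f U) := fun U p q h => by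
    obtain ⟨g, rfl, -⟩ := T.free_transitive p q
    rw [feq] at h
    have : g = 0 := hinj U (by rw [map_zero]; exact add_eq_right.1 h.symm)
    rw [this, T.zero_vadd]
  have hc : ∀ U (p q : T.P.obj.obj U), π.hom.app U (f U p) = π.hom.app U (f U q) := fun U p q => by
    obtain ⟨g, rfl, -⟩ := T.free_transitive q p
    rw [feq, map_add, (hexact U _).2 ⟨g, rfl⟩, zero_add]
  choose S hS hne using T.locally_nonempty
  -- the global section of the quotient
  let x : ∀ U : C, Presieve.FamilyOfElements (uSh Q).obj (S U).arrows :=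
    fun U V i hi => π.hom.app (op V) (f (op V) (hne U i hi).some)
  have hx : ∀ U, (x U).Compatible := by
    intro U V₁ V₂ W g₁ g₂ i₁ i₂ h₁ h₂ _
    show Q.obj.map g₁.op (π.hom.app _ (f _ (hne U i₁ h₁).some)) = Q.obj.map g₂.op (π.hom.app _ (f _ (hne U i₂ h₂).some))
    rw [← NatTrans.naturality_apply π.hom, ← NatTrans.naturality_apply π.hom, fnat, fnat]
    exact hc _ _ _
  let c : ∀ U : Cᵒᵖ, Q.obj.obj U := fun U =>
    (isSheafT (uSh Q) (S U.unop) (hS U.unop)).amalgamate (x U.unop) (hx U.unop)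
  have hcp : ∀ U (p : T.P.obj.obj U), c U = π.hom.app U (f U p) := fun U p => by
    refine sep (hS U.unop) fun V i hi => ?_
    rw [← NatTrans.naturality_apply π.hom, fnat]
    exact ((isSheafT (uSh Q) (S U.unop) (hS U.unop)).valid_glue (hx U.unop) i hi).trans (hc _ _ _)
  have hcc : ∀ ⦃U V : Cᵒᵖ⦄ (a : U ⟶ V), Q.obj.map a (c U) = c V := by
    intro U V a
    refine sep (J.intersection_covering (hS V.unop) (J.pullback_stable a.unop (hS U.unop))) fun W i hi => ?_
    obtain ⟨p⟩ := hne V.unop i hi.1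
    have e1 : Q.obj.map i.op (c V) = c (op W) :=
      ((isSheafT (uSh Q) (S V.unop) (hS V.unop)).valid_glue (hx V.unop) i hi.1).trans (hcp _ _).symm
    have e2 : Q.obj.map (i ≫ a.unop).op (c U) = c (op W) :=
      ((isSheafT (uSh Q) (S U.unop) (hS U.unop)).valid_glue (hx U.unop) (i ≫ a.unop) hi.2).trans (hcp _ _).symm
    rw [e1, ← e2, op_comp, Functor.map_comp]
    rfl
  obtain ⟨a, ha⟩ := hlift (ofSec c hcc)
  have hπa : ∀ U, π.hom.app U (eval a U) = c U := fun U => by rw [← eval_comp, ha, eval_ofSec]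
  -- the points of the torsor above the lift
  have hpt : ∀ U, Nonempty (T.P.obj.obj U) → ∃ p, f U p = eval a U := by
    rintro U ⟨p⟩
    obtain ⟨g, hg⟩ := (hexact U (eval a U - f U p)).1 (by rw [map_sub, hπa, hcp U p, sub_self])
    exact ⟨T.vadd g p, by rw [feq, hg, sub_add_cancel]⟩
  have hall : ∀ U : Cᵒᵖ, ∃ p, f U p = eval a U := by
    intro U
    let y : Presieve.FamilyOfElements T.P.obj (S U.unop).arrows := fun V i hi =>
      (hpt (op V) (hne _ i hi)).choose
    have hyv : ∀ ⦃V⦄ (i : V ⟶ U.unop) (hi : S U.unop i), f (op V) (y i hi) = eval a (op V) := fun V i hi =>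
      (hpt (op V) (hne _ i hi)).choose_spec
    have hy : y.Compatible := by
      intro V₁ V₂ W g₁ g₂ i₁ i₂ h₁ h₂ _
      refine hf_inj _ ?_
      rw [← fnat, ← fnat, hyv i₁ h₁, hyv i₂ h₂, map_eval, map_eval]
    refine ⟨(isSheafT T.P (S U.unop) (hS U.unop)).amalgamate y hy, sep (hS U.unop) fun V i hi => ?_⟩
    rw [fnat, map_eval, (isSheafT T.P (S U.unop) (hS U.unop)).valid_glue hy i hi, hyv i hi]
  choose s hs using hall
  exact ⟨⟨{ app := fun U => TypeCat.ofHom fun _ => s U
            naturality := fun U V i => by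
              ext _
              show s V = T.P.obj.map i (s U)
              exact hf_inj V (by rw [← fnat, hs, hs, map_eval]) }⟩⟩

include hinj hexact in
/-- If torsors have sections then compatible families lift along `π`. -/
theorem lift_of_hasSection [Epi π] (h : ∀ T : Tors.Torsor G, T.HasSection) (c : ZS J ⟶ Q) :
    ∃ a : ZS J ⟶ I, a ≫ π = c := by
  classical
  let P : Subfunctor (uSh I).obj :=
    { obj := fun U => {x | π.hom.app U x = eval c U}
      map := fun {U V} i x hx => by
        show π.hom.app V (I.obj.map i x) = eval c V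
        rw [NatTrans.naturality_apply π.hom, show π.hom.app U x = eval c U from hx, map_eval] }
  have hP : Presieve.IsSheaf J P.toFunctor := (P.isSheaf_iff (isSheafT (uSh I))).2 fun U x hx => by
    refine sep hx fun V i hi => ?_
    rw [map_eval, ← NatTrans.naturality_apply π.hom]
    exact hi
  let val : ∀ U, P.toFunctor.obj U → I.obj.obj U := fun U p => p.1
  let T : Tors.Torsor G :=
    { P := ⟨P.toFunctor, (isSheaf_iff_isSheaf_of_type J _).2 hP⟩
      vadd := fun {U} g p => ⟨ι.hom.app U g + val U p, by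
        show π.hom.app U (_ + _) = eval c U
        rw [map_add, (hexact U _).2 ⟨g, rfl⟩, zero_add]
        exact p.2⟩
      zero_vadd := fun {U} p => Subtype.ext (show ι.hom.app U 0 + val U p = val U p by
        rw [map_zero, zero_add])
      add_vadd := fun {U} g g' p => Subtype.ext
        (show ι.hom.app U (g + g') + val U p = ι.hom.app U g + (ι.hom.app U g' + val U p) by
          rw [map_add, add_assoc])
      map_vadd := fun {U V} i g p => Subtype.ext
        (show I.obj.map i (ι.hom.app U g + val U p) = ι.hom.app V (G.obj.map i g) + I.obj.map i (val U p) by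
          rw [map_add, NatTrans.naturality_apply ι.hom])
      free_transitive := fun {U} p q => by
        obtain ⟨g, hg⟩ := (hexact U (val U q - val U p)).1 (by
          rw [map_sub, show π.hom.app U (val U q) = eval c U from q.2, show π.hom.app U (val U p) = eval c U from p.2,
            sub_self])
        refine ⟨g, Subtype.ext (show ι.hom.app U g + val U p = val U q by rw [hg, sub_add_cancel]),
          fun g' h' => hinj U ?_⟩
        rw [hg]
        exact eq_sub_of_add_eq (congrArg Subtype.val h')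
      locally_nonempty := fun U => by
        have hloc : Sheaf.IsLocallySurjective π := (Sheaf.isLocallySurjective_iff_epi' _ π).2 inferInstance
        refine ⟨_, hloc.imageSieve_mem (eval c (op U)), fun V i hi => ?_⟩
        obtain ⟨x, hx⟩ := hi
        exact ⟨⟨x, hx.trans (map_eval c i.op)⟩⟩ }
  obtain ⟨σ⟩ := h T
  let z : ∀ U, (⊤_ (Sheaf J (Type u))).obj.obj U := fun U => (terminal.from (uSh G)).hom.app U (0 : G.obj.obj U)
  have hz : ∀ ⦃U V : Cᵒᵖ⦄ (i : U ⟶ V), (⊤_ (Sheaf J (Type u))).obj.map i (z U) = z V := fun U V i => by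
    show _ = (terminal.from (uSh G)).hom.app V (0 : G.obj.obj V)
    rw [← NatTrans.naturality_apply (terminal.from (uSh G)).hom]
    exact congrArg _ (map_zero (G.obj.map i).hom)
  let s : ∀ U, I.obj.obj U := fun U => (σ.hom.app U (z U)).1
  have hs : ∀ ⦃U V : Cᵒᵖ⦄ (i : U ⟶ V), I.obj.map i (s U) = s V := fun U V i => by
    show _ = (σ.hom.app V (z V)).1
    rw [← hz i, NatTrans.naturality_apply σ.hom]
    rfl
  exact ⟨ofSec s hs, hom_ext fun U => by rw [eval_comp, eval_ofSec]; exact (σ.hom.app U (z U)).2⟩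

end Seq

/-- `H¹(G) = 0` iff all `G`-torsors have sections. -/
theorem subsingleton_iff (G : Sheaf J AddCommGrpCat.{u}) :
    Subsingleton (Sheaf.H.{u} G 1) ↔ ∀ T : Tors.Torsor G, T.HasSection := by
  let S : ShortComplex (Sheaf J AddCommGrpCat.{u}) :=
    ShortComplex.mk (Injective.ι G) (cokernel.π _) (cokernel.condition _)
  have hS : S.ShortExact := { exact := ShortComplex.exact_cokernel _ }
  haveI : Mono S.f := hS.mono_f
  haveI : Epi S.g := hS.epi_g
  haveI : Injective S.X₂ := inferInstanceAs (Injective (Injective.under G))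
  let Fn : Cᵒᵖ → Sheaf J AddCommGrpCat.{u} ⥤ AddCommGrpCat.{u} := fun U =>
    sheafToPresheaf J AddCommGrpCat.{u} ⋙ (evaluation Cᵒᵖ AddCommGrpCat.{u}).obj U
  have hinj : ∀ U, Function.Injective (S.f.hom.app U) := fun U =>
    (AddCommGrpCat.mono_iff_injective _).1 (inferInstanceAs (Mono ((Fn U).map S.f)))
  have hexact : ∀ U (x : S.X₂.obj.obj U), S.g.hom.app U x = 0 ↔ ∃ g, S.f.hom.app U g = x := by
    intro U x
    refine ⟨fun hx => ?_, ?_⟩
    · exact (ShortComplex.ab_exact_iff (S.map (Fn U))).1 (hS.exact.map_of_mono_of_preservesKernel (Fn U) inferInstance inferInstance) x hx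
    · rintro ⟨g, rfl⟩
      exact congr(($(S.zero)).hom.app U g)
  constructor
  · intro hH T
    refine hasSection_of_lift hinj hexact (fun c => ?_) T
    obtain ⟨y, hy⟩ := Ext.covariant_sequence_exact₃ _ hS (Ext.mk₀ c) (zero_add 1)
      (@Subsingleton.elim _ hH _ _)
    obtain ⟨a, rfl⟩ := (Ext.mk₀_bijective _ _).2 y
    rw [Ext.mk₀_comp_mk₀] at hy
    exact ⟨a, (Ext.mk₀_bijective _ _).1 hy⟩
  · intro h
    refine subsingleton_of_forall_eq 0 fun x => ?_
    obtain ⟨y, rfl⟩ := Ext.covariant_sequence_exact₁ _ hS x (Ext.eq_zero_of_injective _) (zero_add 1)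
    obtain ⟨c, rfl⟩ := (Ext.mk₀_bijective _ _).2 y
    obtain ⟨a, rfl⟩ := lift_of_hasSection hinj hexact h c
    rw [← Ext.mk₀_comp_mk₀, Ext.comp_assoc_of_second_deg_zero, hS.comp_extClass, Ext.comp_zero]

end Groth.L18.TorsorH1
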