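import Groth.Agent.L16.ProjSpace.Sections
import Mathlib.RingTheory.IntegralClosure.IntegrallyClosed
import Mathlib.RingTheory.Localization.FractionRing
import Mathlib.RingTheory.Finiteness.Ideal

/-!
# Global sections of `O(d)` on `Proj` of an integrally closed graded domain
-/

set_option autoImplicit false

universe u

open CategoryTheory AlgebraicGeometry TopologicalSpace Opposite

namespace Groth.L18.TwistGlobal

open Groth.L16

variable {R A : Type u} [CommRing R] [CommRing A] [IsDomain A] [Algebra R A] (𝒜 : ℕ → Submodule R A)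
  [GradedAlgebra 𝒜]

omit [IsDomain A] in
theorem mem_span_pow (hgen : ∀ i : ℕ, 𝒜 1 * 𝒜 i = 𝒜 (i + 1)) :
    ∀ i : ℕ, ∀ y ∈ 𝒜 i, y ∈ (Ideal.span (𝒜 1 : Set A)) ^ i := by
  intro i
  induction i with
  | zero => intro y _; simp
  | succ i ih =>
    intro y hy
    rw [← hgen i] at hy
    induction hy using Submodule.mul_induction_on' with
    | mem_mul_mem a ha b hb => rw [pow_succ']; exact Ideal.mul_mem_mul (Ideal.subset_span ha) (ih b hb)
    | add a _ b _ ha hb => exact add_mem ha hb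

omit [IsDomain A] in
theorem span_pow_le (hgen : ∀ i : ℕ, 𝒜 1 * 𝒜 i = 𝒜 (i + 1)) :
    ∀ i : ℕ, (Ideal.span (𝒜 1 : Set A)) ^ i ≤ Ideal.span (𝒜 i : Set A) := by
  intro i
  induction i with
  | zero =>
    rw [pow_zero, Ideal.one_eq_top]
    exact ((Ideal.eq_top_iff_one _).2 (Ideal.subset_span SetLike.GradedOne.one_mem)).ge
  | succ i ih =>
    rw [pow_succ']
    refine (Ideal.mul_mono le_rfl ih).trans ?_
    rw [Ideal.span_mul_span']
    refine Ideal.span_mono ?_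
    rintro _ ⟨a, ha, b, hb, rfl⟩
    rw [← hgen i]
    exact Submodule.mul_mem_mul ha hb

omit [IsDomain A] in
theorem exists_notMem (hgen : ∀ i : ℕ, 𝒜 1 * 𝒜 i = 𝒜 (i + 1)) (x : ProjectiveSpectrum 𝒜) :
    ¬ (𝒜 1 : Set A) ⊆ (x.asHomogeneousIdeal.toIdeal : Set A) := fun h => by
  refine x.not_irrelevant_le fun a ha => ?_
  classical
  rw [HomogeneousIdeal.mem_irrelevant_iff, GradedRing.proj_apply] at ha
  show a ∈ x.asHomogeneousIdeal.toIdeal
  rw [← DirectSum.sum_support_decompose 𝒜 a]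
  refine Ideal.sum_mem _ fun i _ => ?_
  cases i with
  | zero => rw [ha]; exact zero_mem _
  | succ i =>
    exact ((Ideal.pow_le_self i.succ_ne_zero).trans (Ideal.span_le.2 h))
      (mem_span_pow 𝒜 hgen (i + 1) _ (SetLike.coe_mem _))

omit [IsDomain A] in
/-- Local form of a global section on `D₊(f)`, `f` of degree one. -/
theorem exists_local_form (d : ℕ) (s : Twist.sectN (𝒜 := 𝒜) (d : ℤ) (op ⊤)) {f : A} (hf : f ∈ 𝒜 1) :
    ∃ (k : ℕ) (P : A), P ∈ 𝒜 (d + k) ∧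
      ∀ (x : ProjectiveSpectrum 𝒜) (hx : f ∉ x.asHomogeneousIdeal),
        (s.1 ⟨x, trivial⟩).1 = Localization.mk P ⟨f ^ k, ProjTwist.notMem_pow 𝒜 hx k⟩ := by
  let W : Opens (ProjectiveSpectrum.top 𝒜) := Proj.basicOpen 𝒜 f
  have hW : ∀ x : W, f ∉ x.1.asHomogeneousIdeal := fun x => (Proj.mem_basicOpen _ _ _).1 x.2
  let a : 𝒜 d := ⟨f ^ d, by simpa using SetLike.pow_mem_graded d hf⟩
  let b : 𝒜 0 := ⟨1, SetLike.GradedOne.one_mem⟩
  obtain ⟨c, hc⟩ := ProjTwist.smul_gen_surjective a b (show ((d : ℕ) : ℤ) = ((0 : ℕ) : ℤ) + d by simp) W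
    (fun x => ProjTwist.notMem_pow 𝒜 (hW x) d) (fun x => ProjTwist.one_notMem 𝒜 x.1)
    (Twist.resN (d : ℤ) (homOfLE (le_top : W ≤ ⊤)).op s)
  obtain ⟨z, rfl⟩ := (ConcreteCategory.bijective_of_isIso
    (Proj.basicOpenIsoAway 𝒜 f hf one_pos).hom).2 c
  obtain ⟨k, num, hnum, rfl⟩ := HomogeneousLocalization.Away.mk_surjective 𝒜 hf z
  refine ⟨k, num * f ^ d, by
    simpa [add_comm] using SetLike.mul_mem_graded hnum (SetLike.pow_mem_graded d hf), fun x hx => ?_⟩
  have h1 := congrArg (fun t : Twist.sectN (𝒜 := 𝒜) (d : ℤ) (op W) => (t.1 ⟨x, hx⟩).1) hc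
  refine h1.symm.trans ((Twist.coe_smul_val _ _ _ _).trans ?_)
  erw [ProjectiveSpectrum.Proj.awayToSection_apply, HomogeneousLocalization.Away.val_mk]
  rw [Localization.mk_eq_mk', IsLocalization.map_mk']
  erw [← Localization.mk_eq_mk', Localization.mk_mul]
  simp only [RingHom.id_apply]
  rw [Localization.mk_eq_mk_iff, Localization.r_iff_exists]
  exact ⟨1, by simp [a, b]⟩

theorem globalOf_apply (d : ℕ) (p : 𝒜 d) (x : (⊤ : Opens (ProjectiveSpectrum.top 𝒜))) :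
    ((Twist.globalOf 𝒜 p).1 x).1 = Localization.mk p.1 ⟨1, ProjTwist.one_notMem 𝒜 x.1⟩ := rfl

theorem bijective_globalOf [IsNoetherianRing A] (hgen : ∀ i : ℕ, 𝒜 1 * 𝒜 i = 𝒜 (i + 1)) (h1 : 𝒜 1 ≠ ⊥)
    (hint : IsIntegrallyClosed A) (d : ℕ) :
    Function.Bijective (fun a : 𝒜 d => Twist.globalOf 𝒜 a) := by
  classical
  obtain ⟨f₀, hf₀, hf₀0⟩ := Submodule.exists_mem_ne_zero_of_ne_bot h1
  refine ⟨fun p q h => Subtype.ext (sub_eq_zero.1 ?_), fun s => ?_⟩
  · obtain ⟨k, hk⟩ := ProjTwist.exists_pow_mul_eq_zero 𝒜 one_pos (Submodule.sub_mem _ p.2 q.2) hf₀ fun x hx => by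
      have h1 := congrArg (fun t : Twist.sectN (𝒜 := 𝒜) (d : ℤ) (op ⊤) => (t.1 ⟨x, trivial⟩).1) h
      simp only [globalOf_apply] at h1
      obtain ⟨c, hc⟩ := Localization.r_iff_exists.1 (Localization.mk_eq_mk_iff.1 h1)
      exact ⟨c.1, c.2, by linear_combination hc⟩
    exact (mul_eq_zero.1 hk).resolve_left (pow_ne_zero k hf₀0)
  choose k P hP hloc using fun f : 𝒜 1 => exists_local_form 𝒜 d s f.2
  let K := FractionRing A
  let φ := algebraMap A K
  have hinj : Function.Injective φ := IsFractionRing.injective A K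
  have hcross : ∀ f g : 𝒜 1, (f : A) ≠ 0 → (g : A) ≠ 0 → P f * (g : A) ^ k g = P g * (f : A) ^ k f := by
    intro f g hf hg
    have hne : ∀ x : ProjectiveSpectrum 𝒜, ((f : A) * g) ∉ x.asHomogeneousIdeal →
        (f : A) ∉ x.asHomogeneousIdeal ∧ (g : A) ∉ x.asHomogeneousIdeal :=
      fun x hx => ⟨fun h => hx (x.asHomogeneousIdeal.toIdeal.mul_mem_right _ h),
        fun h => hx (x.asHomogeneousIdeal.toIdeal.mul_mem_left _ h)⟩
    obtain ⟨l, hl⟩ := ProjTwist.exists_pow_mul_eq_of_forall_mk_eq 𝒜 (e := d + k f + k g) (d := 2) two_pos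
      (f := (f : A) * g) (SetLike.mul_mem_graded f.2 g.2)
      (a := P f) (b := P g) (s := (f : A) ^ k f) (t := (g : A) ^ k g)
      (by simpa using SetLike.mul_mem_graded (hP f) (SetLike.pow_mem_graded (k g) g.2))
      (by
        have e : d + k g + k f = d + k f + k g := by omega
        have := SetLike.mul_mem_graded (hP g) (SetLike.pow_mem_graded (k f) f.2)
        simpa [e] using this)
      (fun x hx => ProjTwist.notMem_pow 𝒜 (hne x hx).1 _) (fun x hx => ProjTwist.notMem_pow 𝒜 (hne x hx).2 _)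
      (fun x hx => (hloc f x (hne x hx).1).symm.trans (hloc g x (hne x hx).2))
    exact mul_left_cancel₀ (pow_ne_zero l (mul_ne_zero hf hg)) hl
  let f0 : 𝒜 1 := ⟨f₀, hf₀⟩
  let q : K := φ (P f0) / φ (f₀ ^ k f0)
  have hq : ∀ f : 𝒜 1, (f : A) ≠ 0 → q * φ ((f : A) ^ k f) = φ (P f) := by
    intro f hf
    have h := congrArg φ (hcross f0 f hf₀0 hf)
    rw [map_mul, map_mul] at h
    rw [div_mul_eq_mul_div, h, mul_div_assoc, div_self ((map_ne_zero_iff φ hinj).2 (pow_ne_zero _ hf₀0)), mul_one]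
  -- a finite generating set
  let J₁ : Ideal A := Ideal.span (𝒜 1 : Set A)
  let F : Ideal A := Ideal.span {z | ∃ f : 𝒜 1, (f : A) ≠ 0 ∧ z = (f : A) ^ k f}
  have hrad : J₁ ≤ F.radical := Ideal.span_le.2 fun z hz => by
    by_cases h0 : z = 0
    · rw [h0]; exact zero_mem _
    · exact ⟨k ⟨z, hz⟩, Ideal.subset_span ⟨⟨z, hz⟩, h0, rfl⟩⟩
  obtain ⟨M, hM⟩ := Ideal.exists_pow_le_of_le_radical_of_fg_radical hrad (IsNoetherian.noetherian _)
  have hdiv : ∀ {a : A} {e j : ℕ} {y : A}, y ∈ 𝒜 e → y ≠ 0 → a * y ∈ 𝒜 (j + e) → a ∈ 𝒜 j := by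
    intro a e j y hy hy0 hay
    have h : ((DirectSum.decompose 𝒜 (a * y) (j + e) : 𝒜 (j + e)) : A) =
        ((DirectSum.decompose 𝒜 a j : 𝒜 j) : A) * y := DirectSum.coe_decompose_mul_add_of_right_mem 𝒜 hy
    rw [DirectSum.decompose_of_mem_same 𝒜 hay] at h
    rw [mul_right_cancel₀ hy0 h]
    exact SetLike.coe_mem _
  have hmulA : ∀ y ∈ 𝒜 M, ∃ b ∈ 𝒜 (d + M), φ b = q * φ y := by
    intro y hy
    have hyF : y ∈ F := hM (mem_span_pow 𝒜 hgen M y hy)
    obtain ⟨b, hb⟩ : ∃ b, φ b = q * φ y := by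
      clear hy
      induction hyF using Submodule.span_induction with
      | mem z hz => obtain ⟨f, hf, rfl⟩ := hz; exact ⟨P f, (hq f hf).symm⟩
      | zero => exact ⟨0, by simp⟩
      | add a b _ _ ha hb =>
        obtain ⟨a', ha'⟩ := ha
        obtain ⟨b', hb'⟩ := hb
        exact ⟨a' + b', by rw [map_add, map_add, ha', hb']; ring⟩
      | smul c a _ ha =>
        obtain ⟨a', ha'⟩ := ha
        exact ⟨c * a', by rw [smul_eq_mul, map_mul, map_mul, ha']; ring⟩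
    refine ⟨b, ?_, hb⟩
    have h2 : b * f₀ ^ k f0 = P f0 * y := hinj (by
      rw [map_mul, map_mul, hb, ← hq f0 hf₀0]
      ring)
    refine hdiv (e := k f0) (by simpa using SetLike.pow_mem_graded (k f0) hf₀) (pow_ne_zero _ hf₀0) ?_
    rw [h2]
    have e : d + k f0 + M = d + M + k f0 := by omega
    exact e ▸ SetLike.mul_mem_graded (hP f0) hy
  let N : Submodule A K := Submodule.map (Algebra.linearMap A K) (Ideal.span (𝒜 M : Set A))
  have hle : Ideal.span (𝒜 (d + M) : Set A) ≤ Ideal.span (𝒜 M : Set A) := by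
    refine Ideal.span_le.2 fun y hy => ?_
    exact span_pow_le 𝒜 hgen M ((Ideal.pow_le_pow_right (Nat.le_add_left M d)) (mem_span_pow 𝒜 hgen _ y hy))
  have hN : ∀ z ∈ N, q * z ∈ N := by
    rintro _ ⟨y, hy, rfl⟩
    induction hy using Submodule.span_induction with
    | mem y hy =>
      obtain ⟨b, hb, hb'⟩ := hmulA y hy
      exact ⟨b, hle (Ideal.subset_span hb), hb'⟩
    | zero => simp
    | add a b _ _ ha hb => rw [map_add, mul_add]; exact add_mem ha hb
    | smul c a _ ha => rw [map_smul, mul_smul_comm]; exact N.smul_mem c ha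
  have hNne : N ≠ ⊥ := fun h => by
    have hmem : φ (f₀ ^ M) ∈ N :=
      ⟨f₀ ^ M, Ideal.subset_span (by simpa using SetLike.pow_mem_graded M hf₀), rfl⟩
    rw [h, Submodule.mem_bot, map_eq_zero_iff φ hinj] at hmem
    exact pow_ne_zero M hf₀0 hmem
  have hqint : IsIntegral A q := isIntegral_of_smul_mem_submodule N hNne
    ((IsNoetherian.noetherian _).map _) q fun z hz => hN z hz
  obtain ⟨p, hp⟩ := IsIntegrallyClosed.isIntegral_iff.1 hqint
  have hpf : ∀ f : 𝒜 1, (f : A) ≠ 0 → p * (f : A) ^ k f = P f := fun f hf => hinj (by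
    rw [map_mul, hp, hq f hf])
  have hpd : p ∈ 𝒜 d := hdiv (e := k f0) (by simpa using SetLike.pow_mem_graded (k f0) hf₀)
    (pow_ne_zero _ hf₀0) (by rw [hpf f0 hf₀0]; exact hP f0)
  refine ⟨⟨p, hpd⟩, Subtype.ext (funext fun x => Subtype.ext ?_)⟩
  obtain ⟨z, hz, hzx⟩ := Set.not_subset.1 (exists_notMem 𝒜 hgen x.1)
  have hz0 : z ≠ 0 := fun h => hzx (h ▸ zero_mem _)
  refine (globalOf_apply 𝒜 d ⟨p, hpd⟩ x).trans (Eq.trans ?_ (hloc ⟨z, hz⟩ x.1 hzx).symm)
  rw [Localization.mk_eq_mk_iff, Localization.r_iff_exists]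
  exact ⟨1, by simp only [OneMemClass.coe_one, one_mul]; linear_combination hpf ⟨z, hz⟩ hz0⟩

end Groth.L18.TwistGlobal
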