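import Groth.Agent.L18.GrTildeFT

/-!
Non-vanishing locus of a degree-`d` element as a section of `O(d)`, inside `D₊(a) ∩ D₊(b)`.
-/

set_option autoImplicit false
universe u

open CategoryTheory AlgebraicGeometry TopologicalSpace Opposite

noncomputable section

namespace Groth.L18.GrT

open Groth.L16.ProjTwist (one_notMem notMem_pow notMem_mul)

variable {R A : Type u} [CommRing R] [CommRing A] [Algebra R A] {𝒜 : ℕ → Submodule R A}
  [GradedAlgebra 𝒜]

theorem notMem_iff_span' (d : ℕ) (f : 𝒜 d) {i j : ℕ} (a : 𝒜 i) (b : 𝒜 j) (hij : i = j + d)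
    (p : ProjectiveSpectrum 𝒜) (ha : a.1 ∉ p.asHomogeneousIdeal) (hb : b.1 ∉ p.asHomogeneousIdeal)
    (g : Twist.twistAt 𝒜 (d : ℤ) p) (hg : (g : Twist.Loc 𝒜 p) = Localization.mk f.1 ⟨1, one_notMem 𝒜 p⟩) :
    f.1 ∉ p.asHomogeneousIdeal ↔ Submodule.span (Twist.A0 𝒜 p) {g} = ⊤ := by
  rw [Submodule.span_singleton_eq_top_iff]
  constructor
  · intro hf q
    suffices h : ∃ c : Twist.A0 𝒜 p, ((c • g : Twist.twistAt 𝒜 (d : ℤ) p) : Twist.Loc 𝒜 p) = q from
      h.imp fun c hc => Subtype.ext hc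
    obtain ⟨c, hc⟩ := Groth.L16.ProjTwist.exists_val_eq f (⟨1, SetLike.GradedOne.one_mem⟩ : 𝒜 0)
      (by simp) p hf q.1 q.2
    refine ⟨c, ?_⟩
    rw [Twist.coe_smul_val, hc, hg, mul_assoc,
      Groth.L16.ProjTwist.mk_mul_mk_swap f (⟨1, SetLike.GradedOne.one_mem⟩ : 𝒜 0) p hf (one_notMem 𝒜 p), mul_one]
  · intro hspan hf
    obtain ⟨c, hc⟩ := hspan ⟨Localization.mk a.1 ⟨b.1, hb⟩, Submodule.subset_span
      ⟨i, j, a, b, hb, by subst hij; push_cast; ring, rfl⟩⟩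
    obtain ⟨⟨k, r, s, hs⟩, rfl⟩ := c.mk_surjective
    have h1 := congrArg Subtype.val hc
    rw [Twist.coe_smul_val, HomogeneousLocalization.val_mk, hg, Localization.mk_mul] at h1
    rw [Localization.mk_eq_mk_iff, Localization.r_iff_exists] at h1
    obtain ⟨w, hw⟩ := h1
    simp only [Submonoid.coe_mul, mul_one] at hw
    have hmem : (w : A) * (b.1 * (r.1 * f.1)) ∈ p.asHomogeneousIdeal.toIdeal :=
      Ideal.mul_mem_left _ _ (Ideal.mul_mem_left _ _ (Ideal.mul_mem_left _ _ hf))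
    rw [hw] at hmem
    exact notMem_mul 𝒜 w.2 (notMem_mul 𝒜 hs ha) hmem

end Groth.L18.GrT
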