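import Mathlib.RingTheory.GradedAlgebra.Basic
import Mathlib.RingTheory.FiniteType
import Mathlib.Algebra.Algebra.Operations
import Mathlib.Algebra.BigOperators.Finsupp.Basic

/-!
A finitely generated graded ring has a Veronese subring generated in degree one.
-/

set_option autoImplicit false

noncomputable section

universe u

namespace Groth.L18.VeroneseGen

variable {A : Type u} [CommRing A] (𝒜 : ℕ → AddSubgroup A) [GradedRing 𝒜]

/-- The pieces as `ℤ`-submodules. -/
abbrev P (n : ℕ) : Submodule ℤ A := AddSubgroup.toIntSubmodule (𝒜 n)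

theorem mem_P {n : ℕ} {a : A} : a ∈ P 𝒜 n ↔ a ∈ 𝒜 n := Iff.rfl

theorem P_pow_le (d : ℕ) : ∀ n : ℕ, 0 < n → P 𝒜 d ^ n ≤ P 𝒜 (n * d)
  | 1, _ => by rw [pow_one, one_mul]
  | n + 2, _ => by
    rw [pow_succ, show (n + 2) * d = (n + 1) * d + d by ring]
    exact Submodule.mul_le.2 fun a ha b hb => SetLike.mul_mem_graded (A := 𝒜) (P_pow_le d (n + 1) n.succ_pos ha) hb

variable {r : ℕ} (x : Fin r → A) (e : Fin r → ℕ)

/-- A monomial in the generators. -/
def mon (α : Fin r → ℕ) : A := ∏ i, x i ^ α i

/-- Its degree. -/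
def wt (α : Fin r → ℕ) : ℕ := ∑ i, α i * e i

variable {𝒜 x e} (hx : ∀ i, x i ∈ 𝒜 (e i))

include hx in
theorem mon_mem (α : Fin r → ℕ) : mon x α ∈ 𝒜 (wt e α) := by
  refine SetLike.prod_mem_graded (A := 𝒜) (fun i => α i * e i) (fun i => x i ^ α i) fun i _ => ?_
  simpa using SetLike.pow_mem_graded (α i) (hx i)

theorem mon_add (α β : Fin r → ℕ) : mon x (α + β) = mon x α * mon x β := by
  simp [mon, pow_add, Finset.prod_mul_distrib]

theorem wt_add (α β : Fin r → ℕ) : wt e (α + β) = wt e α + wt e β := by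
  simp [wt, add_mul, Finset.sum_add_distrib]

variable (hgen : Subring.closure ((𝒜 0 : Set A) ∪ Set.range x) = ⊤)

include hx hgen in
/-- Each piece is spanned over degree zero by the monomials of its degree. -/
theorem piece_le (n : ℕ) : P 𝒜 n ≤ P 𝒜 0 * Submodule.span ℤ (mon x '' {α | wt e α = n}) := by
  classical
  let T : Submodule ℤ A := Submodule.span ℤ {a | ∃ c ∈ 𝒜 0, ∃ α, a = c * mon x α}
  have hone : (1 : A) ∈ T := Submodule.subset_span ⟨1, SetLike.one_mem_graded 𝒜, 0, by simp [mon]⟩
  have hmul : ∀ a ∈ T, ∀ b ∈ T, a * b ∈ T := by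
    intro a ha b hb
    induction ha using Submodule.span_induction with
    | mem a ha =>
      induction hb using Submodule.span_induction with
      | mem b hb =>
        obtain ⟨c, hc, α, rfl⟩ := ha
        obtain ⟨c', hc', β, rfl⟩ := hb
        refine Submodule.subset_span ⟨c * c', by simpa using SetLike.mul_mem_graded hc hc', α + β, ?_⟩
        rw [mon_add]; ring
      | zero => simp
      | add y z _ _ hy hz => rw [mul_add]; exact T.add_mem hy hz
      | smul k y _ hy => rw [mul_smul_comm]; exact T.smul_mem k hy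
    | zero => simp
    | add y z _ _ hy hz => rw [add_mul]; exact T.add_mem hy hz
    | smul k y _ hy => rw [smul_mul_assoc]; exact T.smul_mem k hy
  let S : Subring A :=
    { carrier := T
      one_mem' := hone
      mul_mem' := fun ha hb => hmul _ ha _ hb
      zero_mem' := T.zero_mem
      add_mem' := T.add_mem
      neg_mem' := T.neg_mem }
  have htop : ∀ a : A, a ∈ T := by
    intro a
    have h1 : Subring.closure ((𝒜 0 : Set A) ∪ Set.range x) ≤ S := by
      refine Subring.closure_le.2 (Set.union_subset (fun c hc => ?_) ?_)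
      · exact Submodule.subset_span ⟨c, hc, 0, by simp [mon]⟩
      · rintro _ ⟨i, rfl⟩
        refine Submodule.subset_span ⟨1, SetLike.one_mem_graded 𝒜, Pi.single i 1, ?_⟩
        rw [one_mul, mon, Finset.prod_eq_single i]
        · simp
        · intro j _ hj; simp [Pi.single_eq_of_ne hj]
        · simp
    exact h1 (hgen ▸ Subring.mem_top a)
  intro a ha
  have hproj : ∀ b ∈ T, GradedRing.proj 𝒜 n b ∈ P 𝒜 0 * Submodule.span ℤ (mon x '' {α | wt e α = n}) := by
    intro b hb
    induction hb using Submodule.span_induction with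
    | mem b hb =>
      obtain ⟨c, hc, α, rfl⟩ := hb
      have hm : c * mon x α ∈ 𝒜 (wt e α) := by simpa using SetLike.mul_mem_graded hc (mon_mem hx α)
      rw [GradedRing.proj_apply]
      by_cases h : wt e α = n
      · rw [DirectSum.decompose_of_mem_same 𝒜 (h ▸ hm)]
        exact Submodule.mul_mem_mul hc (Submodule.subset_span ⟨α, h, rfl⟩)
      · rw [DirectSum.decompose_of_mem_ne 𝒜 hm h]
        exact Submodule.zero_mem _
    | zero => rw [map_zero]; exact Submodule.zero_mem _
    | add y z _ _ hy hz => rw [map_add]; exact Submodule.add_mem _ hy hz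
    | smul k y _ hy => rw [map_zsmul]; exact Submodule.smul_mem _ k hy
  have := hproj a (htop a)
  rwa [GradedRing.proj_apply, DirectSum.decompose_of_mem_same 𝒜 ha] at this

theorem exists_le_of_big {q : ℕ} (hq : 0 < q) {w : Fin r → ℕ} (hw : ∀ i, w i * e i = q) (hr : 0 < r)
    (α : Fin r → ℕ) (hα : r * q ≤ wt e α) : ∃ i, w i ≤ α i := by
  haveI : Nonempty (Fin r) := ⟨⟨0, hr⟩⟩
  by_contra hcon
  push Not at hcon
  have hlt : ∀ i, α i * e i < q := fun i => by
    have h1 : (α i + 1) * e i ≤ q := (hw i).symm ▸ Nat.mul_le_mul_right _ (hcon i)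
    rcases Nat.eq_zero_or_pos (e i) with h | h
    · rw [h, mul_zero]; exact hq
    · rw [add_mul, one_mul] at h1; omega
  have : wt e α < ∑ _i : Fin r, q := Finset.sum_lt_sum_of_nonempty Finset.univ_nonempty fun i _ => hlt i
  simp at this
  omega

include hx in
/-- Monomials of degree `n * (r * q)` are products of `n` elements of degree `r * q`. -/
theorem mon_mem_pow {q : ℕ} (hq : 0 < q) {w : Fin r → ℕ} (hw : ∀ i, w i * e i = q) (hr : 0 < r) :
    ∀ n : ℕ, 0 < n → ∀ α, wt e α = n * (r * q) → mon x α ∈ P 𝒜 (r * q) ^ n := by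
  classical
  have peel : ∀ (j : ℕ) (α : Fin r → ℕ), r * q + j * q ≤ wt e α + q →
      ∃ β γ, α = β + γ ∧ wt e β = j * q := by
    intro j
    induction j with
    | zero => exact fun α _ => ⟨0, α, by simp, by simp [wt]⟩
    | succ j ih =>
      intro α hα
      have hα' : r * q + j * q ≤ wt e α := by rw [add_mul, one_mul] at hα; omega
      obtain ⟨β, γ, rfl, hβ⟩ := ih α (hα'.trans (Nat.le_add_right _ _))
      obtain ⟨i, hi⟩ := exists_le_of_big hq hw hr γ (by rw [wt_add, hβ] at hα'; omega)
      refine ⟨β + Pi.single i (w i), γ - Pi.single i (w i), ?_, ?_⟩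
      · funext k
        by_cases hk : k = i
        · subst hk
          simp only [Pi.add_apply, Pi.sub_apply, Pi.single_eq_same]
          omega
        · simp [Pi.single_eq_of_ne hk]
      · have hsingle : wt e (Pi.single i (w i)) = q := by
          rw [wt, Finset.sum_eq_single i]
          · rw [Pi.single_eq_same, hw]
          · intro k _ hk; simp [Pi.single_eq_of_ne hk]
          · simp
        rw [wt_add, hβ, hsingle, add_mul, one_mul]
  intro n hn
  induction n, hn using Nat.le_induction with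
  | base =>
    intro α hα
    rw [pow_one, mem_P]
    have := mon_mem hx α
    rw [hα] at this
    simpa using this
  | succ n hn ih =>
    intro α hα
    obtain ⟨β, γ, rfl, hβ⟩ := peel r α (by
      rw [hα, add_mul, one_mul]
      have : r * q ≤ n * (r * q) := Nat.le_mul_of_pos_left _ hn
      omega)
    rw [wt_add, hβ, add_mul, one_mul] at hα
    rw [pow_succ, mon_add, mul_comm (mon x β)]
    refine Submodule.mul_mem_mul (ih γ (by omega)) ?_
    rw [mem_P, ← hβ]
    exact mon_mem hx β

include hx hgen in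
theorem exists_deg (he : ∀ i, 0 < e i) :
    ∃ d : ℕ, 0 < d ∧ ∀ m : ℕ, 0 < m → (∀ n : ℕ, 0 < n → P 𝒜 (n * (m * d)) = P 𝒜 (m * d) ^ n) ∧
      ∃ T : Finset A, (T : Set A) ⊆ (𝒜 (m * d) : Set A) ∧ P 𝒜 (m * d) = P 𝒜 0 * Submodule.span ℤ (T : Set A) := by
  classical
  obtain ⟨d, hd, hpow⟩ : ∃ d : ℕ, 0 < d ∧ ∀ n : ℕ, 0 < n → P 𝒜 (n * d) = P 𝒜 d ^ n := by
    rcases Nat.eq_zero_or_pos r with hr | hr
    · refine ⟨1, one_pos, fun n hn => le_antisymm ?_ (P_pow_le 𝒜 1 n hn)⟩
      refine (piece_le hx hgen (n * 1)).trans ?_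
      have : {α : Fin r → ℕ | wt e α = n * 1} = ∅ := by
        subst hr
        ext α
        simp [wt]
        omega
      rw [this]
      simp
    · let q := ∏ i, e i
      have hq : 0 < q := Finset.prod_pos fun i _ => he i
      let w : Fin r → ℕ := fun i => ∏ k ∈ Finset.univ.erase i, e k
      have hw : ∀ i, w i * e i = q := fun i => Finset.prod_erase_mul _ _ (Finset.mem_univ i)
      refine ⟨r * q, Nat.mul_pos hr hq, fun n hn => le_antisymm ?_ (P_pow_le 𝒜 _ n hn)⟩
      refine (piece_le hx hgen _).trans (Submodule.mul_le.2 fun c hc b hb => ?_)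
      have hb' : b ∈ P 𝒜 (r * q) ^ n := by
        refine (Submodule.span_le.2 ?_) hb
        rintro _ ⟨α, hα, rfl⟩
        exact mon_mem_pow hx hq hw hr n hn α hα
      obtain ⟨n, rfl⟩ : ∃ k, n = k + 1 := ⟨n - 1, by omega⟩
      rw [pow_succ'] at hb' ⊢
      refine Submodule.mul_induction_on hb' (fun u hu v hv => ?_) (fun u v hu hv => ?_)
      · rw [← mul_assoc]
        refine Submodule.mul_mem_mul ?_ hv
        have := SetLike.mul_mem_graded (A := 𝒜) hc hu
        rwa [zero_add] at this
      · rw [mul_add]; exact Submodule.add_mem _ hu hv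
  refine ⟨d, hd, fun m hm => ⟨fun n hn => ?_, ?_⟩⟩
  · rw [← mul_assoc, hpow (n * m) (Nat.mul_pos hn hm), hpow m hm, ← pow_mul, mul_comm n m]
  · have hfin : {α : Fin r → ℕ | wt e α = m * d}.Finite := by
      refine ((Set.Finite.pi (fun _ : Fin r => Set.finite_Iic (m * d))).subset fun α hα i _ => ?_)
      show α i ≤ m * d
      rw [← hα]
      exact (Nat.le_mul_of_pos_right _ (he i)).trans (Finset.single_le_sum (f := fun k => α k * e k)
        (fun k _ => Nat.zero_le _) (Finset.mem_univ i))
    refine ⟨(hfin.image (mon x)).toFinset, ?_, ?_⟩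
    · rw [Set.Finite.coe_toFinset]
      rintro _ ⟨α, hα, rfl⟩
      exact (show wt e α = m * d from hα) ▸ mon_mem hx α
    · rw [Set.Finite.coe_toFinset]
      refine le_antisymm (piece_le hx hgen _) (Submodule.mul_le.2 fun c hc b hb => ?_)
      have hb' : b ∈ P 𝒜 (m * d) := by
        refine (Submodule.span_le.2 ?_) hb
        rintro _ ⟨α, hα, rfl⟩
        exact (show wt e α = m * d from hα) ▸ mon_mem hx α
      have := SetLike.mul_mem_graded (A := 𝒜) hc hb'
      rwa [zero_add] at this

end Groth.L18.VeroneseGen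

namespace Groth.L18.VeroneseGen

/-- Homogeneous generators of positive degree from finitely many generators over degree zero. -/
theorem exists_generators {R A : Type u} [CommRing R] [CommRing A] (𝒜 : ℕ → AddSubgroup A) [GradedRing 𝒜]
    (f : R →+* A) (hf : f.FiniteType) (h0 : ∀ r, f r ∈ 𝒜 0) :
    ∃ (r : ℕ) (x : Fin r → A) (e : Fin r → ℕ), (∀ i, 0 < e i) ∧ (∀ i, x i ∈ 𝒜 (e i)) ∧
      Subring.closure ((𝒜 0 : Set A) ∪ Set.range x) = ⊤ := by
  classical
  letI := f.toAlgebra
  obtain ⟨G, hG⟩ := (show Algebra.FiniteType R A from hf).out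
  let I : Finset (Σ _ : A, ℕ) := G.sigma fun g => (DirectSum.decompose 𝒜 g).support.filter (0 < ·)
  let ε := I.equivFin
  let x : Fin I.card → A := fun i => DirectSum.decompose 𝒜 (ε.symm i).1.1 (ε.symm i).1.2
  refine ⟨I.card, x, fun i => (ε.symm i).1.2, fun i => ?_, fun i => SetLike.coe_mem _, ?_⟩
  · exact (Finset.mem_filter.1 (Finset.mem_sigma.1 (ε.symm i).2).2).2
  refine eq_top_iff.2 fun a hat => ?_
  clear hat
  have ha : a ∈ Algebra.adjoin R (G : Set A) := hG.symm ▸ Algebra.mem_top
  induction ha using Algebra.adjoin_induction with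
  | mem g hg =>
    rw [← DirectSum.sum_support_decompose 𝒜 g]
    refine Subring.sum_mem _ fun n hn => ?_
    rcases Nat.eq_zero_or_pos n with rfl | hn0
    · exact Subring.subset_closure (Or.inl (SetLike.coe_mem _))
    · have hmem : (⟨g, n⟩ : Σ _ : A, ℕ) ∈ I :=
        Finset.mem_sigma.2 ⟨hg, Finset.mem_filter.2 ⟨hn, hn0⟩⟩
      refine Subring.subset_closure (Or.inr ⟨ε ⟨_, hmem⟩, ?_⟩)
      show ((DirectSum.decompose 𝒜 (ε.symm (ε ⟨_, hmem⟩)).1.1 (ε.symm (ε ⟨_, hmem⟩)).1.2 : A)) = _
      rw [Equiv.symm_apply_apply]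
  | algebraMap r => exact Subring.subset_closure (Or.inl (h0 r))
  | add a b _ _ ha hb => exact Subring.add_mem _ ha hb
  | mul a b _ _ ha hb => exact Subring.mul_mem _ ha hb

end Groth.L18.VeroneseGen
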