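import Groth.Agent.L18.ProjAlg.TwistAmple
import Groth.Agent.L18.VeroneseGen

/-!
# `O(d)` is relatively ample on `Proj` of a graded algebra of finite type, for `d` divisible enough
-/

set_option autoImplicit false

noncomputable section

universe u

open CategoryTheory CategoryTheory.Limits AlgebraicGeometry TopologicalSpace Opposite
open Groth.L18.Frame (rs rs_rs rs_self IsFrame)
open Groth.L18.Ample (isAmple_of_iso isAmple_pullback_congr)

namespace Groth.L18.TwistPow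

variable {A σ : Type u} [CommRing A] [SetLike σ A] [AddSubgroupClass σ A] (𝒜 : ℕ → σ) [GradedRing 𝒜] {d : ℕ}

/-- The section `t / 1` of `O(d)`. -/
def gsec (t : 𝒜 d) : Γ(GrTwist.twist 𝒜 (d : ℤ), ⊤) :=
  GrM.genT t (TwistAmp.one0 𝒜) (n := (d : ℤ)) (by simp) ⊤ (TwistAmp.one0_notMem 𝒜)

/-- The morphism `O ⟶ O(d)` given by `t`. -/
def gmap (t : 𝒜 d) : Coh.structureModule (Proj 𝒜) ⟶ GrTwist.twist 𝒜 (d : ℤ) :=
  Groth.L16.homOfSection _ (gsec 𝒜 t)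

theorem rs_gsec (t : 𝒜 d) (W : (Proj 𝒜).Opens) :
    rs (GrTwist.twist 𝒜 (d : ℤ)) le_top (gsec 𝒜 t) =
      GrM.genT t (TwistAmp.one0 𝒜) (n := (d : ℤ)) (by simp) W (TwistAmp.one0_notMem 𝒜) := rfl

theorem isFrame_gsec (t : 𝒜 d) (W : (Proj 𝒜).Opens) (hW : W ≤ Proj.basicOpen 𝒜 t.1) :
    IsFrame (GrTwist.twist 𝒜 (d : ℤ)) W (rs (GrTwist.twist 𝒜 (d : ℤ)) le_top (gsec 𝒜 t)) := by
  rw [rs_gsec 𝒜 t W]
  exact GrM.isFrame_genT t (TwistAmp.one0 𝒜) _ W (fun x => (Proj.mem_basicOpen _ _ _).1 (hW x.2)) (TwistAmp.one0_notMem 𝒜)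

theorem genLocus_gmap (hcov : ∀ x : Proj 𝒜, ∃ g : 𝒜 d, x ∈ Proj.basicOpen 𝒜 g.1) (t : 𝒜 d) :
    CohB1.genLocus _ (gmap 𝒜 t) = Proj.basicOpen 𝒜 t.1 := by
  have hsec : GenLoc.secOf (gmap 𝒜 t) = gsec 𝒜 t := GenLoc.secOf_homOfSection _
  refine le_antisymm (fun x hx => ?_) (GenLoc.le_genLocus _ (by rw [hsec]; exact isFrame_gsec 𝒜 t _ le_rfl))
  obtain ⟨g, hg⟩ := hcov x
  let W : (Proj 𝒜).Opens := CohB1.genLocus _ (gmap 𝒜 t) ⊓ Proj.basicOpen 𝒜 g.1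
  have hxW : x ∈ W := ⟨hx, hg⟩
  have hsW : IsFrame (GrTwist.twist 𝒜 (d : ℤ)) W (rs (GrTwist.twist 𝒜 (d : ℤ)) le_top (gsec 𝒜 t)) := by
    have := (GenLoc.isFrame_genLocus (gmap 𝒜 t)).mono (inf_le_left : W ≤ _)
    rwa [rs_rs, hsec] at this
  obtain ⟨c, hc⟩ := hsW.exists_coeff le_rfl (rs (GrTwist.twist 𝒜 (d : ℤ)) le_top (gsec 𝒜 g))
  rw [rs_self] at hc
  let c' : GrTwist.O (𝒜 := 𝒜) (op W) := c
  have h1 : (c'.1 ⟨x, hxW⟩).val * (Localization.mk t.1 1 : GrTwist.Loc 𝒜 x) = Localization.mk g.1 1 := by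
    have h := congrArg (fun s : GrTwist.sectN (𝒜 := 𝒜) (d : ℤ) (op W) =>
      ((s.1 ⟨x, hxW⟩ : GrTwist.twistAt 𝒜 (d : ℤ) x) : GrTwist.Loc 𝒜 x)) hc
    exact Eq.trans (GrTwist.coe_smul_val (d : ℤ) x (c'.1 ⟨x, hxW⟩)
      ((GrM.genT t (TwistAmp.one0 𝒜) (n := (d : ℤ)) (by simp) W (TwistAmp.one0_notMem 𝒜)).1 ⟨x, hxW⟩)).symm h
  obtain ⟨num, hnum⟩ := HomogeneousLocalization.mk_surjective (c'.1 ⟨x, hxW⟩)
  rw [← hnum, HomogeneousLocalization.val_mk, Localization.mk_mul, Localization.mk_eq_mk_iff,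
    Localization.r_iff_exists] at h1
  obtain ⟨w, hw⟩ := h1
  refine (Proj.mem_basicOpen _ _ _).2 fun htx => ?_
  simp only [OneMemClass.coe_one, mul_one, one_mul] at hw
  have hmem : w.1 * (num.den.1 * g.1) ∈ (x : ProjectiveSpectrum 𝒜).asHomogeneousIdeal.toIdeal := by
    rw [← hw]
    exact Ideal.mul_mem_left _ _ (Ideal.mul_mem_left _ _ htx)
  exact ((x : ProjectiveSpectrum 𝒜).isPrime.mem_or_mem hmem).elim w.2 fun h' =>
    ((x : ProjectiveSpectrum 𝒜).isPrime.mem_or_mem h').elim num.den_mem ((Proj.mem_basicOpen _ _ _).1 hg)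

variable (hd : 0 < d) (T : Finset A) (hT : ∀ t ∈ T, t ∈ 𝒜 d)
  (hmem : ∀ x : Proj 𝒜, ∃ t : T, x ∈ Proj.basicOpen 𝒜 t.1)

include hd hT hmem in
theorem compactSpace_proj : CompactSpace (Proj 𝒜) := by
  refine ⟨?_⟩
  rw [show (Set.univ : Set (Proj 𝒜)) = ⋃ t : T, (Proj.basicOpen 𝒜 t.1 : Set (Proj 𝒜)) by
    ext x; simpa using hmem x]
  exact isCompact_iUnion fun t => (Proj.isAffineOpen_basicOpen 𝒜 _ (hT t.1 t.2) hd).isCompact

include hd hT hmem in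
/-- `O(d)` is ample when finitely many elements of degree `d` have no common zero. -/
theorem isAmple_twist : CohB1.IsAmple (GrTwist.twist 𝒜 (d : ℤ)) := by
  have hcov : ∀ x : Proj 𝒜, ∃ g : 𝒜 d, x ∈ Proj.basicOpen 𝒜 g.1 := fun x =>
    (hmem x).elim fun t ht => ⟨⟨t.1, hT t.1 t.2⟩, ht⟩
  refine ⟨GenLoc.isInvertible_of_frames fun x => ?_, compactSpace_proj 𝒜 hd T hT hmem, fun x => ?_⟩
  · obtain ⟨t, ht⟩ := hmem x
    exact ⟨_, _, ht, isFrame_gsec 𝒜 ⟨t.1, hT t.1 t.2⟩ _ le_rfl⟩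
  · obtain ⟨t, ht⟩ := hmem x
    refine ⟨0, gmap 𝒜 ⟨t.1, hT t.1 t.2⟩ ≫ (Groth.L00.Tensor.tensorUnitLeft (GrTwist.twist 𝒜 (d : ℤ))).inv, ?_⟩
    have e : CohB1.genLocus (CohB1.tensorPow (GrTwist.twist 𝒜 (d : ℤ)) (0 + 1))
        (gmap 𝒜 ⟨t.1, hT t.1 t.2⟩ ≫ (Groth.L00.Tensor.tensorUnitLeft (GrTwist.twist 𝒜 (d : ℤ))).inv) =
          Proj.basicOpen 𝒜 t.1 :=
      (Groth.L16.genLocus_comp_iso _ (Groth.L00.Tensor.tensorUnitLeft (GrTwist.twist 𝒜 (d : ℤ))).symm).trans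
        (genLocus_gmap 𝒜 hcov _)
    rw [e]
    exact ⟨ht, Proj.isAffineOpen_basicOpen 𝒜 _ (hT t.1 t.2) hd⟩

end Groth.L18.TwistPow

namespace Groth.L18.TwistPow

/-- Some homogeneous generator is nonzero at every point. -/
theorem exists_notMem {A : Type u} [CommRing A] (𝒜 : ℕ → AddSubgroup A) [GradedRing 𝒜] {r : ℕ} (x : Fin r → A)
    (e : Fin r → ℕ) (he : ∀ i, 0 < e i) (hx : ∀ i, x i ∈ 𝒜 (e i))
    (hgen : Subring.closure ((𝒜 0 : Set A) ∪ Set.range x) = ⊤) (y : ProjectiveSpectrum 𝒜) :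
    ∃ i, x i ∉ y.asHomogeneousIdeal := by
  by_contra hc
  push Not at hc
  refine y.not_irrelevant_le fun a ha => ?_
  let I := y.asHomogeneousIdeal.toIdeal
  have key : ∀ b ∈ Subring.closure ((𝒜 0 : Set A) ∪ Set.range x), b - GradedRing.projZeroRingHom 𝒜 b ∈ I := by
    intro b hb
    induction hb using Subring.closure_induction with
    | mem b hb =>
      rcases hb with hb | ⟨i, rfl⟩
      · rw [GradedRing.projZeroRingHom_apply, DirectSum.decompose_of_mem_same 𝒜 hb, sub_self]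
        exact zero_mem _
      · rw [GradedRing.projZeroRingHom_apply, DirectSum.decompose_of_mem_ne 𝒜 (hx i) (he i).ne', sub_zero]
        exact hc i
    | zero => simp
    | one => rw [map_one, sub_self]; exact zero_mem _
    | add p q _ _ hp hq => rw [map_add, add_sub_add_comm]; exact add_mem hp hq
    | neg p _ hp => rw [map_neg, ← neg_sub']; exact neg_mem hp
    | mul p q _ _ hp hq =>
      rw [map_mul, show p * q - GradedRing.projZeroRingHom 𝒜 p * GradedRing.projZeroRingHom 𝒜 q =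
        (p - GradedRing.projZeroRingHom 𝒜 p) * q + GradedRing.projZeroRingHom 𝒜 p * (q - GradedRing.projZeroRingHom 𝒜 q)
        by ring]
      exact add_mem (I.mul_mem_right _ hp) (I.mul_mem_left _ hq)
  have h := key a (hgen ▸ Subring.mem_top a)
  rwa [GradedRing.projZeroRingHom_apply,
    show ((DirectSum.decompose 𝒜 a 0 : 𝒜 0) : A) = 0 from (HomogeneousIdeal.mem_irrelevant_iff _ _).1 ha,
    sub_zero] at h

section Rel

variable {S P : Scheme.{u}} {𝒮 : RelProj.QCGrAlg S} {p : P ⟶ S}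
  {chart : ∀ (U : S.Opens) (hU : IsAffineOpen U), (((p ⁻¹ᵁ U : P.Opens) : Scheme.{u}) ≅ Proj (𝒮.deg U hU))}

theorem exists_isRelAmple [CompactSpace S]
    (hft : ∀ (U : S.Opens), IsAffineOpen U → (𝒮.str.app (op U)).hom.FiniteType)
    (hP : RelProj.IsRelProj 𝒮 p chart) :
    ∃ d : ℕ, 0 < d ∧ ∀ (L : P.Modules) (lam : ∀ (U : S.Opens) (hU : IsAffineOpen U),
      L ⟶ (Scheme.Modules.pushforward (RelProj.emb p chart U hU)).obj (GrTwist.twist (𝒮.deg U hU) (d : ℤ))),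
      RelProj.IsRelTwist 𝒮 p chart (d : ℤ) L lam → PicF.IsInvertible L ∧ RelAmple.IsRelAmple p L := by
  classical
  choose r x e he hx hgen using fun U : S.affineOpens =>
    Groth.L18.VeroneseGen.exists_generators (𝒮.deg U.1 U.2) (𝒮.str.app (op U.1)).hom (hft U.1 U.2)
      (fun a => 𝒮.str_mem U.1 U.2 a)
  have hq : ∀ U, 0 < ∏ i, e U i := fun U => Finset.prod_pos fun i _ => he U i
  -- the generators, raised to degree `d`
  let T : ∀ (_ : S.affineOpens) (_ : ℕ), Finset _ := fun U d =>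
    (Finset.univ : Finset (Fin (r U))).image fun i => x U i ^ (d / e U i)
  have hT : ∀ U d, (∀ i, e U i ∣ d) → ∀ t ∈ T U d, t ∈ 𝒮.deg U.1 U.2 d := by
    intro U d hdvd t ht
    obtain ⟨i, -, rfl⟩ := Finset.mem_image.1 ht
    have := SetLike.pow_mem_graded (d / e U i) (hx U i)
    rwa [smul_eq_mul, Nat.div_mul_cancel (hdvd i)] at this
  have hmem : ∀ U d, ∀ y : Proj (𝒮.deg U.1 U.2), ∃ t : T U d, y ∈ Proj.basicOpen (𝒮.deg U.1 U.2) t.1 := by
    intro U d y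
    obtain ⟨i, hi⟩ := exists_notMem _ (x U) (e U) (he U) (hx U) (hgen U) y
    exact ⟨⟨_, Finset.mem_image.2 ⟨i, Finset.mem_univ _, rfl⟩⟩,
      (Proj.mem_basicOpen _ _ _).2 (GrM.notMem_pow hi _)⟩
  haveI : QuasiCompact p := by
    refine RP.property_of_local hP @QuasiCompact fun U hU => ?_
    haveI : CompactSpace (Proj (𝒮.deg U hU)) := compactSpace_proj _ (hq ⟨U, hU⟩) (T ⟨U, hU⟩ _)
      (hT ⟨U, hU⟩ _ fun i => Finset.dvd_prod_of_mem _ (Finset.mem_univ i)) (hmem ⟨U, hU⟩ _)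
    haveI : QuasiCompact (RP.projπ 𝒮 U hU) := (HasAffineProperty.iff_of_isAffine (P := @QuasiCompact)).mpr inferInstance
    unfold RP.projBase
    infer_instance
  obtain ⟨s, hs⟩ := isCompact_univ.elim_finite_subcover (fun U : S.affineOpens => (U.1 : Set S))
    (fun U => U.1.2) (fun y _ => Set.mem_iUnion.2 (by
      obtain ⟨V, hV, hy, -⟩ := Groth.L18.Ample.exists_affine_le (Opens.mem_top y)
      exact ⟨⟨V, hV⟩, hy⟩))
  refine ⟨∏ U ∈ s, ∏ i, e U i, Finset.prod_pos fun U _ => hq U, fun L lam hL => ?_⟩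
  have hamp : ∀ U ∈ s, CohB1.IsAmple (L.restrict (p ⁻¹ᵁ U.1).ι) := by
    intro U hU
    have hdvd : ∀ i, e U i ∣ ∏ U ∈ s, ∏ i, e U i := fun i =>
      (Finset.dvd_prod_of_mem _ (Finset.mem_univ i)).trans
        (Finset.dvd_prod_of_mem (fun U => ∏ i, e U i) hU)
    have h0 := isAmple_twist (𝒮.deg U.1 U.2) (Finset.prod_pos fun U _ => hq U) (T U _) (hT U _ hdvd) (hmem U _)
    have e' : (Scheme.Modules.pullback (RelProj.emb p chart U.1 U.2)).obj L ≅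
        GrTwist.twist (𝒮.deg U.1 U.2) ((∏ U ∈ s, ∏ i, e U i : ℕ) : ℤ) :=
      ((Scheme.Modules.restrictFunctorIsoPullback _).app L).symm ≪≫
        RelTilde.Data.resIso (RelTilde.isRel_of_isRelTwist hL) U.1 U.2
    have h2 := (isAmple_pullback_congr (chart U.1 U.2) (RelProj.emb p chart U.1 U.2) (p ⁻¹ᵁ U.1).ι
      (by simp [RelProj.emb])).2 (isAmple_of_iso e'.symm h0)
    exact isAmple_of_iso ((Scheme.Modules.restrictFunctorIsoPullback _).app L).symm h2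
  refine ⟨Groth.L18.Ample.isInvertible_of_cover fun z => ?_, Groth.L18.Ample.isRelAmple_of_local p fun y => ?_⟩
  · obtain ⟨U, hU, hz⟩ := Set.mem_iUnion₂.1 (hs (Set.mem_univ (p z)))
    exact ⟨p ⁻¹ᵁ U.1, hz, (hamp U hU).1⟩
  · obtain ⟨U, hU, hy⟩ := Set.mem_iUnion₂.1 (hs (Set.mem_univ y))
    exact ⟨U.1, U.2, hy, hamp U hU⟩

end Rel

end Groth.L18.TwistPow
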