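import Mathlib.AlgebraicGeometry.ValuativeCriterion
import Mathlib.AlgebraicGeometry.Noetherian
import Mathlib.AlgebraicGeometry.ResidueField
import Groth.Agent.L18.DominatingDVR

/-!
Valuative criteria with valuation rings inside residue fields, and their reduction to discrete valuation
rings over a locally Noetherian base.
-/

noncomputable section

namespace Groth.L18

open CategoryTheory AlgebraicGeometry Limits IsLocalRing

universe u

variable {X Y : Scheme.{u}}

/-- A morphism from an affine scheme landing in an affine open comes from a ring map. -/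
theorem exists_eq_SpecMap_fromSpec {W : Y.Opens} (hW : IsAffineOpen W) {R : CommRingCat.{u}}
    (g : Spec R ⟶ Y) (hg : Set.range g ⊆ W) : ∃ φ : Γ(Y, W) ⟶ R, g = Spec.map φ ≫ hW.fromSpec := by
  refine ⟨Spec.preimage (IsOpenImmersion.lift hW.fromSpec g (hg.trans hW.range_fromSpec.ge)), ?_⟩
  rw [Spec.map_preimage, IsOpenImmersion.lift_fac]

theorem range_subset_of_closedPoint_mem {R : Type u} [CommRing R] [IsLocalRing R]
    (g : Spec (CommRingCat.of R) ⟶ Y) {W : Y.Opens} (hW : g (closedPoint R) ∈ W) :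
    Set.range g ⊆ W := by
  rintro _ ⟨p, rfl⟩
  exact ((specializes_closedPoint p).map g.continuous).mem_open W.2 hW

/-- Two morphisms from the spectrum of a local ring inside a field which map the closed point into
one affine open and agree at the field are equal. -/
theorem ext_of_closedPoint_mem {R K : Type u} [CommRing R] [IsLocalRing R] [CommRing K]
    (ι : R →+* K) (hι : Function.Injective ι) {W : Y.Opens} (hW : IsAffineOpen W)
    (g₁ g₂ : Spec (CommRingCat.of R) ⟶ Y) (h₁ : g₁ (closedPoint R) ∈ W) (h₂ : g₂ (closedPoint R) ∈ W)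
    (h : Spec.map (CommRingCat.ofHom ι) ≫ g₁ = Spec.map (CommRingCat.ofHom ι) ≫ g₂) : g₁ = g₂ := by
  obtain ⟨φ₁, rfl⟩ := exists_eq_SpecMap_fromSpec hW g₁ (range_subset_of_closedPoint_mem g₁ h₁)
  obtain ⟨φ₂, rfl⟩ := exists_eq_SpecMap_fromSpec hW g₂ (range_subset_of_closedPoint_mem g₂ h₂)
  rw [← Spec.map_comp_assoc, ← Spec.map_comp_assoc, cancel_mono] at h
  have h' := Spec.map_injective h
  suffices φ₁ = φ₂ by rw [this]
  ext a
  exact hι congr($h' a)

theorem SpecMap_evaluation_fromSpec {U : X.Opens} (hU : IsAffineOpen U) (x : X) (hx : x ∈ U) :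
    Spec.map (X.evaluation U x hx) ≫ hU.fromSpec = X.fromSpecResidueField x := by
  rw [Scheme.fromSpecResidueField, ← hU.fromSpecStalk_eq_fromSpecStalk hx, IsAffineOpen.fromSpecStalk,
    ← Spec.map_comp_assoc, Scheme.germ_residue]

theorem exists_evaluation_div_eq {U : X.Opens} (hU : IsAffineOpen U) (x : X) (hx : x ∈ U)
    (z : X.residueField x) : ∃ a b : Γ(X, U), (X.evaluation U x hx).hom b ≠ 0 ∧
      z = (X.evaluation U x hx).hom a / (X.evaluation U x hx).hom b := by
  let _ : Algebra Γ(X, U) (X.presheaf.stalk x) := (X.presheaf.germ U x hx).hom.toAlgebra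
  have := hU.isLocalization_stalk ⟨x, hx⟩
  obtain ⟨s, rfl⟩ := X.residue_surjective x z
  obtain ⟨a, b, rfl⟩ := IsLocalization.exists_mk'_eq (hU.primeIdealOf ⟨x, hx⟩).asIdeal.primeCompl s
  have h1 := congrArg (X.residue x).hom (IsLocalization.mk'_spec (X.presheaf.stalk x) a b)
  rw [map_mul] at h1
  have h2 : IsUnit ((X.residue x).hom (algebraMap Γ(X, U) (X.presheaf.stalk x) b)) :=
    (IsLocalization.map_units (X.presheaf.stalk x) b).map _
  exact ⟨a, b, h2.ne_zero, (eq_div_iff h2.ne_zero).mpr h1⟩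

variable (f : X ⟶ Y)

/-- The compatibility of evaluations with a morphism into an affine open. -/
theorem SpecMap_evaluation_eq {x : X} {U : X.Opens} (hU : IsAffineOpen U) (hx : x ∈ U)
    {W : Y.Opens} (hW : IsAffineOpen W) (hUW : U ≤ f ⁻¹ᵁ W) :
    X.fromSpecResidueField x ≫ f =
      Spec.map (f.appLE W U hUW ≫ X.evaluation U x hx) ≫ hW.fromSpec := by
  rw [Spec.map_comp_assoc, IsAffineOpen.SpecMap_appLE_fromSpec f hW hU hUW, ← Category.assoc,
    SpecMap_evaluation_fromSpec]

/-- A valuation ring of the residue field over the base, containing the image of the sections of an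
affine open neighbourhood, gives a lift. -/
theorem exists_lift_of_evaluation_mem {x : X} (V : ValuationSubring (X.residueField x))
    (h : Spec (CommRingCat.of V) ⟶ Y)
    (hh : Spec.map (CommRingCat.ofHom V.subtype) ≫ h = X.fromSpecResidueField x ≫ f)
    {U : X.Opens} (hU : IsAffineOpen U) (hx : x ∈ U) {W : Y.Opens} (hW : IsAffineOpen W)
    (hUW : U ≤ f ⁻¹ᵁ W) (hc : h (closedPoint V) ∈ W)
    (hmem : ∀ a, (X.evaluation U x hx).hom a ∈ V) :
    ∃ l : Spec (CommRingCat.of V) ⟶ X,
      l ≫ f = h ∧ Spec.map (CommRingCat.ofHom V.subtype) ≫ l = X.fromSpecResidueField x := by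
  let φ : Γ(X, U) ⟶ CommRingCat.of V :=
    CommRingCat.ofHom ((X.evaluation U x hx).hom.codRestrict V.toSubring hmem)
  have hl : Spec.map (CommRingCat.ofHom V.subtype) ≫ Spec.map φ ≫ hU.fromSpec =
      X.fromSpecResidueField x := by
    rw [← Spec.map_comp_assoc, ← SpecMap_evaluation_fromSpec hU x hx]
    rfl
  refine ⟨Spec.map φ ≫ hU.fromSpec, ?_, hl⟩
  refine ext_of_closedPoint_mem V.subtype Subtype.val_injective hW _ _ ?_ hc ?_
  · exact hUW (hU.range_fromSpec.le ⟨_, rfl⟩)
  · rw [hh]
    simp only [← Category.assoc] at hl ⊢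
    rw [hl]

/-- Existence of lifts for all valuation rings of the residue fields follows from that for discrete
valuation rings, over a locally Noetherian base. -/
theorem exists_lift_of_dvr [IsLocallyNoetherian Y] [LocallyOfFiniteType f] [QuasiCompact f] {x : X}
    (H : ∀ (R : ValuationSubring (X.residueField x)), IsDiscreteValuationRing R →
      ∀ h : Spec (CommRingCat.of R) ⟶ Y,
        Spec.map (CommRingCat.ofHom R.subtype) ≫ h = X.fromSpecResidueField x ≫ f →
        ∃ l : Spec (CommRingCat.of R) ⟶ X,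
          l ≫ f = h ∧ Spec.map (CommRingCat.ofHom R.subtype) ≫ l = X.fromSpecResidueField x)
    (V : ValuationSubring (X.residueField x)) (h : Spec (CommRingCat.of V) ⟶ Y)
    (hh : Spec.map (CommRingCat.ofHom V.subtype) ≫ h = X.fromSpecResidueField x ≫ f) :
    ∃ l : Spec (CommRingCat.of V) ⟶ X,
      l ≫ f = h ∧ Spec.map (CommRingCat.ofHom V.subtype) ≫ l = X.fromSpecResidueField x := by
  classical
  obtain ⟨_, ⟨W, hW, rfl⟩, hcW, -⟩ := Y.isBasis_affineOpens.exists_subset_of_mem_open
    (Set.mem_univ (h (closedPoint V))) isOpen_univ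
  replace hW : IsAffineOpen W := hW
  obtain ⟨φ, hφ⟩ := exists_eq_SpecMap_fromSpec hW h (range_subset_of_closedPoint_mem h hcW)
  have hxW : f x ∈ W := by
    have := range_subset_of_closedPoint_mem h hcW
      ⟨Spec.map (CommRingCat.ofHom V.subtype) (closedPoint (X.residueField x)), rfl⟩
    erw [← Scheme.Hom.comp_apply, hh, Scheme.Hom.comp_apply,
      Scheme.fromSpecResidueField_apply] at this
    exact this
  obtain ⟨s₀, hs₀, he⟩ := isCompact_and_isOpen_iff_finite_and_eq_biUnion_affineOpens.mp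
    ⟨f.isCompact_preimage hW.isCompact, (f ⁻¹ᵁ W).2⟩
  obtain ⟨s, rfl⟩ := hs₀.exists_finset_coe
  have hle : ∀ U ∈ s, (U : X.Opens) ≤ f ⁻¹ᵁ W := fun U hU y hy =>
    he.ge (Set.mem_iUnion₂.mpr ⟨U, hU, hy⟩)
  by_cases hall : ∃ U ∈ s, ∃ hx : x ∈ (U : X.Opens), ∀ a, (X.evaluation U x hx).hom a ∈ V
  · obtain ⟨U, hU, hx, hmem⟩ := hall
    exact exists_lift_of_evaluation_mem f V h hh U.2 hx hW (hle U hU) hcW hmem
  exfalso
  push Not at hall
  -- one element outside `V` for each affine open through `x`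
  choose! c hc using fun U (hU : U ∈ s) => fun hx : x ∈ (U : X.Opens) => hall U hU hx
  let ev : ∀ (U : X.affineOpens), x ∈ (U : X.Opens) → X.residueField x := fun U hx =>
    (X.evaluation U x hx).hom (c U)
  let ι := {U // U ∈ s ∧ x ∈ (U : X.Opens)}
  have : Finite ι := Finite.of_injective (fun j : ι => (⟨j.1, j.2.1⟩ : {U // U ∈ s}))
    fun i j h => Subtype.ext (congrArg Subtype.val h :)
  let θ : Γ(Y, W) →+* X.residueField x := V.subtype.comp φ.hom
  let _ : Algebra Γ(Y, W) (X.residueField x) := θ.toAlgebra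
  have : IsNoetherianRing Γ(Y, W) := IsLocallyNoetherian.component_noetherian ⟨W, hW⟩
  have hθ : ∀ (U : X.affineOpens) (hU : U ∈ s) (hx : x ∈ (U : X.Opens)) a,
      (X.evaluation U x hx).hom ((f.appLE W U (hle U hU)).hom a) = θ a := by
    intro U hU hx a
    have h1 := SpecMap_evaluation_eq f U.2 hx hW (hle U hU)
    rw [← hh, hφ, ← Spec.map_comp_assoc, cancel_mono] at h1
    exact (congr($(Spec.map_injective h1) a)).symm
  let B : Subalgebra Γ(Y, W) (X.residueField x) :=
    Algebra.adjoin Γ(Y, W) (Set.range fun j : ι => (ev j.1 j.2.2)⁻¹)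
  have hBV : ∀ b : B, (b : X.residueField x) ∈ V := by
    rintro ⟨b, hb⟩
    induction hb using Algebra.adjoin_induction with
    | mem w hw =>
      obtain ⟨j, rfl⟩ := hw
      exact (V.mem_or_inv_mem _).resolve_left (hc j.1 j.2.1 j.2.2)
    | algebraMap a => exact (φ.hom a).2
    | add _ _ _ _ h1 h2 => exact add_mem h1 h2
    | mul _ _ _ _ h1 h2 => exact mul_mem h1 h2
  have : IsNoetherianRing B := by
    have : Algebra.FiniteType Γ(Y, W) B := (Subalgebra.fg_iff_finiteType B).mp
      ⟨(Set.finite_range fun j : ι => (ev j.1 j.2.2)⁻¹).toFinset, by rw [Set.Finite.coe_toFinset]⟩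
    exact Algebra.FiniteType.isNoetherianRing Γ(Y, W) B
  obtain ⟨U₀, hU₀, hx₀⟩ := Set.mem_iUnion₂.mp (he.le (hxW : x ∈ (f ⁻¹ᵁ W : X.Opens).1))
  obtain ⟨t, ht⟩ : ∃ t : Finset Γ(X, (U₀ : X.Opens)),
      Subring.closure (Set.range (f.appLE W U₀ (hle U₀ hU₀)).hom ∪ t) = ⊤ := by
    let _ : Algebra Γ(Y, W) Γ(X, (U₀ : X.Opens)) := (f.appLE W U₀ (hle U₀ hU₀)).hom.toAlgebra
    obtain ⟨t, ht⟩ : (⊤ : Subalgebra Γ(Y, W) Γ(X, (U₀ : X.Opens))).FG :=
      (f.finiteType_appLE hW U₀.2 (hle U₀ hU₀)).1
    refine ⟨t, top_unique fun a _ => ?_⟩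
    have ha : a ∈ Algebra.adjoin Γ(Y, W) (t : Set Γ(X, (U₀ : X.Opens))) := ht.ge Algebra.mem_top
    exact Algebra.adjoin_eq_ring_closure (R := Γ(Y, W)) (t : Set Γ(X, (U₀ : X.Opens))) ▸ ha
  set e₀ := (X.evaluation U₀ x hx₀).hom
  have hgen : Subfield.closure (Set.range (algebraMap B (X.residueField x)) ∪ e₀ '' t) = ⊤ := by
    set F := Subfield.closure (Set.range (algebraMap B (X.residueField x)) ∪ e₀ '' t)
    have hF : ∀ a, e₀ a ∈ F := by
      intro a
      have ha : a ∈ Subring.closure (Set.range (f.appLE W U₀ (hle U₀ hU₀)).hom ∪ t) := ht ▸ trivial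
      induction ha using Subring.closure_induction with
      | mem w hw =>
        rcases hw with ⟨b, rfl⟩ | hw
        · refine Subfield.subset_closure (Or.inl ⟨algebraMap _ B b, ?_⟩)
          exact (hθ U₀ hU₀ hx₀ b).symm
        · exact Subfield.subset_closure (Or.inr ⟨w, hw, rfl⟩)
      | zero => rw [map_zero]; exact zero_mem F
      | one => rw [map_one]; exact one_mem F
      | add _ _ _ _ h1 h2 => rw [map_add]; exact add_mem h1 h2
      | neg _ _ h1 => rw [map_neg]; exact neg_mem h1
      | mul _ _ _ _ h1 h2 => rw [map_mul]; exact mul_mem h1 h2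
    refine top_unique fun z _ => ?_
    obtain ⟨a, b, -, rfl⟩ := exists_evaluation_div_eq U₀.2 x hx₀ z
    exact div_mem (hF a) (hF b)
  have hv : ∀ j : ι, V.valuation (ev j.1 j.2.2)⁻¹ < 1 := fun j => by
    rw [map_inv₀]
    have := not_le.mp (mt (V.valuation_le_one_iff _).mp (hc j.1 j.2.1 j.2.2))
    exact inv_lt_one_of_one_lt₀ this
  obtain ⟨R, hR, hBR, hmR⟩ := exists_isDiscreteValuationRing_of_le (t.finite_toSet.image e₀) hgen
    ((maximalIdeal V).comap ((algebraMap B (X.residueField x)).codRestrict V.toSubring hBV))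
    V hBV (fun b hb => (V.valuation_lt_one_iff ⟨_, hBV b⟩).mp hb)
    ⟨⟨_, Algebra.subset_adjoin ⟨⟨U₀, hU₀, hx₀⟩, rfl⟩⟩, (V.valuation_lt_one_iff _).mpr (hv _),
      inv_ne_zero fun h0 : ev U₀ hx₀ = 0 => hc U₀ hU₀ hx₀ (by
        show ev U₀ hx₀ ∈ V
        rw [h0]; exact zero_mem V)⟩
  let φR : Γ(Y, W) ⟶ CommRingCat.of R :=
    CommRingCat.ofHom (θ.codRestrict R.toSubring fun a => hBR (algebraMap Γ(Y, W) B a))
  have hhR : Spec.map (CommRingCat.ofHom R.subtype) ≫ Spec.map φR ≫ hW.fromSpec =
      X.fromSpecResidueField x ≫ f := by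
    rw [← hh, hφ, ← Spec.map_comp_assoc, ← Spec.map_comp_assoc]
    rfl
  obtain ⟨l, hl, hl'⟩ := H R hR (Spec.map φR ≫ hW.fromSpec) hhR
  have hlW : l (closedPoint R) ∈ (f ⁻¹ᵁ W : X.Opens).1 := by
    show f (l (closedPoint R)) ∈ W
    erw [← Scheme.Hom.comp_apply, hl]
    exact hW.range_fromSpec.le ⟨_, rfl⟩
  obtain ⟨U, hU, hlU⟩ := Set.mem_iUnion₂.mp (he.le hlW)
  have hrange := range_subset_of_closedPoint_mem l hlU
  have hx : x ∈ (U : X.Opens) := by
    have := hrange ⟨Spec.map (CommRingCat.ofHom R.subtype) (closedPoint (X.residueField x)), rfl⟩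
    erw [← Scheme.Hom.comp_apply, hl', Scheme.fromSpecResidueField_apply] at this
    exact this
  have hUaff : IsAffineOpen (U : X.Opens) := U.2
  obtain ⟨ψ, hψ⟩ := exists_eq_SpecMap_fromSpec hUaff l hrange
  rw [hψ, ← SpecMap_evaluation_fromSpec hUaff x hx, ← Spec.map_comp_assoc, cancel_mono] at hl'
  have hcR : ev U hx ∈ R := by
    have := congr($(Spec.map_injective hl') (c U))
    exact (show ((ψ.hom (c U)) : X.residueField x) = ev U hx from this) ▸ (ψ.hom (c U)).2
  have h1 : R.valuation (ev U hx)⁻¹ < 1 :=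
    hmR ⟨_, Algebra.subset_adjoin ⟨⟨U, hU, hx⟩, rfl⟩⟩ ((V.valuation_lt_one_iff _).mpr (hv ⟨U, hU, hx⟩))
  have h2 := (R.valuation_le_one_iff _).mpr hcR
  have hne : ev U hx ≠ 0 := fun h0 => hc U hU hx (by
    show ev U hx ∈ V
    rw [h0]; exact zero_mem V)
  rw [map_inv₀, inv_lt_one₀ (zero_lt_iff.mpr ((map_ne_zero _).mpr hne))] at h1
  exact absurd h2 (not_le.mpr h1)

/-- The valuative criterion of existence reduces to valuation subrings of residue fields. -/
theorem existence_of_residueField
    (H : ∀ (x : X) (V : ValuationSubring (X.residueField x)) (h : Spec (CommRingCat.of V) ⟶ Y),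
      Spec.map (CommRingCat.ofHom V.subtype) ≫ h = X.fromSpecResidueField x ≫ f →
      ∃ l : Spec (CommRingCat.of V) ⟶ X,
        l ≫ f = h ∧ Spec.map (CommRingCat.ofHom V.subtype) ≫ l = X.fromSpecResidueField x) :
    ValuativeCriterion.Existence f := by
  intro S
  set x := S.i₁ (closedPoint S.K)
  let j : X.residueField x ⟶ CommRingCat.of S.K :=
    X.descResidueField (Scheme.stalkClosedPointTo S.i₁)
  have hj : Spec.map j ≫ X.fromSpecResidueField x = S.i₁ :=
    Scheme.descResidueField_stalkClosedPointTo_fromSpecResidueField S.K X S.i₁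
  let RK : ValuationSubring S.K :=
    ⟨(algebraMap S.R S.K).range, ValuationRing.isInteger_or_isInteger S.R⟩
  let V : ValuationSubring (X.residueField x) := RK.comap j.hom
  let eR : S.R ≃+* (algebraMap S.R S.K).range :=
    RingEquiv.ofBijective (algebraMap S.R S.K).rangeRestrict
      ⟨fun a b hab => IsFractionRing.injective S.R S.K (congrArg Subtype.val hab),
        (algebraMap S.R S.K).rangeRestrict_surjective⟩
  let ρ : V →+* S.R := eR.symm.toRingHom.comp
    ((j.hom.comp V.subtype).codRestrict (algebraMap S.R S.K).range fun v => v.2)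
  have hρ : ∀ v, algebraMap S.R S.K (ρ v) = j.hom v := fun v =>
    congrArg Subtype.val (eR.apply_symm_apply ⟨j.hom v, v.2⟩)
  have hloc : IsLocalHom ρ := by
    refine ⟨fun v hv => ?_⟩
    obtain ⟨r, hr⟩ := hv.exists_right_inv
    have h1 : j.hom v * algebraMap S.R S.K r = 1 := by rw [← hρ, ← map_mul, hr, map_one]
    have hv0 : (v : X.residueField x) ≠ 0 := fun h0 => by
      rw [h0, map_zero, zero_mul] at h1; exact zero_ne_one h1
    have hmem : (v : X.residueField x)⁻¹ ∈ V := by
      refine ⟨r, ?_⟩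
      rw [map_inv₀]
      exact eq_inv_of_mul_eq_one_right h1
    exact IsUnit.of_mul_eq_one ⟨_, hmem⟩ (Subtype.ext (mul_inv_cancel₀ hv0))
  -- descend the bottom map to `V`
  obtain ⟨_, ⟨W, hW, rfl⟩, hcW, -⟩ := Y.isBasis_affineOpens.exists_subset_of_mem_open
    (Set.mem_univ (S.i₂ (closedPoint S.R))) isOpen_univ
  replace hW : IsAffineOpen W := hW
  obtain ⟨α, hα⟩ := exists_eq_SpecMap_fromSpec hW S.i₂ (range_subset_of_closedPoint_mem S.i₂ hcW)
  have hxW : f x ∈ W := by
    have := range_subset_of_closedPoint_mem S.i₂ hcW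
      ⟨Spec.map (CommRingCat.ofHom (algebraMap S.R S.K)) (closedPoint S.K), rfl⟩
    erw [← Scheme.Hom.comp_apply, ← S.commSq.w, Scheme.Hom.comp_apply] at this
    exact this
  obtain ⟨β, hβ⟩ := exists_eq_SpecMap_fromSpec hW (X.fromSpecResidueField x ≫ f) (by
    rintro _ ⟨p, rfl⟩
    rw [Scheme.Hom.comp_apply, Scheme.fromSpecResidueField_apply]
    exact hxW)
  have hαβ : ∀ a, j.hom (β.hom a) = algebraMap S.R S.K (α.hom a) := by
    have h1 := S.commSq.w
    rw [← hj, Category.assoc, hβ, hα, ← Spec.map_comp_assoc, ← Spec.map_comp_assoc, cancel_mono] at h1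
    exact fun a => congr($(Spec.map_injective h1) a)
  let γ : Γ(Y, W) ⟶ CommRingCat.of V :=
    CommRingCat.ofHom (β.hom.codRestrict V.toSubring fun a => ⟨α.hom a, (hαβ a).symm⟩)
  obtain ⟨l, hl, hl'⟩ := H x V (Spec.map γ ≫ hW.fromSpec) (by
    rw [hβ, ← Spec.map_comp_assoc]; rfl)
  have hργ : γ ≫ CommRingCat.ofHom ρ = α := by
    ext a
    exact IsFractionRing.injective S.R S.K ((hρ _).trans (hαβ a))
  refine ⟨⟨⟨Spec.map (CommRingCat.ofHom ρ) ≫ l, ?_, ?_⟩⟩⟩
  · rw [← hj, ← hl', ← Category.assoc, ← Category.assoc, ← Spec.map_comp, ← Spec.map_comp]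
    congr 2
    ext v
    exact hρ v
  · rw [Category.assoc, hl, ← Spec.map_comp_assoc, hργ, hα]

/-- Existence for discrete valuation rings inside residue fields. -/
def DVRLift : Prop :=
  ∀ (x : X) (R : ValuationSubring (X.residueField x)), IsDiscreteValuationRing R →
    ∀ h : Spec (CommRingCat.of R) ⟶ Y,
      Spec.map (CommRingCat.ofHom R.subtype) ≫ h = X.fromSpecResidueField x ≫ f →
      ∃ l : Spec (CommRingCat.of R) ⟶ X,
        l ≫ f = h ∧ Spec.map (CommRingCat.ofHom R.subtype) ≫ l = X.fromSpecResidueField x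

/-- Over a locally Noetherian base, existence for discrete valuation rings gives universal closedness. -/
theorem universallyClosed_of_dvrLift [IsLocallyNoetherian Y] [LocallyOfFiniteType f] [QuasiCompact f]
    (H : DVRLift f) : UniversallyClosed f :=
  .of_valuativeCriterion f (existence_of_residueField f fun x => exists_lift_of_dvr f (H x))

/-- Over a locally Noetherian base, uniqueness for discrete valuation rings gives separatedness. -/
theorem isSeparated_of_dvr_uniqueness [IsLocallyNoetherian Y] [LocallyOfFiniteType f]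
    (H : ∀ (x : X) (R : ValuationSubring (X.residueField x)), IsDiscreteValuationRing R →
      ∀ g₁ g₂ : Spec (CommRingCat.of R) ⟶ X, g₁ ≫ f = g₂ ≫ f →
      Spec.map (CommRingCat.ofHom R.subtype) ≫ g₁ = X.fromSpecResidueField x →
      Spec.map (CommRingCat.ofHom R.subtype) ≫ g₂ = X.fromSpecResidueField x → g₁ = g₂) :
    IsSeparated f := by
  have : IsLocallyNoetherian X := LocallyOfFiniteType.isLocallyNoetherian f
  constructor
  suffices UniversallyClosed (pullback.diagonal f) from
    .of_isPreimmersion _ (pullback.diagonal f).isClosedMap.isClosed_range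
  refine universallyClosed_of_dvrLift _ fun x R hR h hh => ⟨h ≫ pullback.fst f f, ?_, ?_⟩
  · have h1 : h ≫ pullback.fst f f = h ≫ pullback.snd f f := by
      refine H x R hR _ _ ?_ ?_ ?_
      · simp only [Category.assoc, pullback.condition]
      · simp only [← Category.assoc, hh]; simp
      · simp only [← Category.assoc, hh]; simp
    ext <;> simp [h1]
  · simp only [← Category.assoc, hh]; simp

section FractionRing

variable {K : Type u} [Field K] (R : ValuationSubring K)

/-- The fraction ring of a valuation subring is the field. -/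
def fractionRingIso : CommRingCat.of (FractionRing R) ≅ CommRingCat.of K :=
  (FractionRing.algEquiv R K).toRingEquiv.toCommRingCatIso

theorem algebraMap_fractionRingIso_hom :
    CommRingCat.ofHom (algebraMap R (FractionRing R)) ≫ (fractionRingIso R).hom =
      CommRingCat.ofHom R.subtype := by
  ext a
  exact (FractionRing.algEquiv R K).commutes a

theorem SpecMap_subtype_eq :
    Spec.map (CommRingCat.ofHom R.subtype) = Spec.map (fractionRingIso R).hom ≫
      Spec.map (CommRingCat.ofHom (algebraMap R (FractionRing R))) := by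
  rw [← Spec.map_comp, algebraMap_fractionRingIso_hom]

theorem SpecMap_algebraMap_eq :
    Spec.map (CommRingCat.ofHom (algebraMap R (FractionRing R))) = Spec.map (fractionRingIso R).inv ≫
      Spec.map (CommRingCat.ofHom R.subtype) := by
  rw [← Spec.map_comp, ← algebraMap_fractionRingIso_hom R, Category.assoc, Iso.hom_inv_id,
    Category.comp_id]

end FractionRing

/-- From the criterion in the form with fraction rings. -/
theorem dvrLift_of_fractionRing
    (H : ∀ (A : Type u) [CommRing A] [IsDomain A] [IsDiscreteValuationRing A]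
      (x : Spec (CommRingCat.of (FractionRing A)) ⟶ X) (y : Spec (CommRingCat.of A) ⟶ Y),
      x ≫ f = Spec.map (CommRingCat.ofHom (algebraMap A (FractionRing A))) ≫ y →
      ∃ l : Spec (CommRingCat.of A) ⟶ X,
        l ≫ f = y ∧ Spec.map (CommRingCat.ofHom (algebraMap A (FractionRing A))) ≫ l = x) :
    DVRLift f := by
  intro x R hR h hh
  obtain ⟨l, hl, hl'⟩ := H R (Spec.map (fractionRingIso R).inv ≫ X.fromSpecResidueField x) h (by
    rw [SpecMap_algebraMap_eq, Category.assoc, Category.assoc, hh])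
  refine ⟨l, hl, ?_⟩
  rw [SpecMap_subtype_eq, Category.assoc, hl', ← Spec.map_comp_assoc, Iso.inv_hom_id, Spec.map_id]
  exact Category.id_comp _

/-- From the uniqueness criterion in the form with fraction rings. -/
theorem isSeparated_of_fractionRing [IsLocallyNoetherian Y] [LocallyOfFiniteType f]
    (H : ∀ (A : Type u) [CommRing A] [IsDomain A] [IsDiscreteValuationRing A]
      (g₁ g₂ : Spec (CommRingCat.of A) ⟶ X), g₁ ≫ f = g₂ ≫ f →
      Spec.map (CommRingCat.ofHom (algebraMap A (FractionRing A))) ≫ g₁ =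
        Spec.map (CommRingCat.ofHom (algebraMap A (FractionRing A))) ≫ g₂ → g₁ = g₂) :
    IsSeparated f := by
  refine isSeparated_of_dvr_uniqueness f fun x R hR g₁ g₂ hf h₁ h₂ => H R g₁ g₂ hf ?_
  rw [SpecMap_algebraMap_eq, Category.assoc, Category.assoc, h₁, h₂]

end Groth.L18
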