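import Groth.Agent.L22.VeryAmple.Immersion
import Groth.Agent.L18.AmpleLocal
import Groth.Agent.L18.AmplePull
import Groth.Agent.L16.ProjSpace.Ample
import Groth.Agent.L16.ProjSpace.Sections

/-!
Sections vanishing on a closed subscheme; immersions of open subschemes by given linear systems.
-/

set_option autoImplicit false
set_option backward.isDefEq.respectTransparency false
set_option linter.style.haveILetI false
universe u

open CategoryTheory AlgebraicGeometry TopologicalSpace Opposite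

noncomputable section

namespace Groth.L18.VanImm

open Groth.L18.Frame (rs ro rs_rs rs_self rs_smul ro_ro ro_self ro_mul IsFrame pull pull_rs pull_smul)
open Groth.L18.GenLoc Groth.L18.Ample Groth.L22.VeryAmple

/-- Frames generate (any index type). -/
theorem generatedBy_of_frames {ι : Type*} {X : Scheme.{u}} {N : X.Modules} (s : ι → ProjUP.Γm N)
    (h : ∀ x : X, ∃ (W : X.Opens) (i : ι), x ∈ W ∧ IsFrame N W (rs N le_top (s i))) :
    ProjUP.GeneratedBy N s := fun x => by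
  obtain ⟨W, i, hx, he⟩ := h x
  refine eq_top_iff.mpr fun t _ => ?_
  obtain ⟨V, hxV, m, rfl⟩ := N.presheaf.exists_germ_eq t
  have hxVW : x ∈ V ⊓ W := ⟨hxV, hx⟩
  obtain ⟨a, ha⟩ := he.exists_coeff (inf_le_right : V ⊓ W ≤ W) (rs N inf_le_left m)
  rw [rs_rs] at ha
  have h1 : N.presheaf.germ V x hxV m = X.presheaf.germ (V ⊓ W) x hxVW a • N.presheaf.germ ⊤ x trivial (s i) := by
    rw [← show N.presheaf.germ (V ⊓ W) x hxVW (rs N inf_le_left m) = N.presheaf.germ V x hxV m from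
      TopCat.Presheaf.germ_res_apply _ _ _ _ _, ← ha]
    refine (PresheafOfModules.germ_smul (R := X.presheaf)
      (show PresheafOfModules (X.presheaf ⋙ forget₂ CommRingCat RingCat) from N.val) x (V ⊓ W) hxVW a _).trans ?_
    congr 1
    exact TopCat.Presheaf.germ_res_apply _ _ _ _ _
  exact h1 ▸ Submodule.smul_mem _ _ (Submodule.subset_span ⟨i, rfl⟩)

section Van

variable {Z X : Scheme.{u}} (i : Z ⟶ X)

/-- Vanishing of a pulled-back section is local. -/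
theorem pullSec_eq_zero_of_local (M : X.Modules) (v : Γ(M, ⊤))
    (h : ∀ x : X, ∃ W : X.Opens, x ∈ W ∧ pull i M W (rs M le_top v) = 0) : ProjUP.pullSec i M v = 0 := by
  choose W hxW hW using h
  let ON : TopCat.Sheaf Ab.{u} Z.toTopCat :=
    ⟨((Scheme.Modules.pullback i).obj M).presheaf, ((Scheme.Modules.pullback i).obj M).isSheaf⟩
  refine ON.eq_of_locally_eq' (fun x => i ⁻¹ᵁ W x) ⊤ (fun x => homOfLE le_top)
    (fun z _ => Opens.mem_iSup.mpr ⟨i z, hxW (i z)⟩) _ _ fun x => ?_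
  exact ((pull_rs i M (le_top : W x ≤ ⊤) v).trans (hW x)).trans (map_zero _).symm

theorem pullSec_iso {M M' : X.Modules} (e : M ≅ M') (v : Γ(M, ⊤)) (h : ProjUP.pullSec i M v = 0) :
    ProjUP.pullSec i M' (e.hom.app ⊤ v) = 0 := by
  refine ((map_pull i e.hom ⊤ v).symm).trans ?_
  exact (congrArg (((Scheme.Modules.pullback i).map e.hom).app _) h).trans (map_zero _)

/-- A product vanishes if a factor vanishes. -/
theorem pullSec_tens {N M : X.Modules} (hN : PicF.IsInvertible N) (hM : PicF.IsInvertible M) (t : Γ(N, ⊤))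
    (σ : Γ(M, ⊤)) (h : ProjUP.pullSec i M σ = 0) :
    ProjUP.pullSec i (CohB1.tensorMod N M) (tens N M ⊤ t σ) = 0 := by
  refine pullSec_eq_zero_of_local i _ _ fun x => ?_
  obtain ⟨W₁, e, hx₁, he⟩ := Frame.exists_frame hN x
  obtain ⟨W₂, ε, hx₂, hε⟩ := Frame.exists_frame hM x
  refine ⟨W₁ ⊓ W₂, ⟨hx₁, hx₂⟩, ?_⟩
  obtain ⟨a, ha⟩ := he.exists_coeff (inf_le_left : W₁ ⊓ W₂ ≤ W₁) (rs N le_top t)
  obtain ⟨b, hb⟩ := hε.exists_coeff (inf_le_right : W₁ ⊓ W₂ ≤ W₂) (rs M le_top σ)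
  have h0 : pull i M (W₁ ⊓ W₂) (rs M le_top σ) = 0 :=
    ((pull_rs i M (le_top : W₁ ⊓ W₂ ≤ ⊤) σ).symm.trans
      (congrArg (rs ((Scheme.Modules.pullback i).obj M) (i.preimage_mono le_top)) h)).trans (map_zero _)
  rw [← hb, pull_smul] at h0
  have hb0 : i.app _ b = 0 := by
    refine ((hε.mono (inf_le_right : W₁ ⊓ W₂ ≤ W₂)).pullback i M).inj le_rfl ?_
    rw [rs_self, zero_smul]
    exact h0
  rw [tens_rs, ← ha, ← hb, tens_smul_left, tens_smul_right, pull_smul, pull_smul, hb0, zero_smul, smul_zero]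

/-- A high power of a section whose locus misses the closed subscheme vanishes on it. -/
theorem exists_pow_vanish [CompactSpace X] [IsAffineHom i] {M : X.Modules} (hM : PicF.IsInvertible M)
    (s : Coh.structureModule X ⟶ M) (hd : ∀ z, i z ∉ CohB1.genLocus M s) :
    ∃ k₀ : ℕ, ∀ k, k₀ ≤ k → ProjUP.pullSec i (tw M M k) (powSec s (secOf s) k) = 0 := by
  choose W e hW hxW he using fun x => exists_affine_frame hM x
  obtain ⟨T, hT⟩ := isCompact_univ.elim_finite_subcover (fun x : X => (W x : Set X)) (fun x => (W x).2)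
    (fun x _ => Set.mem_iUnion.2 ⟨x, hxW x⟩)
  choose a ha using fun x => (he x).exists_coeff le_rfl (rs M le_top (secOf s))
  simp only [rs_self] at ha
  have hnil : ∀ x, IsNilpotent (i.app (W x) (a x)) := fun x => by
    rw [Scheme.isNilpotent_iff_basicOpen_eq_bot_of_isCompact ((hW x).preimage i).isCompact,
      ← Scheme.preimage_basicOpen, ← genLocus_inf_eq s (he x) (ha x)]
    exact bot_unique fun z hz => absurd hz.1 (hd z)
  choose n hn using hnil
  refine ⟨T.sup n, fun k hk => pullSec_eq_zero_of_local i _ _ fun x => ?_⟩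
  obtain ⟨y, hy, hxy⟩ := Set.mem_iUnion₂.1 (hT (Set.mem_univ x))
  refine ⟨W y, hxy, ?_⟩
  have hp : i.app (W y) (a y * a y ^ k) = 0 := by
    rw [map_mul, map_pow, pow_eq_zero_of_le ((Finset.le_sup hy).trans hk) (hn y), mul_zero]
  rw [rs_powSec]
  rw [← ha y]
  rw [it_fr (secOf s) (ha y), pull_smul, hp, zero_smul]

end Van

section Immersion

theorem genLocus_restrict {X : Scheme.{u}} (U : X.Opens) (N : X.Modules) (σ : Γ(N, ⊤)) :
    CohB1.genLocus (N.restrict U.ι)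
        (Groth.L16.homOfSection _ (show Γ(N.restrict U.ι, ⊤) from rs N (le_top : U.ι ''ᵁ ⊤ ≤ ⊤) σ)) =
      U.ι ⁻¹ᵁ CohB1.genLocus N (Groth.L16.homOfSection N σ) := by
  refine le_antisymm ?_ (le_genLocus _ ?_)
  · refine (Scheme.Hom.preimage_image_eq U.ι _).ge.trans (U.ι.preimage_mono (le_genLocus _ ?_))
    have h := (isFrame_restrict_iff N U _ _).mp (isFrame_genLocus
      (Groth.L16.homOfSection (N.restrict U.ι) (show Γ(N.restrict U.ι, ⊤) from rs N (le_top : U.ι ''ᵁ ⊤ ≤ ⊤) σ)))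
    rw [secOf_homOfSection] at h ⊢
    have e := rs_rs N (le_top : U.ι ''ᵁ ⊤ ≤ ⊤) (U.ι.image_mono (le_top : CohB1.genLocus (N.restrict U.ι)
      (Groth.L16.homOfSection _ (show Γ(N.restrict U.ι, ⊤) from rs N (le_top : U.ι ''ᵁ ⊤ ≤ ⊤) σ)) ≤ ⊤)) σ
    exact e ▸ h
  · rw [isFrame_restrict_iff, secOf_homOfSection]
    have h := (isFrame_genLocus (Groth.L16.homOfSection N σ)).mono
      (U.ι.image_preimage_le (CohB1.genLocus N (Groth.L16.homOfSection N σ)))
    rw [rs_rs, secOf_homOfSection] at h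
    exact (rs_rs N (le_top : U.ι ''ᵁ ⊤ ≤ ⊤) (U.ι.image_mono le_top) σ).symm ▸ h

variable {X P T : Scheme.{u}} (f : X ⟶ T) (pr : P ⟶ T) {U : X.Opens} (φ : U.toScheme ⟶ P)
  (hφ : φ ≫ pr = U.ι ≫ f) {M : P.Modules} {N : X.Modules}
  (τ : (Scheme.Modules.pullback φ).obj M ≅ N.restrict U.ι) {κ : Type*} (S₀ : κ → Γ(N, ⊤)) (ℓ : κ → Γ(M, ⊤))
  (hℓ : ∀ j, τ.hom.app ⊤ (ProjUP.pullSec φ M (ℓ j)) = rs N (le_top : U.ι ''ᵁ ⊤ ≤ ⊤) (S₀ j))

include hφ hℓ in
theorem surjective_app (c : κ) {G : X.Opens}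
    (hG : U.ι ''ᵁ (φ ⁻¹ᵁ CohB1.genLocus M (Groth.L16.homOfSection M (ℓ c))) = G)
    (hGf : IsFrame N G (rs N le_top (S₀ c)))
    (hgen : ∀ A : Subring Γ(X, G), (∀ a, f.appLE ⊤ G (by simp) a ∈ A) →
      (∀ (j : κ) (a : Γ(X, G)), a • rs N (le_top : G ≤ ⊤) (S₀ c) = rs N (le_top : G ≤ ⊤) (S₀ j) → a ∈ A) → A = ⊤) :
    Function.Surjective (φ.app (CohB1.genLocus M (Groth.L16.homOfSection M (ℓ c)))).hom := by
  subst hG
  set E := CohB1.genLocus M (Groth.L16.homOfSection M (ℓ c))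
  let ψ : Γ(P, E) →+* Γ(X, U.ι ''ᵁ (φ ⁻¹ᵁ E)) := (φ.app E).hom
  show Function.Surjective ψ
  rw [← RingHom.range_eq_top]
  refine hgen _ (fun a => ⟨pr.appLE ⊤ E (by simp) a, ?_⟩) fun j a ha => ?_
  · show (pr.appLE ⊤ E _ ≫ φ.app E) a = _
    rw [Scheme.Hom.app_eq_appLE, Scheme.Hom.appLE_comp_appLE]
    have h : (φ ≫ pr).appLE ⊤ (φ ⁻¹ᵁ E) (by simp) = (U.ι ≫ f).appLE ⊤ (φ ⁻¹ᵁ E) (by simp) := by congr 1
    refine (congr($h a)).trans ?_
    rw [← Scheme.Hom.appLE_comp_appLE U.ι f ⊤ (U.ι ''ᵁ (φ ⁻¹ᵁ E)) (φ ⁻¹ᵁ E) (by simp)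
      (Scheme.Hom.preimage_image_eq U.ι _).ge, Scheme.Opens.ι_appLE]
    exact congr($(X.presheaf.map_id _) (f.appLE ⊤ (U.ι ''ᵁ (φ ⁻¹ᵁ E)) _ a))
  · have hF := isFrame_genLocus (Groth.L16.homOfSection M (ℓ c))
    obtain ⟨b, hb⟩ := hF.exists_coeff le_rfl (rs M le_top (ℓ j))
    rw [rs_self, secOf_homOfSection] at hb
    refine ⟨b, hGf.inj le_rfl ?_⟩
    rw [rs_self, ha]
    have hnat : ∀ l, τ.hom.app (φ ⁻¹ᵁ E) (pull φ M E (rs M le_top (ℓ l))) =
        rs N (le_top : U.ι ''ᵁ (φ ⁻¹ᵁ E) ≤ ⊤) (S₀ l) := fun l => by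
      rw [← pull_rs φ M (le_top : E ≤ ⊤) (ℓ l)]
      refine (congr($(τ.hom.mapPresheaf.naturality (homOfLE (le_top : φ ⁻¹ᵁ E ≤ ⊤)).op) (ProjUP.pullSec φ M (ℓ l)))).trans ?_
      exact (congrArg (rs N (U.ι.image_mono le_top)) (hℓ l)).trans (rs_rs N _ _ _)
    have h1 := congrArg (τ.hom.app (φ ⁻¹ᵁ E)) (congrArg (pull φ M E) hb)
    rw [pull_smul, Scheme.Modules.Hom.app_smul, hnat] at h1
    erw [hnat] at h1
    exact (Frame.restrict_smul' N U (φ ⁻¹ᵁ E) _ _).symm.trans h1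

include hφ hℓ in
/-- A morphism of an open subscheme given by a linear system with enough affine loci is an immersion. -/
theorem isImmersion_of_loci (hM : PicF.IsInvertible M)
    (haffP : ∀ j, IsAffineOpen (CohB1.genLocus M (Groth.L16.homOfSection M (ℓ j)))) {ι : Type*} (c₀ : ι → κ)
    (G : ι → X.Opens) (hG : ∀ p, CohB1.genLocus N (Groth.L16.homOfSection N (S₀ (c₀ p))) = G p)
    (hGU : ∀ p, G p ≤ U) (hcov : ∀ x ∈ U, ∃ p, x ∈ G p) (haff : ∀ p, IsAffineOpen (G p))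
    (hgen : ∀ (p : ι) (A : Subring Γ(X, G p)), (∀ a, f.appLE ⊤ (G p) (by simp) a ∈ A) →
      (∀ (j : κ) (a : Γ(X, G p)),
        a • rs N (le_top : G p ≤ ⊤) (S₀ (c₀ p)) = rs N (le_top : G p ≤ ⊤) (S₀ j) → a ∈ A) → A = ⊤) :
    IsImmersion φ := by
  let E : ι → P.Opens := fun p => CohB1.genLocus M (Groth.L16.homOfSection M (ℓ (c₀ p)))
  have hpre : ∀ p, φ ⁻¹ᵁ E p = U.ι ⁻¹ᵁ G p := fun p => by
    refine ((genLocus_pullHom φ hM (Groth.L16.homOfSection M (ℓ (c₀ p)))).symm.trans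
      (Groth.L16.genLocus_comp_iso (pullHom φ _) τ).symm).trans ?_
    rw [← homOfSection_secOf (pullHom φ _ ≫ τ.hom)]
    have e : secOf (pullHom φ (Groth.L16.homOfSection M (ℓ (c₀ p))) ≫ τ.hom) =
        (show Γ(N.restrict U.ι, ⊤) from rs N (le_top : U.ι ''ᵁ ⊤ ≤ ⊤) (S₀ (c₀ p))) := by
      show τ.hom.app ⊤ (secOf (pullHom φ _)) = _
      rw [pullHom, secOf_homOfSection, secOf_homOfSection]
      exact hℓ _
    rw [e, genLocus_restrict, hG]
  have himg : ∀ p, U.ι ''ᵁ (φ ⁻¹ᵁ E p) = G p := fun p => by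
    rw [hpre, Scheme.Hom.image_preimage_eq_opensRange_inf, Scheme.Opens.opensRange_ι, inf_eq_right]
    exact hGU p
  have hfr : ∀ p, IsFrame N (G p) (rs N le_top (S₀ (c₀ p))) := fun p => by
    have h := isFrame_genLocus (Groth.L16.homOfSection N (S₀ (c₀ p)))
    rwa [secOf_homOfSection, hG] at h
  have hci : ∀ p, IsClosedImmersion (φ ∣_ E p) := fun p => by
    haveI : IsAffine (E p).toScheme := haffP _
    haveI : IsAffine (φ ⁻¹ᵁ E p).toScheme :=
      (Scheme.Hom.isAffineOpen_iff_of_isOpenImmersion U.ι).1 (by rw [himg]; exact haff p)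
    have hsurj := surjective_app f pr φ hφ τ S₀ ℓ hℓ (c₀ p) (himg p) (hfr p) (hgen p)
    refine IsClosedImmersion.of_surjective_of_isAffine _ ?_
    rw [Scheme.Hom.appTop, morphismRestrict_app]
    intro y
    obtain ⟨z, rfl⟩ := (ConcreteCategory.bijective_of_isIso
      (U.toScheme.presheaf.map (eqToHom (image_morphismRestrict_preimage φ (E p) ⊤)).op)).2 y
    have hs2 : Function.Surjective (φ.app ((E p).ι ''ᵁ ⊤)).hom := by
      rw [(E p).ι_image_top]; exact hsurj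
    obtain ⟨a, ha⟩ := hs2 z
    exact ⟨a, congrArg _ ha⟩
  haveI := isClosedImmersion_restrict_iSup φ _ hci
  have htop : φ ⁻¹ᵁ (⨆ p, E p) = ⊤ := eq_top_iff.2 fun x _ => by
    obtain ⟨p, hp⟩ := hcov x.1 x.2
    have : x ∈ φ ⁻¹ᵁ E p := (hpre p).ge hp
    exact Opens.mem_iSup.2 ⟨p, this⟩
  have hfac : φ = (U.toScheme.topIso.inv ≫ (U.toScheme.isoOfEq htop.symm).hom ≫ (φ ∣_ ⨆ p, E p)) ≫
      (⨆ p, E p).ι := by
    simp
  rw [hfac]
  infer_instance

/-- Loci of linear forms are affine. -/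
theorem isAffineOpen_genLocus_O1 {n : ℕ} {R : Type u} [CommRing R] (t : Γ(Groth.L18.PUP.O1 n R, ⊤)) :
    IsAffineOpen (CohB1.genLocus _ (Groth.L16.homOfSection (Groth.L18.PUP.O1 n R) t)) := by
  obtain ⟨p, rfl⟩ := Groth.L16.ProjSpace.polyToSection_surjective (n := n) (R := R) 1 t
  have h := Groth.L16.ProjTwist.genLocus_sect (CohB1.polyGrading n R) (d := 1) (fun x => by
    obtain ⟨i, hi⟩ := Opens.mem_iSup.1 ((Groth.L18.PS.iSup_chart (n := n) (R := R)).ge (trivial : x ∈ (⊤ : (Groth.L18.PUP.P n R).Opens)))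
    exact ⟨⟨_, Groth.L18.PS.X_mem n i⟩, hi⟩) p
  exact (show CohB1.genLocus _ (Groth.L16.homOfSection (Groth.L18.PUP.O1 n R)
    (Twist.globalOf (CohB1.polyGrading n R) p)) = _ from h).symm ▸ Proj.isAffineOpen_basicOpen _ _ p.2 one_pos

end Immersion

end Groth.L18.VanImm
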