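import Groth.Agent.L18.ConeMaps

/-!
# `Proj S ≅ Proj S^{(d)}`
-/

set_option autoImplicit false
universe u

open CategoryTheory CategoryTheory.Limits AlgebraicGeometry HomogeneousLocalization

namespace Groth.L18.Veronese

open Groth.L18.Cones

variable {R A : Type u} [CommRing R] [CommRing A] [Algebra R A] {𝒜 : ℕ → Submodule R A} [GradedAlgebra 𝒜]
  {B : Type u} [CommRing B] [Algebra R B] {ℬ : ℕ → Submodule R B} [GradedAlgebra ℬ]
  {d : ℕ} (φ : B →ₐ[R] A)
  (hdeg : ∀ n : ℕ, Submodule.map φ.toLinearMap (ℬ n) = 𝒜 (n * d))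

include hdeg

lemma map_deg {n : ℕ} {b : B} (hb : b ∈ ℬ n) : φ b ∈ 𝒜 (n * d) :=
  (hdeg n).le (Submodule.mem_map_of_mem hb)

lemma exists_val (n : ℕ) (g : B) (hg : g ∈ ℬ n) (x : Away ℬ g) :
    ∃ y : Away 𝒜 (φ g), y.val = Localization.awayMap φ.toRingHom g x.val := by
  obtain ⟨k, a, ha, rfl⟩ := Away.mk_surjective ℬ hg x
  have hm : φ a ∈ 𝒜 (k • (n * d)) := by
    have := map_deg φ hdeg ha
    rwa [smul_eq_mul, mul_assoc] at this
  refine ⟨Away.mk 𝒜 (map_deg φ hdeg hg) k (φ a) hm, ?_⟩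
  rw [Away.val_mk, Away.val_mk, Localization.mk_eq_mk', Localization.mk_eq_mk', Localization.awayMap,
    IsLocalization.Away.map, IsLocalization.map_mk']
  simp only [map_pow]
  rfl

/-- The chart comparison map. -/
noncomputable def θ (n : ℕ) (g : B) (hg : g ∈ ℬ n) : Away ℬ g →+* Away 𝒜 (φ g) where
  toFun x := (exists_val φ hdeg n g hg x).choose
  map_one' := val_injective _ (by rw [(exists_val φ hdeg n g hg _).choose_spec, val_one, val_one, map_one])
  map_mul' x y := val_injective _ ((exists_val φ hdeg n g hg (x * y)).choose_spec.trans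
    (((congrArg (Localization.awayMap φ.toRingHom g) (val_mul x y)).trans
      ((map_mul (Localization.awayMap φ.toRingHom g) _ _).trans
        (congrArg₂ (· * ·) (exists_val φ hdeg n g hg x).choose_spec.symm
          (exists_val φ hdeg n g hg y).choose_spec.symm))).trans (val_mul _ _).symm))
  map_zero' := val_injective _ (by rw [(exists_val φ hdeg n g hg _).choose_spec, val_zero, val_zero, map_zero])
  map_add' x y := val_injective _ ((exists_val φ hdeg n g hg (x + y)).choose_spec.trans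
    (((congrArg (Localization.awayMap φ.toRingHom g) (val_add x y)).trans
      ((map_add (Localization.awayMap φ.toRingHom g) _ _).trans
        (congrArg₂ (· + ·) (exists_val φ hdeg n g hg x).choose_spec.symm
          (exists_val φ hdeg n g hg y).choose_spec.symm))).trans (val_add _ _).symm))

lemma θ_val (n : ℕ) (g : B) (hg : g ∈ ℬ n) (x : Away ℬ g) :
    (θ φ hdeg n g hg x).val = Localization.awayMap φ.toRingHom g x.val :=
  (exists_val φ hdeg n g hg x).choose_spec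

lemma θ_mk (n : ℕ) (g : B) (hg : g ∈ ℬ n) (k : ℕ) (a : B) (ha : a ∈ ℬ (k • n)) :
    (θ φ hdeg n g hg (Away.mk ℬ hg k a ha)).val =
      Localization.mk (φ a) ⟨φ g ^ k, pow_mem (Submonoid.mem_powers (φ g)) k⟩ := by
  rw [θ_val, Away.val_mk, Localization.mk_eq_mk', Localization.mk_eq_mk', Localization.awayMap,
    IsLocalization.Away.map, IsLocalization.map_mk']
  simp only [map_pow]
  rfl

lemma θ_bijective (hφ : Function.Injective φ) (n : ℕ) (g : B) (hg : g ∈ ℬ n) :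
    Function.Bijective (θ φ hdeg n g hg) := by
  constructor
  · intro x y h
    apply val_injective
    have h' := congrArg HomogeneousLocalization.val h
    rw [θ_val, θ_val] at h'
    refine (Localization.awayMap_injective_iff (f := φ.toRingHom) (r := g)).mpr (fun a ha => ⟨0, ?_⟩) h'
    rw [pow_zero, one_mul]
    exact hφ (ha.trans (map_zero φ).symm)
  · intro y
    obtain ⟨k, c, hc, rfl⟩ := Away.mk_surjective 𝒜 (map_deg φ hdeg hg) y
    have hc' : c ∈ 𝒜 ((k • n) * d) := by rwa [smul_eq_mul, ← mul_assoc] at hc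
    obtain ⟨a, ha, rfl⟩ := (hdeg (k • n)).ge hc'
    refine ⟨Away.mk ℬ hg k a ha, val_injective _ ?_⟩
    rw [θ_mk, Away.val_mk]
    rfl

lemma compat (n m : ℕ) (hn : 0 < n) (hd : 0 < d) (g g' x : B) (hg : g ∈ ℬ n) (hg' : g' ∈ ℬ m)
    (hx : x = g * g') (hxm : x ∈ ℬ (n + m)) (hφx : φ x = φ g * φ g') :
    Spec.map (CommRingCat.ofHom (awayMap 𝒜 (map_deg φ hdeg hg') hφx)) ≫
      Spec.map (CommRingCat.ofHom (θ φ hdeg n g hg)) ≫ Proj.awayι ℬ g hg hn =
    Spec.map (CommRingCat.ofHom (θ φ hdeg (n + m) x hxm)) ≫ Proj.awayι ℬ x hxm (Nat.add_pos_left hn m) := by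
  have h1 : CommRingCat.ofHom (θ φ hdeg n g hg) ≫ CommRingCat.ofHom (awayMap 𝒜 (map_deg φ hdeg hg') hφx) =
      CommRingCat.ofHom (awayMap ℬ hg' hx) ≫ CommRingCat.ofHom (θ φ hdeg (n + m) x hxm) := by
    refine CommRingCat.hom_ext (RingHom.ext fun z => ?_)
    obtain ⟨k, a, ha, rfl⟩ := Away.mk_surjective ℬ hg z
    simp only [CommRingCat.hom_comp, CommRingCat.hom_ofHom, RingHom.comp_apply]
    have hm : φ a ∈ 𝒜 (k • (n * d)) := by
      have := map_deg φ hdeg ha
      rwa [smul_eq_mul, mul_assoc] at this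
    have e1 : θ φ hdeg n g hg (Away.mk ℬ hg k a ha) = Away.mk 𝒜 (map_deg φ hdeg hg) k (φ a) hm :=
      val_injective _ (by rw [θ_mk, Away.val_mk])
    rw [e1, awayMap_mk, awayMap_mk]
    apply val_injective
    rw [θ_mk, Away.val_mk]
    simp only [map_mul, map_pow]
  rw [← Spec.map_comp_assoc, h1, Spec.map_comp_assoc, Proj.SpecMap_awayMap_awayι ℬ hg hn hg' hx]

theorem exists_iso (hd : 0 < d) (hφ : Function.Injective φ) :
    ∃ e : Proj 𝒜 ≅ Proj ℬ,
      (∀ p : Proj 𝒜, (e.hom.base p).asHomogeneousIdeal.toIdeal = Ideal.comap φ p.asHomogeneousIdeal.toIdeal) ∧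
      ∀ (n : ℕ) (g : B) (hn : 0 < n) (hg : g ∈ ℬ n)
        (θ' : CommRingCat.of (Away ℬ g) ⟶ CommRingCat.of (Away 𝒜 (φ g))),
        (algebraMap (Away 𝒜 (φ g)) (Localization.Away (φ g))).comp θ'.hom =
          (Localization.awayMap φ.toRingHom g).comp (algebraMap (Away ℬ g) (Localization.Away g)) →
        Proj.awayι 𝒜 (φ g) ((hdeg n).le (Submodule.mem_map_of_mem hg)) (Nat.mul_pos hn hd) ≫ e.hom =
          Spec.map θ' ≫ Proj.awayι ℬ g hg hn := by
  let c : ∀ q : Idx ℬ, Spec (.of (Away 𝒜 (φ q.1.2))) ⟶ Proj 𝒜 := fun q =>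
    Proj.awayι 𝒜 (φ q.1.2) (map_deg φ hdeg q.2.2) (Nat.mul_pos q.2.1 hd)
  have hcovP : ∀ P : Proj 𝒜, ∃ q : Idx ℬ, P ∈ Proj.basicOpen 𝒜 (φ q.1.2) := by
    intro P
    obtain ⟨⟨⟨m, f⟩, hm, hf⟩, hP⟩ := exists_idx_notMem (𝒜 := 𝒜) P
    have hfd : f ^ d ∈ 𝒜 (m * d) := by
      rw [mul_comm]; simpa [smul_eq_mul] using SetLike.pow_mem_graded d hf
    obtain ⟨g, hg, hgf⟩ := (hdeg m).ge hfd
    refine ⟨⟨(m, g), hm, hg⟩, ?_⟩
    show φ g ∉ P.asHomogeneousIdeal
    rw [show φ g = f ^ d from hgf]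
    exact fun h => hP (P.isPrime.mem_of_pow_mem _ h)
  have hcov : ∀ P : Proj 𝒜, ∃ q, P ∈ Set.range (c q) := by
    intro P
    obtain ⟨q, hq⟩ := hcovP P
    rw [← Proj.opensRange_awayι 𝒜 (φ q.1.2) (map_deg φ hdeg q.2.2) (Nat.mul_pos q.2.1 hd)] at hq
    exact ⟨q, hq⟩
  haveI : ∀ q, IsOpenImmersion (c q) := fun q => by
    show IsOpenImmersion (Proj.awayι 𝒜 (φ q.1.2) (map_deg φ hdeg q.2.2) (Nat.mul_pos q.2.1 hd))
    infer_instance
  obtain ⟨π, hπ, -⟩ := existsUnique_glue (fun q : Idx ℬ => CommRingCat.of (Away 𝒜 (φ q.1.2))) c hcov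
    (fun q => Spec.map (CommRingCat.ofHom (θ φ hdeg q.1.1 q.1.2 q.2.2)) ≫ Proj.awayι ℬ q.1.2 q.2.2 q.2.1)
    (fun i j => by
      have hx : φ (i.1.2 * j.1.2) = φ i.1.2 * φ j.1.2 := map_mul φ _ _
      have hx' : φ (i.1.2 * j.1.2) = φ j.1.2 * φ i.1.2 := hx.trans (mul_comm _ _)
      refine ⟨Idx.mul i j, CommRingCat.ofHom (awayMap 𝒜 (map_deg φ hdeg j.2.2) hx),
        CommRingCat.ofHom (awayMap 𝒜 (map_deg φ hdeg i.2.2) hx'), ?_, ?_, ?_, ?_⟩
      · exact Proj.SpecMap_awayMap_awayι 𝒜 (map_deg φ hdeg i.2.2) (Nat.mul_pos i.2.1 hd) (map_deg φ hdeg j.2.2) hx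
      · exact Proj.SpecMap_awayMap_awayι 𝒜 (map_deg φ hdeg j.2.2) (Nat.mul_pos j.2.1 hd) (map_deg φ hdeg i.2.2) hx'
      · rintro z ⟨hz1, hz2⟩
        have h1 : z ∈ Proj.basicOpen 𝒜 (φ i.1.2) := by
          rw [← Proj.opensRange_awayι 𝒜 (φ i.1.2) (map_deg φ hdeg i.2.2) (Nat.mul_pos i.2.1 hd)]; exact hz1
        have h2 : z ∈ Proj.basicOpen 𝒜 (φ j.1.2) := by
          rw [← Proj.opensRange_awayι 𝒜 (φ j.1.2) (map_deg φ hdeg j.2.2) (Nat.mul_pos j.2.1 hd)]; exact hz2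
        have h3 : z ∈ Proj.basicOpen 𝒜 (φ (i.1.2 * j.1.2)) := by
          rw [hx, Proj.basicOpen_mul]; exact ⟨h1, h2⟩
        rw [← Proj.opensRange_awayι 𝒜 (φ (i.1.2 * j.1.2)) (map_deg φ hdeg (Idx.mul i j).2.2)
          (Nat.mul_pos (Idx.mul i j).2.1 hd)] at h3
        exact h3
      · exact (compat φ hdeg _ _ i.2.1 hd _ _ _ i.2.2 j.2.2 rfl (SetLike.mul_mem_graded i.2.2 j.2.2) hx).trans
          (by
            have h := compat φ hdeg _ _ j.2.1 hd _ _ _ j.2.2 i.2.2 (mul_comm i.1.2 j.1.2)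
              (by rw [add_comm]; exact SetLike.mul_mem_graded i.2.2 j.2.2) hx'
            refine (Eq.trans ?_ h.symm)
            congr! 2
            all_goals rw [add_comm]))
  have hpre : ∀ q : Idx ℬ, π ⁻¹ᵁ Proj.basicOpen ℬ q.1.2 = Proj.basicOpen 𝒜 (φ q.1.2) := fun q => by
    refine preimage_eq_of_charts c hcov π _ _ fun r => ?_
    rw [← Scheme.Hom.comp_preimage, hπ r, Scheme.Hom.comp_preimage,
      Proj.awayι_preimage_basicOpen ℬ r.2.2 r.2.1 q.2.2 q.2.1]
    refine Eq.trans ?_ (Proj.awayι_preimage_basicOpen 𝒜 (map_deg φ hdeg r.2.2) (Nat.mul_pos r.2.1 hd)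
      (map_deg φ hdeg q.2.2) (Nat.mul_pos q.2.1 hd)).symm
    refine (PrimeSpectrum.comap_basicOpen (θ φ hdeg r.1.1 r.1.2 r.2.2) _).trans ?_
    rw [← PrimeSpectrum.basicOpen_pow _ d hd]
    congr 1
    apply val_injective
    rw [val_pow, Away.isLocalizationElem, Away.isLocalizationElem, θ_mk, Away.val_mk, Localization.mk_pow]
    congr 1
    · rw [map_pow, ← pow_mul]
    · exact Subtype.ext (by simp [← pow_mul])
  have hpb : ∀ q : Idx ℬ, IsPullback (Spec.map (CommRingCat.ofHom (θ φ hdeg q.1.1 q.1.2 q.2.2))) (c q)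
      (Proj.awayι ℬ q.1.2 q.2.2 q.2.1) π := fun q =>
    IsOpenImmersion.isPullback _ _ _ _ (hπ q) (by rw [Proj.opensRange_awayι, Proj.opensRange_awayι, hpre q])
  haveI : IsIso π := by
    refine IsZariskiLocalAtTarget.of_openCover (P := MorphismProperty.isomorphisms Scheme.{u})
      (Proj.affineOpenCover ℬ).openCover fun j => ?_
    have hpb' := (hpb ⟨(j.1, (j.2 : B)), j.1.2, j.2.2⟩).flip
    haveI : IsIso (CommRingCat.ofHom (θ φ hdeg j.1 (j.2 : B) j.2.2)) :=
      (ConcreteCategory.isIso_iff_bijective _).mpr (θ_bijective φ hdeg hφ j.1 (j.2 : B) j.2.2)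
    refine ((MorphismProperty.arrow_mk_iso_iff (P := MorphismProperty.isomorphisms Scheme.{u}) ?_).mp
      (MorphismProperty.isomorphisms.infer_property (Spec.map (CommRingCat.ofHom (θ φ hdeg j.1 (j.2 : B) j.2.2)))))
    exact Arrow.isoMk hpb'.isoPullback (Iso.refl _) (by exact hpb'.isoPullback_hom_snd.trans (Category.comp_id _).symm)
  refine ⟨asIso π, fun P => ?_, fun n g hn hg θ' hθ' => ?_⟩
  · obtain ⟨⟨⟨m, g⟩, hm, hg⟩, hgP⟩ := hcovP P
    have hcomap : (Ideal.comap φ P.asHomogeneousIdeal.toIdeal).IsHomogeneous ℬ := by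
      classical
      intro k b hb
      have hb' : φ b ∈ P.asHomogeneousIdeal.toIdeal := hb
      have e : ((DirectSum.decompose 𝒜 (φ b) (k * d) : 𝒜 (k * d)) : A) = φ (DirectSum.decompose ℬ b k : B) := by
        conv_lhs => rw [← DirectSum.sum_support_decompose ℬ b]
        rw [map_sum, DirectSum.decompose_sum, DFinsupp.finsetSum_apply, AddSubmonoidClass.coe_finsetSum]
        rw [Finset.sum_eq_single k]
        · exact DirectSum.decompose_of_mem_same 𝒜 (map_deg φ hdeg (SetLike.coe_mem _))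
        · intro l _ hl
          exact DirectSum.decompose_of_mem_ne 𝒜 (map_deg φ hdeg (SetLike.coe_mem _))
            (fun h => hl (Nat.eq_of_mul_eq_mul_right hd h))
        · intro hk
          rw [DFinsupp.notMem_support_iff] at hk
          rw [hk]
          simp
      show φ (DirectSum.decompose ℬ b k : B) ∈ P.asHomogeneousIdeal.toIdeal
      rw [← e]
      exact P.asHomogeneousIdeal.isHomogeneous _ hb'
    have key := ext_of_pos_degree (P := (π P).asHomogeneousIdeal)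
      (Q := ⟨Ideal.comap φ P.asHomogeneousIdeal.toIdeal, hcomap⟩) (π P).isPrime
      (P.isPrime.comap φ) hm hg
      (fun h => (show P ∈ π ⁻¹ᵁ Proj.basicOpen ℬ g from (hpre ⟨(m, g), hm, hg⟩).ge hgP) h)
      (fun h => hgP h)
      (fun e a he ha => not_iff_not.mp (SetLike.ext_iff.mp (hpre ⟨(e, a), he, ha⟩) P))
    exact congrArg HomogeneousIdeal.toIdeal key
  · have e : θ' = CommRingCat.ofHom (θ φ hdeg n g hg) := by
      refine CommRingCat.hom_ext (RingHom.ext fun z => val_injective _ ?_)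
      rw [CommRingCat.hom_ofHom, θ_val]
      have := RingHom.congr_fun hθ' z
      simpa [HomogeneousLocalization.algebraMap_apply] using this
    rw [e]
    exact hπ ⟨(n, g), hn, hg⟩

end Groth.L18.Veronese
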