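import Groth.Agent.L22.VeryAmple.Over
import Groth.Agent.L18.GlobGen
import Groth.Agent.L18.AmpleGG

/-!
Every invertible module on an affine scheme of finite type over a ring is very ample.
-/

set_option autoImplicit false
set_option backward.isDefEq.respectTransparency false
set_option linter.style.haveILetI false
universe u

open CategoryTheory CategoryTheory.Limits AlgebraicGeometry TopologicalSpace

noncomputable section

namespace Groth.L18.VeryAmpleAffine

open Groth.L18.Ample Groth.L18.GenLoc Groth.L00.Tensor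

variable {X : Scheme.{u}} {R : Type u} [CommRing R]

def twUnit (B : X.Modules) : ∀ K, tw B (Coh.structureModule X) K ≅ B
  | 0 => Iso.refl _
  | K + 1 => tensorIso (twUnit B K) (Iso.refl _) ≪≫ tensorUnitRight _

theorem exists_immersion_affine [IsAffine X] (q : X ⟶ Spec (CommRingCat.of R)) [LocallyOfFiniteType q]
    {L : X.Modules} (hL : PicF.IsInvertible L) :
    ∃ (n : ℕ) (r : X ⟶ Groth.L18.PUP.P n R) (_ : r ≫ Groth.L18.PUP.pr n R = q),
      IsImmersion r ∧ Nonempty ((Scheme.Modules.pullback r).obj (Groth.L18.PUP.O1 n R) ≅ L) := by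
  classical
  haveI : Coh.IsQCoh L := (isCoh_of_isInvertible hL).1
  choose v hv using fun x : X => exists_genLocus_mem_of_gg hL (isGloballyGenerated_of_isQuasiAffine L) x
  obtain ⟨T, hT⟩ := isCompact_univ.elim_finite_subcover
    (fun x : X => (CohB1.genLocus _ (v x) : Set X)) (fun x => (CohB1.genLocus _ (v x)).2)
    (fun x _ => Set.mem_iUnion.2 ⟨x, hv x⟩)
  obtain ⟨k, hk⟩ := Groth.L22.VeryAmple.exists_immersion_twist q (isInvertible_structureModule X)
    (ι := PUnit) (fun _ => 𝟙 _) (fun x => ⟨⟨⟩, by rw [genLocus_id]; trivial⟩)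
    (fun _ => by rw [genLocus_id]; exact isAffineOpen_top X) hL (σ := T) (fun x => v x.1) fun x => by
      obtain ⟨y, hy, hxy⟩ := Set.mem_iUnion₂.1 (hT (Set.mem_univ x))
      exact ⟨⟨y, hy⟩, hxy⟩
  obtain ⟨n, r, hr, hi, ⟨e⟩⟩ := hk k le_rfl
  exact ⟨n, r, hr, hi, ⟨e ≪≫ twUnit L k⟩⟩

theorem isRelVeryAmplePn_affine [IsAffine X] {Y : Scheme.{u}} [IsAffine Y] (q : X ⟶ Y) [LocallyOfFiniteType q]
    {L : X.Modules} (hL : PicF.IsInvertible L) : RelAmple.IsRelVeryAmplePn q L := by
  obtain ⟨n, r, hr, hi, ⟨τ⟩⟩ := exists_immersion_affine (R := Γ(Y, ⊤)) (q ≫ Y.isoSpec.hom) hL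
  obtain ⟨e, he, ⟨ε⟩⟩ := Groth.L22.VeryAmple.exists_iso_over n Y
  refine ⟨n, r ≫ e.hom, inferInstance, ?_, ⟨(((Scheme.Modules.pullbackComp r e.hom).app _).symm ≪≫
    (Scheme.Modules.pullback r).mapIso ε ≪≫ τ).symm⟩⟩
  show (r ≫ e.hom) ≫ CohB1.ProjSpaceOver.toBase n Y = q
  rw [Category.assoc, he, ← Category.assoc, hr, Category.assoc, Iso.hom_inv_id, Category.comp_id]

end Groth.L18.VeryAmpleAffine
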