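import Groth.Agent.L18.NormDescent

/-!
Descent of ampleness along finite morphisms with a norm detecting a set of points meeting all fibres.
-/

set_option autoImplicit false
set_option backward.isDefEq.respectTransparency false
set_option linter.style.haveILetI false
universe u

open CategoryTheory CategoryTheory.Limits AlgebraicGeometry TopologicalSpace Opposite

noncomputable section

namespace Groth.L18.NormDesc

open Groth.L18.Frame (rs ro rs_rs rs_self rs_smul ro_ro ro_self ro_mul IsFrame pull pull_rs pull_smul)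
open Groth.L18.GenLoc Groth.L18.Ample

variable {X Y : Scheme.{u}}

/-- A norm of degree `d` whose non-vanishing is only asserted to detect the points of a set `D` meeting every fibre. -/
structure WeakNorm (π : X ⟶ Y) (d : ℕ) where
  /-- the points detected -/
  D : Set X
  /-- `D` meets every fibre -/
  exists_mem : ∀ y : Y, ∃ x ∈ D, π x = y
  /-- the degree is positive -/
  one_le : 1 ≤ d
  /-- the norm maps on sections -/
  norm : ∀ U : Y.Opens, Γ(X, π ⁻¹ᵁ U) →* Γ(Y, U)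
  /-- compatibility with restriction -/
  norm_res : ∀ {U V : Y.Opens} (h : V ≤ U) (s : Γ(X, π ⁻¹ᵁ U)),
    ro h (norm U s) = norm V (ro (fun _ hx => h hx : π ⁻¹ᵁ V ≤ π ⁻¹ᵁ U) s)
  /-- the norm of a pulled back function -/
  norm_app : ∀ (U : Y.Opens) (g : Γ(Y, U)), norm U (π.app U g) = g ^ d
  /-- points of `D` in the non-vanishing locus of the norm -/
  mem_of_mem : ∀ (U : Y.Opens) (s : Γ(X, π ⁻¹ᵁ U)), ∀ x ∈ D,
    π x ∈ Y.basicOpen (norm U s) → x ∈ X.basicOpen s

variable {π : X ⟶ Y} {d : ℕ}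

theorem mem_basicOpen_weakNorm [IsFinite π] (N : WeakNorm π d) {W : Y.Opens} (b : Γ(X, π ⁻¹ᵁ W)) {y : Y}
    (hyW : y ∈ W) (hfib : ∀ x, π x = y → x ∈ X.basicOpen b) : y ∈ Y.basicOpen (N.norm W b) := by
  let V : Y.Opens := W ⊓ ⟨(π '' (X.basicOpen b : Set X)ᶜ)ᶜ,
    (π.isClosedMap _ (X.basicOpen b).2.isClosed_compl).isOpen_compl⟩
  have hyV : y ∈ V := ⟨hyW, fun ⟨x, hx, hxy⟩ => hx (hfib x hxy)⟩
  have hVW : V ≤ W := inf_le_left
  have hsub : π ⁻¹ᵁ V ≤ X.basicOpen b := fun x hx => by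
    by_contra hxb
    exact hx.2 ⟨x, hxb, rfl⟩
  have hu : IsUnit (ro (fun _ hx => hVW hx : π ⁻¹ᵁ V ≤ π ⁻¹ᵁ W) b) := by
    have h0 : IsUnit (ro (X.basicOpen_le b) b) := RingedSpace.isUnit_res_basicOpen X.toRingedSpace b
    have h1 : IsUnit (ro hsub (ro (X.basicOpen_le b) b)) := h0.map (X.presheaf.map (homOfLE hsub).op).hom
    rwa [ro_ro] at h1
  have h2 := hu.map (N.norm V)
  rw [← N.norm_res hVW] at h2
  have h3 := Y.basicOpen_of_isUnit h2
  rw [Scheme.basicOpen_res] at h3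
  exact (h3.ge hyV).2

theorem exists_normSec_weak [IsFinite π] (N : WeakNorm π d) {M : Y.Modules} (hM : PicF.IsInvertible M)
    (s : Coh.structureModule X ⟶ (Scheme.Modules.pullback π).obj M) :
    ∃ σ : Coh.structureModule Y ⟶ CohB1.tensorPow M d,
      (∀ y : Y, (∀ x, π x = y → x ∈ CohB1.genLocus _ s) → y ∈ CohB1.genLocus _ σ) ∧
        ∀ x ∈ N.D, π x ∈ CohB1.genLocus _ σ → x ∈ CohB1.genLocus _ s := by
  choose W e hyW he using fun y : Y => Frame.exists_frame hM y
  choose b hb using fun y => ((he y).pullback π M).exists_coeff le_rfl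
    (rs ((Scheme.Modules.pullback π).obj M) le_top (secOf s))
  simp only [rs_self] at hb
  let τ : ∀ y, Γ(CohB1.tensorPow M d, W y) := fun y => N.norm (W y) (b y) • pf (e y) d
  obtain ⟨σ, hσ, -⟩ := TopCat.Sheaf.existsUnique_gluing'
    (⟨(CohB1.tensorPow M d).presheaf, (CohB1.tensorPow M d).isSheaf⟩ : TopCat.Sheaf Ab Y.toTopCat) W ⊤
    (fun y => homOfLE le_top) (fun y _ => Opens.mem_iSup.2 ⟨y, hyW y⟩) τ fun y z => by
      show rs _ (inf_le_left : W y ⊓ W z ≤ W y) (τ y) = rs _ (inf_le_right : W y ⊓ W z ≤ W z) (τ z)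
      set V := W y ⊓ W z
      have hl : V ≤ W y := inf_le_left
      have hr : V ≤ W z := inf_le_right
      simp only [τ, rs_smul, pf_rs, N.norm_res hl, N.norm_res hr]
      obtain ⟨a, ha⟩ := ((he y).mono hl).exists_coeff le_rfl (rs M hr (e z))
      rw [rs_self] at ha
      have h1 := congrArg (rs ((Scheme.Modules.pullback π).obj M) (fun _ hx => hl hx : π ⁻¹ᵁ V ≤ π ⁻¹ᵁ W y)) (hb y)
      have h2 := congrArg (rs ((Scheme.Modules.pullback π).obj M) (fun _ hx => hr hx : π ⁻¹ᵁ V ≤ π ⁻¹ᵁ W z)) (hb z)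
      rw [rs_smul, rs_rs, pull_rs π M hl] at h1
      rw [rs_smul, rs_rs, pull_rs π M hr, ← ha, pull_smul, ← mul_smul, ← h1] at h2
      have h3 := (((he y).mono hl).pullback π M).inj le_rfl
        (a := ro (fun _ hx => hr hx : π ⁻¹ᵁ V ≤ π ⁻¹ᵁ W z) (b z) * π.app V a)
        (b := ro (fun _ hx => hl hx : π ⁻¹ᵁ V ≤ π ⁻¹ᵁ W y) (b y)) (by rw [rs_self]; exact h2)
      rw [← ha, pf_smul, ← mul_smul, ← h3, map_mul, N.norm_app]
  refine ⟨Groth.L16.homOfSection _ σ, fun y h => ?_, fun x hxD hx => ?_⟩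
  · have hloc := genLocus_inf_eq (Groth.L16.homOfSection _ σ) (isFrame_pf (he y) d)
      (a := N.norm (W y) (b y)) (by rw [secOf_homOfSection]; exact (hσ y).symm)
    have hs := genLocus_inf_eq s ((he y).pullback π M) (hb y)
    refine (hloc.ge (mem_basicOpen_weakNorm N (b y) (hyW y) fun x hx => hs.le ⟨h x hx, ?_⟩)).1
    show π x ∈ W y
    rw [hx]; exact hyW y
  · have hloc := genLocus_inf_eq (Groth.L16.homOfSection _ σ) (isFrame_pf (he (π x)) d)
      (a := N.norm (W (π x)) (b (π x))) (by rw [secOf_homOfSection]; exact (hσ (π x)).symm)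
    have hs := genLocus_inf_eq s ((he (π x)).pullback π M) (hb (π x))
    exact (hs.ge (N.mem_of_mem _ _ x hxD (hloc.le ⟨hx, hyW _⟩))).1

/-- Ampleness descends along a finite morphism with a weak norm. -/
theorem isAmple_of_weakNorm [IsFinite π] (N : WeakNorm π d) {M : Y.Modules} (hM : PicF.IsInvertible M)
    (h : CohB1.IsAmple ((Scheme.Modules.pullback π).obj M)) : CohB1.IsAmple M := by
  haveI : Surjective π := ⟨fun y => ⟨_, (N.exists_mem y).choose_spec.2⟩⟩
  haveI := h.2.1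
  haveI : CompactSpace Y := π.surjective.compactSpace π.continuous
  refine ⟨hM, inferInstance, fun y => ?_⟩
  obtain ⟨U, hU, hyU, -⟩ := exists_affine_le (Opens.mem_top y)
  obtain ⟨n, s, hEs, hsU, -⟩ := exists_pow_genLocus_of_isAmple h (π ⁻¹' {y}) (π.finite_preimage_singleton y) (π ⁻¹ᵁ U)
    (fun x hx => by show π x ∈ U; rw [show π x = y from hx]; exact hyU)
  have hinv := isInvertible_tensorPow hM (n + 1)
  obtain ⟨σ, hσ, hσ'⟩ := exists_normSec_weak N hinv (s ≫ (pullPow π M (n + 1)).inv)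
  have hgl : CohB1.genLocus _ (s ≫ (pullPow π M (n + 1)).inv) = CohB1.genLocus _ s :=
    Groth.L16.genLocus_comp_iso s (pullPow π M (n + 1)).symm
  rw [hgl] at hσ hσ'
  have hd : 0 < (n + 1) * d := Nat.mul_pos n.succ_pos N.one_le
  obtain ⟨m, σ₁, hσ₁⟩ := exists_of_iso hd σ (Groth.L00.Tensor.tensorPowMul M (n + 1) d)
  refine ⟨m, σ₁, ?_⟩
  rw [hσ₁]
  have hle : CohB1.genLocus _ σ ≤ U := fun z hz => by
    obtain ⟨x, hxD, rfl⟩ := N.exists_mem z
    exact hsU (hσ' x hxD hz)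
  refine ⟨hσ y fun x hx => hEs hx, ?_⟩
  have := isAffineOpen_genLocus_inf (isInvertible_tensorPow hinv d) σ hU
  rwa [show CohB1.genLocus _ σ ⊓ U = CohB1.genLocus _ σ from inf_eq_left.2 hle] at this

end Groth.L18.NormDesc
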